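/-
Subsystems containing the automorphisms of `p`-power order of the centric subgroups: every map of
a saturated system is an automorphism of `S` composed with a map of such a subsystem, and such a
subsystem has index prime to `p`.
-/
import Cfsg.Agent.Lib.Fusion.Alperin
import Cfsg.Agent.Lib.Fusion87.Reduction

set_option autoImplicit false

namespace Cfsg.Agent.Lib.Fusion

open Cfsg Cfsg.FusionSystem

variable {Ω : Type*} [Group Ω] {S : Subgroup Ω} {F D : FusionSystem S} {p : ℕ}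

/-- `D` contains every automorphism of `p`-power order in `Aut_F(P)`, for `P` centric in `F`. -/
def HasPAut (D F : FusionSystem S) (p : ℕ) : Prop :=
  ∀ P : Subgroup Ω, F.IsCentric P → ∀ α ∈ F.autGroup P, (∃ k, α ^ p ^ k = 1) →
    autHom α ∈ D.Hom P

theorem imgSub_act_mem {a : MulAut S} {P : Subgroup Ω} (hP : P ≤ S) (x : P) :
    (a ⟨x, hP x.2⟩ : Ω) ∈ imgSub (autHom a) P :=
  apply_mem_imgSub (autHom a) ⟨x, hP x.2⟩ x.2

theorem exists_of_mem_imgSub_act {a : MulAut S} {P : Subgroup Ω} {y : Ω}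
    (hy : y ∈ imgSub (autHom a) P) : ∃ (x : P) (h : (x : Ω) ∈ S), (a ⟨x, h⟩ : Ω) = y := by
  obtain ⟨x, hx, rfl⟩ := mem_imgSub.1 hy
  exact ⟨⟨x, hx⟩, x.2, rfl⟩

theorem imgSub_act_le {a : MulAut S} (P : Subgroup Ω) : imgSub (autHom a) P ≤ S :=
  (imgSub_le_range _).trans (range_autHom a).le

/-- A map of `D` defined on the image of `P` under `a`, from a map given on a larger subgroup. -/
theorem exists_restrict_act {a : MulAut S} {P R : Subgroup Ω} (hP : P ≤ S) {χ : R →* Ω}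
    (hχ : χ ∈ D.Hom R) (h : ∀ x : P, (a ⟨x, hP x.2⟩ : Ω) ∈ R) :
    ∃ χ' ∈ D.Hom (imgSub (autHom a) P), ∀ x : P,
      χ' ⟨_, imgSub_act_mem hP x⟩ = χ ⟨_, h x⟩ := by
  have hle : imgSub (autHom a) P ≤ R := by
    intro y hy
    obtain ⟨x, hx, rfl⟩ := exists_of_mem_imgSub_act hy
    exact h x
  exact ⟨_, restrict_mem hχ hle, fun x => rfl⟩

/-- The subsystem `D` of `F` transported by the automorphism `a` of `S`. -/
def transportAct (F D : FusionSystem S) (a : MulAut S) : FusionSystem S where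
  Hom P := {φ | ∃ hφ : φ ∈ F.Hom P, ∃ (R : Subgroup Ω) (χ : R →* Ω), χ ∈ D.Hom R ∧
    ∀ x : P, ∃ h : (a ⟨x, src_le hφ x.2⟩ : Ω) ∈ R,
      χ ⟨_, h⟩ = (a ⟨φ x, val_mem hφ x⟩ : Ω)}
  le_of_mem h := F.le_of_mem h.1
  injective_of_mem h := F.injective_of_mem h.1
  conj_mem := by
    intro P g hP hg
    refine ⟨F.conj_mem hP hg, S, _, D.conj_mem le_rfl (a ⟨g, hg⟩).2, fun x => ⟨(a _).2, ?_⟩⟩
    have e : (⟨conjHom P g x, val_mem (F.conj_mem hP hg) x⟩ : S) =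
        ⟨g, hg⟩ * ⟨x, hP x.2⟩ * ⟨g, hg⟩⁻¹ := Subtype.ext rfl
    rw [e, map_mul, map_mul, map_inv]
    rfl
  comp_mem := by
    rintro P Q φ ψ ⟨hφ, R, χ, hχ, hx⟩ ⟨hψ, R', χ', hχ', hx'⟩ h
    refine ⟨F.comp_mem hφ hψ h, ?_⟩
    obtain ⟨χ₁, hχ₁, hχ₁x⟩ := exists_restrict_act (src_le hφ) hχ fun x => (hx x).1
    have hval : ∀ y : imgSub (autHom a) P, χ₁ y ∈ R' := by
      rintro ⟨y, hy⟩
      obtain ⟨x, hxS, rfl⟩ := exists_of_mem_imgSub_act hy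
      rw [show χ₁ ⟨_, hy⟩ = (a ⟨φ x, val_mem hφ x⟩ : Ω) from (hχ₁x x).trans (hx x).2]
      exact (hx' ⟨φ x, h x⟩).1
    obtain ⟨χ₂, hχ₂, hχ₂x⟩ := exists_comp hχ₁ hχ' hval
    refine ⟨_, χ₂, hχ₂, fun x => ⟨imgSub_act_mem (src_le hφ) x, ?_⟩⟩
    have e : (⟨_, hval ⟨_, imgSub_act_mem (src_le hφ) x⟩⟩ : R') = ⟨_, (hx' ⟨φ x, h x⟩).1⟩ :=
      Subtype.ext ((hχ₁x x).trans (hx x).2)
    rw [hχ₂x, e, (hx' ⟨φ x, h x⟩).2]
    rfl
  inv_mem := by
    rintro P φ ⟨hφ, R, χ, hχ, hx⟩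
    obtain ⟨χ₁, hχ₁, hχ₁x⟩ := exists_restrict_act (src_le hφ) hχ fun x => (hx x).1
    refine ⟨_, ⟨rangeInv_mem hφ, _, _, rangeInv_mem hχ₁, ?_⟩,
      fun x => rangeInv_apply φ _ x _⟩
    rintro ⟨_, x, rfl⟩
    have e : χ₁ ⟨_, imgSub_act_mem (src_le hφ) x⟩ = (a ⟨φ x, val_mem hφ x⟩ : Ω) :=
      (hχ₁x x).trans (hx x).2
    refine ⟨⟨_, e⟩, ?_⟩
    refine ((congrArg (rangeInv χ₁ _) (Subtype.ext e.symm)).trans
      (rangeInv_apply χ₁ _ ⟨_, imgSub_act_mem (src_le hφ) x⟩ ⟨_, rfl⟩)).trans ?_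
    exact congrArg (fun z : S => (a z : Ω)) (Subtype.ext (rangeInv_apply φ _ x _).symm)

theorem transportAct_le (F D : FusionSystem S) (a : MulAut S) : transportAct F D a ≤ F :=
  fun _ _ h => h.1

theorem hasPAut_transportAct (hD : HasPAut D F p) {a : MulAut S} (ha : a ∈ F.autGroup S) :
    HasPAut (transportAct F D a) F p := by
  intro P hP α hα ⟨k, hk⟩
  set θ := (autHom a).comp (Subgroup.inclusion hP.1) with hθ
  have hθm : θ ∈ F.Hom P := restrict_mem (autGroup_hom_mem le_rfl ha) hP.1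
  set e := isoOnto θ (F.injective_of_mem hθm) rfl with he
  have hem : (θ.range).subtype.comp e.toMonoidHom ∈ F.Hom P := mem_congr hθm fun x => rfl
  have hk' : (MulAut.congr e α) ^ p ^ k = 1 :=
    (map_pow (MulAut.congr e) α (p ^ k)).symm.trans
      ((congrArg (MulAut.congr e) hk).trans (map_one (MulAut.congr e)))
  have hmem := hD _ (isCentric_of_isConj hP (isConj_range hθm)) _ (congr_mem_autGroup e hem hα)
    ⟨k, hk'⟩
  refine ⟨autGroup_hom_mem hP.1 hα, _, _, hmem, fun x => ⟨⟨x, rfl⟩, ?_⟩⟩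
  have h2 : MulAut.congr e α (e x) = e (α x) := by
    show e (α (e.symm (e x))) = _
    rw [e.symm_apply_apply]
  exact congrArg Subtype.val h2

/-- The least subsystem containing the `p`-automorphisms of centric subgroups. -/
def pAutSystem (F : FusionSystem S) (p : ℕ) : FusionSystem S where
  Hom P := {φ | φ ∈ F.Hom P ∧ ∀ D : FusionSystem S, HasPAut D F p → φ ∈ D.Hom P}
  le_of_mem h := F.le_of_mem h.1
  injective_of_mem h := F.injective_of_mem h.1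
  conj_mem hP hg := ⟨F.conj_mem hP hg, fun D _ => D.conj_mem hP hg⟩
  comp_mem hφ hψ h := ⟨F.comp_mem hφ.1 hψ.1 h, fun D hD => D.comp_mem (hφ.2 D hD) (hψ.2 D hD) h⟩
  inv_mem hφ := ⟨_, ⟨rangeInv_mem hφ.1, fun D hD => rangeInv_mem (hφ.2 D hD)⟩,
    fun x => rangeInv_apply _ _ x _⟩

theorem hasPAut_pAutSystem (F : FusionSystem S) (p : ℕ) : HasPAut (pAutSystem F p) F p :=
  fun P hP α hα hk => ⟨autGroup_hom_mem hP.1 hα, fun _ hD => hD P hP α hα hk⟩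

/-- `pAutSystem` is invariant under the automorphisms of `S` in `F`. -/
theorem exists_act_pAutSystem {a : MulAut S} (ha : a ∈ F.autGroup S) {Q : Subgroup Ω}
    {ψ : Q →* Ω} (hψ : ψ ∈ (pAutSystem F p).Hom Q) :
    ∃ χ ∈ (pAutSystem F p).Hom (imgSub (autHom a) Q), ∀ x : Q,
      χ ⟨_, imgSub_act_mem (src_le hψ) x⟩ = (a ⟨ψ x, val_mem hψ x⟩ : Ω) := by
  have haF := autGroup_hom_mem le_rfl ha
  obtain ⟨b, hb, hbr, hbx, -⟩ := exists_inverse (restrict_mem haF (src_le hψ))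
    (range_restrict (autHom a) (src_le hψ))
  obtain ⟨c, hc, hcx⟩ := exists_comp hb hψ.1 fun y => hbr.le ⟨y, rfl⟩
  obtain ⟨χ, hχ, hχx⟩ := exists_comp hc haF fun y => val_mem hc y
  have hval : ∀ x : Q, χ ⟨_, imgSub_act_mem (src_le hψ) x⟩ = (a ⟨ψ x, val_mem hψ x⟩ : Ω) := by
    intro x
    rw [hχx]
    refine congrArg (fun z : S => (a z : Ω)) (Subtype.ext ?_)
    exact (hcx _).trans
      (congrArg ψ (Subtype.ext (hbx x (imgSub_act_mem (src_le hψ) x))))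
  refine ⟨χ, ⟨hχ, fun D hD => ?_⟩, hval⟩
  obtain ⟨hψF, R, χ', hχ', hx⟩ := hψ.2 _ (hasPAut_transportAct hD ha)
  obtain ⟨χ'', hχ'', hx''⟩ := exists_restrict_act (src_le hψ) hχ' fun x => (hx x).1
  refine mem_congr hχ'' ?_
  rintro ⟨y, hy⟩
  obtain ⟨x, hxS, rfl⟩ := exists_of_mem_imgSub_act hy
  exact (hval x).trans ((hx'' x).trans (hx x).2).symm

/-- The maps that are an automorphism of `S` composed with a map of `pAutSystem`. -/
def frattiniPSystem (F : FusionSystem S) (p : ℕ) : FusionSystem S where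
  Hom P := {φ | φ ∈ F.Hom P ∧ ∃ a ∈ F.autGroup S, ∃ φ₀ ∈ (pAutSystem F p).Hom P,
    ∀ (x : P) (hx : φ₀ x ∈ S), φ x = (a ⟨φ₀ x, hx⟩ : Ω)}
  le_of_mem h := F.le_of_mem h.1
  injective_of_mem h := F.injective_of_mem h.1
  conj_mem hP hg := ⟨F.conj_mem hP hg, 1, Subgroup.one_mem _, _,
    (pAutSystem F p).conj_mem hP hg, fun _ _ => rfl⟩
  comp_mem := by
    rintro P Q φ ψ ⟨hφ, a, ha, φ₀, hφ₀, hx⟩ ⟨hψ, b, hb, ψ₀, hψ₀, hy⟩ h
    refine ⟨F.comp_mem hφ hψ h, b * a, Subgroup.mul_mem _ hb ha, ?_⟩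
    have hψS := src_le hψ₀
    obtain ⟨χ, hχ, hχx⟩ := exists_act_pAutSystem (Subgroup.inv_mem _ ha) hψ₀
    have hval : ∀ x : P, φ₀ x ∈ imgSub (autHom a⁻¹) Q := by
      intro x
      have e : (a⁻¹ ⟨φ x, hψS (h x)⟩ : Ω) = φ₀ x := by
        have e1 : (⟨φ x, hψS (h x)⟩ : S) = a ⟨φ₀ x, val_mem hφ₀ x⟩ :=
          Subtype.ext (hx x (val_mem hφ₀ x))
        rw [e1, MulAut.inv_apply_self]
      exact e ▸ imgSub_act_mem hψS ⟨φ x, h x⟩
    obtain ⟨θ, hθ, hθx⟩ := exists_comp hφ₀ hχ hval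
    refine ⟨θ, hθ, fun x hxS => ?_⟩
    have e1 : (⟨φ₀ x, hval x⟩ : imgSub (autHom a⁻¹) Q) =
        ⟨_, imgSub_act_mem hψS ⟨φ x, h x⟩⟩ := by
      refine Subtype.ext ?_
      have e2 : (⟨φ x, hψS (h x)⟩ : S) = a ⟨φ₀ x, val_mem hφ₀ x⟩ :=
        Subtype.ext (hx x (val_mem hφ₀ x))
      show φ₀ x = (a⁻¹ (⟨φ x, hψS (h x)⟩ : S) : Ω)
      rw [e2, MulAut.inv_apply_self]
    have e3 : θ x = (a⁻¹ ⟨ψ₀ ⟨φ x, h x⟩, val_mem hψ₀ _⟩ : Ω) := by
      rw [hθx, e1, hχx]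
    show ψ ⟨φ x, h x⟩ = (b (a ⟨θ x, hxS⟩) : Ω)
    rw [hy _ (val_mem hψ₀ _)]
    refine congrArg (fun z : S => (b z : Ω)) ?_
    rw [show (⟨θ x, hxS⟩ : S) = a⁻¹ ⟨ψ₀ ⟨φ x, h x⟩, val_mem hψ₀ _⟩ from Subtype.ext e3,
      MulAut.apply_inv_self]
  inv_mem := by
    rintro P φ ⟨hφ, a, ha, φ₀, hφ₀, hx⟩
    obtain ⟨χ, hχ, hχx⟩ := exists_act_pAutSystem ha (rangeInv_mem hφ₀)
    have hle : φ.range ≤ imgSub (autHom a) φ₀.range := by
      rintro _ ⟨x, rfl⟩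
      rw [hx x (val_mem hφ₀ x)]
      exact imgSub_act_mem (range_le hφ₀) ⟨φ₀ x, x, rfl⟩
    refine ⟨_, ⟨rangeInv_mem hφ, a⁻¹, Subgroup.inv_mem _ ha, _, restrict_mem hχ hle, ?_⟩,
      fun x => rangeInv_apply _ _ x _⟩
    rintro ⟨_, x, rfl⟩ hxS
    refine (rangeInv_apply φ _ x _).trans ?_
    have e1 : (Subgroup.inclusion hle ⟨φ x, x, rfl⟩) =
        ⟨_, imgSub_act_mem (range_le hφ₀) ⟨φ₀ x, x, rfl⟩⟩ :=
      Subtype.ext (hx x (val_mem hφ₀ x))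
    have e2 : χ (Subgroup.inclusion hle ⟨φ x, x, rfl⟩) = (a ⟨x, src_le hφ x.2⟩ : Ω) := by
      rw [e1, hχx]
      exact congrArg (fun z : S => (a z : Ω)) (Subtype.ext (rangeInv_apply φ₀ _ x _))
    have e3 : (⟨_, hxS⟩ : S) = a ⟨x, src_le hφ x.2⟩ := Subtype.ext e2
    show (x : Ω) = _
    rw [e3, MulAut.inv_apply_self]

/-- Every map of a saturated system is an automorphism of `S` composed with a map of
`pAutSystem`. -/
theorem le_frattiniPSystem [Fact p.Prime] [Finite S] (hS : IsPGroup p S) (hF : F.IsSaturated p) :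
    F ≤ frattiniPSystem F p := by
  refine Fusion87.le_of_autGroup_centric_radical hS hF fun Q hQ hQc _ hbig β hβ => ?_
  haveI := finite_mulAut hQ.1
  haveI : Finite Q := finite_of_le hQ.1
  rw [mem_autGroup hQ.1]
  by_cases hQS : Q = S
  · subst hQS
    exact ⟨autGroup_hom_mem le_rfl hβ, β, hβ, _, subtype_mem le_rfl, fun x hx => rfl⟩
  set A := autInducedBy S Q with hA
  obtain ⟨-, hsyl⟩ := isFullyAutomized_iff.1 (isFullyAutomized_of_isFullyNormalized hS hF hQ)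
  set O : Subgroup (MulAut Q) :=
    Subgroup.closure {γ | γ ∈ F.autGroup Q ∧ ∃ k, γ ^ p ^ k = 1} with hO
  have hOB : O ≤ F.autGroup Q := (Subgroup.closure_le _).2 fun γ h => h.1
  have hOE : O ≤ (pAutSystem F p).autGroup Q := (Subgroup.closure_le _).2 fun γ h =>
    (mem_autGroup hQ.1).2 (hasPAut_pAutSystem F p Q hQc γ h.1 h.2)
  have hAO : A ≤ O := fun γ hγ => Subgroup.subset_closure ⟨hsyl.1 hγ, by
    obtain ⟨k, hk⟩ := hsyl.2.1 ⟨γ, hγ⟩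
    exact ⟨k, congrArg Subtype.val hk⟩⟩
  have hconjle : A.map (MulAut.conj β).toMonoidHom ≤ O := by
    rintro _ ⟨γ, hγ, rfl⟩
    obtain ⟨k, hk⟩ := hsyl.2.1 ⟨γ, hγ⟩
    refine Subgroup.subset_closure ⟨Subgroup.mul_mem _ (Subgroup.mul_mem _ hβ (hsyl.1 hγ))
      (Subgroup.inv_mem _ hβ), k, ?_⟩
    show (MulAut.conj β γ) ^ p ^ k = 1
    rw [← map_pow, show γ ^ p ^ k = 1 from congrArg Subtype.val hk, map_one]
  obtain ⟨o, ho, hle⟩ := (hsyl.of_le hAO hOB).exists_conj_le (hsyl.2.1.map _) hconjle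
  have hnorm : ∀ g ∈ A, (o * β) * g * (o * β)⁻¹ ∈ A := by
    intro g hg
    have h1 := hle ⟨_, ⟨g, hg, rfl⟩, rfl⟩
    have e : (o * β) * g * (o * β)⁻¹ = o * (β * g * β⁻¹) * o⁻¹ := by
      rw [mul_inv_rev]
      simp only [mul_assoc]
    rw [e]
    exact h1
  have hoβ : o * β ∈ F.autGroup Q := Subgroup.mul_mem _ (hOB ho) hβ
  obtain ⟨ψ, hψ, hag⟩ := (isReceptive_of_isFullyNormalized hS hF hQ).2 Q (autHom (o * β))
    (autGroup_hom_mem hQ.1 hoβ) (range_autHom _)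
  have hext : normalizerIn S Q ≤ extender S Q (autHom (o * β)) := fun g hg =>
    mem_extender_of_conj_mem hg.1 hg.2 (hnorm _ (mem_autInducedBy.2 ⟨g, hg.1, fun x => rfl⟩))
  have hlt := Fusion87.card_lt_normalizerIn hS hQ.1 hQS
  have hQN : Q ≤ normalizerIn S Q := le_normalizerIn hQ.1
  have h1 : autHom (o * β) ∈ (frattiniPSystem F p).Hom Q :=
    mem_of_restrict (hbig _ hlt (restrict_mem hψ hext)) hQN fun x =>
      (hag x x.2 (hext (hQN x.2))).symm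
  have h2 : autHom (o⁻¹) ∈ (frattiniPSystem F p).Hom Q :=
    ⟨autGroup_hom_mem hQ.1 (hOB (Subgroup.inv_mem _ ho)), 1, Subgroup.one_mem _, _,
      autGroup_hom_mem hQ.1 (hOE (Subgroup.inv_mem _ ho)), fun x hx => rfl⟩
  refine comp_of_apply h1 h2 fun x => ⟨((o * β) x).2, ?_⟩
  show (β x : Ω) = (o⁻¹ (o (β x)) : Ω)
  rw [MulAut.inv_apply_self]

theorem exists_decomp [Fact p.Prime] [Finite S] (hS : IsPGroup p S) (hF : F.IsSaturated p)
    (hD : HasPAut D F p) {P : Subgroup Ω} {φ : P →* Ω} (hφ : φ ∈ F.Hom P) :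
    ∃ a ∈ F.autGroup S, ∃ φ₀ ∈ D.Hom P, ∀ (x : P) (hx : φ₀ x ∈ S),
      φ x = (a ⟨φ₀ x, hx⟩ : Ω) := by
  obtain ⟨-, a, ha, φ₀, hφ₀, hx⟩ := le_frattiniPSystem hS hF P hφ
  exact ⟨a, ha, φ₀, hφ₀.2 D hD, hx⟩

/-- A system containing the `p`-automorphisms of centric subgroups contains all
`p`-automorphisms. -/
theorem autHom_mem_of_hasPAut [Fact p.Prime] [Finite S] (hS : IsPGroup p S) (hF : F.IsSaturated p)
    (hD : HasPAut D F p) {P : Subgroup Ω} (hP : P ≤ S) {α : MulAut P} (hα : α ∈ F.autGroup P)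
    (hk : ∃ k, α ^ p ^ k = 1) : autHom α ∈ D.Hom P := by
  obtain ⟨k, hk⟩ := hk
  obtain ⟨Q, ⟨φ, hφ, hr⟩, hQ⟩ := exists_isFullyNormalized_conj F hP
  haveI := finite_mulAut hQ.1
  set e := isoOnto φ (F.injective_of_mem hφ) hr with he
  have hem : Q.subtype.comp e.toMonoidHom ∈ F.Hom P := mem_congr hφ fun x => rfl
  have hb := congr_mem_autGroup e hem hα
  have hbp : (MulAut.congr e α) ^ p ^ k = 1 :=
    (map_pow (MulAut.congr e) α (p ^ k)).symm.trans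
      ((congrArg (MulAut.congr e) hk).trans (map_one (MulAut.congr e)))
  obtain ⟨i, -, hi⟩ :=
    (Nat.dvd_prime_pow (Fact.out : p.Prime)).1 (orderOf_dvd_of_pow_eq_one hbp)
  obtain ⟨-, hsyl⟩ := isFullyAutomized_iff.1 (isFullyAutomized_of_isFullyNormalized hS hF hQ)
  obtain ⟨δ, hδ, hle⟩ := hsyl.exists_conj_le (IsPGroup.of_card (n := i)
    ((Nat.card_zpowers _).trans hi)) (Subgroup.zpowers_le.2 hb)
  obtain ⟨s, hs, hsx⟩ := mem_autInducedBy.1 (hle ⟨_, Subgroup.mem_zpowers _, rfl⟩)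
  obtain ⟨ψ, hψ, hψx⟩ := exists_comp hem (autGroup_hom_mem hQ.1 hδ) fun x => (e x).2
  have hψe : ∀ x, ψ x = (δ (e x) : Ω) := fun x => hψx x
  have hconj : ∀ x : P, ψ (α x) = s * ψ x * s⁻¹ := by
    intro x
    have h := hsx (δ (e x))
    rw [hψe, hψe, ← h]
    show _ = (δ ((MulAut.congr e α) (δ⁻¹ (δ (e x)))) : Ω)
    rw [MulAut.inv_apply_self]
    exact congrArg (fun y => (δ (e (α y)) : Ω)) (e.symm_apply_apply x).symm
  obtain ⟨a, ha, φ₀, hφ₀, hx⟩ := exists_decomp hS hF hD hψ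
  set t : S := a⁻¹ ⟨s, hs⟩ with ht
  have key : ∀ x : P, φ₀ (α x) = t * φ₀ x * (t : Ω)⁻¹ := by
    intro x
    have e1 : ∀ y : P, (⟨φ₀ y, val_mem hφ₀ y⟩ : S) = a⁻¹ ⟨ψ y, val_mem hψ y⟩ := by
      intro y
      rw [show (⟨ψ y, val_mem hψ y⟩ : S) = a ⟨φ₀ y, val_mem hφ₀ y⟩ from
        Subtype.ext (hx y _), MulAut.inv_apply_self]
    have e2 : (⟨φ₀ (α x), val_mem hφ₀ _⟩ : S) = t * ⟨φ₀ x, val_mem hφ₀ x⟩ * t⁻¹ := by
      rw [e1, e1, ht, ← map_inv, ← map_mul, ← map_mul]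
      exact congrArg _ (Subtype.ext (hconj x))
    exact congrArg Subtype.val e2
  obtain ⟨b, hb', hbx⟩ := exists_comp hφ₀ (D.conj_mem (range_le hφ₀) t.2) fun x => ⟨x, rfl⟩
  have hr' : ∀ x : P, b x ∈ φ₀.range := fun x => ⟨α x, by rw [hbx]; exact key x⟩
  refine comp_of_apply hb' (rangeInv_mem hφ₀) fun x => ⟨hr' x, ?_⟩
  refine (rangeInv_apply φ₀ (D.injective_of_mem hφ₀) (α x) ⟨_, rfl⟩).symm.trans ?_
  exact congrArg (rangeInv φ₀ _) (Subtype.ext ((key x).trans (hbx x).symm))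

end Cfsg.Agent.Lib.Fusion
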