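/-
The Frattini condition for a subsystem on a strongly closed subgroup follows from strong
invariance in a saturated fusion system.
-/
import Cfsg.Agent.Lib.Fusion.PrimeIndex
import Cfsg.Agent.Lib.Fusion87.Normal

set_option autoImplicit false

namespace Cfsg.Agent.Lib.Fusion

open Cfsg Cfsg.FusionSystem

variable {Ω : Type*} [Group Ω] {S T : Subgroup Ω} {F : FusionSystem S} {E : FusionSystem T}
  {p : ℕ}

/-- Transport of the maps of `E` by the automorphisms of `T` in `F`. -/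
def ActInvariant (E : FusionSystem T) (F : FusionSystem S) : Prop :=
  ∀ a ∈ F.autGroup T, ∀ (Q : Subgroup Ω) (ψ : Q →* Ω) (hψ : ψ ∈ E.Hom Q),
    ∃ χ ∈ E.Hom (imgSub (autHom a) Q), ∀ x : Q,
      χ ⟨_, imgSub_act_mem (src_le hψ) x⟩ = (a ⟨ψ x, val_mem hψ x⟩ : Ω)

/-- The strong invariance condition. -/
def StronglyInvariant (E : FusionSystem T) (F : FusionSystem S) : Prop :=
  ∀ (P Q : Subgroup Ω) (hPQ : P ≤ Q) (_ : Q ≤ T) (φ : P →* Ω) (_ : φ ∈ E.Hom P)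
    (hφQ : ∀ x : P, φ x ∈ Q) (ψ : Q →* Ω) (_ : ψ ∈ F.Hom Q),
    ∃ χ ∈ E.Hom (imgSub ψ P), ∀ (x : P) (hx : ψ (Subgroup.inclusion hPQ x) ∈ imgSub ψ P),
      χ ⟨ψ (Subgroup.inclusion hPQ x), hx⟩ = ψ ⟨φ x, hφQ x⟩

theorem actInvariant_of_stronglyInvariant (hTS : T ≤ S) (h : StronglyInvariant E F) :
    ActInvariant E F := by
  intro a ha Q ψ hψ
  obtain ⟨χ, hχ, hx⟩ := h Q T (src_le hψ) le_rfl ψ hψ (val_mem hψ) (autHom a)
    (autGroup_hom_mem hTS ha)
  exact ⟨χ, hχ, fun x => hx x _⟩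

/-- The maps of `F` between subgroups of `T` that are an automorphism of `T` composed with a map
of `E`. -/
def decompSystem (F : FusionSystem S) (E : FusionSystem T) (hTS : T ≤ S) (hinv : ActInvariant E F) :
    FusionSystem T where
  Hom P := {φ | φ ∈ F.Hom P ∧ P ≤ T ∧ (∀ x : P, φ x ∈ T) ∧ ∃ a ∈ F.autGroup T, ∃ φ₀ ∈ E.Hom P,
    ∀ (x : P) (hx : φ₀ x ∈ T), φ x = (a ⟨φ₀ x, hx⟩ : Ω)}
  le_of_mem h := ⟨h.2.1, h.2.2.1⟩
  injective_of_mem h := F.injective_of_mem h.1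
  conj_mem {P g} hP hg := ⟨F.conj_mem (hP.trans hTS) (hTS hg), hP,
    fun x => T.mul_mem (T.mul_mem hg (hP x.2)) (T.inv_mem hg), 1, Subgroup.one_mem _, _,
    E.conj_mem hP hg, fun _ _ => rfl⟩
  comp_mem := by
    rintro P Q φ ψ ⟨hφ, hP, -, a, ha, φ₀, hφ₀, hx⟩ ⟨hψ, hQ, hψT, b, hb, ψ₀, hψ₀, hy⟩ h
    refine ⟨F.comp_mem hφ hψ h, hP, fun x => hψT _, b * a, Subgroup.mul_mem _ hb ha, ?_⟩
    obtain ⟨χ, hχ, hχx⟩ := hinv _ (Subgroup.inv_mem _ ha) Q ψ₀ hψ₀
    have hval : ∀ x : P, φ₀ x ∈ imgSub (autHom a⁻¹) Q := by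
      intro x
      have e : (a⁻¹ ⟨φ x, hQ (h x)⟩ : Ω) = φ₀ x := by
        have e1 : (⟨φ x, hQ (h x)⟩ : T) = a ⟨φ₀ x, val_mem hφ₀ x⟩ :=
          Subtype.ext (hx x (val_mem hφ₀ x))
        rw [e1, MulAut.inv_apply_self]
      exact e ▸ imgSub_act_mem hQ ⟨φ x, h x⟩
    obtain ⟨θ, hθ, hθx⟩ := exists_comp hφ₀ hχ hval
    refine ⟨θ, hθ, fun x hxS => ?_⟩
    have e1 : (⟨φ₀ x, hval x⟩ : imgSub (autHom a⁻¹) Q) =
        ⟨_, imgSub_act_mem hQ ⟨φ x, h x⟩⟩ := by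
      refine Subtype.ext ?_
      have e2 : (⟨φ x, hQ (h x)⟩ : T) = a ⟨φ₀ x, val_mem hφ₀ x⟩ :=
        Subtype.ext (hx x (val_mem hφ₀ x))
      show φ₀ x = (a⁻¹ (⟨φ x, hQ (h x)⟩ : T) : Ω)
      rw [e2, MulAut.inv_apply_self]
    have e3 : θ x = (a⁻¹ ⟨ψ₀ ⟨φ x, h x⟩, val_mem hψ₀ _⟩ : Ω) := by
      rw [hθx, e1, hχx]
    show ψ ⟨φ x, h x⟩ = (b (a ⟨θ x, hxS⟩) : Ω)
    rw [hy _ (val_mem hψ₀ _)]
    refine congrArg (fun z : T => (b z : Ω)) ?_
    rw [show (⟨θ x, hxS⟩ : T) = a⁻¹ ⟨ψ₀ ⟨φ x, h x⟩, val_mem hψ₀ _⟩ from Subtype.ext e3,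
      MulAut.apply_inv_self]
  inv_mem := by
    rintro P φ ⟨hφ, hP, hφT, a, ha, φ₀, hφ₀, hx⟩
    obtain ⟨χ, hχ, hχx⟩ := hinv a ha _ _ (rangeInv_mem hφ₀)
    have hle : φ.range ≤ imgSub (autHom a) φ₀.range := by
      rintro _ ⟨x, rfl⟩
      rw [hx x (val_mem hφ₀ x)]
      exact imgSub_act_mem (range_le hφ₀) ⟨φ₀ x, x, rfl⟩
    refine ⟨_, ⟨rangeInv_mem hφ, ?_, fun y => hP (rangeInv_mem_src _ _ y), a⁻¹,
      Subgroup.inv_mem _ ha, _, restrict_mem hχ hle, ?_⟩, fun x => rangeInv_apply _ _ x _⟩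
    · rintro _ ⟨x, rfl⟩
      exact hφT x
    rintro ⟨_, x, rfl⟩ hxS
    refine (rangeInv_apply φ _ x _).trans ?_
    have e1 : (Subgroup.inclusion hle ⟨φ x, x, rfl⟩) =
        ⟨_, imgSub_act_mem (range_le hφ₀) ⟨φ₀ x, x, rfl⟩⟩ :=
      Subtype.ext (hx x (val_mem hφ₀ x))
    have e2 : χ (Subgroup.inclusion hle ⟨φ x, x, rfl⟩) = (a ⟨x, hP x.2⟩ : Ω) := by
      rw [e1, hχx]
      exact congrArg (fun z : T => (a z : Ω)) (Subtype.ext (rangeInv_apply φ₀ _ x _))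
    have e3 : (⟨_, hxS⟩ : T) = a ⟨x, hP x.2⟩ := Subtype.ext e2
    show (x : Ω) = _
    rw [e3, MulAut.inv_apply_self]

/-- In a saturated system, strong invariance gives the Frattini condition. -/
theorem exists_frattini [Fact p.Prime] [Finite S] (hS : IsPGroup p S) (hF : F.IsSaturated p)
    (hE : E.IsSubsystemOf F) (hT : F.StronglyClosed T) (hstr : StronglyInvariant E F)
    {P : Subgroup Ω} (hP : P ≤ T) {φ : P →* Ω} (hφ : φ ∈ F.Hom P) :
    ∃ a ∈ F.autGroup T, ∃ φ₀ ∈ E.Hom P, ∀ (x : P) (hx : φ₀ x ∈ T),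
      φ x = (a ⟨φ₀ x, hx⟩ : Ω) := by
  have hTS := hT.1
  haveI : Finite T := finite_of_le hTS
  set D := decompSystem F E hTS (actInvariant_of_stronglyInvariant hTS hstr) with hD
  suffices key : ∀ n (P : Subgroup Ω) (φ : P →* Ω), Nat.card T - Nat.card P ≤ n → P ≤ T →
      φ ∈ F.Hom P → φ ∈ D.Hom P from (key _ P φ le_rfl hP hφ).2.2.2
  clear hφ φ hP P
  intro n
  induction n using Nat.strong_induction_on with
  | _ n ih =>
    intro P φ hn hPT hφ
    haveI : Finite P := finite_of_le (hPT.trans hTS)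
    by_cases hPe : P = T
    · subst hPe
      obtain ⟨a, ha, hax⟩ := exists_aut_of_hom hφ (hT.2 P le_rfl φ hφ)
      exact ⟨hφ, le_rfl, hT.2 P le_rfl φ hφ, a, ha, _, subtype_mem le_rfl,
        fun x hx => (hax x).symm⟩
    have hPS := hPT.trans hTS
    obtain ⟨Q, hPQ, hQ⟩ := exists_isFullyNormalized_conj F hPS
    have hQT : Q ≤ T := by
      obtain ⟨θ, hθ, rfl⟩ := hPQ
      rintro _ ⟨x, rfl⟩
      exact hT.2 P hPT θ hθ x
    haveI : Finite Q := finite_of_le hQ.1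
    haveI := finite_mulAut hQ.1
    -- maps of the normalizers in `T` are in `D`
    have hbig : ∀ R : Subgroup Ω, R ≤ T → Nat.card R = Nat.card P → R ≠ T →
        ∀ ψ : normalizerIn T R →* Ω, ψ ∈ F.Hom (normalizerIn T R) → ψ ∈ D.Hom _ := by
      intro R hR hc hne ψ hψ
      have h1 := Fusion87.card_lt_normalizerIn (hS.to_le hTS) hR hne
      have h2 : Nat.card (normalizerIn T R) ≤ Nat.card T := Subgroup.card_le_of_le inf_le_left
      exact ih _ (by omega) _ ψ le_rfl inf_le_left hψ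
    have hne : ∀ R : Subgroup Ω, R ≤ T → Nat.card R = Nat.card P → R ≠ T := fun R _ hc e =>
      hPe (Subgroup.eq_of_le_of_card_ge hPT (by rw [← hc, e]))
    -- automorphisms of `Q`
    have haut : ∀ β ∈ F.autGroup Q, autHom β ∈ D.Hom Q := by
      intro β hβ
      set A := autInducedBy S Q with hA
      set B0 := E.autGroup Q with hB0
      have hB0F : B0 ≤ F.autGroup Q := autGroup_mono hE Q
      obtain ⟨-, hsyl⟩ := isFullyAutomized_iff.1 (isFullyAutomized_of_isFullyNormalized hS hF hQ)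
      have hnormB0 : ∀ γ ∈ F.autGroup Q, ∀ g ∈ B0, γ * g * γ⁻¹ ∈ B0 := by
        intro γ hγ g hg
        obtain ⟨χ, hχ, hχx⟩ := hstr Q Q le_rfl hQT (autHom g) ((mem_autGroup hQT).1 hg)
          (fun x => (g x).2) (autHom γ) (autGroup_hom_mem hQ.1 hγ)
        have hr : imgSub (autHom γ) Q = Q := by rw [imgSub_self, range_autHom]
        refine (mem_autGroup hQT).2 (mem_of_restrict hχ hr.ge fun y => ?_)
        have hy : autHom γ (Subgroup.inclusion le_rfl (γ⁻¹ y)) = (y : Ω) :=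
          congrArg Subtype.val (γ.apply_symm_apply y)
        refine Eq.trans ?_ ((congrArg χ (Subtype.ext hy.symm)).trans
          (hχx (γ⁻¹ y) (hy.symm ▸ hr.ge y.2))).symm
        rfl
      -- a Sylow subgroup of the normal subgroup `B0`
      set A' := A ⊓ B0 with hA'
      have hA'syl : IsSylowIn p A' B0 := by
        haveI : Finite B0 := inferInstance
        obtain ⟨L, hL⟩ := exists_isSylowIn (p := p) B0
        refine hL.of_card_eq (hsyl.2.1.to_le inf_le_left) inf_le_right (le_antisymm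
          (hL.card_le (hsyl.2.1.to_le inf_le_left) inf_le_right) ?_)
        obtain ⟨c, hc, hle⟩ := hsyl.exists_conj_le hL.2.1 (hL.1.trans hB0F)
        haveI : Finite A' := inferInstance
        rw [← Subgroup.card_map_of_injective (K := L) (f := (MulAut.conj c).toMonoidHom)
          (MulEquiv.injective _)]
        refine Subgroup.card_le_of_le (le_inf hle ?_)
        rintro _ ⟨g, hg, rfl⟩
        exact hnormB0 c hc g (hL.1 hg)
      have hconjle : A'.map (MulAut.conj β).toMonoidHom ≤ B0 := by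
        rintro _ ⟨g, hg, rfl⟩
        exact hnormB0 β hβ g hg.2
      obtain ⟨o, ho, hle⟩ := hA'syl.exists_conj_le (hA'syl.2.1.map _) hconjle
      have hoβ : o * β ∈ F.autGroup Q := Subgroup.mul_mem _ (hB0F ho) hβ
      have hext : normalizerIn T Q ≤ extender S Q (autHom (o * β)) := by
        intro g hg
        refine mem_extender_of_conj_mem (hTS hg.1) hg.2 ?_
        have hg' : conjAut Q g hg.2 ∈ A' := ⟨mem_autInducedBy.2 ⟨g, hTS hg.1, fun x => rfl⟩,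
          (mem_autGroup hQT).2 (mem_of_conj hQT hg.1 fun x => rfl)⟩
        have h1 := (hle ⟨_, ⟨_, hg', rfl⟩, rfl⟩).1
        have e : (o * β) * conjAut Q g hg.2 * (o * β)⁻¹ =
            o * (β * conjAut Q g hg.2 * β⁻¹) * o⁻¹ := by
          rw [mul_inv_rev]
          simp only [mul_assoc]
        rw [e]
        exact h1
      obtain ⟨ψ, hψ, hag⟩ := (isReceptive_of_isFullyNormalized hS hF hQ).2 Q (autHom (o * β))
        (autGroup_hom_mem hQ.1 hoβ) (range_autHom _)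
      have hQN : Q ≤ normalizerIn T Q := le_normalizerIn hQT
      have h1 : autHom (o * β) ∈ D.Hom Q :=
        mem_of_restrict (hbig Q hQT (isConj_card hPQ) (hne Q hQT (isConj_card hPQ)) _
          (restrict_mem hψ hext)) hQN fun x => (hag x x.2 (hext (hQN x.2))).symm
      have ho' := (mem_autGroup hQT).1 (Subgroup.inv_mem _ ho)
      have h2 : autHom (o⁻¹) ∈ D.Hom Q :=
        ⟨autGroup_hom_mem hQ.1 (hB0F (Subgroup.inv_mem _ ho)), hQT, val_mem ho', 1,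
          Subgroup.one_mem _, _, ho', fun x hx => rfl⟩
      refine comp_of_apply h1 h2 fun x => ⟨((o * β) x).2, ?_⟩
      show (β x : Ω) = (o⁻¹ (o (β x)) : Ω)
      rw [MulAut.inv_apply_self]
    -- transport to `Q`
    have hside : ∀ R : Subgroup Ω, R ≤ T → F.IsConj R Q →
        ∃ θ ∈ D.Hom R, θ.range = Q := by
      intro R hR hRQ
      obtain ⟨ψ, hψ, -, himg⟩ := exists_map_to_fullyNormalized hS hF hQ hRQ
      have hle : normalizerIn T R ≤ normalizerIn S R := inf_le_inf_right _ hTS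
      have hcard : Nat.card R = Nat.card P := by rw [← isConj_card hPQ, isConj_card hRQ]
      have h1 := hbig R hR hcard (hne R hR hcard) _ (restrict_mem hψ hle)
      refine ⟨_, restrict_mem h1 (le_normalizerIn hR), ?_⟩
      rw [← himg, ← range_restrict ψ (le_normalizerIn (hR.trans hTS))]
      rfl
    obtain ⟨θ₁, hθ₁, hr₁⟩ := hside P hPT hPQ
    have hφT : φ.range ≤ T := by rintro _ ⟨x, rfl⟩; exact hT.2 P hPT φ hφ x
    obtain ⟨θ₂, hθ₂, hr₂⟩ := hside φ.range hφT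
      (isConj_trans (isConj_symm (isConj_range hφ)) hPQ)
    obtain ⟨τ, hτ, hτr, hτx, -⟩ := exists_inverse hθ₁ hr₁
    obtain ⟨τ₂, hτ₂, -, hτ₂x, -⟩ := exists_inverse hθ₂ hr₂
    obtain ⟨σ, hσ, hσx⟩ := exists_comp hφ hθ₂.1 fun x => ⟨x, rfl⟩
    obtain ⟨c, hc, hcx⟩ := exists_comp hτ.1 hσ fun y => hτr.le ⟨y, rfl⟩
    obtain ⟨α, hα, hαx⟩ := exists_aut_of_hom hc fun y => by
      rw [hcx, hσx]
      exact hr₂.le ⟨_, rfl⟩
    obtain ⟨μ, hμ, hμx⟩ := exists_comp hθ₁ (haut α hα) fun x => hr₁.le ⟨x, rfl⟩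
    refine comp_of_apply hμ hτ₂ fun x => ?_
    have hμσ : μ x = σ x := by
      rw [hμx, autHom_apply, hαx, hcx]
      exact congrArg σ (Subtype.ext (hτx x (hr₁.le ⟨x, rfl⟩)))
    have hx2 : θ₂ ⟨φ x, x, rfl⟩ ∈ Q := hr₂.le ⟨_, rfl⟩
    refine ⟨by rw [hμσ, hσx]; exact hx2, ?_⟩
    simp only [hμσ, hσx]
    exact (hτ₂x ⟨φ x, x, rfl⟩ hx2).symm

end Cfsg.Agent.Lib.Fusion
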