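/-
Averaging over cosets of an overgroup of index prime to an abelian normal subgroup: a fusion-stable
partial complement extends to a complement, and crossed homomorphisms trivial there are principal.
-/
import Mathlib

set_option autoImplicit false

namespace Cfsg.Agent.Lib.Fusion

variable {X : Type*} [Group X]

/-- A transversal of `U` adapted to the action of `T`. -/
theorem exists_adapted_transversal {T U : Subgroup X}
    (h : ∀ x : X, ∃ x₀ : X, x⁻¹ * x₀ ∈ U ∧ ∀ u ∈ T, x⁻¹ * u * x ∈ U → x₀⁻¹ * u * x₀ ∈ T) :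
    ∃ r : X ⧸ U → X, (∀ w, (r w : X ⧸ U) = w) ∧
      ∀ s ∈ T, ∀ w, (r (s • w))⁻¹ * (s * r w) ∈ T := by
  classical
  let o : X ⧸ U → Quotient (MulAction.orbitRel T (X ⧸ U)) := fun w => Quotient.mk _ w
  have hx₀ : ∀ ω : Quotient (MulAction.orbitRel T (X ⧸ U)), ∃ x₀ : X,
      (x₀ : X ⧸ U) = ω.out ∧ ∀ u ∈ T, u • ω.out = ω.out → x₀⁻¹ * u * x₀ ∈ T := by
    intro ω
    obtain ⟨x, hx⟩ := QuotientGroup.mk_surjective ω.out
    obtain ⟨x₀, h1, h2⟩ := h x
    refine ⟨x₀, ?_, fun u hu hfix => h2 u hu ?_⟩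
    · rw [← hx]
      exact (QuotientGroup.eq.2 h1).symm
    · rw [← hx, MulAction.Quotient.smul_coe, smul_eq_mul, QuotientGroup.eq] at hfix
      have := U.inv_mem hfix
      simpa [mul_assoc] using this
  choose x₀ hx₀ hx₀T using hx₀
  have ht : ∀ w : X ⧸ U, ∃ t : T, (t : X) • (o w).out = w := by
    intro w
    have h1 : MulAction.orbitRel T (X ⧸ U) (o w).out w := Quotient.mk_out w
    obtain ⟨t, ht⟩ := MulAction.orbitRel_apply.1 (Setoid.symm' _ h1)
    exact ⟨t, ht⟩
  choose t ht using ht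
  refine ⟨fun w => (t w : X) * x₀ (o w), fun w => ?_, fun s hs w => ?_⟩
  · conv_rhs => rw [← ht w, ← hx₀ (o w)]
    rw [MulAction.Quotient.smul_coe, smul_eq_mul]
  · have ho : o (s • w) = o w :=
      Quotient.sound (MulAction.orbitRel_apply.2 ⟨⟨s, hs⟩, rfl⟩)
    have hu : (t (s • w) : X)⁻¹ * (s * t w) ∈ T :=
      T.mul_mem (T.inv_mem (t (s • w)).2) (T.mul_mem hs (t w).2)
    have hfix : ((t (s • w) : X)⁻¹ * (s * t w)) • (o w).out = (o w).out := by
      rw [mul_smul, mul_smul, ht w, inv_smul_eq_iff]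
      conv_lhs => rw [← ht (s • w)]
      rw [ho]
    have := hx₀T _ _ hu hfix
    simp only [ho]
    convert this using 1
    group

/-- A fusion-stable partial complement extends to a complement (Gaschütz, stable form). -/
theorem exists_complement_of_stable [Finite X] {N T : Subgroup X} [N.Normal]
    (hab : ∀ a ∈ N, ∀ b ∈ N, a * b = b * a) (hdisj : T ⊓ N = ⊥)
    (hcop : (Nat.card N).Coprime (T ⊔ N).index)
    (hst : ∀ x : X, ∃ n ∈ N, ∀ t ∈ T, x * t * x⁻¹ ∈ T ⊔ N → n * (x * t * x⁻¹) * n⁻¹ ∈ T) :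
    ∃ C : Subgroup X, T ≤ C ∧ C ⊓ N = ⊥ ∧ C ⊔ N = ⊤ := by
  classical
  set U := T ⊔ N with hU
  letI := Fintype.ofFinite (X ⧸ U)
  letI : CommGroup N :=
    { (inferInstance : Group N) with mul_comm := fun a b => Subtype.ext (hab a a.2 b b.2) }
  obtain ⟨r, hr, hrT⟩ := exists_adapted_transversal (T := T) (U := U) (by
    intro x
    obtain ⟨n, hn, hnT⟩ := hst x⁻¹
    refine ⟨x * n⁻¹, ?_, fun u hu hxu => ?_⟩
    · rw [inv_mul_cancel_left]
      exact Subgroup.mem_sup_right (N.inv_mem hn)
    · have := hnT u hu (by rwa [inv_inv])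
      convert this using 1
      group)
  -- the `N`-component of the action of `x` on the transversal
  have hex : ∀ (x : X) (w : X ⧸ U), ∃ n : N, (r (x • w))⁻¹ * ((n : X)⁻¹ * (x * r w)) ∈ T := by
    intro x w
    have h1 : (r (x • w))⁻¹ * (x * r w) ∈ U := by
      rw [← QuotientGroup.eq, hr, ← smul_eq_mul, ← MulAction.Quotient.smul_coe, hr]
    obtain ⟨t₁, ht₁, n₁, hn₁, h2⟩ := Subgroup.mem_sup_of_normal_right.1 h1
    refine ⟨⟨r (x • w) * (t₁ * n₁ * t₁⁻¹) * (r (x • w))⁻¹,
      ‹N.Normal›.conj_mem _ (‹N.Normal›.conj_mem n₁ hn₁ _) _⟩, ?_⟩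
    convert ht₁ using 1
    calc (r (x • w))⁻¹ * ((r (x • w) * (t₁ * n₁ * t₁⁻¹) * (r (x • w))⁻¹)⁻¹ * (x * r w))
        = t₁ * n₁⁻¹ * t₁⁻¹ * ((r (x • w))⁻¹ * (x * r w)) := by group
      _ = t₁ := by rw [← h2]; group
  choose ν hν using hex
  have huniq : ∀ (x : X) (w : X ⧸ U) (n : N),
      (r (x • w))⁻¹ * ((n : X)⁻¹ * (x * r w)) ∈ T → ν x w = n := by
    intro x w n hn
    have h1 := T.mul_mem (hν x w) (T.inv_mem hn)
    have h2 : (r (x • w))⁻¹ * (((ν x w)⁻¹ * n : N) : X) * r (x • w) ∈ T ⊓ N := by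
      refine ⟨?_, by simpa using ‹N.Normal›.conj_mem _ ((ν x w)⁻¹ * n : N).2 (r (x • w))⁻¹⟩
      show _ ∈ T
      convert h1 using 1
      push_cast
      group
    rw [hdisj, Subgroup.mem_bot] at h2
    have h3 : (((ν x w)⁻¹ * n : N) : X) = 1 := by
      calc (((ν x w)⁻¹ * n : N) : X)
          = r (x • w) * ((r (x • w))⁻¹ * (((ν x w)⁻¹ * n : N) : X) * r (x • w)) * (r (x • w))⁻¹ := by
            group
        _ = 1 := by rw [h2]; group
    exact inv_mul_eq_one.1 (Subtype.ext h3)
  let act : X → MulAut N := fun x => MulAut.conjNormal x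
  let d : X → N := fun x => ∏ w : X ⧸ U, ν x w
  have hν_mul : ∀ (x y : X) w, ν (x * y) w = act x (ν y w) * ν x (y • w) := by
    intro x y w
    refine huniq _ _ _ ?_
    have h1 := T.mul_mem (hν x (y • w)) (hν y w)
    rw [mul_smul]
    convert h1 using 1
    simp only [act, Subgroup.coe_mul, MulAut.conjNormal_apply]
    group
  have hd_mul : ∀ x y, d (x * y) = act x (d y) * d x := by
    intro x y
    show ∏ w, ν (x * y) w = act x (∏ w, ν y w) * ∏ w, ν x w
    rw [map_prod, ← Equiv.prod_comp (MulAction.toPerm y) (fun w => ν x w), ← Finset.prod_mul_distrib]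
    exact Finset.prod_congr rfl fun w _ => hν_mul x y w
  have hd1 : d 1 = 1 := by
    have h := hd_mul 1 1
    simpa [act] using h
  let C : Subgroup X :=
    { carrier := {x | d x = 1}
      one_mem' := hd1
      mul_mem' := fun {a b} ha hb => by
        show d (a * b) = 1
        rw [hd_mul, show d b = 1 from hb, map_one, one_mul, show d a = 1 from ha]
      inv_mem' := fun {a} ha => by
        show d a⁻¹ = 1
        have h := hd_mul a⁻¹ a
        rw [inv_mul_cancel, hd1, show d a = 1 from ha, map_one, one_mul] at h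
        exact h.symm }
  have hdN : ∀ n : N, d n = n ^ U.index := by
    intro n
    have : ∀ w : X ⧸ U, ν n w = n := by
      intro w
      have hfix : (n : X) • w = w := by
        rw [← hr w, MulAction.Quotient.smul_coe, smul_eq_mul, QuotientGroup.eq]
        have := Subgroup.mem_sup_right (S := T)
          (‹N.Normal›.conj_mem' _ (N.inv_mem n.2) (r w))
        convert this using 1
        group
      refine huniq _ _ _ ?_
      rw [hfix, inv_mul_cancel_left, inv_mul_cancel]
      exact T.one_mem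
    show ∏ w, ν n w = _
    rw [Finset.prod_congr rfl fun w _ => this w, Finset.prod_const, Finset.card_univ,
      ← Nat.card_eq_fintype_card]
    rfl
  refine ⟨C, fun s hs => ?_, ?_, ?_⟩
  · show ∏ w, ν s w = 1
    refine Finset.prod_eq_one fun w _ => huniq _ _ _ ?_
    simpa using hrT s hs w
  · rw [eq_bot_iff]
    rintro x ⟨hxC, hxN⟩
    have h := hdN ⟨x, hxN⟩
    rw [show d x = 1 from hxC] at h
    exact congrArg Subtype.val ((powCoprime hcop).injective (h.symm.trans (one_pow _).symm))
  · rw [eq_top_iff]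
    rintro x -
    obtain ⟨n, hn⟩ := (powCoprime hcop).surjective (d x)⁻¹
    have hC : (n : X) * x ∈ C := by
      show d ((n : X) * x) = 1
      rw [hd_mul, hdN, show act (n : X) (d x) = d x from Subtype.ext (by
        simp only [act, MulAut.conjNormal_apply]
        rw [hab _ n.2 _ (d x).2, mul_inv_cancel_right])]
      rw [show n ^ U.index = (d x)⁻¹ from hn, mul_inv_cancel]
    have := Subgroup.mul_mem_sup hC (N.one_mem)
    have h2 : x = (n : X)⁻¹ * ((n : X) * x * 1) := by group
    rw [h2]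
    exact mul_mem (Subgroup.mem_sup_right (N.inv_mem n.2)) this

/-- A crossed homomorphism with values in an abelian normal subgroup that is trivial on a subgroup
of index prime to the order of the values is principal. -/
theorem exists_conj_of_crossed [Finite X] {N U : Subgroup X} [N.Normal]
    (hab : ∀ a ∈ N, ∀ b ∈ N, a * b = b * a) (hcop : (Nat.card N).Coprime U.index)
    (d : X → N) (hd : ∀ x y, (d (x * y) : X) = d x * (x * d y * x⁻¹)) (hU : ∀ u ∈ U, d u = 1) :
    ∃ z : N, ∀ x, (d x : X) = z * (x * (z : X)⁻¹ * x⁻¹) := by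
  classical
  letI : CommGroup N :=
    { (inferInstance : Group N) with mul_comm := fun a b => Subtype.ext (hab a a.2 b b.2) }
  letI := Fintype.ofFinite (X ⧸ U)
  let act : X → MulAut N := fun x => MulAut.conjNormal x
  have hd' : ∀ x y, d (x * y) = d x * act x (d y) := fun x y => Subtype.ext (by
    simp only [act, Subgroup.coe_mul, MulAut.conjNormal_apply]
    exact hd x y)
  have hconst : ∀ x, ∀ u ∈ U, d (x * u) = d x := fun x u hu => by
    rw [hd', hU u hu, map_one, mul_one]
  let e : X ⧸ U → N := fun w => d w.out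
  have he : ∀ x : X, e (x : X ⧸ U) = d x := by
    intro x
    obtain ⟨u, hu⟩ := QuotientGroup.mk_out_eq_mul U x
    show d _ = _
    rw [hu, hconst x u u.2]
  set a : N := ∏ w, e w with ha
  have key : ∀ x, d x ^ U.index * act x a = a := by
    intro x
    have h1 : ∀ w : X ⧸ U, e (x • w) = d x * act x (e w) := by
      intro w
      obtain ⟨y, rfl⟩ := QuotientGroup.mk_surjective w
      rw [MulAction.Quotient.smul_coe, smul_eq_mul, he, he, hd']
    calc d x ^ U.index * act x a = ∏ w : X ⧸ U, d x * act x (e w) := by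
          rw [Finset.prod_mul_distrib, Finset.prod_const, Finset.card_univ, ha, map_prod,
            ← Nat.card_eq_fintype_card]
          rfl
      _ = ∏ w : X ⧸ U, e (x • w) := Finset.prod_congr rfl fun w _ => (h1 w).symm
      _ = a := Equiv.prod_comp (MulAction.toPerm x) e
  obtain ⟨z, hz⟩ := (powCoprime hcop).surjective a
  refine ⟨z, fun x => ?_⟩
  have hzp : z ^ U.index = a := hz
  have h2 : d x = z * (act x z)⁻¹ := by
    refine (powCoprime hcop).injective ?_
    show d x ^ U.index = (z * (act x z)⁻¹) ^ U.index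
    rw [mul_pow, inv_pow, ← map_pow, hzp, eq_mul_inv_iff_mul_eq]
    exact key x
  rw [h2]
  simp only [act, Subgroup.coe_mul, Subgroup.coe_inv, MulAut.conjNormal_apply]
  group

end Cfsg.Agent.Lib.Fusion
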