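/-
Uniqueness and rigidity of models.
-/
import Cfsg.Agent.Lib.Fusion.Realized
import Cfsg.Agent.Lib.Fusion.StableComplement

set_option autoImplicit false

namespace Cfsg.Agent.Lib.Fusion

open Cfsg Cfsg.FusionSystem

variable {Ω : Type*} [Group Ω] {S : Subgroup Ω} {F : FusionSystem S} {p : ℕ}
  {G : Type*} [Group G] {ι : S →* G}

/-- In a model, every subgroup normal in the system lies in `O_p`. -/
theorem le_modelCore_of_isNormal [Fact p.Prime] (hM : F.IsModel p G ι) {Q : Subgroup Ω}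
    (hQ : F.IsNormal Q) : Q ≤ modelCore p ι := by
  obtain ⟨hfin, h, hT, hC⟩ := hM
  have hnR := pCore_normal (p := p) (G := G)
  set N := (Q.subgroupOf S).map ι
  have hNr : N ≤ ι.range := Subgroup.map_le_range _ _
  have hNn : N.Normal := by
    refine ⟨fun n hn g => ?_⟩
    obtain ⟨s, hs, rfl⟩ := hn
    have hR : modelCore p ι ≤ S := Subgroup.map_subtype_le _
    obtain ⟨φ, hφ, hφS, hφv⟩ := exists_hom_of_conj h hR (g := g) fun x =>
      pCore_le_range hT (hnR.conj_mem _ ((mem_modelCore _).1 x.2) g)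
    obtain ⟨ψ, hψ, hψa, hψQ⟩ := hQ.2 _ φ hφ
    obtain ⟨g', hg'⟩ := exists_conj_of_hom h hψ
    have hc : g'⁻¹ * g ∈ Subgroup.centralizer (pCore p G : Set G) := by
      intro m hm
      obtain ⟨z, rfl⟩ := pCore_le_range hT hm
      have hz : (z : Ω) ∈ modelCore p ι := (mem_modelCore z.2).2 hm
      have h1 := hφv ⟨z, hz⟩
      have h2 := hg' (Subgroup.inclusion le_sup_left ⟨z, hz⟩)
      simp only [hψa] at h2
      rw [h2] at h1
      have h3 : g' * ι z * g'⁻¹ = g * ι z * g⁻¹ := h1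
      calc ι z * (g'⁻¹ * g) = g'⁻¹ * (g' * ι z * g'⁻¹) * g := by group
        _ = g'⁻¹ * (g * ι z * g⁻¹) * g := by rw [h3]
        _ = g'⁻¹ * g * ι z := by group
    obtain ⟨t, ht⟩ := pCore_le_range hT (hC hc)
    have hQn := le_normalizer_of_isNormal hQ t.2
    have hts : (t : Ω) * s * (t : Ω)⁻¹ ∈ Q := (Subgroup.mem_normalizer_iff.1 hQn _).1 hs
    have h4 := hg' (Subgroup.inclusion le_sup_right ⟨_, hts⟩)
    have h5 : ψ (Subgroup.inclusion le_sup_right ⟨_, hts⟩) ∈ Q :=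
      hψQ.le (apply_mem_imgSub ψ _ hts)
    refine ⟨⟨_, hQ.1 h5⟩, h5, ?_⟩
    rw [h4]
    show g' * ι (t * s * t⁻¹) * g'⁻¹ = g * ι s * g⁻¹
    rw [map_mul, map_mul, map_inv, ht]
    group
  have hp : IsPGroup p N := by
    obtain ⟨T, hT⟩ := hT
    exact (hT ▸ T.2 : IsPGroup p ι.range).to_le hNr
  intro x hx
  rw [mem_modelCore (hQ.1 hx)]
  exact PSolvable.le_pCore hp ⟨⟨x, hQ.1 hx⟩, hx, rfl⟩

/-- Rigidity of models. -/
theorem exists_center_conj_of_fix [Fact p.Prime] (hM : F.IsModel p G ι) (ψ : G ≃* G)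
    (hψ : ∀ x : S, ψ (ι x) = ι x) :
    ∃ z : S, z ∈ Subgroup.center S ∧ ∀ g : G, ψ g = ι z * g * (ι z)⁻¹ := by
  obtain ⟨hfin, h, hT, hC⟩ := hM
  have hnR := pCore_normal (p := p) (G := G)
  set N := Subgroup.centralizer (pCore p G : Set G)
  have hfix : ∀ n ∈ pCore p G, ψ n = n := fun n hn => by
    obtain ⟨s, rfl⟩ := pCore_le_range hT hn
    exact hψ s
  have hd : ∀ g, ψ g * g⁻¹ ∈ N := by
    intro g n hn
    have h1 := hfix _ (hnR.conj_mem' n hn g)
    rw [map_mul, map_mul, map_inv, hfix n hn] at h1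
    calc n * (ψ g * g⁻¹) = ψ g * ((ψ g)⁻¹ * n * ψ g) * g⁻¹ := by group
      _ = ψ g * (g⁻¹ * n * g) * g⁻¹ := by rw [h1]
      _ = ψ g * g⁻¹ * n := by group
  have hNn : N.Normal := inferInstanceAs (Subgroup.centralizer (pCore p G : Set G)).Normal
  obtain ⟨T, hT'⟩ := hT
  have hp : IsPGroup p N := (PSolvable.pCore_isPGroup).to_le hC
  have hcop : (Nat.card N).Coprime ι.range.index := by
    obtain ⟨k, hk⟩ := IsPGroup.iff_card.1 hp
    rw [hk, ← hT']
    exact Nat.Coprime.pow_left _ ((Nat.Prime.coprime_iff_not_dvd Fact.out).2 T.not_dvd_index)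
  obtain ⟨z, hz⟩ := exists_conj_of_crossed (N := N) (U := ι.range)
    (fun a ha b hb => hb a (hC ha)) hcop (fun g => ⟨ψ g * g⁻¹, hd g⟩)
    (fun x y => by
      show ψ (x * y) * (x * y)⁻¹ = ψ x * x⁻¹ * (x * (ψ y * y⁻¹) * x⁻¹)
      rw [map_mul]
      group)
    (fun u hu => by
      obtain ⟨s, rfl⟩ := hu
      exact Subtype.ext (by simp [hψ s]))
  obtain ⟨z₀, hz₀⟩ := hT'.le (PSolvable.pCore_le_sylow T (hC z.2))
  have key : ∀ g, ψ g = ι z₀ * g * (ι z₀)⁻¹ := by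
    intro g
    have h1 : ψ g * g⁻¹ = z * (g * (z : G)⁻¹ * g⁻¹) := hz g
    rw [hz₀]
    calc ψ g = ψ g * g⁻¹ * g := by group
      _ = _ := by rw [h1]; group
  refine ⟨z₀, Subgroup.mem_center_iff.2 fun s => h.1 ?_, key⟩
  have h1 := key (ι s)
  rw [hψ] at h1
  rw [map_mul, map_mul]
  calc ι s * ι z₀ = ι z₀ * ι s * (ι z₀)⁻¹ * ι z₀ := by rw [← h1]
    _ = ι z₀ * ι s := by group

variable {G' : Type*} [Group G'] {κ : S →* G'}

theorem modelCore_eq [Fact p.Prime] (hM : F.IsModel p G ι) (hM' : F.IsModel p G' κ) :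
    modelCore p κ = modelCore p ι :=
  le_antisymm (le_modelCore_of_isNormal hM (isNormal_modelCore hM'))
    (le_modelCore_of_isNormal hM' (isNormal_modelCore hM))

/-- Uniqueness of models. -/
theorem exists_modelEquiv [Fact p.Prime] (hM : F.IsModel p G ι) (hM' : F.IsModel p G' κ) :
    ∃ e : G ≃* G', ∀ x : S, e (ι x) = κ x := by
  have hQn := isNormal_modelCore hM
  have hQQ := modelCore_eq hM hM'
  obtain ⟨hf, h, hT, hC⟩ := hM
  obtain ⟨hf', h', hT', hC'⟩ := hM'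
  have hnR := pCore_normal (p := p) (G := G)
  have hnR' := pCore_normal (p := p) (G := G')
  set Q := modelCore p ι with hQdef
  have hmem : ∀ s : S, (s : Ω) ∈ Q ↔ ι s ∈ pCore p G := fun s => mem_modelCore s.2
  have hmem' : ∀ s : S, (s : Ω) ∈ Q ↔ κ s ∈ pCore p G' := fun s => by
    rw [← hQQ]; exact mem_modelCore s.2
  have pre : ∀ n ∈ pCore p G, ∃ s : S, (s : Ω) ∈ Q ∧ ι s = n := fun n hn => by
    obtain ⟨s, rfl⟩ := pCore_le_range hT hn
    exact ⟨s, (hmem s).2 hn, rfl⟩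
  have pre' : ∀ n ∈ pCore p G', ∃ s : S, (s : Ω) ∈ Q ∧ κ s = n := fun n hn => by
    obtain ⟨s, rfl⟩ := pCore_le_range hT' hn
    exact ⟨s, (hmem' s).2 hn, rfl⟩
  -- pairs acting equally on `Q`
  let X : Subgroup (G × G') :=
    { carrier := {x | ∀ s : S, (s : Ω) ∈ Q → ∃ s' : S, (s' : Ω) ∈ Q ∧
        x.1 * ι s * x.1⁻¹ = ι s' ∧ x.2 * κ s * x.2⁻¹ = κ s'}
      one_mem' := fun s hs => ⟨s, hs, by simp, by simp⟩
      mul_mem' := by
        intro a b ha hb s hs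
        obtain ⟨s', hs', e1, e2⟩ := hb s hs
        obtain ⟨s'', hs'', f1, f2⟩ := ha s' hs'
        refine ⟨s'', hs'', ?_, ?_⟩
        · rw [← f1, ← e1, Prod.fst_mul]; group
        · rw [← f2, ← e2, Prod.snd_mul]; group
      inv_mem' := by
        intro a ha s hs
        obtain ⟨s₀, hs₀, hs₀e⟩ := pre _ (hnR.conj_mem' _ ((hmem s).1 hs) a.1)
        obtain ⟨s'', -, e1, e2⟩ := ha s₀ hs₀
        have : s'' = s := h.1 (by rw [← e1, hs₀e]; group)
        subst this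
        refine ⟨s₀, hs₀, ?_, ?_⟩
        · rw [Prod.fst_inv, hs₀e, inv_inv]
        · rw [Prod.snd_inv, ← e2]; group }
  have hswap : ∀ g' : G', ∃ g : G, (g, g') ∈ X := by
    intro g'
    obtain ⟨φ, hφ, hφS, hv⟩ := exists_hom_of_conj h' hQn.1 (g := g') fun x =>
      pCore_le_range hT' (hnR'.conj_mem _ ((hmem' ⟨x, hQn.1 x.2⟩).1 x.2) g')
    obtain ⟨g, hg⟩ := exists_conj_of_hom h hφ
    refine ⟨g, fun s hs => ⟨⟨φ ⟨s, hs⟩, hφS _⟩, ?_, (hg ⟨s, hs⟩).symm, (hv ⟨s, hs⟩).symm⟩⟩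
    exact (stronglyClosed_of_isNormal hQn).2 Q le_rfl φ hφ _
  have hswap' : ∀ g : G, ∃ g' : G', (g, g') ∈ X := by
    intro g
    obtain ⟨φ, hφ, hφS, hv⟩ := exists_hom_of_conj h hQn.1 (g := g) fun x =>
      pCore_le_range hT (hnR.conj_mem _ ((hmem ⟨x, hQn.1 x.2⟩).1 x.2) g)
    obtain ⟨g', hg⟩ := exists_conj_of_hom h' hφ
    refine ⟨g', fun s hs => ⟨⟨φ ⟨s, hs⟩, hφS _⟩, ?_, (hv ⟨s, hs⟩).symm, (hg ⟨s, hs⟩).symm⟩⟩
    exact (stronglyClosed_of_isNormal hQn).2 Q le_rfl φ hφ _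
  have hcentral : ∀ g : G, (g, (1 : G')) ∈ X → g ∈ Subgroup.centralizer (pCore p G : Set G) := by
    intro g hg n hn
    obtain ⟨s, hs, rfl⟩ := pre n hn
    obtain ⟨s', -, e1, e2⟩ := hg s hs
    have : s' = s := h'.1 (by simpa using e2.symm)
    subst this
    have e3 : g * ι s' * g⁻¹ = ι s' := e1
    calc ι s' * g = g * ι s' * g⁻¹ * g := by rw [e3]
      _ = g * ι s' := by group
  have hcentral' : ∀ g' : G', ((1 : G), g') ∈ X → g' ∈ Subgroup.centralizer (pCore p G' : Set G') := by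
    intro g' hg n hn
    obtain ⟨s, hs, rfl⟩ := pre' n hn
    obtain ⟨s', -, e1, e2⟩ := hg s hs
    have : s' = s := h.1 (by simpa using e1.symm)
    subst this
    have e3 : g' * κ s' * g'⁻¹ = κ s' := e2
    calc κ s' * g' = g' * κ s' * g'⁻¹ * g' := by rw [e3]
      _ = g' * κ s' := by group
  have hdiag : ∀ t : S, (ι t, κ t) ∈ X := fun t s hs =>
    ⟨t * s * t⁻¹, (Subgroup.mem_normalizer_iff.1 (le_normalizer_of_isNormal hQn t.2) _).1 hs,
      by simp, by simp⟩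
  let fst : X →* G := (MonoidHom.fst G G').comp X.subtype
  let snd : X →* G' := (MonoidHom.snd G G').comp X.subtype
  let diag : S →* X := (ι.prod κ).codRestrict X hdiag
  set N := snd.ker
  have hN1 : ∀ x : X, x ∈ N → fst x ∈ Subgroup.centralizer (pCore p G : Set G) := by
    intro x hx
    refine hcentral _ ?_
    have : ((fst x, (1 : G')) : G × G') = (x : G × G') := Prod.ext rfl (hx : snd x = 1).symm
    rw [this]
    exact x.2
  have hab : ∀ a ∈ N, ∀ b ∈ N, a * b = b * a := by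
    intro a ha b hb
    refine Subtype.ext (Prod.ext (hN1 b hb _ (hC (hN1 a ha))) ?_)
    show snd a * snd b = snd b * snd a
    rw [show snd a = 1 from ha, show snd b = 1 from hb]
  have hdisj : diag.range ⊓ N = ⊥ := by
    rw [eq_bot_iff]
    rintro _ ⟨⟨t, rfl⟩, ht⟩
    have : κ t = 1 := ht
    rw [Subgroup.mem_bot, h'.1 (this.trans (map_one κ).symm), map_one]
  have hsup : diag.range ⊔ N = κ.range.comap snd := by
    refine le_antisymm (sup_le ?_ ?_) fun x hx => ?_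
    · rintro _ ⟨t, rfl⟩
      exact ⟨t, rfl⟩
    · intro x hx
      exact ⟨1, by rw [map_one]; exact (hx : snd x = 1).symm⟩
    · obtain ⟨t, ht⟩ := hx
      have h1 : (diag t)⁻¹ * x ∈ N := by
        show snd ((diag t)⁻¹ * x) = 1
        rw [map_mul, map_inv, ← ht]
        exact inv_mul_cancel _
      have := Subgroup.mul_mem_sup (MonoidHom.mem_range.2 ⟨t, rfl⟩ : diag t ∈ diag.range) h1
      rwa [mul_inv_cancel_left] at this
  have hsndsurj : Function.Surjective snd := fun g' => by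
    obtain ⟨g, hg⟩ := hswap g'
    exact ⟨⟨_, hg⟩, rfl⟩
  obtain ⟨T', hT'e⟩ := hT'
  have hNp : IsPGroup p N := by
    have h1 : IsPGroup p (pCore p G) := PSolvable.pCore_isPGroup
    refine h1.of_injective ((fst.comp N.subtype).codRestrict _ fun x => hC (hN1 x x.2)) ?_
    rintro ⟨a, ha⟩ ⟨b, hb⟩ hab
    refine Subtype.ext (Subtype.ext (Prod.ext (congrArg Subtype.val hab) ?_))
    show snd a = snd b
    rw [show snd a = 1 from ha, show snd b = 1 from hb]
  have hcop : (Nat.card N).Coprime (diag.range ⊔ N).index := by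
    rw [hsup, Subgroup.index_comap_of_surjective _ hsndsurj, ← hT'e]
    obtain ⟨k, hk⟩ := IsPGroup.iff_card.1 hNp
    rw [hk]
    exact Nat.Coprime.pow_left _ ((Nat.Prime.coprime_iff_not_dvd Fact.out).2 T'.not_dvd_index)
  obtain ⟨C, hTC, hCN, hCsup⟩ := exists_complement_of_stable hab hdisj hcop (by
    rintro ⟨⟨g, g'⟩, hx⟩
    -- the elements of `S` that `g'` keeps inside `S`
    set P : Subgroup Ω := ((κ.range).comap ((MulAut.conj g').toMonoidHom.comp κ)).map S.subtype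
    have hPS : P ≤ S := Subgroup.map_subtype_le _
    obtain ⟨φ, hφ, hφS, hv⟩ := exists_hom_of_conj h' hPS (g := g') (by
      rintro ⟨_, y, hy, rfl⟩
      exact hy)
    obtain ⟨k, hk⟩ := exists_conj_of_hom h hφ
    have hQP : ∀ s : S, (s : Ω) ∈ Q → (s : Ω) ∈ P := fun s hs =>
      ⟨s, pCore_le_range ⟨T', hT'e⟩ (hnR'.conj_mem _ ((hmem' s).1 hs) g'), rfl⟩
    have hkX : (k, g') ∈ X := fun s hs =>
      ⟨⟨φ ⟨s, hQP s hs⟩, hφS _⟩,
        (stronglyClosed_of_isNormal hQn).2 (P ⊓ Q) inf_le_right _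
          (restrict_mem hφ inf_le_left) ⟨s, hQP s hs, hs⟩,
        (hk ⟨s, hQP s hs⟩).symm, (hv ⟨s, hQP s hs⟩).symm⟩
    refine ⟨⟨(k * g⁻¹, 1), ?_⟩, rfl, ?_⟩
    · have := X.mul_mem hkX (X.inv_mem hx)
      simpa using this
    · rintro _ ⟨t, rfl⟩ ht
      rw [hsup] at ht
      have htP : (t : Ω) ∈ P := ⟨t, ht, rfl⟩
      refine ⟨⟨φ ⟨t, htP⟩, hφS _⟩, Subtype.ext (Prod.ext ?_ ?_)⟩
      · show ι ⟨φ ⟨t, htP⟩, hφS _⟩ = k * g⁻¹ * (g * ι t * g⁻¹) * (k * g⁻¹)⁻¹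
        rw [hk ⟨t, htP⟩]
        group
      · show κ ⟨φ ⟨t, htP⟩, hφS _⟩ = 1 * (g' * κ t * g'⁻¹) * 1⁻¹
        rw [hv ⟨t, htP⟩]
        group)
  have hdec : ∀ x : X, ∃ c ∈ C, ∃ n ∈ N, c * n = x := fun x =>
    Subgroup.mem_sup_of_normal_right.1 (hCsup ▸ Subgroup.mem_top x)
  have hbij' : Function.Bijective (snd.comp C.subtype) := by
    refine ⟨(injective_iff_map_eq_one _).2 fun c hc => ?_, fun g' => ?_⟩
    · exact Subtype.ext (Subgroup.mem_bot.1 (hCN.le ⟨c.2, hc⟩))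
    · obtain ⟨x, rfl⟩ := hsndsurj g'
      obtain ⟨c, hc, n, hn, rfl⟩ := hdec x
      exact ⟨⟨c, hc⟩, by rw [map_mul, show snd n = 1 from hn, mul_one]; rfl⟩
  have hbij : Function.Bijective (fst.comp C.subtype) := by
    refine ⟨(injective_iff_map_eq_one _).2 fun c hc => ?_, fun g => ?_⟩
    · obtain ⟨c, hcC⟩ := c
      have hc1 : fst c = 1 := hc
      have hg' : ((1 : G), snd c) ∈ X := by
        have : ((1 : G), snd c) = (c : G × G') := Prod.ext hc1.symm rfl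
        rw [this]
        exact c.2
      obtain ⟨z, -, hz⟩ := pre' _ (hC' (hcentral' _ hg'))
      have h1 : diag z * c⁻¹ ∈ C ⊓ N := by
        refine ⟨C.mul_mem (hTC ⟨z, rfl⟩) (C.inv_mem hcC), ?_⟩
        show snd (diag z * c⁻¹) = 1
        rw [map_mul, map_inv, ← hz]
        exact mul_inv_cancel _
      have h3 : diag z = c := eq_of_mul_inv_eq_one (Subgroup.mem_bot.1 (hCN.le h1))
      have h4 : ι z = 1 := by rw [← hc1, ← h3]; rfl
      refine Subtype.ext ?_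
      show c = 1
      rw [← h3, h.1 (h4.trans (map_one ι).symm), map_one]
    · obtain ⟨g', hg⟩ := hswap' g
      obtain ⟨c, hc, n, hn, hcn⟩ := hdec ⟨_, hg⟩
      obtain ⟨z, -, hz⟩ := pre _ (hC (hN1 n hn))
      refine ⟨⟨c * diag z, C.mul_mem hc (hTC ⟨z, rfl⟩)⟩, ?_⟩
      show fst (c * diag z) = g
      rw [map_mul, show fst (diag z) = fst n from hz, ← map_mul, hcn]
      rfl
  refine ⟨(MulEquiv.ofBijective _ hbij).symm.trans (MulEquiv.ofBijective _ hbij'), fun x => ?_⟩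
  have h1 : (MulEquiv.ofBijective _ hbij).symm (ι x) = ⟨diag x, hTC ⟨x, rfl⟩⟩ := by
    rw [MulEquiv.symm_apply_eq]
    rfl
  rw [MulEquiv.trans_apply, h1]
  rfl

end Cfsg.Agent.Lib.Fusion
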