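/-
A saturated subsystem on a strongly closed subgroup of a constrained system is constrained; a
subgroup normal in a group has as Sylow subgroup the intersection with one of the group.
-/
import Cfsg.Agent.Lib.Fusion.ModelSystems
import Cfsg.Agent.Lib.Fusion.ModelUnique
import Cfsg.Agent.Lib.Fusion.Normal
import Cfsg.Agent.Lib.Fusion87.Normal

set_option autoImplicit false

namespace Cfsg.Agent.Lib.Fusion

open Cfsg Cfsg.FusionSystem

theorem isSylowIn_inf_of_normalized {G : Type*} [Group G] {p : ℕ} [Fact p.Prime]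
    {A H K : Subgroup G} [Finite K] (hA : IsSylowIn p A K) (hHK : H ≤ K)
    (hn : ∀ k ∈ K, ∀ h ∈ H, k * h * k⁻¹ ∈ H) : IsSylowIn p (A ⊓ H) H := by
  haveI : Finite H := Finite.of_injective _ (Subgroup.inclusion_injective hHK)
  haveI : Finite (A ⊓ H : Subgroup G) :=
    Finite.of_injective _ (Subgroup.inclusion_injective (inf_le_right : A ⊓ H ≤ H))
  obtain ⟨L, hL⟩ := exists_isSylowIn (p := p) H
  have hp : IsPGroup p (A ⊓ H : Subgroup G) := hA.2.1.to_le inf_le_left
  refine hL.of_card_eq hp inf_le_right (le_antisymm (hL.card_le hp inf_le_right) ?_)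
  obtain ⟨c, hc, hle⟩ := hA.exists_conj_le hL.2.1 (hL.1.trans hHK)
  rw [← Subgroup.card_map_of_injective (K := L) (f := (MulAut.conj c).toMonoidHom)
    (MulEquiv.injective _)]
  refine Subgroup.card_le_of_le (le_inf hle ?_)
  rintro _ ⟨g, hg, rfl⟩
  exact hn c hc g (hL.1 hg)

universe u

variable {Ω : Type u} [Group Ω] {S T : Subgroup Ω} {F : FusionSystem S} {p : ℕ}

/-- The intersection of a normal subgroup with a strongly closed one is normal. -/
theorem isNormal_inf_stronglyClosed [Finite S] {Q : Subgroup Ω} (hQ : F.IsNormal Q)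
    (hT : F.StronglyClosed T) : F.IsNormal (Q ⊓ T) := by
  haveI : Finite (Q ⊓ T : Subgroup Ω) := finite_of_le (inf_le_left.trans hQ.1)
  refine ⟨inf_le_left.trans hQ.1, fun P φ hφ => ?_⟩
  obtain ⟨ψ, hψ, hψP, hψQ⟩ := hQ.2 P φ hφ
  have hle : P ⊔ (Q ⊓ T) ≤ P ⊔ Q := sup_le_sup_left inf_le_left _
  refine ⟨_, restrict_mem hψ hle, fun x => hψP x,
    imgSub_eq_of_le_of_card (restrict_mem hψ hle) le_sup_right ?_ le_rfl⟩
  intro y hy
  obtain ⟨x, hx, rfl⟩ := mem_imgSub.1 hy
  exact ⟨hψQ.le (apply_mem_imgSub ψ (Subgroup.inclusion hle x) hx.1),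
    Fusion87.stronglyClosed_apply hT hψ (Subgroup.inclusion hle x) hx.2⟩

theorem isConstrained_of_stronglyClosed [Finite S] [Fact p.Prime] (hS : IsPGroup p S)
    (hF : F.IsConstrained p) (hT : F.StronglyClosed T) (E : FusionSystem T) (hE : E.IsSaturated p)
    (hEF : E.IsSubsystemOf F) : E.IsConstrained p := by
  obtain ⟨L, _, _, ι, hM⟩ := exists_model_of_isConstrained hS hF
  have hnQ := isNormal_modelCore hM
  obtain ⟨-, Q₀, hQ₀, hQ₀c⟩ := hF
  have hQc : F.IsCentric (modelCore p ι) :=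
    isCentric_mono hQ₀c (le_modelCore_of_isNormal hM hQ₀) hnQ.1
  obtain ⟨-, hreal, hsylT, hCL⟩ := hM
  set Q := modelCore p ι with hQdef
  set R := Q ⊓ T with hRdef
  have hTS := hT.1
  haveI : Finite T := finite_of_le hTS
  haveI : Finite R := finite_of_le (inf_le_left.trans hnQ.1)
  have hR : F.IsNormal R := isNormal_inf_stronglyClosed hnQ hT
  have hRsc := stronglyClosed_of_isNormal hR
  have hRscE : E.StronglyClosed R := ⟨inf_le_right, fun U hU φ hφ x => hRsc.2 U hU φ (hEF _ hφ) x⟩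
  have hTp : IsPGroup p T := hS.to_le hTS
  have hRT : T ≤ Subgroup.normalizer (R : Set Ω) :=
    hTS.trans (le_normalizer_of_isNormal hR)
  -- `R` lies in the centric radical subgroups
  have hRn : E.IsNormal R := by
    refine (isNormal_iff_le_centric_radical hTp hE).2 ⟨hRscE, fun X hXc hXr => ?_⟩
    haveI : Finite X := finite_of_le hXc.1
    by_contra hRX
    -- the automorphisms induced by `N_R(X)` form a normal `p`-subgroup
    set NR := autInducedBy R X with hNR
    have hle : NR ≤ E.autGroup X :=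
      (autInducedBy_mono inf_le_right).trans (autInducedBy_le_autGroup hXc.1)
    have hnorm : ∀ α ∈ E.autGroup X, ∀ γ ∈ NR, α * γ * α⁻¹ ∈ NR := by
      intro α hα γ hγ
      obtain ⟨r, hr, hrx⟩ := mem_autInducedBy.1 hγ
      obtain ⟨ψ, hψ, hψX, hψR⟩ := hR.2 X (autHom α) (hEF _ (autGroup_hom_mem hXc.1 hα))
      refine mem_autInducedBy.2
        ⟨ψ (Subgroup.inclusion le_sup_right ⟨r, hr⟩), hψR.le (apply_mem_imgSub ψ _ hr), fun x => ?_⟩
      have h1 : ∀ y : X, (α y : Ω) = ψ (Subgroup.inclusion le_sup_left y) := fun y => (hψX y).symm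
      show (α (γ (α⁻¹ x)) : Ω) = _
      have h2 : (x : Ω) = ψ (Subgroup.inclusion le_sup_left (α⁻¹ x)) :=
        (congrArg Subtype.val (α.apply_symm_apply x)).symm.trans (h1 _)
      conv_rhs => rw [h2]
      rw [h1, ← map_inv, ← map_mul, ← map_mul]
      exact congrArg ψ (Subtype.ext (hrx _))
    have hnS : (NR.subgroupOf (E.autGroup X)).Normal :=
      ⟨fun γ hγ α => hnorm α α.2 γ hγ⟩
    have hpc : NR.subgroupOf (E.autGroup X) ≤ pCore p (E.autGroup X) :=
      PSolvable.le_pCore ((isPGroup_autInducedBy (hS.to_le (inf_le_left.trans hnQ.1))).of_equiv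
        (Subgroup.subgroupOfEquivOfLe hle).symm)
    have hXS := hXc.1
    have hXR : X ≠ X ⊔ R := fun e => hRX (e.ge.trans' le_sup_right)
    have hsupT : X ⊔ R ≤ T := sup_le hXS inf_le_right
    haveI : Finite (X ⊔ R : Subgroup Ω) := finite_of_le hsupT
    have hlt := Fusion87.card_lt_normalizerIn (hTp.to_le hsupT) le_sup_left hXR
    refine absurd ?_ (not_le.2 hlt)
    refine Subgroup.card_le_of_le ?_
    intro g hg
    obtain ⟨hgXR, hgN⟩ := hg
    -- write `g = x * r`
    replace hgXR : g ∈ ((X ⊔ R : Subgroup Ω) : Set Ω) := hgXR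
    rw [Subgroup.coe_mul_of_left_le_normalizer_right X R (hXS.trans hRT)] at hgXR
    obtain ⟨x, hx, r, hr, rfl⟩ := hgXR
    have hrN : r ∈ Subgroup.normalizer (X : Set Ω) := by
      have h1 := Subgroup.mul_mem _
        (Subgroup.inv_mem _ (Subgroup.le_normalizer hx)) hgN
      rwa [inv_mul_cancel_left] at h1
    have hmem : conjAut X r hrN ∈ Inn X := by
      rw [← hXr.2]
      exact ⟨⟨_, hle (mem_autInducedBy.2 ⟨r, hr, fun y => rfl⟩)⟩,
        hpc (mem_autInducedBy.2 ⟨r, hr, fun y => rfl⟩), rfl⟩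
    exact X.mul_mem hx (mem_of_conjAut_mem_inn hXc hr.2 hmem)
  -- `C_T(R) ≤ R`
  have hC : centralizerIn T R ≤ R := by
    rintro z ⟨hzT, hzC⟩
    refine ⟨?_, hzT⟩
    show z ∈ modelCore p ι
    rw [mem_modelCore (hTS hzT)]
    set A : Subgroup L := (R.subgroupOf S).map ι with hA
    set B : Subgroup L := pCore p L with hB
    have hBn : B.Normal := pCore_normal
    have hBr : B ≤ ι.range := pCore_le_range hsylT
    obtain ⟨T₀, hT₀⟩ := hsylT
    have hrange : IsPGroup p ι.range := hT₀ ▸ T₀.2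
    have hAB : A ≤ B := by
      rintro _ ⟨r, hr, rfl⟩
      exact (mem_modelCore r.2).1 hr.1
    haveI : A.Normal := by
      refine ⟨fun a ha g => ?_⟩
      obtain ⟨r, hr, rfl⟩ := ha
      obtain ⟨φ, hφ, hφS, hφv⟩ := exists_hom_of_conj hreal hnQ.1 (g := g) fun x =>
        hBr (hBn.conj_mem _ ((mem_modelCore _).1 x.2) g)
      exact ⟨⟨_, hφS ⟨r, hr.1⟩⟩, Fusion87.stronglyClosed_apply hRsc hφ ⟨r, hr.1⟩ hr,
        hφv ⟨r, hr.1⟩⟩
    let π := QuotientGroup.mk' A
    haveI : (B.map π).Normal := hBn.map π (QuotientGroup.mk'_surjective A)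
    set K : Subgroup L := Subgroup.centralizer (A : Set L) ⊓
      (Subgroup.centralizer ((B.map π : Subgroup (L ⧸ A)) : Set (L ⧸ A))).comap π with hK
    haveI : K.Normal := Subgroup.normal_inf_normal _ _
    have hKp : IsPGroup p K := by
      intro g
      obtain ⟨n, hn⟩ := IsPGroup.iff_card.1 (hrange.to_le (hAB.trans hBr))
      have hpow : (g : L) ^ p ^ n ∈ B := by
        refine hCL fun b hb => ?_
        have h1 : (g : L) * b * (g : L)⁻¹ * b⁻¹ ∈ A := by
          refine (QuotientGroup.eq_one_iff _).1 ?_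
          show π ((g : L) * b * (g : L)⁻¹ * b⁻¹) = 1
          rw [map_mul, map_mul, map_mul, map_inv, map_inv, ← (g.2.2 (π b) ⟨b, hb, rfl⟩)]
          group
        set a := (g : L) * b * (g : L)⁻¹ * b⁻¹ with ha
        have hit : ∀ i : ℕ, (g : L) ^ i * b * ((g : L) ^ i)⁻¹ = a ^ i * b := by
          intro i
          induction i with
          | zero => simp
          | succ i ih =>
            have hga : (g : L) * a ^ i = a ^ i * g := (g.2.1 _ (A.pow_mem h1 i)).symm
            calc (g : L) ^ (i + 1) * b * ((g : L) ^ (i + 1))⁻¹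
                = g * ((g : L) ^ i * b * ((g : L) ^ i)⁻¹) * (g : L)⁻¹ := by
                  rw [pow_succ']; group
              _ = g * (a ^ i * b) * (g : L)⁻¹ := by rw [ih]
              _ = a ^ i * (g * b * (g : L)⁻¹) := by
                  rw [← mul_assoc, hga]; group
              _ = a ^ (i + 1) * b := by rw [pow_succ, ha]; group
        have h2 := hit (p ^ n)
        have h3 : a ^ p ^ n = 1 := by
          have := congrArg Subtype.val (pow_card_eq_one' (x := (⟨a, h1⟩ : A)))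
          rw [hn] at this
          exact this
        rw [h3, one_mul, mul_inv_eq_iff_eq_mul] at h2
        exact h2.symm
      obtain ⟨m, hm⟩ := (hrange.to_le hBr) ⟨_, hpow⟩
      refine ⟨n + m, Subtype.ext ?_⟩
      rw [pow_add, pow_mul]
      have h4 : ((g : L) ^ p ^ n) ^ p ^ m = 1 := congrArg Subtype.val hm
      simpa using h4
    refine PSolvable.le_pCore hKp ⟨?_, ?_⟩
    · rintro _ ⟨r, hr, rfl⟩
      rw [← map_mul, ← map_mul]
      exact congrArg ι (Subtype.ext (hzC r hr))
    · rintro _ ⟨b, hb, rfl⟩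
      obtain ⟨q, rfl⟩ := hBr hb
      have hqQ : (q : Ω) ∈ Q := (mem_modelCore q.2).2 hb
      rw [← map_mul, ← map_mul]
      refine (QuotientGroup.eq.2 ?_).symm
      show (ι ⟨z, hTS hzT⟩ * ι q)⁻¹ * ι (q * ⟨z, hTS hzT⟩) ∈ A
      rw [← map_mul, ← map_inv, ← map_mul]
      refine ⟨_, ?_, rfl⟩
      show (((⟨z, hTS hzT⟩ : S) * q)⁻¹ * (q * ⟨z, hTS hzT⟩) : S).1 ∈ R
      have hqz : ((q : Ω))⁻¹ * z⁻¹ * q * z ∈ R := by
        refine ⟨?_, ?_⟩
        · have h := (Subgroup.mem_normalizer_iff''.1 (le_normalizer_of_isNormal hnQ (hTS hzT)) _).1 hqQ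
          have h' := Q.mul_mem (Q.inv_mem hqQ) h
          simpa [mul_assoc] using h'
        · have h := (Subgroup.mem_normalizer_iff''.1
            (Fusion87.stronglyClosed_le_normalizer' hT q.2) _).1 (T.inv_mem hzT)
          exact T.mul_mem h hzT
      simpa [mul_assoc] using hqz
  refine ⟨hE, R, hRn, ⟨inf_le_right, fun U hU => ?_⟩⟩
  obtain ⟨φ, hφ, rfl⟩ := hU
  rw [range_eq_self hφ (hRscE.2 R le_rfl φ hφ)]
  exact hC

end Cfsg.Agent.Lib.Fusion
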