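/-
The saturation criterion for a fusion system generated by the maps on a family of subgroups
(Broto-Castellana-Grodal-Levi-Oliver).
-/
import Cfsg.Agent.Lib.Fusion.Alperin
import Cfsg.Agent.Lib.Fusion.ConstrainedSub
import Cfsg.Agent.Lib.Fusion87.Reduction

set_option autoImplicit false

namespace Cfsg.Agent.Lib.Fusion

open Cfsg Cfsg.FusionSystem

universe u

variable {Ω : Type u} [Group Ω] {S : Subgroup Ω} {F : FusionSystem S} {p : ℕ}

/-! ### Stabilizers and restriction -/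

/-- The automorphisms of `X` leaving `Q` invariant. -/
def stabSub (X Q : Subgroup Ω) : Subgroup (MulAut X) where
  carrier := {a | ∀ x : X, (a x : Ω) ∈ Q ↔ (x : Ω) ∈ Q}
  one_mem' := fun x => Iff.rfl
  mul_mem' := fun {a b} ha hb x => (ha (b x)).trans (hb x)
  inv_mem' := fun {a} ha x => by
    have h := ha (a⁻¹ x)
    rw [MulAut.apply_inv_self] at h
    exact h.symm

/-- Restriction of an automorphism leaving `Q` invariant. -/
def resAut {X Q : Subgroup Ω} (hQX : Q ≤ X) : stabSub X Q →* MulAut Q where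
  toFun a :=
    { toFun := fun x => ⟨((a : MulAut X) ⟨x, hQX x.2⟩ : X), (a.2 ⟨x, hQX x.2⟩).2 x.2⟩
      invFun := fun x => ⟨(((a : MulAut X))⁻¹ ⟨x, hQX x.2⟩ : X),
        ((Subgroup.inv_mem _ a.2) ⟨x, hQX x.2⟩).2 x.2⟩
      left_inv := fun x => Subtype.ext (by simp)
      right_inv := fun x => Subtype.ext (by simp)
      map_mul' := fun x y => Subtype.ext (by
        show (((a : MulAut X) (⟨x, hQX x.2⟩ * ⟨y, hQX y.2⟩) : X) : Ω) = _
        rw [map_mul]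
        rfl) }
  map_one' := by ext x; rfl
  map_mul' a b := by ext x; rfl

theorem resAut_apply {X Q : Subgroup Ω} (hQX : Q ≤ X) (a : stabSub X Q) (x : Q) :
    (resAut hQX a x : Ω) = ((a : MulAut X) ⟨x, hQX x.2⟩ : Ω) := rfl

theorem resAut_mem {X Q : Subgroup Ω} (hQX : Q ≤ X) (hX : X ≤ S) (a : stabSub X Q)
    (ha : (a : MulAut X) ∈ F.autGroup X) : resAut hQX a ∈ F.autGroup Q :=
  (mem_autGroup (hQX.trans hX)).2 (mem_of_restrict (autGroup_hom_mem hX ha) hQX fun _ => rfl)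

theorem mem_stabSub_of_imgSub {X Q : Subgroup Ω} {a : MulAut X} (h : imgSub (autHom a) Q = Q) :
    a ∈ stabSub X Q := fun x => by
  have h1 := apply_mem_imgSub_iff (R := Q) (φ := autHom a)
    (fun u v e => a.injective (Subtype.ext e)) x
  rwa [h] at h1

/-- `Aut_S(X)` contains a Sylow subgroup of the stabilizer of `Q` in `Aut_F(X)`. -/
def SylStab (F : FusionSystem S) (p : ℕ) (X Q : Subgroup Ω) : Prop :=
  IsSylowIn p (autInducedBy S X ⊓ stabSub X Q) (F.autGroup X ⊓ stabSub X Q)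

theorem exists_sylStab [Finite S] [Fact p.Prime] (hS : IsPGroup p S) {X : Subgroup Ω}
    (hX : F.IsFullyAutomized p X) {Q : Subgroup Ω} (hQX : Q ≤ X) :
    ∃ b ∈ F.autGroup X, SylStab F p X (imgSub (autHom b) Q) := by
  obtain ⟨hXS, hsyl⟩ := isFullyAutomized_iff.1 hX
  haveI := finite_mulAut hXS
  obtain ⟨L, hL⟩ := exists_isSylowIn (p := p) (F.autGroup X ⊓ stabSub X Q)
  obtain ⟨b, hb, hle⟩ := hsyl.exists_conj_le hL.2.1 (hL.1.trans inf_le_left)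
  refine ⟨b, hb, ?_⟩
  set Q' := imgSub (autHom b) Q with hQ'
  have hkey : ∀ x : X, (b x : Ω) ∈ Q' ↔ (x : Ω) ∈ Q :=
    apply_mem_imgSub_iff (φ := autHom b) fun u v e => b.injective (Subtype.ext e)
  have hmap : (F.autGroup X ⊓ stabSub X Q).map (MulAut.conj b).toMonoidHom =
      F.autGroup X ⊓ stabSub X Q' := by
    ext a
    constructor
    · rintro ⟨c, hc, rfl⟩
      refine ⟨Subgroup.mul_mem _ (Subgroup.mul_mem _ hb hc.1) (Subgroup.inv_mem _ hb), fun x => ?_⟩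
      show (b (c (b⁻¹ x)) : Ω) ∈ Q' ↔ _
      rw [hkey]
      refine (hc.2 _).trans ?_
      rw [← hkey, MulAut.apply_inv_self]
    · intro ha
      refine ⟨b⁻¹ * a * b, ⟨Subgroup.mul_mem _ (Subgroup.mul_mem _ (Subgroup.inv_mem _ hb) ha.1) hb,
        fun x => ?_⟩, ?_⟩
      · show (b⁻¹ (a (b x)) : Ω) ∈ Q ↔ _
        rw [← hkey, MulAut.apply_inv_self]
        exact (ha.2 _).trans (hkey x)
      · show b * (b⁻¹ * a * b) * b⁻¹ = a
        group
  have h1 := hL.map (MulAut.conj b).toMonoidHom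
  rw [hmap] at h1
  have hp : IsPGroup p (autInducedBy S X ⊓ stabSub X Q' : Subgroup (MulAut X)) :=
    (isPGroup_autInducedBy hS).to_le inf_le_left
  have hle' : autInducedBy S X ⊓ stabSub X Q' ≤ F.autGroup X ⊓ stabSub X Q' :=
    inf_le_inf_right _ hsyl.1
  have h2 := h1.eq_of_le hp hle' (le_inf hle (h1.1.trans inf_le_right))
  show IsSylowIn p _ _
  rwa [← h2]

/-- An isomorphism onto `X` carrying `Q` to `Q₃`, adjusted in the stabilizer of `Q₃`, extends to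
the common normalizer of its source and `Q`. -/
theorem exists_ext_stab [Finite S] [Fact p.Prime] (hS : IsPGroup p S) {X Q₃ : Subgroup Ω}
    (hXr : F.IsReceptive X) (hsyl : SylStab F p X Q₃) {R Q : Subgroup Ω} {θ : R →* Ω}
    (hθ : θ ∈ F.Hom R) (hr : θ.range = X) (hQR : Q ≤ R)
    (hRQ : R ≤ normalizerIn S Q) (hQ : imgSub θ Q = Q₃) :
    ∃ e ∈ F.autGroup X ⊓ stabSub X Q₃,
      ∃ χ ∈ F.Hom (normalizerIn S R ⊓ normalizerIn S Q), imgSub χ Q = Q₃ ∧ imgSub χ R = X ∧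
        (∀ y, χ y ∈ normalizerIn S X ⊓ normalizerIn S Q₃) ∧
        ∀ (x : R) (h₁ : θ x ∈ X) (h₂ : (x : Ω) ∈ normalizerIn S R ⊓ normalizerIn S Q),
          χ ⟨x, h₂⟩ = (e ⟨θ x, h₁⟩ : Ω) := by
  have hRS := src_le hθ
  have hXS := hXr.1
  haveI := finite_mulAut hXS
  set M := normalizerIn S R ⊓ normalizerIn S Q with hM
  set i := isoOnto θ (F.injective_of_mem hθ) hr with hi
  set L := (autInducedBy S R ⊓ stabSub R Q).map (MulAut.congr i).toMonoidHom with hL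
  have hkey : ∀ x : R, (i x : Ω) ∈ Q₃ ↔ (x : Ω) ∈ Q := fun x =>
    hQ ▸ apply_mem_imgSub_iff (R := Q) (F.injective_of_mem hθ) x
  have hLle : L ≤ F.autGroup X ⊓ stabSub X Q₃ := by
    rintro _ ⟨c, hc, rfl⟩
    refine ⟨congr_mem_autGroup i (mem_congr hθ fun x => rfl) (autInducedBy_le_autGroup hRS hc.1),
      fun y => ?_⟩
    show (i (c (i.symm y)) : Ω) ∈ Q₃ ↔ _
    rw [hkey]
    refine (hc.2 _).trans ?_
    rw [← hkey, MulEquiv.apply_symm_apply]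
  have hLp : IsPGroup p L := ((isPGroup_autInducedBy hS).to_le inf_le_left).map _
  obtain ⟨e, he, hle⟩ := hsyl.exists_conj_le hLp hLle
  obtain ⟨φ, hφ, hφx⟩ := exists_comp hθ (autGroup_hom_mem hXS he.1) fun x => hr.le ⟨x, rfl⟩
  have hφr : φ.range = X := by
    refine le_antisymm ?_ fun y hy => ⟨i.symm (e.symm ⟨y, hy⟩), ?_⟩
    · rintro _ ⟨x, rfl⟩
      rw [hφx]
      exact (e _).2
    · rw [hφx]
      show (e (i (i.symm (e.symm ⟨y, hy⟩))) : Ω) = y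
      rw [MulEquiv.apply_symm_apply, MulEquiv.apply_symm_apply]
  obtain ⟨ψ, hψ, hag⟩ := hXr.2 R φ hφ hφr
  have hMe : M ≤ extender S R φ := by
    intro g hg
    have hgQ : conjAut R g hg.1.2 ∈ stabSub R Q := fun x => by
      show g * (x : Ω) * g⁻¹ ∈ Q ↔ _
      exact (Subgroup.mem_normalizer_iff.1 hg.2.2 x).symm
    refine mem_extender_of_transport (F.injective_of_mem hφ) hφr hg.1.1 hg.1.2 ?_
    have h1 := (hle ⟨_, ⟨_, ⟨mem_autInducedBy.2 ⟨g, hg.1.1, fun x => rfl⟩, hgQ⟩, rfl⟩, rfl⟩).1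
    have e1 : isoOnto φ (F.injective_of_mem hφ) hφr = i.trans e := by
      ext x
      exact hφx x
    rw [e1]
    refine Eq.mp (congrArg (· ∈ autInducedBy S X) ?_) h1
    ext y
    rfl
  have hagree : ∀ (x : R) (h₁ : θ x ∈ X) (h₂ : (x : Ω) ∈ M),
      ψ.comp (Subgroup.inclusion hMe) ⟨x, h₂⟩ = (e ⟨θ x, h₁⟩ : Ω) := by
    intro x h₁ h₂
    exact (hag x x.2 (hMe h₂)).trans (hφx x)
  have hRM : ∀ x : R, (x : Ω) ∈ normalizerIn S R := fun x => le_normalizerIn hRS x.2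
  have hQM : Q ≤ M := fun x hx =>
    ⟨hRM ⟨x, hQR hx⟩, le_normalizerIn (hQR.trans hRS) hx⟩
  have himgQ : imgSub (ψ.comp (Subgroup.inclusion hMe)) Q = Q₃ := by
    ext y
    rw [mem_imgSub]
    constructor
    · rintro ⟨x, hx, rfl⟩
      rw [show x = ⟨((⟨x, hQR hx⟩ : R) : Ω), x.2⟩ from rfl,
        hagree ⟨x, hQR hx⟩ (hr.le ⟨_, rfl⟩) x.2]
      exact (he.2 _).2 ((hkey ⟨x, hQR hx⟩).2 hx)
    · intro hy
      have hy' : y ∈ X := by
        rw [← hQ] at hy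
        exact hr.le (imgSub_le_range θ hy)
      set x := i.symm (e.symm ⟨y, hy'⟩) with hx
      have hxQ : (x : Ω) ∈ Q := by
        rw [← hkey, hx, MulEquiv.apply_symm_apply]
        have h := he.2 (e.symm ⟨y, hy'⟩)
        rw [MulEquiv.apply_symm_apply] at h
        exact h.1 hy
      refine ⟨⟨x, hQM hxQ⟩, hxQ, ?_⟩
      rw [hagree x (hr.le ⟨_, rfl⟩) (hQM hxQ)]
      show (e (i (i.symm (e.symm ⟨y, hy'⟩))) : Ω) = y
      rw [MulEquiv.apply_symm_apply, MulEquiv.apply_symm_apply]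
  have hRMle : R ≤ M := fun x hx => ⟨hRM ⟨x, hx⟩, hRQ hx⟩
  have himgR : imgSub (ψ.comp (Subgroup.inclusion hMe)) R = X := by
    rw [imgSub_of_agree hRMle (φ := φ) fun x hQ hN => hag x hQ (hMe hN), hφr]
  refine ⟨e, he, _, restrict_mem hψ hMe, himgQ, himgR, fun y => ⟨?_, ?_⟩, hagree⟩
  · have h := apply_mem_normalizerIn (restrict_mem hψ hMe) y y.2.1.2 (P := R)
    rwa [himgR] at h
  · have h := apply_mem_normalizerIn (restrict_mem hψ hMe) y y.2.2.2 (P := Q)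
    rwa [himgQ] at h

/-! ### Induction over the conjugacy class -/

/-- A property of the maps on the conjugates of `P` closed under composition and inverses holds
for all of them as soon as it holds for the restrictions of maps with larger source. -/
theorem class_induction [Finite S] [Fact p.Prime] (hS : IsPGroup p S) {ℋ : Set (Subgroup Ω)}
    (hconj : ∀ P ∈ ℋ, ∀ Q, F.IsConj P Q → Q ∈ ℋ)
    (hgen : ∀ E : FusionSystem S, (∀ P ∈ ℋ, F.Hom P ⊆ E.Hom P) → F ≤ E)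
    {P : Subgroup Ω} (hP : P ∉ ℋ) (hPS : P ≠ S) (Rel : ∀ Q : Subgroup Ω, (Q →* Ω) → Prop)
    (hlink : ∀ (Q R : Subgroup Ω) (ψ : R →* Ω) (hQR : Q ≤ R), F.IsConj P Q → Q ≠ R →
      R ≤ normalizerIn S Q → ψ ∈ F.Hom R → Rel Q (ψ.comp (Subgroup.inclusion hQR)))
    (hcomp : ∀ (Q Q' : Subgroup Ω) (φ χ : Q →* Ω) (ψ : Q' →* Ω), F.IsConj P Q → φ ∈ F.Hom Q →
      ψ ∈ F.Hom Q' → φ.range = Q' → (∀ (x : Q) (h : φ x ∈ Q'), χ x = ψ ⟨φ x, h⟩) →
      Rel Q φ → Rel Q' ψ → Rel Q χ)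
    (hinv : ∀ (Q Q' : Subgroup Ω) (φ : Q →* Ω) (ψ : Q' →* Ω), F.IsConj P Q → φ ∈ F.Hom Q →
      ψ ∈ F.Hom Q' → φ.range = Q' → (∀ (x : Q) (h : φ x ∈ Q'), ψ ⟨φ x, h⟩ = x) →
      Rel Q φ → Rel Q' ψ)
    {Q : Subgroup Ω} (hQ : F.IsConj P Q) {φ : Q →* Ω} (hφ : φ ∈ F.Hom Q) : Rel Q φ := by
  have hgen' : ∀ U : Subgroup Ω, ∀ ψ ∈ F.Hom U, ∀ Q (hQU : Q ≤ U), F.IsConj P Q → Q ≠ U →
      Rel Q (ψ.comp (Subgroup.inclusion hQU)) := by
    intro U ψ hψ Q hQU hQ hne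
    have hUS := src_le hψ
    haveI := finite_of_le hUS
    have hlt := Fusion87.card_lt_normalizerIn (hS.to_le hUS) hQU hne
    have hQR : Q ≤ normalizerIn U Q := le_normalizerIn hQU
    exact hlink Q (normalizerIn U Q) (ψ.comp (Subgroup.inclusion inf_le_left)) hQR hQ
      (fun e => absurd (congrArg (fun K : Subgroup Ω => Nat.card K) e) hlt.ne)
      (inf_le_inf_right _ hUS) (restrict_mem hψ inf_le_left)
  let E : FusionSystem S :=
    { Hom := fun U => {φ | φ ∈ F.Hom U ∧ ∀ Q (hQU : Q ≤ U), F.IsConj P Q →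
        Rel Q (φ.comp (Subgroup.inclusion hQU))}
      le_of_mem := fun h => F.le_of_mem h.1
      injective_of_mem := fun h => F.injective_of_mem h.1
      conj_mem := fun {U g} hU hg => ⟨F.conj_mem hU hg, fun Q hQU hQ => by
        have hQS : Q ≠ S := fun e => hPS (by
          haveI := finite_of_le (isConj_le_left hQ)
          exact Subgroup.eq_of_le_of_card_ge (isConj_le_left hQ)
            (e ▸ (isConj_card hQ).le))
        exact hgen' S _ (F.conj_mem le_rfl hg) Q (hQU.trans hU) hQ hQS⟩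
      comp_mem := fun {U V φ ψ} hφ hψ h => ⟨F.comp_mem hφ.1 hψ.1 h, fun Q hQU hQ => by
        have hle : imgSub φ Q ≤ V := by
          rintro _ hy
          obtain ⟨x, -, rfl⟩ := mem_imgSub.1 hy
          exact h x
        have hQ' : F.IsConj P (imgSub φ Q) := isConj_trans hQ (isConj_imgSub hφ.1 hQU)
        exact hcomp Q (imgSub φ Q) _ _ _ hQ (restrict_mem hφ.1 hQU) (restrict_mem hψ.1 hle)
          (range_restrict φ hQU) (fun x h' => rfl) (hφ.2 Q hQU hQ) (hψ.2 _ hle hQ')⟩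
      inv_mem := fun {U φ} hφ => ⟨_, ⟨rangeInv_mem hφ.1, fun Q hQU hQ => by
        set μ := rangeInv φ (F.injective_of_mem hφ.1) with hμ
        have hle : imgSub μ Q ≤ U := (imgSub_le_range μ).trans (range_rangeInv _ _).le
        have hQ' : F.IsConj P (imgSub μ Q) :=
          isConj_trans hQ (isConj_imgSub (rangeInv_mem hφ.1) hQU)
        refine hinv (imgSub μ Q) Q _ _ hQ' (restrict_mem hφ.1 hle)
          (restrict_mem (rangeInv_mem hφ.1) hQU) ?_ (fun x h => ?_) (hφ.2 _ hle hQ')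
        · rw [range_restrict φ hle]
          ext y
          rw [mem_imgSub]
          constructor
          · rintro ⟨x, hx, rfl⟩
            obtain ⟨z, hz, hzx⟩ := mem_imgSub.1 hx
            have e : z = ⟨φ x, x, rfl⟩ := F.injective_of_mem (rangeInv_mem hφ.1)
              (hzx.trans (rangeInv_apply φ _ x ⟨x, rfl⟩).symm)
            rw [e] at hz
            exact hz
          · intro hy
            obtain ⟨x, rfl⟩ := hQU hy
            exact ⟨x, mem_imgSub.2 ⟨⟨φ x, x, rfl⟩, hy, rangeInv_apply φ _ x _⟩, rfl⟩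
        · exact rangeInv_apply φ _ (Subgroup.inclusion hle x) _⟩,
        fun x => rangeInv_apply _ _ x _⟩ }
  have hle : F ≤ E := hgen E fun U hU ψ hψ => ⟨hψ, fun Q hQU hQ => hgen' U ψ hψ Q hQU hQ
    fun e => hP (hconj U hU P (isConj_symm (e ▸ hQ)))⟩
  exact (hle Q hφ).2 Q le_rfl hQ

/-- Every conjugate of `P` is carried to `P` by a map defined on its normalizer. -/
def ToSink (F : FusionSystem S) (P Q : Subgroup Ω) : Prop :=
  ∃ χ ∈ F.Hom (normalizerIn S Q), imgSub χ Q = P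

/-- The classes of all larger subgroups have fully automized receptive members. -/
def SatAbove (F : FusionSystem S) (p : ℕ) (P : Subgroup Ω) : Prop :=
  ∀ R : Subgroup Ω, R ≤ S → Nat.card P < Nat.card R →
    ∃ X, F.IsConj R X ∧ F.IsFullyAutomized p X ∧ F.IsReceptive X

theorem card_lt_normalizer_inf [Fact p.Prime] [Finite S] (hS : IsPGroup p S) {R Q : Subgroup Ω}
    (hRQ : R ≤ normalizerIn S Q) (hne : R ≠ normalizerIn S Q) :
    Nat.card R < Nat.card (normalizerIn S R ⊓ normalizerIn S Q : Subgroup Ω) := by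
  haveI := finite_normalizerIn (S := S) Q
  haveI : Finite (normalizerIn S R ⊓ normalizerIn S Q : Subgroup Ω) :=
    finite_of_le (inf_le_left.trans inf_le_left)
  refine (Fusion87.card_lt_normalizerIn (hS.to_le (normalizerIn_le Q)) hRQ hne).trans_le ?_
  exact Subgroup.card_le_of_le fun x hx => ⟨⟨hx.1.1, hx.2⟩, hx.1⟩

theorem toSink_of_link [Finite S] [Fact p.Prime] (hS : IsPGroup p S) {P : Subgroup Ω}
    (hP : F.IsFullyNormalized P) (habove : SatAbove F p P) :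
    ∀ (R Q : Subgroup Ω) (ψ : R →* Ω), F.IsConj P Q → Q ≤ R → Q ≠ R → R ≤ normalizerIn S Q →
      ψ ∈ F.Hom R → imgSub ψ Q = P → ToSink F P Q := by
  suffices key : ∀ n (R Q : Subgroup Ω) (ψ : R →* Ω), Nat.card S - Nat.card R ≤ n →
      F.IsConj P Q → Q ≤ R → Q ≠ R → R ≤ normalizerIn S Q → ψ ∈ F.Hom R → imgSub ψ Q = P →
      ToSink F P Q from fun R Q ψ => key _ R Q ψ le_rfl
  intro n
  induction n using Nat.strong_induction_on with
  | _ n ih =>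
    intro R Q ψ hn hQ hQR hne hRQ hψ hψQ
    by_cases hRN : R = normalizerIn S Q
    · subst hRN
      exact ⟨ψ, hψ, hψQ⟩
    have hRS := src_le hψ
    haveI : Finite R := finite_of_le hRS
    have hlt : Nat.card P < Nat.card R := by
      rw [← isConj_card hQ]
      exact lt_of_le_of_ne (Subgroup.card_le_of_le hQR)
        fun e => hne (Subgroup.eq_of_le_of_card_ge hQR e.ge)
    obtain ⟨X, hRX, hXa, hXr⟩ := habove R hRS hlt
    obtain ⟨θ₀, hθ₀, hr₀⟩ := hRX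
    have hQ₁X : imgSub θ₀ Q ≤ X := (imgSub_le_range θ₀).trans hr₀.le
    obtain ⟨b, hb, hsyl⟩ := exists_sylStab hS hXa hQ₁X
    set Q₃ := imgSub (autHom b) (imgSub θ₀ Q) with hQ₃
    obtain ⟨θ, hθ, hθx⟩ := exists_comp hθ₀ (autGroup_hom_mem hXr.1 hb) fun x => hr₀.le ⟨x, rfl⟩
    have hθr : θ.range = X := by
      refine le_antisymm ?_ fun y hy => ?_
      · rintro _ ⟨x, rfl⟩
        rw [hθx]
        exact (b _).2
      · obtain ⟨x, hx⟩ := hr₀.ge (b.symm ⟨y, hy⟩).2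
        refine ⟨x, ?_⟩
        rw [hθx]
        simp only [hx]
        exact congrArg Subtype.val (b.apply_symm_apply ⟨y, hy⟩)
    have hθQ : imgSub θ Q = Q₃ := by
      ext y
      rw [mem_imgSub, mem_imgSub]
      constructor
      · rintro ⟨x, hx, rfl⟩
        exact ⟨⟨θ₀ x, hr₀.le ⟨x, rfl⟩⟩, apply_mem_imgSub θ₀ x hx, (hθx x).symm⟩
      · rintro ⟨⟨z, hz⟩, hz', rfl⟩
        obtain ⟨x, hx, rfl⟩ := mem_imgSub.1 hz'
        exact ⟨x, hx, hθx x⟩
    obtain ⟨e, -, χ, hχ, hχQ, -, hχN, -⟩ := exists_ext_stab hS hXr hsyl hθ hθr hQR hRQ hθQ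
    -- the same for the image of the link
    set R' := ψ.range with hR'
    have hR'P : R' ≤ normalizerIn S P := by
      rintro _ ⟨x, rfl⟩
      have h := apply_mem_normalizerIn hψ x (P := Q) (hRQ x.2).2
      rwa [hψQ] at h
    obtain ⟨τ, hτ, hτr, hτx, -⟩ := exists_inverse hψ hR'.symm
    obtain ⟨θ', hθ', hθ'x⟩ := exists_comp hτ hθ fun y => hτr.le ⟨y, rfl⟩
    have hθ'r : θ'.range = X := by
      refine le_antisymm ?_ fun y hy => ?_
      · rintro _ ⟨x, rfl⟩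
        rw [hθ'x]
        exact hθr.le ⟨_, rfl⟩
      · obtain ⟨x, rfl⟩ := hθr.ge hy
        exact ⟨⟨ψ x, x, rfl⟩, (hθ'x _).trans (congrArg θ (Subtype.ext (hτx x _)))⟩
    have hPR' : P ≤ R' := hψQ.ge.trans (imgSub_le_range ψ)
    have hθ'P : imgSub θ' P = Q₃ := by
      rw [← hθQ]
      ext y
      rw [mem_imgSub, mem_imgSub]
      constructor
      · rintro ⟨x, hx, rfl⟩
        obtain ⟨z, hz, hzx⟩ := mem_imgSub.1 (hψQ.ge hx)
        refine ⟨z, hz, ?_⟩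
        rw [hθ'x]
        refine congrArg θ (Subtype.ext ?_)
        rw [show x = ⟨ψ z, z, rfl⟩ from Subtype.ext hzx.symm]
        exact (hτx z _).symm
      · rintro ⟨z, hz, rfl⟩
        refine ⟨⟨ψ z, z, rfl⟩, hψQ.le (apply_mem_imgSub ψ z hz), ?_⟩
        rw [hθ'x]
        exact congrArg θ (Subtype.ext (hτx z _))
    obtain ⟨e', -, χ', hχ', hχ'P, -, hχ'N, -⟩ :=
      exists_ext_stab hS hXr hsyl hθ' hθ'r hPR' hR'P hθ'P
    have hcR : Nat.card R' = Nat.card R := card_range hψ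
    have hR'ne : R' ≠ normalizerIn S P := fun e => hRN (by
      haveI := finite_normalizerIn (S := S) Q
      refine Subgroup.eq_of_le_of_card_ge hRQ ?_
      rw [← hcR, e]
      exact hP.2 Q hQ)
    have hM := card_lt_normalizer_inf hS hRQ hRN
    have hM' := card_lt_normalizer_inf hS hR'P hR'ne
    -- the inverse link from `Q₃`
    obtain ⟨ν, hν, hνr, hνx, -⟩ := exists_inverse hχ' rfl
    have hPM' : P ≤ normalizerIn S R' ⊓ normalizerIn S P := fun x hx =>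
      ⟨le_normalizerIn (range_le hψ) (hPR' hx), le_normalizerIn hP.1 hx⟩
    have hQ₃V : Q₃ ≤ χ'.range := hχ'P.ge.trans (imgSub_le_range χ')
    have hQ₃ : F.IsConj P Q₃ :=
      isConj_trans hQ (hθQ ▸ isConj_imgSub hθ hQR)
    have hνQ : imgSub ν Q₃ = P := by
      ext y
      rw [mem_imgSub]
      constructor
      · rintro ⟨x, hx, rfl⟩
        obtain ⟨z, hz, hzx⟩ := mem_imgSub.1 (hχ'P.ge hx)
        rw [show x = ⟨χ' z, z, rfl⟩ from Subtype.ext hzx.symm]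
        exact (congrArg (· ∈ P) (hνx z _)).mpr hz
      · intro hy
        exact ⟨⟨_, ⟨⟨y, hPM' hy⟩, rfl⟩⟩, hχ'P.le (apply_mem_imgSub χ' _ hy), hνx _ _⟩
    have hVne : Q₃ ≠ χ'.range := fun e => by
      have h1 : Nat.card Q₃ = Nat.card P := isConj_card hQ₃
      rw [e, card_range hχ'] at h1
      omega
    have hsmall : ∀ U : Subgroup Ω, U ≤ S → Nat.card R < Nat.card U →
        Nat.card S - Nat.card U < n := fun U hU h => by
      have := Subgroup.card_le_of_le hU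
      omega
    have hVS := range_le hχ'
    obtain ⟨χ₃, hχ₃, hχ₃Q⟩ := ih _ (hsmall _ hVS (by rw [card_range hχ']; omega))
      χ'.range Q₃ ν le_rfl hQ₃ hQ₃V hVne
      (by rintro _ ⟨y, rfl⟩; exact (hχ'N y).2) hν hνQ
    obtain ⟨μ, hμ, hμx⟩ := exists_comp hχ hχ₃ fun y => (hχN y).2
    have hQM : Q ≤ normalizerIn S R ⊓ normalizerIn S Q := fun x hx =>
      ⟨le_normalizerIn hRS (hQR hx), le_normalizerIn (hQR.trans hRS) hx⟩
    refine ih _ (hsmall _ (src_le hμ) hM) _ Q μ le_rfl hQ hQM ?_ inf_le_right hμ ?_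
    · intro e
      rw [← e, isConj_card hQ] at hM
      omega
    · ext y
      rw [mem_imgSub]
      constructor
      · rintro ⟨x, hx, rfl⟩
        rw [hμx, ← hχ₃Q]
        exact apply_mem_imgSub χ₃ _ (hχQ.le (apply_mem_imgSub χ x hx))
      · intro hy
        obtain ⟨z, hz, rfl⟩ := mem_imgSub.1 (hχ₃Q.ge hy)
        obtain ⟨x, hx, hxz⟩ := mem_imgSub.1 (hχQ.ge hz)
        refine ⟨x, hx, ?_⟩
        rw [hμx]
        exact congrArg χ₃ (Subtype.ext hxz)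

theorem toSink_all [Finite S] [Fact p.Prime] (hS : IsPGroup p S) {ℋ : Set (Subgroup Ω)}
    (hconj : ∀ P ∈ ℋ, ∀ Q, F.IsConj P Q → Q ∈ ℋ)
    (hgen : ∀ E : FusionSystem S, (∀ P ∈ ℋ, F.Hom P ⊆ E.Hom P) → F ≤ E)
    {P : Subgroup Ω} (hP : P ∉ ℋ) (hPS : P ≠ S) (hPn : F.IsFullyNormalized P)
    (habove : SatAbove F p P) {Q : Subgroup Ω} (hQ : F.IsConj P Q) : ToSink F P Q := by
  have hcomp : ∀ (A B : Subgroup Ω) (R : Subgroup Ω) (ψ : R →* Ω), F.IsConj P A → A ≤ R → A ≠ R →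
      R ≤ normalizerIn S A → ψ ∈ F.Hom R → imgSub ψ A = B → ToSink F P B → ToSink F P A := by
    intro A B R ψ hA hAR hne hRA hψ hψA hB
    obtain ⟨χ, hχ, hχB⟩ := hB
    obtain ⟨μ, hμ, hμx⟩ := exists_comp hψ hχ fun x => by
      have h := apply_mem_normalizerIn hψ x (P := A) (hRA x.2).2
      rwa [hψA] at h
    refine toSink_of_link hS hPn habove R A μ hA hAR hne hRA hμ ?_
    ext y
    rw [mem_imgSub]
    constructor
    · rintro ⟨x, hx, rfl⟩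
      rw [hμx, ← hχB]
      exact apply_mem_imgSub χ _ (hψA.le (apply_mem_imgSub ψ x hx))
    · intro hy
      obtain ⟨z, hz, rfl⟩ := mem_imgSub.1 (hχB.ge hy)
      obtain ⟨x, hx, hxz⟩ := mem_imgSub.1 (hψA.ge hz)
      refine ⟨x, hx, ?_⟩
      rw [hμx]
      exact congrArg χ (Subtype.ext hxz)
  obtain ⟨φ, hφ, hr⟩ := isConj_symm hQ
  have h := class_induction hS hconj hgen hP hPS
    (fun A φ => ToSink F P A ↔ ToSink F P φ.range) ?_ ?_ ?_ hQ hφ
  · exact h.2 (by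
      rw [hr]
      exact ⟨_, subtype_mem inf_le_left, by
        rw [← range_restrict _ (le_normalizerIn hPn.1)]
        exact le_antisymm (by rintro _ ⟨x, rfl⟩; exact x.2) (fun x hx => ⟨⟨x, hx⟩, rfl⟩)⟩)
  · intro A R ψ hAR hA hne hRA hψ
    rw [range_restrict ψ hAR]
    refine ⟨fun h => ?_, hcomp A _ R ψ hA hAR hne hRA hψ rfl⟩
    -- go back along the inverse map
    obtain ⟨τ, hτ, hτr, hτx, -⟩ := exists_inverse hψ rfl
    refine hcomp (imgSub ψ A) A ψ.range τ (isConj_trans hA (isConj_imgSub hψ hAR))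
      (imgSub_le_range ψ) ?_ ?_ hτ ?_ h
    · intro e
      have h1 : Nat.card (imgSub ψ A) = Nat.card A := card_imgSub (F.injective_of_mem hψ) hAR
      rw [e, card_range hψ] at h1
      haveI := finite_of_le (src_le hψ)
      exact hne (Subgroup.eq_of_le_of_card_ge hAR h1.le)
    · rintro _ ⟨x, rfl⟩
      exact apply_mem_normalizerIn hψ x (hRA x.2).2
    · ext y
      rw [mem_imgSub]
      constructor
      · rintro ⟨x, hx, rfl⟩
        obtain ⟨z, hz, hzx⟩ := mem_imgSub.1 hx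
        rw [show x = ⟨ψ z, z, rfl⟩ from Subtype.ext hzx.symm]
        exact (congrArg (· ∈ A) (hτx z _)).mpr hz
      · intro hy
        exact ⟨⟨_, ⟨y, hAR hy⟩, rfl⟩, apply_mem_imgSub ψ _ hy, hτx _ _⟩
  · intro A A' φ χ ψ _ hφ' hψ hr hχ h₁ h₂
    rw [show χ.range = ψ.range from ?_, h₁, hr]
    · exact h₂
    refine le_antisymm ?_ ?_
    · rintro _ ⟨x, rfl⟩
      exact ⟨_, (hχ x (hr.le ⟨x, rfl⟩)).symm⟩
    · rintro _ ⟨y, rfl⟩
      obtain ⟨x, hx⟩ := hr.ge y.2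
      exact ⟨x, (hχ x (hr.le ⟨x, rfl⟩)).trans (congrArg ψ (Subtype.ext hx))⟩
  · intro A A' φ ψ _ hφ' hψ hr hψx h₁
    rw [show ψ.range = A from ?_, h₁, hr]
    refine le_antisymm ?_ fun y hy => ?_
    · rintro _ ⟨y, rfl⟩
      obtain ⟨x, hx⟩ := hr.ge y.2
      rw [show y = ⟨φ x, hr.le ⟨x, rfl⟩⟩ from Subtype.ext hx.symm, hψx]
      exact x.2
    · exact ⟨⟨φ ⟨y, hy⟩, hr.le ⟨_, rfl⟩⟩, hψx _ _⟩

/-! ### The subgroup `P^*` -/

/-- `O_p(Aut_F(Q))` inside `Aut(Q)`. -/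
def pCoreAut (F : FusionSystem S) (p : ℕ) (Q : Subgroup Ω) : Subgroup (MulAut Q) :=
  (pCore p (F.autGroup Q)).map (F.autGroup Q).subtype

theorem pCoreAut_le (Q : Subgroup Ω) : pCoreAut F p Q ≤ F.autGroup Q := Subgroup.map_subtype_le _

theorem isPGroup_pCoreAut (Q : Subgroup Ω) : IsPGroup p (pCoreAut F p Q) :=
  (PSolvable.pCore_isPGroup (G := F.autGroup Q)).map _

theorem conj_mem_pCoreAut {Q : Subgroup Ω} {a k : MulAut Q} (ha : a ∈ F.autGroup Q)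
    (hk : k ∈ pCoreAut F p Q) : a * k * a⁻¹ ∈ pCoreAut F p Q := by
  obtain ⟨k', hk', rfl⟩ := hk
  exact ⟨⟨a, ha⟩ * k' * ⟨a, ha⟩⁻¹, pCore_normal.conj_mem k' hk' ⟨a, ha⟩, rfl⟩

theorem inn_le_pCoreAut (hS : IsPGroup p S) {Q : Subgroup Ω} (hQ : Q ≤ S) :
    Inn Q ≤ pCoreAut F p Q := by
  intro a ha
  have hn : ((Inn Q).subgroupOf (F.autGroup Q)).Normal := inn_normal_subgroupOf F Q
  exact ⟨⟨a, inn_le_autGroup hQ ha⟩,
    PSolvable.le_pCore (hN := hn) (isPGroup_inn_subgroupOf hS hQ) ha, rfl⟩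

theorem map_congr_pCoreAut {P Q : Subgroup Ω} {φ : P →* Ω} (hφ : φ ∈ F.Hom P)
    (hr : φ.range = Q) :
    (pCoreAut F p P).map (MulAut.congr (isoOnto φ (F.injective_of_mem hφ) hr)).toMonoidHom
      = pCoreAut F p Q := by
  set f := (MulAut.congr (isoOnto φ (F.injective_of_mem hφ) hr)).toMonoidHom with hf
  let e : F.autGroup P ≃* F.autGroup Q :=
    ((F.autGroup P).equivMapOfInjective f (MulEquiv.injective _)).trans
      (MulEquiv.subgroupCongr (map_congr_autGroup hφ hr))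
  have he : f.comp (F.autGroup P).subtype = (F.autGroup Q).subtype.comp e.toMonoidHom :=
    MonoidHom.ext fun x => rfl
  rw [pCoreAut, pCoreAut, Subgroup.map_map, he, ← Subgroup.map_map, PSolvable.map_pCore_equiv e]

/-- `Q^*`: the elements of `N_S(Q)` inducing elements of `O_p(Aut_F(Q))`. -/
def starSub (F : FusionSystem S) (p : ℕ) (Q : Subgroup Ω) : Subgroup Ω :=
  S ⊓ ((pCoreAut F p Q).comap (Subgroup.normalizerMonoidHom Q)).map
    (Subgroup.normalizer (Q : Set Ω)).subtype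

theorem mem_starSub {Q : Subgroup Ω} {g : Ω} :
    g ∈ starSub F p Q ↔ g ∈ S ∧
      ∃ hg : g ∈ Subgroup.normalizer (Q : Set Ω), conjAut Q g hg ∈ pCoreAut F p Q := by
  constructor
  · rintro ⟨h1, y, hy, rfl⟩
    exact ⟨h1, y.2, hy⟩
  · rintro ⟨h1, hg, h2⟩
    exact ⟨h1, ⟨g, hg⟩, h2, rfl⟩

theorem starSub_le_normalizerIn (Q : Subgroup Ω) : starSub F p Q ≤ normalizerIn S Q := fun g hg =>
  let ⟨h1, hn, _⟩ := mem_starSub.1 hg
  ⟨h1, hn⟩

theorem le_starSub (hS : IsPGroup p S) {Q : Subgroup Ω} (hQ : Q ≤ S) : Q ≤ starSub F p Q :=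
  fun x hx => mem_starSub.2 ⟨hQ hx, Subgroup.le_normalizer hx,
    inn_le_pCoreAut hS hQ ⟨⟨x, hx⟩, MulEquiv.ext fun y => rfl⟩⟩

theorem apply_mem_starSub {A Q : Subgroup Ω} {ψ : A →* Ω} (hψ : ψ ∈ F.Hom A) (hQA : Q ≤ A)
    (x : A) (hx : (x : Ω) ∈ starSub F p Q) : ψ x ∈ starSub F p (imgSub ψ Q) := by
  obtain ⟨-, hn, hc⟩ := mem_starSub.1 hx
  have hn' := apply_mem_normalizer ψ x hn
  refine mem_starSub.2 ⟨val_mem hψ x, hn', ?_⟩
  rw [← map_congr_pCoreAut (restrict_mem hψ hQA) (range_restrict ψ hQA)]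
  set i := isoOnto (ψ.comp (Subgroup.inclusion hQA))
    (F.injective_of_mem (restrict_mem hψ hQA)) (range_restrict ψ hQA) with hi
  refine ⟨_, hc, MulEquiv.ext fun y => Subtype.ext ?_⟩
  obtain ⟨z, rfl⟩ := i.surjective y
  show (i (conjAut Q x hn (i.symm (i z))) : Ω) = ψ x * (i z : Ω) * (ψ x)⁻¹
  rw [i.symm_apply_apply]
  show ψ (Subgroup.inclusion hQA (conjAut Q x hn z)) = ψ x * ψ (Subgroup.inclusion hQA z) * (ψ x)⁻¹
  rw [← map_inv, ← map_mul, ← map_mul]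
  rfl

theorem normalizerIn_le_normalizer_starSub [Finite S] (Q : Subgroup Ω) (hQ : Q ≤ S) :
    normalizerIn S Q ≤ Subgroup.normalizer (starSub F p Q : Set Ω) := by
  have key : ∀ g ∈ normalizerIn S Q, ∀ x ∈ starSub F p Q, g * x * g⁻¹ ∈ starSub F p Q := by
    intro g hg x hx
    have h := apply_mem_starSub (F.conj_mem (normalizerIn_le Q) hg.1) (le_normalizerIn hQ)
      ⟨x, starSub_le_normalizerIn Q hx⟩ hx
    have himg : imgSub (conjHom (normalizerIn S Q) g) Q = Q := by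
      haveI := finite_of_le hQ
      refine imgSub_eq_of_le_of_card (F.conj_mem (normalizerIn_le Q) hg.1) (le_normalizerIn hQ)
        ?_ le_rfl
      intro y hy
      obtain ⟨z, hz, rfl⟩ := mem_imgSub.1 hy
      exact (Subgroup.mem_normalizer_iff.1 hg.2 _).1 hz
    rwa [himg] at h
  intro g hg
  rw [Subgroup.mem_normalizer_iff]
  refine fun x => ⟨key g hg x, fun hx => ?_⟩
  have h := key g⁻¹ (Subgroup.inv_mem _ hg) _ hx
  simpa [mul_assoc] using h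

/-! ### Extension to `P^*` -/

/-- The automorphism extends to a map on `P^*`. -/
def StarExt (F : FusionSystem S) (p : ℕ) (P : Subgroup Ω) (a : MulAut P) : Prop :=
  a ∈ F.autGroup P ∧ ∃ ψ ∈ F.Hom (starSub F p P),
    ∀ (x : P) (h : (x : Ω) ∈ starSub F p P), ψ ⟨x, h⟩ = (a x : Ω)

theorem StarExt.imgSub_eq [Finite S] (hS : IsPGroup p S) {P : Subgroup Ω} {a : MulAut P} (hP : P ≤ S)
    {ψ : starSub F p P →* Ω}
    (hag : ∀ (x : P) (h : (x : Ω) ∈ starSub F p P), ψ ⟨x, h⟩ = (a x : Ω)) :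
    imgSub ψ P = P := by
  rw [imgSub_of_agree (le_starSub hS hP) (φ := autHom a) fun x hQ hN => hag ⟨x, hQ⟩ hN,
    range_autHom]

theorem StarExt.mul [Finite S] (hS : IsPGroup p S) {P : Subgroup Ω} (hP : P ≤ S) {a b : MulAut P}
    (ha : StarExt F p P a) (hb : StarExt F p P b) : StarExt F p P (a * b) := by
  obtain ⟨ha', ψ, hψ, hψa⟩ := ha
  obtain ⟨hb', χ, hχ, hχb⟩ := hb
  have hval : ∀ y, χ y ∈ starSub F p P := fun y => by
    have h := apply_mem_starSub hχ (le_starSub hS hP) y y.2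
    rwa [StarExt.imgSub_eq hS hP hχb] at h
  obtain ⟨μ, hμ, hμx⟩ := exists_comp hχ hψ hval
  refine ⟨Subgroup.mul_mem _ ha' hb', μ, hμ, fun x h => ?_⟩
  rw [hμx]
  refine (congrArg ψ (Subtype.ext (hχb x h) : (⟨_, hval ⟨x, h⟩⟩ : starSub F p P) =
    ⟨(b x : Ω), le_starSub hS hP (b x).2⟩)).trans ?_
  exact hψa (b x) _

theorem StarExt.inv [Finite S] (hS : IsPGroup p S) {P : Subgroup Ω} (hP : P ≤ S) {a : MulAut P}
    (ha : StarExt F p P a) : StarExt F p P a⁻¹ := by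
  obtain ⟨ha', ψ, hψ, hψa⟩ := ha
  haveI : Finite (starSub F p P) := finite_of_le inf_le_left
  have hr : ψ.range = starSub F p P := range_eq_self hψ fun y => by
    have h := apply_mem_starSub hψ (le_starSub hS hP) y y.2
    rwa [StarExt.imgSub_eq hS hP hψa] at h
  obtain ⟨τ, hτ, -, hτx, -⟩ := exists_inverse hψ hr
  refine ⟨Subgroup.inv_mem _ ha', τ, hτ, fun x h => ?_⟩
  have h1 := hψa (a⁻¹ x) (le_starSub hS hP (a⁻¹ x).2)
  rw [MulAut.apply_inv_self] at h1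
  have h2 := hτx ⟨_, le_starSub hS hP (a⁻¹ x).2⟩ (by rw [h1]; exact h)
  refine Eq.trans ?_ h2
  exact congrArg τ (Subtype.ext h1.symm)

theorem starExt_conjAut [Finite S] {P : Subgroup Ω} (hP : P ≤ S) {t : Ω} (htS : t ∈ S)
    (ht : t ∈ Subgroup.normalizer (P : Set Ω)) : StarExt F p P (conjAut P t ht) :=
  ⟨autInducedBy_le_autGroup hP (mem_autInducedBy.2 ⟨t, htS, fun _ => rfl⟩),
    _, F.conj_mem (inf_le_left : starSub F p P ≤ S) htS, fun _ _ => rfl⟩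

/-- A map between conjugates of `P`, read on `P` through maps on the normalizers. -/
theorem exists_transfer [Finite S] {P Q U : Subgroup Ω} (hP : P ≤ S) {χ : normalizerIn S Q →* Ω}
    (hχ : χ ∈ F.Hom (normalizerIn S Q)) (hχP : imgSub χ Q = P) {ψ : U →* Ω} (hψ : ψ ∈ F.Hom U)
    (hQU : Q ≤ U) (hU : U ≤ normalizerIn S Q) {Q' : Subgroup Ω} (hQ' : imgSub ψ Q = Q')
    {χ' : normalizerIn S Q' →* Ω}
    (hχ' : χ' ∈ F.Hom (normalizerIn S Q')) (hχ'P : imgSub χ' Q' = P) :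
    ∃ a ∈ F.autGroup P, ∃ (W : Subgroup Ω) (ψ' : W →* Ω), ψ' ∈ F.Hom W ∧ P ≤ W ∧
      W ≤ normalizerIn S P ∧ Nat.card W = Nat.card U ∧
      (∀ (x : P) (h : (x : Ω) ∈ W), ψ' ⟨x, h⟩ = (a x : Ω)) ∧
      ∀ (x : U) (h₁ : χ ⟨x, hU x.2⟩ ∈ P) (h₂ : ψ x ∈ normalizerIn S Q'),
        (x : Ω) ∈ Q → (a ⟨χ ⟨x, hU x.2⟩, h₁⟩ : Ω) = χ' ⟨ψ x, h₂⟩ := by
  subst hQ'
  have hχU := restrict_mem hχ hU
  set W := (χ.comp (Subgroup.inclusion hU)).range with hW
  obtain ⟨ν, hν, hνr, hνx, -⟩ := exists_inverse hχU rfl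
  obtain ⟨σ, hσ, hσx⟩ := exists_comp hν hψ fun y => hνr.le ⟨y, rfl⟩
  obtain ⟨ψ', hψ', hψ'x⟩ := exists_comp hσ hχ' fun y => by
    rw [hσx]
    exact apply_mem_normalizerIn hψ _ (hU (hνr.le ⟨y, rfl⟩)).2
  have hPW : P ≤ W := by
    intro y hy
    obtain ⟨z, hz, rfl⟩ := mem_imgSub.1 (hχP.ge hy)
    exact ⟨⟨z, hQU hz⟩, rfl⟩
  have hWN : W ≤ normalizerIn S P := by
    rintro _ ⟨z, rfl⟩
    have h := apply_mem_normalizerIn hχ (Subgroup.inclusion hU z) (P := Q) (hU z.2).2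
    rwa [hχP] at h
  have hval : ∀ (z : U) (h : χ (Subgroup.inclusion hU z) ∈ W)
      (h₂ : ψ z ∈ normalizerIn S (imgSub ψ Q)), ψ' ⟨_, h⟩ = χ' ⟨ψ z, h₂⟩ := by
    intro z h h₂
    rw [hψ'x]
    exact congrArg χ' (Subtype.ext ((hσx _).trans (congrArg ψ (Subtype.ext (hνx z h)))))
  haveI := finite_of_le hP
  obtain ⟨a, ha, hax⟩ := exists_aut_of_hom (restrict_mem hψ' hPW) fun y => by
    obtain ⟨z, hz, hzy⟩ := mem_imgSub.1 (hχP.ge y.2)
    have hz' : (⟨y, hPW y.2⟩ : W) = ⟨χ (Subgroup.inclusion hU ⟨z, hQU hz⟩), ⟨_, rfl⟩⟩ :=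
      Subtype.ext hzy.symm
    show ψ' ⟨y, hPW y.2⟩ ∈ P
    have hmem : ψ ⟨z, hQU hz⟩ ∈ normalizerIn S (imgSub ψ Q) :=
      apply_mem_normalizerIn hψ _ (hU (hQU hz)).2
    rw [hz']
    refine (congrArg (· ∈ P) (hval ⟨z, hQU hz⟩ ⟨_, rfl⟩ hmem)).mpr (hχ'P.le ?_)
    exact apply_mem_imgSub χ' _ (apply_mem_imgSub ψ _ hz)
  refine ⟨a, ha, W, ψ', hψ', hPW, hWN, card_range hχU, fun x h => (hax x).symm, ?_⟩
  intro x h₁ h₂ hx
  rw [hax]
  exact hval x ⟨x, rfl⟩ h₂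

/-- Replace a link between two conjugates by normalizer maps to a common conjugate inside a fully
automized receptive subgroup. -/
theorem exists_link_data [Finite S] [Fact p.Prime] (hS : IsPGroup p S) {X R Q : Subgroup Ω}
    (hRX : F.IsConj R X) (hXa : F.IsFullyAutomized p X) (hXr : F.IsReceptive X) (hQR : Q ≤ R)
    (hRQ : R ≤ normalizerIn S Q) {ψ : R →* Ω} (hψ : ψ ∈ F.Hom R) :
    ∃ Q₃ : Subgroup Ω, Q₃ ≤ X ∧ F.IsConj Q Q₃ ∧ SylStab F p X Q₃ ∧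
      ∃ s ∈ F.autGroup X ⊓ stabSub X Q₃,
      ∃ χ ∈ F.Hom (normalizerIn S R ⊓ normalizerIn S Q),
      ∃ χ' ∈ F.Hom (normalizerIn S ψ.range ⊓ normalizerIn S (imgSub ψ Q)),
        imgSub χ Q = Q₃ ∧ imgSub χ R = X ∧ imgSub χ' (imgSub ψ Q) = Q₃ ∧
        ∀ (x : R) (h₀ : (x : Ω) ∈ normalizerIn S R ⊓ normalizerIn S Q) (h₁ : χ ⟨x, h₀⟩ ∈ X)
          (h₂ : ψ x ∈ normalizerIn S ψ.range ⊓ normalizerIn S (imgSub ψ Q)),
          χ' ⟨ψ x, h₂⟩ = (s ⟨χ ⟨x, h₀⟩, h₁⟩ : Ω) := by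
  obtain ⟨θ₀, hθ₀, hr₀⟩ := hRX
  have hQ₁X : imgSub θ₀ Q ≤ X := (imgSub_le_range θ₀).trans hr₀.le
  obtain ⟨b, hb, hsyl⟩ := exists_sylStab hS hXa hQ₁X
  set Q₃ := imgSub (autHom b) (imgSub θ₀ Q) with hQ₃
  obtain ⟨θ, hθ, hθx⟩ := exists_comp hθ₀ (autGroup_hom_mem hXr.1 hb) fun x => hr₀.le ⟨x, rfl⟩
  have hθr : θ.range = X := by
    refine le_antisymm ?_ fun y hy => ?_
    · rintro _ ⟨x, rfl⟩
      rw [hθx]
      exact (b _).2
    · obtain ⟨x, hx⟩ := hr₀.ge (b.symm ⟨y, hy⟩).2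
      refine ⟨x, ?_⟩
      rw [hθx]
      simp only [hx]
      exact congrArg Subtype.val (b.apply_symm_apply ⟨y, hy⟩)
  have hθQ : imgSub θ Q = Q₃ := by
    ext y
    rw [mem_imgSub, mem_imgSub]
    constructor
    · rintro ⟨x, hx, rfl⟩
      exact ⟨⟨θ₀ x, hr₀.le ⟨x, rfl⟩⟩, apply_mem_imgSub θ₀ x hx, (hθx x).symm⟩
    · rintro ⟨⟨z, hz⟩, hz', rfl⟩
      obtain ⟨x, hx, rfl⟩ := mem_imgSub.1 hz'
      exact ⟨x, hx, hθx x⟩
  obtain ⟨e, he, χ, hχ, hχQ, hχR, -, hχx⟩ := exists_ext_stab hS hXr hsyl hθ hθr hQR hRQ hθQ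
  obtain ⟨τ, hτ, hτr, hτx, -⟩ := exists_inverse hψ rfl
  obtain ⟨θ', hθ', hθ'x⟩ := exists_comp hτ hθ fun y => hτr.le ⟨y, rfl⟩
  have hθ'v : ∀ z : R, θ' ⟨ψ z, z, rfl⟩ = θ z := fun z =>
    (hθ'x _).trans (congrArg θ (Subtype.ext (hτx z _)))
  have hθ'r : θ'.range = X := by
    refine le_antisymm ?_ fun y hy => ?_
    · rintro _ ⟨x, rfl⟩
      rw [hθ'x]
      exact hθr.le ⟨_, rfl⟩
    · obtain ⟨x, rfl⟩ := hθr.ge hy
      exact ⟨⟨ψ x, x, rfl⟩, hθ'v x⟩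
  have hθ'Q : imgSub θ' (imgSub ψ Q) = Q₃ := by
    rw [← hθQ]
    ext y
    rw [mem_imgSub, mem_imgSub]
    constructor
    · rintro ⟨x, hx, rfl⟩
      obtain ⟨z, hz, hzx⟩ := mem_imgSub.1 hx
      refine ⟨z, hz, ?_⟩
      rw [show x = ⟨ψ z, z, rfl⟩ from Subtype.ext hzx.symm, hθ'v]
    · rintro ⟨z, hz, rfl⟩
      exact ⟨⟨ψ z, z, rfl⟩, apply_mem_imgSub ψ z hz, hθ'v z⟩
  have hR'Q : ψ.range ≤ normalizerIn S (imgSub ψ Q) := by
    rintro _ ⟨x, rfl⟩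
    exact apply_mem_normalizerIn hψ x (hRQ x.2).2
  obtain ⟨e', he', χ', hχ', hχ'Q, -, -, hχ'x⟩ :=
    exists_ext_stab hS hXr hsyl hθ' hθ'r (imgSub_le_range ψ) hR'Q hθ'Q
  refine ⟨Q₃, hθQ.ge.trans ((imgSub_le_range θ).trans hθr.le), hθQ ▸ isConj_imgSub hθ hQR, hsyl,
    e' * e⁻¹, Subgroup.mul_mem _ he' (Subgroup.inv_mem _ he), χ, hχ, χ', hχ', hχQ, hχR, hχ'Q,
    fun x h₀ h₁ h₂ => ?_⟩
  have hθX : ∀ z, θ z ∈ X := fun z => hθr.le ⟨z, rfl⟩
  have h3 : (⟨χ ⟨x, h₀⟩, h₁⟩ : X) = e ⟨θ x, hθX x⟩ := Subtype.ext (hχx x _ h₀)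
  rw [h3, MulAut.mul_apply, MulAut.inv_apply_self]
  refine (hχ'x ⟨ψ x, x, rfl⟩ ((hθ'v x).symm ▸ hθX x) h₂).trans ?_
  exact congrArg (fun z : X => (e' z : Ω)) (Subtype.ext (hθ'v x))

/-- An automorphism of a fully normalized `P` extending to some larger subgroup of `N_S(P)` extends
to `P^*`. -/
theorem starExt_of_link [Finite S] [Fact p.Prime] (hS : IsPGroup p S) {P : Subgroup Ω}
    (hP : F.IsFullyNormalized P) (habove : SatAbove F p P)
    (hsink : ∀ Q, F.IsConj P Q → ToSink F P Q) :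
    ∀ (R : Subgroup Ω) (a : MulAut P) (ψ : R →* Ω), a ∈ F.autGroup P → P ≤ R → P ≠ R →
      R ≤ normalizerIn S P → ψ ∈ F.Hom R →
      (∀ (x : P) (h : (x : Ω) ∈ R), ψ ⟨x, h⟩ = (a x : Ω)) → StarExt F p P a := by
  suffices key : ∀ n (R : Subgroup Ω) (a : MulAut P) (ψ : R →* Ω),
      Nat.card S - Nat.card R ≤ n → a ∈ F.autGroup P → P ≤ R → P ≠ R →
      R ≤ normalizerIn S P → ψ ∈ F.Hom R →
      (∀ (x : P) (h : (x : Ω) ∈ R), ψ ⟨x, h⟩ = (a x : Ω)) → StarExt F p P a from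
    fun R a ψ => key _ R a ψ le_rfl
  intro n
  induction n using Nat.strong_induction_on with
  | _ n ih =>
    intro R a ψ hn ha hPR hne hRP hψ hag
    by_cases hstar : starSub F p P ≤ R
    · exact ⟨ha, _, restrict_mem hψ hstar, fun x h => hag x (hstar h)⟩
    have hRS := src_le hψ
    have hPS := hP.1
    haveI : Finite R := finite_of_le hRS
    have hlt : Nat.card P < Nat.card R := lt_of_le_of_ne (Subgroup.card_le_of_le hPR)
      fun e => hne (Subgroup.eq_of_le_of_card_ge hPR e.ge)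
    have hψP : imgSub ψ P = P := by
      rw [imgSub_of_agree hPR (φ := autHom a) fun x hQ hN => hag ⟨x, hQ⟩ hN, range_autHom]
    -- an element of `P^*` normalizing `R`
    obtain ⟨q, hq, hqR, hqN⟩ : ∃ q, q ∈ starSub F p P ∧ q ∉ R ∧
        q ∈ Subgroup.normalizer (R : Set Ω) := by
      have hnorm : R ≤ Subgroup.normalizer (starSub F p P : Set Ω) :=
        hRP.trans (normalizerIn_le_normalizer_starSub P hPS)
      have hsup : R ⊔ starSub F p P ≤ S := sup_le hRS inf_le_left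
      haveI := finite_of_le hsup
      have hlt' := Fusion87.card_lt_normalizerIn (hS.to_le hsup) (le_sup_left : R ≤ _)
        fun e => hstar (e.ge.trans' le_sup_right)
      obtain ⟨g, hg, hgR⟩ := SetLike.not_le_iff_exists.1
        fun h : normalizerIn (R ⊔ starSub F p P) R ≤ R => (Subgroup.card_le_of_le h).not_gt hlt'
      obtain ⟨hgs, hgn⟩ := hg
      replace hgs : g ∈ ((R ⊔ starSub F p P : Subgroup Ω) : Set Ω) := hgs
      rw [Subgroup.coe_mul_of_left_le_normalizer_right _ _ hnorm] at hgs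
      obtain ⟨r, hr, q, hq, rfl⟩ := hgs
      refine ⟨q, hq, fun h => hgR (R.mul_mem hr h), ?_⟩
      have h1 := Subgroup.mul_mem _ (Subgroup.inv_mem _ (Subgroup.le_normalizer hr)) hgn
      rwa [inv_mul_cancel_left] at h1
    obtain ⟨X, hRX, hXa, hXr⟩ := habove R hRS hlt
    haveI := finite_mulAut hXr.1
    haveI := finite_of_le hXr.1
    obtain ⟨Q₃, hQ₃X, hPQ₃, hsyl, s, hs, χ, hχ, χ', hχ', hχP, hχR, hχ'P, hrel⟩ :=
      exists_link_data hS hRX hXa hXr hPR hRP hψ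
    obtain ⟨χ₃, hχ₃, hχ₃Q⟩ := hsink Q₃ hPQ₃
    have hχ₃v : ∀ y, χ₃ y ∈ normalizerIn S P := fun y => by
      have h := apply_mem_normalizerIn hχ₃ y y.2.2 (P := Q₃)
      rwa [hχ₃Q] at h
    have hIH : ∀ (b : MulAut P) (W : Subgroup Ω) (ψ' : W →* Ω), b ∈ F.autGroup P →
        ψ' ∈ F.Hom W → P ≤ W → W ≤ normalizerIn S P → Nat.card R < Nat.card W →
        (∀ (x : P) (h : (x : Ω) ∈ W), ψ' ⟨x, h⟩ = (b x : Ω)) → StarExt F p P b := by
      intro b W ψ' hb hψ' hPW hWN hc hb'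
      have h1 := Subgroup.card_le_of_le (src_le hψ')
      exact ih _ (by omega) W b ψ' le_rfl hb hPW
        (fun e => by rw [← e] at hc; omega) hWN hψ' hb'
    have hRne : R ≠ normalizerIn S P := fun e => hstar (e ▸ starSub_le_normalizerIn P)
    have hM := card_lt_normalizer_inf hS hRP hRne
    have hR'P : ψ.range ≤ normalizerIn S P := by
      rintro _ ⟨x, rfl⟩
      have h := apply_mem_normalizerIn hψ x (P := P) (hRP x.2).2
      rwa [hψP] at h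
    have hR'ne : ψ.range ≠ normalizerIn S P := fun e => hRne (by
      haveI := finite_normalizerIn (S := S) P
      refine Subgroup.eq_of_le_of_card_ge hRP ?_
      rw [← card_range hψ, e])
    have hM' := card_lt_normalizer_inf hS hR'P hR'ne
    rw [card_range hψ] at hM'
    -- the subtype map on `N_S(P)`
    have hincl : (normalizerIn S P).subtype ∈ F.Hom (normalizerIn S P) :=
      subtype_mem (normalizerIn_le P)
    have hinclP : imgSub (normalizerIn S P).subtype P = P := by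
      rw [← range_restrict _ (le_normalizerIn hPS)]
      exact le_antisymm (by rintro _ ⟨x, rfl⟩; exact x.2) fun x hx => ⟨⟨x, hx⟩, rfl⟩
    have hPM : P ≤ normalizerIn S R ⊓ normalizerIn S P := fun x hx =>
      ⟨le_normalizerIn hRS (hPR hx), le_normalizerIn hPS hx⟩
    obtain ⟨c, hc, hcA, hcx⟩ : ∃ c, StarExt F p P c ∧ c ∈ F.autGroup P ∧
        ∀ (x : P) (h₂ : χ ⟨x, hPM x.2⟩ ∈ normalizerIn S Q₃), (c x : Ω) = χ₃ ⟨_, h₂⟩ := by
      obtain ⟨c, hc, W, ψ', hψ', hPW, hWN, hcard, hag', hcx⟩ :=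
        exists_transfer hPS hincl hinclP hχ hPM inf_le_right hχP hχ₃ hχ₃Q
      exact ⟨c, hIH c W ψ' hc hψ' hPW hWN (hcard ▸ hM) hag', hc,
        fun x h₂ => hcx ⟨x, hPM x.2⟩ x.2 h₂ x.2⟩
    replace hχ'P : imgSub χ' P = Q₃ := (congrArg (imgSub χ') hψP.symm).trans hχ'P
    have hPM' : P ≤ normalizerIn S ψ.range ⊓ normalizerIn S (imgSub ψ P) := fun x hx =>
      ⟨le_normalizerIn (range_le hψ) ((hψP.ge.trans (imgSub_le_range ψ)) hx),
        by rw [hψP]; exact le_normalizerIn hPS hx⟩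
    obtain ⟨c', hc', hc'x⟩ : ∃ c, StarExt F p P c ∧
        ∀ (x : P) (h₂ : χ' ⟨x, hPM' x.2⟩ ∈ normalizerIn S Q₃), (c x : Ω) = χ₃ ⟨_, h₂⟩ := by
      obtain ⟨c, hc, W, ψ', hψ', hPW, hWN, hcard, hag', hcx⟩ :=
        exists_transfer hPS hincl hinclP hχ' hPM'
          (inf_le_right.trans (congrArg (normalizerIn S) hψP).le) hχ'P hχ₃ hχ₃Q
      refine ⟨c, hIH c W ψ' hc hψ' hPW hWN ?_ hag', fun x h₂ => hcx ⟨x, hPM' x.2⟩ x.2 h₂ x.2⟩
      rw [hcard, hψP]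
      exact hM'
    -- the automorphisms of `X` inducing `O_p` on `Q₃`
    set K2 : Subgroup (MulAut X) := (F.autGroup X ⊓ stabSub X Q₃) ⊓
      ((pCoreAut F p Q₃).comap (resAut hQ₃X)).map (stabSub X Q₃).subtype with hK2
    have hK2le : K2 ≤ F.autGroup X ⊓ stabSub X Q₃ := inf_le_left
    have hK2n : ∀ k ∈ F.autGroup X ⊓ stabSub X Q₃, ∀ h ∈ K2, k * h * k⁻¹ ∈ K2 := by
      intro k hk h hh
      refine ⟨Subgroup.mul_mem _ (Subgroup.mul_mem _ hk hh.1) (Subgroup.inv_mem _ hk), ?_⟩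
      obtain ⟨h', hh', rfl⟩ := hh.2
      refine ⟨⟨k, hk.2⟩ * h' * ⟨k, hk.2⟩⁻¹, ?_, rfl⟩
      rw [SetLike.mem_coe, Subgroup.mem_comap, map_mul, map_mul, map_inv]
      exact conj_mem_pCoreAut (resAut_mem hQ₃X hXr.1 ⟨k, hk.2⟩ hk.1) hh'
    set AS := (autInducedBy S X ⊓ stabSub X Q₃) ⊓ K2 with hAS
    have hASsyl : IsSylowIn p AS K2 := isSylowIn_inf_of_normalized hsyl hK2le hK2n
    have hconjle : AS.map (MulAut.conj s).toMonoidHom ≤ K2 := by
      rintro _ ⟨g, hg, rfl⟩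
      exact hK2n s hs g hg.2
    obtain ⟨o, ho, hle⟩ := hASsyl.exists_conj_le (hASsyl.2.1.map _) hconjle
    have hnA : o * s ∈ F.autGroup X ⊓ stabSub X Q₃ := Subgroup.mul_mem _ (hK2le ho) hs
    -- `o⁻¹` acts on `Q₃` as an element of `S`
    obtain ⟨g, hgX, hgQ, hgS, hgo⟩ : ∃ g, g ∈ Subgroup.normalizer (X : Set Ω) ∧
        g ∈ Subgroup.normalizer (Q₃ : Set Ω) ∧ g ∈ S ∧
        ∀ (x : X), (x : Ω) ∈ Q₃ → (o⁻¹ x : Ω) = g * (x : Ω) * g⁻¹ := by
      have hst : ∀ k ∈ K2, k ∈ stabSub X Q₃ := fun k hk => (hK2le hk).2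
      have h1 : IsSylowIn p (AS.subgroupOf (stabSub X Q₃)) (K2.subgroupOf (stabSub X Q₃)) :=
        ⟨fun x hx => hASsyl.1 hx, hASsyl.2.1.comap_subtype,
          by rw [Subgroup.relIndex_subgroupOf hst]; exact hASsyl.2.2⟩
      have h2 := h1.map (resAut hQ₃X)
      have h3 : (K2.subgroupOf (stabSub X Q₃)).map (resAut hQ₃X) ≤ pCoreAut F p Q₃ := by
        rintro _ ⟨k, hk, rfl⟩
        obtain ⟨k', hk', e⟩ := hk.2
        exact (Subtype.ext e : k' = k) ▸ hk'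
      haveI := finite_mulAut (S := S) (hQ₃X.trans hXr.1)
      have h4 := h2.eq_of_le ((isPGroup_pCoreAut Q₃).to_le h3) le_rfl h2.1
      have h5 : resAut hQ₃X ⟨o⁻¹, hst _ (K2.inv_mem ho)⟩ ∈
          (K2.subgroupOf (stabSub X Q₃)).map (resAut hQ₃X) := ⟨_, K2.inv_mem ho, rfl⟩
      rw [← h4] at h5
      obtain ⟨k, hk, hke⟩ := h5
      obtain ⟨g, hgX, hgS, hge⟩ := mem_autInducedBy_normalizer.1 hk.1.1
      refine ⟨g, hgX, ?_, hgS, fun x hx => ?_⟩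
      · refine mem_normalizer_of_aut (α := resAut hQ₃X k) fun x => ?_
        rw [resAut_apply, show (k : MulAut X) = _ from hge]
        rfl
      · have h6 := congrArg (fun f : MulAut Q₃ => ((f ⟨x, hx⟩ : Q₃) : Ω)) hke
        simp only [resAut_apply] at h6
        rw [show (k : MulAut X) = _ from hge] at h6
        exact h6.symm
    -- the automorphism `o * s` extends beyond `X`
    obtain ⟨ψn, hψn, hagn⟩ := hXr.2 X (autHom (o * s)) (autGroup_hom_mem hXr.1 hnA.1)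
      (range_autHom _)
    set M₃ := extender S X (autHom (o * s)) ⊓ normalizerIn S Q₃ with hM₃
    have hqM : q ∈ normalizerIn S R ⊓ normalizerIn S P :=
      ⟨⟨(starSub_le_normalizerIn P hq).1, hqN⟩, starSub_le_normalizerIn P hq⟩
    have hqX : χ ⟨q, hqM⟩ ∉ X := fun h =>
      hqR ((apply_mem_imgSub_iff (F.injective_of_mem hχ) ⟨q, hqM⟩).1 (hχR.symm ▸ h))
    have hq3 : χ ⟨q, hqM⟩ ∈ M₃ := by
      have hst := apply_mem_starSub hχ hPM ⟨q, hqM⟩ hq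
      rw [hχP] at hst
      refine ⟨?_, starSub_le_normalizerIn Q₃ hst⟩
      obtain ⟨hS', hn', hcore⟩ := mem_starSub.1 hst
      have hnX : χ ⟨q, hqM⟩ ∈ Subgroup.normalizer (X : Set Ω) := by
        have h := apply_mem_normalizer χ ⟨q, hqM⟩ (P := R) hqN
        show χ ⟨q, hqM⟩ ∈ _
        rwa [show imgSub χ R = X from hχR] at h
      refine mem_extender_of_conj_mem hS' hnX ?_
      have hmem : conjAut X _ hnX ∈ AS := by
        have hstab : conjAut X _ hnX ∈ stabSub X Q₃ := fun x =>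
          (Subgroup.mem_normalizer_iff.1 hn' x).symm
        have hind : conjAut X _ hnX ∈ autInducedBy S X :=
          mem_autInducedBy.2 ⟨_, hS', fun x => rfl⟩
        refine ⟨⟨hind, hstab⟩, ⟨autInducedBy_le_autGroup hXr.1 hind, hstab⟩, ⟨_, hstab⟩, ?_, rfl⟩
        show resAut hQ₃X ⟨_, hstab⟩ ∈ pCoreAut F p Q₃
        exact (MulEquiv.ext fun x => rfl : resAut hQ₃X ⟨_, hstab⟩ = conjAut Q₃ _ hn') ▸ hcore
      have h1 := (hle ⟨_, ⟨_, hmem, rfl⟩, rfl⟩).1.1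
      have e : (o * s) * conjAut X _ hnX * (o * s)⁻¹ = o * (s * conjAut X _ hnX * s⁻¹) * o⁻¹ := by
        rw [mul_inv_rev]
        simp only [mul_assoc]
      rw [e]
      exact h1
    have hXM : X ≤ M₃ := by
      refine le_inf (le_extender (autGroup_hom_mem hXr.1 hnA.1)) fun y hy => ?_
      obtain ⟨z, hz, rfl⟩ := mem_imgSub.1 (hχR.ge hy)
      rw [← hχP]
      exact apply_mem_normalizerIn hχ z (hRP hz).2
    have hM₃e : M₃ ≤ extender S X (autHom (o * s)) := inf_le_left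
    have hψnM := restrict_mem hψn hM₃e
    have hQ₃M : Q₃ ≤ M₃ := hQ₃X.trans hXM
    have hagM : ∀ (x : M₃) (hx : (x : Ω) ∈ X),
        ψn.comp (Subgroup.inclusion hM₃e) x = ((o * s) ⟨x, hx⟩ : Ω) :=
      fun x hx => hagn x hx x.2.1
    have hψnQ : imgSub (ψn.comp (Subgroup.inclusion hM₃e)) Q₃ = Q₃ := by
      haveI := finite_of_le (hQ₃X.trans hXr.1)
      refine imgSub_eq_of_le_of_card hψnM hQ₃M ?_ le_rfl
      intro y hy
      obtain ⟨x, hx, rfl⟩ := mem_imgSub.1 hy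
      rw [hagM x (hQ₃X hx)]
      exact (hnA.2 _).2 hx
    obtain ⟨fn, hfn, hfnx⟩ : ∃ fn, StarExt F p P fn ∧ ∀ (y : X) (hy : (y : Ω) ∈ Q₃)
        (h₁ : χ₃ ⟨y, (hXM y.2).2⟩ ∈ P) (h₂ : ((o * s) y : Ω) ∈ normalizerIn S Q₃),
        (fn ⟨_, h₁⟩ : Ω) = χ₃ ⟨_, h₂⟩ := by
      obtain ⟨fn, hfn, W, ψ', hψ', hPW, hWN, hcard, hag', hfx⟩ :=
        exists_transfer hPS hχ₃ hχ₃Q hψnM hQ₃M inf_le_right hψnQ hχ₃ hχ₃Q
      refine ⟨fn, hIH fn W ψ' hfn hψ' hPW hWN ?_ hag', fun y hy h₁ h₂ => ?_⟩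
      · rw [hcard]
        haveI : Finite M₃ := finite_of_le (inf_le_right.trans (normalizerIn_le Q₃))
        refine lt_of_eq_of_lt ?_ (lt_of_le_of_ne (Subgroup.card_le_of_le hXM) fun e =>
          hqX ((Subgroup.eq_of_le_of_card_ge hXM e.ge).ge hq3))
        exact (isConj_card hRX).symm
      · have h3 := hagM ⟨y, hXM y.2⟩ y.2
        refine (hfx ⟨y, hXM y.2⟩ h₁ (h3 ▸ h₂) hy).trans ?_
        exact congrArg χ₃ (Subtype.ext h3)
    have hgP : χ₃ ⟨g, hgS, hgQ⟩ ∈ normalizerIn S P := hχ₃v _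
    have key : c' * a = conjAut P _ hgP.2 * fn * c := by
      refine MulEquiv.ext fun x => Subtype.ext ?_
      have hxQ : χ ⟨x, hPM x.2⟩ ∈ Q₃ := hχP.le (apply_mem_imgSub χ _ x.2)
      have h1 := hag x (hPR x.2)
      have h2 : ψ ⟨x, hPR x.2⟩ ∈ normalizerIn S ψ.range ⊓ normalizerIn S (imgSub ψ P) :=
        h1.symm ▸ hPM' (a x).2
      have h4 : χ' ⟨a x, hPM' (a x).2⟩ =
          (s ⟨χ ⟨x, hPM x.2⟩, hQ₃X hxQ⟩ : Ω) :=
        (congrArg χ' (Subtype.ext h1.symm)).trans (hrel ⟨x, hPR x.2⟩ (hPM x.2) (hQ₃X hxQ) h2)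
      set y : X := ⟨χ ⟨x, hPM x.2⟩, hQ₃X hxQ⟩ with hy
      have hny : ((o * s) y : Ω) ∈ Q₃ := (hnA.2 y).2 hxQ
      have h5 : (s y : Ω) = g * ((o * s) y : Ω) * g⁻¹ := by
        rw [← hgo _ hny, MulAut.mul_apply, MulAut.inv_apply_self]
      have hQ₃N : Q₃ ≤ normalizerIn S Q₃ := le_normalizerIn (hQ₃X.trans hXr.1)
      have hsy : (s y : Ω) ∈ Q₃ := (hs.2 y).2 hxQ
      show (c' (a x) : Ω) = χ₃ ⟨g, hgS, hgQ⟩ * (fn (c x) : Ω) * (χ₃ ⟨g, hgS, hgQ⟩)⁻¹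
      rw [hc'x (a x) (h4.symm ▸ hQ₃N hsy)]
      have h6 : (fn (c x) : Ω) = χ₃ ⟨_, hQ₃N hny⟩ := by
        have hcP : χ₃ ⟨χ ⟨x, hPM x.2⟩, hQ₃N hxQ⟩ ∈ P := (hcx x (hQ₃N hxQ)) ▸ (c x).2
        rw [show c x = ⟨_, hcP⟩ from Subtype.ext (hcx x _)]
        exact hfnx y hxQ hcP (hQ₃N hny)
      rw [h6, ← map_inv, ← map_mul, ← map_mul]
      exact congrArg χ₃ (Subtype.ext (h4.trans h5))
    rw [show a = c'⁻¹ * (conjAut P _ hgP.2 * fn * c) by rw [← key, inv_mul_cancel_left]]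
    exact (hc'.inv hS hPS).mul hS hPS
      (((starExt_conjAut hPS hgP.1 hgP.2).mul hS hPS hfn).mul hS hPS hc)

/-- Every map between conjugates of `P`, read on `P`, extends to `P^*`. -/
theorem starExt_all [Finite S] [Fact p.Prime] (hS : IsPGroup p S) {ℋ : Set (Subgroup Ω)}
    (hconj : ∀ P ∈ ℋ, ∀ Q, F.IsConj P Q → Q ∈ ℋ)
    (hgen : ∀ E : FusionSystem S, (∀ P ∈ ℋ, F.Hom P ⊆ E.Hom P) → F ≤ E)
    {P : Subgroup Ω} (hP : P ∉ ℋ) (hPS : P ≠ S) (hPn : F.IsFullyNormalized P)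
    (habove : SatAbove F p P) {Q : Subgroup Ω} (hQ : F.IsConj P Q) {φ : Q →* Ω} (hφ : φ ∈ F.Hom Q)
    {χ : normalizerIn S Q →* Ω} (hχ : χ ∈ F.Hom (normalizerIn S Q)) (hχP : imgSub χ Q = P)
    {χ' : normalizerIn S φ.range →* Ω} (hχ' : χ' ∈ F.Hom (normalizerIn S φ.range))
    (hχ'P : imgSub χ' φ.range = P) {a : MulAut P} (ha : a ∈ F.autGroup P)
    (hax : ∀ (x : Q) (h₁ : (x : Ω) ∈ normalizerIn S Q) (h₂ : χ ⟨x, h₁⟩ ∈ P)
      (h₃ : φ x ∈ normalizerIn S φ.range), (a ⟨_, h₂⟩ : Ω) = χ' ⟨φ x, h₃⟩) :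
    StarExt F p P a := by
  have hsink := fun Q (h : F.IsConj P Q) => toSink_all hS hconj hgen hP hPS hPn habove h
  let Rel : ∀ Q : Subgroup Ω, (Q →* Ω) → Prop := fun Q φ =>
    ∀ χ ∈ F.Hom (normalizerIn S Q), imgSub χ Q = P → ∀ R, φ.range = R →
      ∀ χ' ∈ F.Hom (normalizerIn S R), imgSub χ' R = P → ∀ a ∈ F.autGroup P,
        (∀ (x : Q) (h₁ : (x : Ω) ∈ normalizerIn S Q) (h₂ : χ ⟨x, h₁⟩ ∈ P)
          (h₃ : φ x ∈ normalizerIn S R), (a ⟨_, h₂⟩ : Ω) = χ' ⟨φ x, h₃⟩) → StarExt F p P a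
  refine (class_induction hS hconj hgen hP hPS Rel ?_ ?_ ?_ hQ hφ) χ hχ hχP _ rfl χ' hχ' hχ'P
    a ha hax
  · intro A R ψ hAR hA hne hRA hψ χ hχ hχP B hB χ' hχ' hχ'P a ha hax
    obtain rfl : imgSub ψ A = B := (range_restrict ψ hAR).symm.trans hB
    obtain ⟨a', ha', W, ψ', hψ', hPW, hWN, hcard, hag', hax'⟩ :=
      exists_transfer hPn.1 hχ hχP hψ hAR hRA rfl hχ' hχ'P
    have e : a = a' := by
      refine MulEquiv.ext fun y => Subtype.ext ?_
      obtain ⟨x, hx, hxy⟩ := mem_imgSub.1 (hχP.ge y.2)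
      have h2 : χ x ∈ P := hxy ▸ y.2
      have h3 : ψ ⟨x, hAR hx⟩ ∈ normalizerIn S (imgSub ψ A) :=
        apply_mem_normalizerIn hψ _ x.2.2
      rw [show y = ⟨χ x, h2⟩ from Subtype.ext hxy.symm]
      exact (hax ⟨x, hx⟩ x.2 h2 h3).trans (hax' ⟨x, hAR hx⟩ h2 h3 hx).symm
    refine starExt_of_link hS hPn habove hsink W a ψ' ha hPW (fun e' => ?_) hWN hψ'
      (fun x h => by rw [e]; exact hag' x h)
    rw [← e', ← isConj_card hA] at hcard
    haveI := finite_of_le (src_le hψ)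
    exact hne (Subgroup.eq_of_le_of_card_ge hAR hcard.ge)
  · intro A B φ χc ψ hA hφ' hψ hr hχc h₁ h₂ χ hχ hχP C hC χ' hχ' hχ'P a ha hax
    have hB : F.IsConj P B := isConj_trans hA (hr ▸ isConj_range hφ')
    obtain ⟨χm, hχm, hχmP⟩ := hsink B hB
    subst hr
    have hψr : ψ.range = C := by
      rw [← hC]
      refine le_antisymm ?_ ?_
      · rintro _ ⟨⟨_, x, rfl⟩, rfl⟩
        exact ⟨x, hχc x ⟨x, rfl⟩⟩
      · rintro _ ⟨x, rfl⟩
        exact ⟨_, (hχc x ⟨x, rfl⟩).symm⟩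
    have hAN : A ≤ normalizerIn S A := le_normalizerIn (src_le hφ')
    have hm : imgSub φ A = φ.range := imgSub_self φ
    obtain ⟨a₁, ha₁, _, _, -, -, -, -, -, ha₁x⟩ :=
      exists_transfer hPn.1 hχ hχP hφ' le_rfl hAN hm hχm hχmP
    have hBN : φ.range ≤ normalizerIn S φ.range := le_normalizerIn (range_le hφ')
    obtain ⟨a₂, ha₂, _, _, -, -, -, -, -, ha₂x⟩ :=
      exists_transfer hPn.1 hχm hχmP hψ le_rfl hBN ((imgSub_self ψ).trans hψr) hχ' hχ'P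
    have e : a = a₂ * a₁ := by
      refine MulEquiv.ext fun y => Subtype.ext ?_
      obtain ⟨x, hx, hxy⟩ := mem_imgSub.1 (hχP.ge y.2)
      have h2 : χ x ∈ P := hxy ▸ y.2
      rw [show y = ⟨χ x, h2⟩ from Subtype.ext hxy.symm, MulAut.mul_apply]
      have hm₂ : χm ⟨φ ⟨x, hx⟩, hBN ⟨_, rfl⟩⟩ ∈ P :=
        hχmP.le (apply_mem_imgSub χm _ ⟨_, rfl⟩)
      have h4 : a₁ ⟨χ x, h2⟩ = ⟨_, hm₂⟩ :=
        Subtype.ext (ha₁x ⟨x, hx⟩ h2 (hBN ⟨_, rfl⟩) hx)
      have hCS : C ≤ S := hψr ▸ range_le hψ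
      have h3 : χc ⟨x, hx⟩ ∈ normalizerIn S C := le_normalizerIn hCS (hC.le ⟨_, rfl⟩)
      rw [h4]
      refine (hax ⟨x, hx⟩ x.2 h2 h3).trans (Eq.trans ?_
        (ha₂x ⟨φ ⟨x, hx⟩, ⟨_, rfl⟩⟩ hm₂ (hχc ⟨x, hx⟩ ⟨_, rfl⟩ ▸ h3) ⟨_, rfl⟩).symm)
      exact congrArg χ' (Subtype.ext (hχc ⟨x, hx⟩ ⟨_, rfl⟩))
    rw [e]
    exact (h₂ χm hχm hχmP C hψr χ' hχ' hχ'P a₂ ha₂
        (fun x h₁ h₂ h₃ => ha₂x x h₂ h₃ x.2)).mul hS hPn.1
      (h₁ χ hχ hχP φ.range rfl χm hχm hχmP a₁ ha₁ (fun x h₁ h₂ h₃ => ha₁x x h₂ h₃ x.2))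
  · intro A B φ ψ hA hφ' hψ hr hψx h₁ χ hχ hχP C hC χ' hχ' hχ'P a ha hax
    subst hr
    obtain rfl : A = C := by
      rw [← hC]
      refine le_antisymm (fun y hy => ⟨⟨_, ⟨y, hy⟩, rfl⟩, hψx _ _⟩) ?_
      rintro _ ⟨⟨_, x, rfl⟩, rfl⟩
      exact (congrArg (· ∈ A) (hψx x _)).mpr x.2
    have h := h₁ χ' hχ' hχ'P φ.range rfl χ hχ hχP a⁻¹ (Subgroup.inv_mem _ ha)
      (fun x h₁' h₂ h₃ => by
        have h5 : χ ⟨φ x, h₃⟩ ∈ P := hχP.le (apply_mem_imgSub χ _ ⟨x, rfl⟩)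
        have hAS : A ≤ normalizerIn S A := le_normalizerIn (src_le hφ')
        have h6 := hax ⟨φ x, x, rfl⟩ h₃ h5 ((congrArg (· ∈ normalizerIn S A) (hψx x _)).mpr (hAS x.2))
        have h7 : a ⟨_, h5⟩ = ⟨_, h₂⟩ :=
          Subtype.ext (h6.trans (congrArg χ' (Subtype.ext (hψx x _))))
        rw [← h7, MulAut.inv_apply_self])
    simpa using h.inv hS hPn.1

/-- The class of a subgroup outside `ℋ` with `P < P^*` has a fully automized receptive member. -/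
theorem exists_automized_receptive [Finite S] [Fact p.Prime] (hS : IsPGroup p S)
    {ℋ : Set (Subgroup Ω)}
    (hconj : ∀ P ∈ ℋ, ∀ Q, F.IsConj P Q → Q ∈ ℋ)
    (hgen : ∀ E : FusionSystem S, (∀ P ∈ ℋ, F.Hom P ⊆ E.Hom P) → F ≤ E)
    {P₀ : Subgroup Ω} (hP₀ : P₀ ≤ S) (hP₀H : P₀ ∉ ℋ) (habove₀ : SatAbove F p P₀)
    (hstar : ∃ Q g, F.IsConj P₀ Q ∧ g ∈ starSub F p Q ∧ g ∉ Q) :
    ∃ X, F.IsConj P₀ X ∧ F.IsFullyAutomized p X ∧ F.IsReceptive X := by
  obtain ⟨Q₀, g, hQ₀, hg, hgQ⟩ := hstar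
  obtain ⟨P₁, hP₀₁, hP₁n⟩ := exists_isFullyNormalized_conj F hP₀
  have habove : ∀ {Q}, F.IsConj P₀ Q → SatAbove F p Q := fun {Q} h R hR hc =>
    habove₀ R hR (isConj_card h ▸ hc)
  have hout : ∀ {Q}, F.IsConj P₀ Q → Q ∉ ℋ ∧ Q ≠ S := fun {Q} h =>
    ⟨fun hQ => hP₀H (hconj Q hQ P₀ (isConj_symm h)), fun e => hgQ (by
      haveI := finite_of_le (isConj_le_left (isConj_symm hQ₀))
      have : Q₀ = S := Subgroup.eq_of_le_of_card_ge (isConj_le_left (isConj_symm hQ₀))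
        (by rw [isConj_card hQ₀, ← isConj_card h, e])
      rw [this]
      exact (mem_starSub.1 hg).1)⟩
  -- `P₁` is properly contained in `P₁^*`
  have hsinkP₁ : ∀ Q, F.IsConj P₁ Q → ToSink F P₁ Q := fun Q h =>
    toSink_all hS hconj hgen (hout hP₀₁).1 (hout hP₀₁).2 hP₁n (habove hP₀₁) h
  haveI : Finite (starSub F p P₁) := finite_of_le inf_le_left
  have hlt : Nat.card P₁ < Nat.card (starSub F p P₁) := by
    refine lt_of_le_of_ne (Subgroup.card_le_of_le (le_starSub hS hP₁n.1)) fun e => ?_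
    have heq := Subgroup.eq_of_le_of_card_ge (le_starSub hS hP₁n.1 (F := F)) e.ge
    obtain ⟨χ, hχ, hχQ⟩ := hsinkP₁ Q₀ (isConj_trans (isConj_symm hP₀₁) hQ₀)
    have h := apply_mem_starSub hχ (le_normalizerIn (isConj_le_right hQ₀))
      ⟨g, starSub_le_normalizerIn Q₀ hg⟩ hg
    rw [hχQ, ← heq, ← hχQ, apply_mem_imgSub_iff (F.injective_of_mem hχ)] at h
    exact hgQ h
  obtain ⟨X, hX, hXa, hXr⟩ := habove hP₀₁ (starSub F p P₁) inf_le_left hlt
  haveI := finite_mulAut hXr.1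
  haveI := finite_of_le hXr.1
  have hstarN : starSub F p P₁ ≤ normalizerIn S P₁ := starSub_le_normalizerIn P₁
  obtain ⟨P, hPX, hP₁P, hsyl, -, -, χ, hχ, -, -, hχP, hχR, -, -⟩ :=
    exists_link_data hS hX hXa hXr (le_starSub hS hP₁n.1) hstarN (subtype_mem inf_le_left)
  have hMle : normalizerIn S P₁ ≤ normalizerIn S (starSub F p P₁) ⊓ normalizerIn S P₁ :=
    fun x hx => ⟨⟨hx.1, normalizerIn_le_normalizer_starSub P₁ hP₁n.1 hx⟩, hx⟩
  have hP₀P : F.IsConj P₀ P := isConj_trans hP₀₁ hP₁P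
  have hPS := isConj_le_right hP₁P
  set χ₁ := χ.comp (Subgroup.inclusion hMle) with hχ₁
  have hχ₁m : χ₁ ∈ F.Hom (normalizerIn S P₁) := restrict_mem hχ hMle
  have hχ₁P : imgSub χ₁ P₁ = P := by
    rw [← hχP]
    exact imgSub_of_agree (φ := χ.comp (Subgroup.inclusion
      ((le_normalizerIn hP₁n.1).trans hMle))) (le_normalizerIn hP₁n.1) (fun x _ _ => rfl)
      |>.trans (range_restrict χ _)
  have hPn : F.IsFullyNormalized P := by
    refine ⟨hPS, fun Q hQ => (hP₁n.2 Q (isConj_trans hP₁P hQ)).trans ?_⟩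
    haveI := finite_normalizerIn (S := S) P
    refine Nat.card_le_card_of_injective (fun x => (⟨χ₁ x, ?_⟩ : normalizerIn S P))
      fun a b hab => F.injective_of_mem hχ₁m (congrArg Subtype.val hab)
    have h := apply_mem_normalizerIn hχ₁m x x.2.2 (P := P₁)
    rwa [hχ₁P] at h
  have hXle : X ≤ starSub F p P := by
    intro y hy
    obtain ⟨x, hx, rfl⟩ := mem_imgSub.1 (hχR.ge hy)
    rw [← hχP]
    exact apply_mem_starSub hχ ((le_normalizerIn hP₁n.1).trans hMle) x hx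
  have hXeq : X = starSub F p P := by
    obtain ⟨ν, hν, hνP⟩ := hsinkP₁ P hP₁P
    haveI : Finite (starSub F p P) := finite_of_le inf_le_left
    refine Subgroup.eq_of_le_of_card_ge hXle ?_
    rw [← card_imgSub (F.injective_of_mem hν) (starSub_le_normalizerIn P (F := F) (p := p)),
      isConj_card hX]
    refine Subgroup.card_le_of_le ?_
    intro y hy
    obtain ⟨x, hx, rfl⟩ := mem_imgSub.1 hy
    rw [← hνP]
    exact apply_mem_starSub hν (le_normalizerIn hPS) x hx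
  subst hXeq
  set X := starSub F p P with hXdef
  have hPX' : P ≤ X := hPX
  -- every automorphism of `P` extends to `X`
  have hincl : imgSub (normalizerIn S P).subtype P = P := by
    rw [← range_restrict _ (le_normalizerIn hPS)]
    exact le_antisymm (by rintro _ ⟨x, rfl⟩; exact x.2) fun x hx => ⟨⟨x, hx⟩, rfl⟩
  have hext : ∀ a : MulAut P, StarExt F p P a → ∃ α ∈ F.autGroup X ⊓ stabSub X P,
      ∀ (x : P), (α ⟨x, hPX' x.2⟩ : Ω) = (a x : Ω) := by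
    rintro a ⟨-, ψ, hψ, hψa⟩
    have himg := StarExt.imgSub_eq hS hPS hψa
    obtain ⟨α, hα, hαx⟩ := exists_aut_of_hom hψ fun y => by
      have h := apply_mem_starSub hψ (le_starSub hS hPS) y y.2
      rwa [himg] at h
    refine ⟨α, ⟨hα, fun x => ?_⟩, fun x => (hαx _).trans (hψa x _)⟩
    have h := apply_mem_imgSub_iff (R := P) (F.injective_of_mem hψ) x
    rwa [himg, ← hαx] at h
  have hall : ∀ (Q : Subgroup Ω) (φ : Q →* Ω) (hφ : φ ∈ F.Hom Q) (hr : φ.range = P)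
      (χ : normalizerIn S Q →* Ω), χ ∈ F.Hom (normalizerIn S Q) → imgSub χ Q = P →
      ∃ α ∈ F.autGroup X ⊓ stabSub X P, ∀ (x : Q) (h₁ : (x : Ω) ∈ normalizerIn S Q)
        (h₂ : χ ⟨x, h₁⟩ ∈ X), (α ⟨_, h₂⟩ : Ω) = φ x := by
    intro Q φ hφ hr χ hχ hχP
    have hQ : F.IsConj P Q := isConj_symm ⟨φ, hφ, hr⟩
    have hQN : Q ≤ normalizerIn S Q := le_normalizerIn (src_le hφ)
    haveI := finite_of_le hPS
    obtain ⟨τ, hτ, hτr, hτx, hτy⟩ := exists_inverse (restrict_mem hχ hQN)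
      ((range_restrict χ hQN).trans hχP)
    obtain ⟨σ, hσ, hσx⟩ := exists_comp hτ hφ fun y => hτr.le ⟨y, rfl⟩
    obtain ⟨a, ha, hax⟩ := exists_aut_of_hom hσ fun y => by
      rw [hσx]
      exact hr.le ⟨_, rfl⟩
    have hax' : ∀ (x : Q) (h₁ : (x : Ω) ∈ normalizerIn S Q) (h₂ : χ ⟨x, h₁⟩ ∈ P),
        (a ⟨_, h₂⟩ : Ω) = φ x := by
      intro x h₁ h₂
      rw [hax, hσx]
      exact congrArg φ (Subtype.ext (hτx x h₂))
    have hstar : StarExt F p P a := by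
      subst hr
      exact starExt_all hS hconj hgen (hout hP₀P).1 (hout hP₀P).2 hPn (habove hP₀P) hQ hφ hχ
        hχP (subtype_mem (normalizerIn_le _)) hincl ha (fun x h₁ h₂ h₃ => hax' x h₁ h₂)
    obtain ⟨α, hα, hαx⟩ := hext a hstar
    refine ⟨α, hα, fun x h₁ h₂ => ?_⟩
    have h3 : χ ⟨x, h₁⟩ ∈ P := hχP.le (apply_mem_imgSub χ _ x.2)
    exact (hαx ⟨_, h3⟩).trans (hax' x h₁ h3)
  -- the induced automorphisms of `P` come from `X`
  haveI := finite_mulAut hPS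
  have hNX : ∀ g ∈ normalizerIn S P, g ∈ Subgroup.normalizer (X : Set Ω) :=
    normalizerIn_le_normalizer_starSub P hPS
  set st := stabSub X P with hst
  have hsurj : ((F.autGroup X ⊓ st).subgroupOf st).map (resAut hPX') = F.autGroup P := by
    refine le_antisymm ?_ fun a ha => ?_
    · rintro _ ⟨k, hk, rfl⟩
      exact resAut_mem hPX' hXr.1 k hk.1
    · obtain ⟨α, hα, hαx⟩ := hall P (autHom a) (autGroup_hom_mem hPS ha) (range_autHom a) _
        (subtype_mem (normalizerIn_le P)) hincl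
      exact ⟨⟨α, hα.2⟩, hα, MulEquiv.ext fun x =>
        Subtype.ext (hαx x (le_normalizerIn hPS x.2) (hPX' x.2))⟩
  set AS := autInducedBy S X ⊓ st with hAS
  have himgAS : (AS.subgroupOf st).map (resAut hPX') = autInducedBy S P := by
    refine le_antisymm ?_ fun a ha => ?_
    · rintro _ ⟨k, hk, rfl⟩
      obtain ⟨g, hgS, hgx⟩ := mem_autInducedBy.1 hk.1
      exact mem_autInducedBy.2 ⟨g, hgS, fun x => hgx ⟨x, hPX' x.2⟩⟩
    · obtain ⟨g, hgN, hgS, rfl⟩ := mem_autInducedBy_normalizer.1 ha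
      exact ⟨⟨conjAut X g (hNX g ⟨hgS, hgN⟩), fun x => (Subgroup.mem_normalizer_iff.1 hgN x).symm⟩,
        ⟨mem_autInducedBy.2 ⟨g, hgS, fun _ => rfl⟩,
          fun x => (Subgroup.mem_normalizer_iff.1 hgN x).symm⟩,
        MulEquiv.ext fun x => Subtype.ext rfl⟩
  have hsylP : IsSylowIn p (autInducedBy S P) (F.autGroup P) := by
    rw [← hsurj, ← himgAS]
    refine IsSylowIn.map (H := AS.subgroupOf st) (K := (F.autGroup X ⊓ st).subgroupOf st)
      ⟨fun x hx => hsyl.1 hx, hsyl.2.1.comap_subtype, ?_⟩ _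
    rw [Subgroup.relIndex_subgroupOf inf_le_right]
    exact hsyl.2.2
  refine ⟨P, hP₀P, isFullyAutomized_iff.2 ⟨hPS, hsylP⟩, hPS, fun Q φ hφ hr => ?_⟩
  obtain ⟨χQ, hχQ, hχQP⟩ := toSink_all hS hconj hgen (hout hP₀P).1 (hout hP₀P).2 hPn (habove hP₀P)
    (isConj_symm ⟨φ, hφ, hr⟩)
  obtain ⟨α, hα, hαx⟩ := hall Q φ hφ hr χQ hχQ hχQP
  have hextN : extender S Q φ ≤ normalizerIn S Q := extender_le_normalizerIn Q φ
  set χN := χQ.comp (Subgroup.inclusion hextN) with hχN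
  have hχNm := restrict_mem hχQ hextN
  have hgN : ∀ g : extender S Q φ, χN g ∈ normalizerIn S P := fun g => by
    have h := apply_mem_normalizerIn hχQ (Subgroup.inclusion hextN g) (hextN g.2).2 (P := Q)
    rwa [hχQP] at h
  -- the transported action of `N_φ`
  set B : Subgroup (MulAut X) := F.autGroup X ⊓
    ((autInducedBy S P).comap (resAut hPX')).map st.subtype with hB
  have hBle : B ≤ F.autGroup X ⊓ st := inf_le_inf_left _ (Subgroup.map_subtype_le _)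
  have hASB : AS ≤ B := fun k hk => ⟨(hsyl.1 hk).1, ⟨k, hk.2⟩,
    himgAS.le ⟨⟨k, hk.2⟩, hk, rfl⟩, rfl⟩
  let f : extender S Q φ →* MulAut X :=
    ((MulAut.conj α).toMonoidHom.comp (Subgroup.normalizerMonoidHom X)).comp
      (χN.codRestrict (Subgroup.normalizer (X : Set Ω)) fun g => hNX _ (hgN g))
  have hfval : ∀ g, f g = α * conjAut X (χN g) (hNX _ (hgN g)) * α⁻¹ := fun g => rfl
  have hLB : f.range ≤ B := by
    rintro _ ⟨g, rfl⟩
    rw [hfval]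
    have hcs : conjAut X (χN g) (hNX _ (hgN g)) ∈ st :=
      fun x => (Subgroup.mem_normalizer_iff.1 (hgN g).2 x).symm
    have hmem : α * conjAut X (χN g) (hNX _ (hgN g)) * α⁻¹ ∈ F.autGroup X ⊓ st :=
      Subgroup.mul_mem _ (Subgroup.mul_mem _ hα ⟨autInducedBy_le_autGroup hXr.1
        (mem_autInducedBy.2 ⟨_, (hgN g).1, fun _ => rfl⟩), hcs⟩) (Subgroup.inv_mem _ hα)
    refine ⟨hmem.1, ⟨_, hmem.2⟩, ?_, rfl⟩
    obtain ⟨-, hgn, t, htS, ht⟩ := mem_extender.1 g.2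
    refine mem_autInducedBy.2 ⟨t, htS, fun y => ?_⟩
    obtain ⟨x, hx⟩ := hr.ge y.2
    have hgx : (g : Ω) * x * (g : Ω)⁻¹ ∈ Q := (Subgroup.mem_normalizer_iff.1 hgn x).1 x.2
    have hQN : Q ≤ normalizerIn S Q := le_normalizerIn (src_le hφ)
    have hχX : ∀ z : Q, χQ ⟨z, hQN z.2⟩ ∈ X := fun z =>
      hPX' (hχQP.le (apply_mem_imgSub χQ _ z.2))
    have h1 : (⟨y, hPX' y.2⟩ : X) = α ⟨_, hχX x⟩ :=
      Subtype.ext (hx.symm.trans (hαx x (hQN x.2) (hχX x)).symm)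
    show ((α * conjAut X (χN g) (hNX _ (hgN g)) * α⁻¹ : MulAut X) ⟨y, hPX' y.2⟩ : Ω) = _
    rw [h1, MulAut.mul_apply, MulAut.mul_apply, MulAut.inv_apply_self, ← hx, ← ht x hgx]
    refine Eq.trans (congrArg (fun z : X => (α z : Ω)) (Subtype.ext ?_))
      (hαx ⟨_, hgx⟩ (hQN hgx) (hχX ⟨_, hgx⟩))
    show χQ (Subgroup.inclusion hextN g) * χQ ⟨x, hQN x.2⟩ *
      (χQ (Subgroup.inclusion hextN g))⁻¹ = _
    rw [← map_inv, ← map_mul, ← map_mul]
    rfl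
  have hp : IsPGroup p f.range :=
    MonoidHom.range_eq_map f ▸ ((hS.to_le (hextN.trans (normalizerIn_le Q))).to_subgroup ⊤).map f
  obtain ⟨k, hk, hle⟩ := (hsyl.of_le hASB hBle).exists_conj_le hp hLB
  obtain ⟨k', hk', hkk⟩ := hk.2
  obtain ⟨a₀, ha₀, hka⟩ := himgAS.ge hk'
  set c := (a₀ : MulAut X)⁻¹ * k * α with hc
  have hcA : c ∈ F.autGroup X :=
    Subgroup.mul_mem _ (Subgroup.mul_mem _ (Subgroup.inv_mem _ (hsyl.1 ha₀).1) hk.1) hα.1
  obtain ⟨ψ, hψ, hag⟩ := hXr.2 X (autHom c) (autGroup_hom_mem hXr.1 hcA) (range_autHom c)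
  have hmemN : ∀ g, χN g ∈ extender S X (autHom c) := by
    intro g
    refine mem_extender_of_conj_mem (hgN g).1 (hNX _ (hgN g)) ?_
    have h1 := hle ⟨_, ⟨g, rfl⟩, rfl⟩
    have h2 : (a₀ : MulAut X)⁻¹ * (k * f g * k⁻¹) * a₀ ∈ AS :=
      Subgroup.mul_mem _ (Subgroup.mul_mem _ (Subgroup.inv_mem _ ha₀) h1) ha₀
    have e : c * conjAut X (χN g) (hNX _ (hgN g)) * c⁻¹ =
        (a₀ : MulAut X)⁻¹ * (k * f g * k⁻¹) * a₀ := by
      rw [hc, hfval]
      simp only [mul_inv_rev, inv_inv, mul_assoc]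
    rw [e]
    exact h2.1
  obtain ⟨μ, hμ, hμx⟩ := exists_comp hχNm hψ hmemN
  refine ⟨μ, hμ, fun x hx hN => ?_⟩
  rw [hμx]
  have hQN : Q ≤ normalizerIn S Q := le_normalizerIn (src_le hφ)
  have hP' : χQ ⟨x, hQN hx⟩ ∈ P := hχQP.le (apply_mem_imgSub χQ _ hx)
  refine (hag (χQ ⟨x, hQN hx⟩) (hPX' hP') _).trans ?_
  have hφP : φ ⟨x, hx⟩ ∈ P := hr.le ⟨_, rfl⟩
  have h3 : α ⟨_, hPX' hP'⟩ = ⟨_, hPX' hφP⟩ := Subtype.ext (hαx ⟨x, hx⟩ (hQN hx) (hPX' hP'))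
  show (c ⟨_, hPX' hP'⟩ : Ω) = _
  rw [hc, MulAut.mul_apply, h3, MulAut.mul_apply]
  have h4 : k ⟨_, hPX' hφP⟩ = (a₀ : MulAut X) ⟨_, hPX' hφP⟩ := by
    refine Subtype.ext ?_
    rw [← hkk]
    exact congrArg (fun t : MulAut P => (t ⟨_, hφP⟩ : Ω)) hka.symm
  rw [h4, MulAut.inv_apply_self]

/-- **Saturation criterion.** A system generated by the maps on a conjugation invariant family,
saturated on it, such that every centric class outside has a member `Q` with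
`Aut_S(Q) ∩ O_p(Aut_F(Q))` not inner, is saturated. -/
theorem isSaturated_of_generated [Finite S] [Fact p.Prime] (hS : IsPGroup p S)
    {ℋ : Set (Subgroup Ω)} (hconj : ∀ P ∈ ℋ, ∀ Q, F.IsConj P Q → Q ∈ ℋ)
    (hsat : ∀ P ∈ ℋ, ∃ Q, F.IsConj P Q ∧ F.IsFullyAutomized p Q ∧ F.IsReceptive Q)
    (hgen : ∀ E : FusionSystem S, (∀ P ∈ ℋ, F.Hom P ⊆ E.Hom P) → F ≤ E)
    (hstar : ∀ P : Subgroup Ω, F.IsCentric P → P ∉ ℋ → ∃ Q, F.IsConj P Q ∧
      ¬ (autInducedBy S Q ⊓ (pCore p (F.autGroup Q)).map (F.autGroup Q).subtype ≤ Inn Q)) :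
    F.IsSaturated p := by
  suffices key : ∀ n (P : Subgroup Ω), Nat.card S - Nat.card P ≤ n → P ≤ S →
      ∃ Q, F.IsConj P Q ∧ F.IsFullyAutomized p Q ∧ F.IsReceptive Q from
    fun P hP => key _ P le_rfl hP
  intro n
  induction n using Nat.strong_induction_on with
  | _ n ih =>
    intro P hn hP
    by_cases hPH : P ∈ ℋ
    · exact hsat P hPH
    refine exists_automized_receptive hS hconj hgen hP hPH (fun R hR hc => ?_) ?_
    · have := Subgroup.card_le_of_le hR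
      exact ih _ (by omega) R le_rfl hR
    by_cases hc : F.IsCentric P
    · obtain ⟨Q, hQ, hni⟩ := hstar P hc hPH
      obtain ⟨a, ⟨ha₁, ha₂⟩, ha⟩ := SetLike.not_le_iff_exists.1 hni
      obtain ⟨g, hgN, hgS, rfl⟩ := mem_autInducedBy_normalizer.1 ha₁
      exact ⟨Q, g, hQ, mem_starSub.2 ⟨hgS, hgN, ha₂⟩,
        fun h => ha ⟨⟨g, h⟩, MulEquiv.ext fun _ => rfl⟩⟩
    · obtain ⟨Q, hQ⟩ := not_forall.1 fun h => hc ⟨hP, h⟩
      obtain ⟨hQc, hQn⟩ := Classical.not_imp.1 hQ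
      obtain ⟨g, hg, hgQ⟩ := SetLike.not_le_iff_exists.1 hQn
      refine ⟨Q, g, hQc, mem_starSub.2 ⟨hg.1, mem_normalizer_of_mem_centralizer hg.2, ?_⟩, hgQ⟩
      have e : conjAut Q g (mem_normalizer_of_mem_centralizer hg.2) = 1 := by
        refine MulEquiv.ext fun x => Subtype.ext ?_
        show g * (x : Ω) * g⁻¹ = x
        rw [← hg.2 x x.2, mul_inv_cancel_right]
      rw [e]
      exact Subgroup.one_mem _

end Cfsg.Agent.Lib.Fusion
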