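/-
The `p'`-residual subsystem of a saturated fusion system.
-/
import Cfsg.Agent.Lib.Fusion.PrimeIndex
import Cfsg.Agent.Lib.Fusion.SatCriterion
import Cfsg.Agent.Lib.Fusion87.Centric
import Cfsg.Prelude.Def_FusionComponents

set_option autoImplicit false

namespace Cfsg.Agent.Lib.Fusion

open Cfsg Cfsg.FusionSystem

universe u

variable {Ω : Type u} [Group Ω] {S : Subgroup Ω} {F D : FusionSystem S} {p : ℕ}

theorem hasPAut_of_hasPrimeToPIndexIn [Fact p.Prime] (hD : D.HasPrimeToPIndexIn F p) :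
    HasPAut D F p := by
  intro P hP α hα ⟨k, hk⟩
  refine (mem_autGroup hP.1).1 (hD.2 P hP.1 ⟨⟨α, hα⟩, Subgroup.subset_closure ?_, rfl⟩)
  obtain ⟨i, -, hi⟩ := (Nat.dvd_prime_pow (Fact.out : p.Prime)).1
    (orderOf_dvd_of_pow_eq_one (x := (⟨α, hα⟩ : F.autGroup P)) (Subtype.ext hk))
  exact ⟨i, hi⟩

theorem hasPrimeToPIndexIn_of_hasPAut [Fact p.Prime] [Finite S] (hS : IsPGroup p S)
    (hF : F.IsSaturated p) (hDF : D.IsSubsystemOf F) (hD : HasPAut D F p) :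
    D.HasPrimeToPIndexIn F p := by
  refine ⟨hDF, fun P hP => ?_⟩
  rw [Subgroup.map_le_iff_le_comap, Subgroup.closure_le]
  rintro α ⟨k, hk⟩
  exact (mem_autGroup hP).2 (autHom_mem_of_hasPAut hS hF hD hP α.2
    ⟨k, congrArg Subtype.val (hk ▸ pow_orderOf_eq_one α : α ^ p ^ k = 1)⟩)

theorem isCentric_of_hasPAut [Fact p.Prime] [Finite S] (hS : IsPGroup p S) (hF : F.IsSaturated p)
    (hD : HasPAut D F p) {P : Subgroup Ω} (hP : D.IsCentric P) : F.IsCentric P := by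
  obtain ⟨hP, hc⟩ := hP
  refine ⟨hP, fun Q hQ => ?_⟩
  obtain ⟨φ, hφ, rfl⟩ := hQ
  obtain ⟨a, -, φ₀, hφ₀, hx⟩ := exists_decomp hS hF hD hφ
  intro y hy
  obtain ⟨w, hw⟩ : ∃ w : S, a w = ⟨y, hy.1⟩ := ⟨a.symm ⟨y, hy.1⟩, a.apply_symm_apply _⟩
  have hwc : (w : Ω) ∈ centralizerIn S φ₀.range := by
    refine ⟨w.2, ?_⟩
    rintro _ ⟨x, rfl⟩
    have h1 := hy.2 (φ x) ⟨x, rfl⟩
    have h2 : a ⟨φ₀ x, val_mem hφ₀ x⟩ * a w = a w * a ⟨φ₀ x, val_mem hφ₀ x⟩ := by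
      rw [hw]
      refine Subtype.ext ?_
      rw [Subgroup.coe_mul, Subgroup.coe_mul, ← hx x (val_mem hφ₀ x)]
      exact h1
    rw [← map_mul, ← map_mul] at h2
    exact congrArg Subtype.val (a.injective h2)
  obtain ⟨x, hxw⟩ := hc _ (isConj_range hφ₀) hwc
  refine ⟨x, ?_⟩
  rw [hx x (val_mem hφ₀ x), show (⟨φ₀ x, val_mem hφ₀ x⟩ : S) = w from Subtype.ext hxw, hw]

/-- The automorphisms of `S` generated by those agreeing on a centric subgroup with a map of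
`pAutSystem`. -/
def centricAutS (F : FusionSystem S) (p : ℕ) : Subgroup (MulAut S) :=
  Subgroup.closure {a | a ∈ F.autGroup S ∧ ∃ (P : Subgroup Ω) (ψ : P →* Ω),
    F.IsCentric P ∧ ψ ∈ (pAutSystem F p).Hom P ∧ ∀ (x : P) (h : (x : Ω) ∈ S), ψ x = (a ⟨x, h⟩ : Ω)}

theorem centricAutS_le (F : FusionSystem S) (p : ℕ) : centricAutS F p ≤ F.autGroup S :=
  (Subgroup.closure_le _).2 fun _ h => h.1

/-- The maps that are an element of `A` composed with a map of `pAutSystem`. -/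
def primeIndexSystem (F : FusionSystem S) (p : ℕ) (A : Subgroup (MulAut S))
    (hA : A ≤ F.autGroup S) : FusionSystem S where
  Hom P := {φ | φ ∈ F.Hom P ∧ ∃ a ∈ A, ∃ φ₀ ∈ (pAutSystem F p).Hom P,
    ∀ (x : P) (hx : φ₀ x ∈ S), φ x = (a ⟨φ₀ x, hx⟩ : Ω)}
  le_of_mem h := F.le_of_mem h.1
  injective_of_mem h := F.injective_of_mem h.1
  conj_mem hP hg := ⟨F.conj_mem hP hg, 1, Subgroup.one_mem _, _,
    (pAutSystem F p).conj_mem hP hg, fun _ _ => rfl⟩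
  comp_mem := by
    rintro P Q φ ψ ⟨hφ, a, ha, φ₀, hφ₀, hx⟩ ⟨hψ, b, hb, ψ₀, hψ₀, hy⟩ h
    refine ⟨F.comp_mem hφ hψ h, b * a, Subgroup.mul_mem _ hb ha, ?_⟩
    have hψS := src_le hψ₀
    obtain ⟨χ, hχ, hχx⟩ := exists_act_pAutSystem (Subgroup.inv_mem _ (hA ha)) hψ₀
    have hval : ∀ x : P, φ₀ x ∈ imgSub (autHom a⁻¹) Q := by
      intro x
      have e : (a⁻¹ ⟨φ x, hψS (h x)⟩ : Ω) = φ₀ x := by
        have e1 : (⟨φ x, hψS (h x)⟩ : S) = a ⟨φ₀ x, val_mem hφ₀ x⟩ :=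
          Subtype.ext (hx x (val_mem hφ₀ x))
        rw [e1, MulAut.inv_apply_self]
      exact e ▸ imgSub_act_mem hψS ⟨φ x, h x⟩
    obtain ⟨θ, hθ, hθx⟩ := exists_comp hφ₀ hχ hval
    refine ⟨θ, hθ, fun x hxS => ?_⟩
    have e1 : (⟨φ₀ x, hval x⟩ : imgSub (autHom a⁻¹) Q) =
        ⟨_, imgSub_act_mem hψS ⟨φ x, h x⟩⟩ := by
      refine Subtype.ext ?_
      have e2 : (⟨φ x, hψS (h x)⟩ : S) = a ⟨φ₀ x, val_mem hφ₀ x⟩ :=
        Subtype.ext (hx x (val_mem hφ₀ x))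
      show φ₀ x = (a⁻¹ (⟨φ x, hψS (h x)⟩ : S) : Ω)
      rw [e2, MulAut.inv_apply_self]
    have e3 : θ x = (a⁻¹ ⟨ψ₀ ⟨φ x, h x⟩, val_mem hψ₀ _⟩ : Ω) := by
      rw [hθx, e1, hχx]
    show ψ ⟨φ x, h x⟩ = (b (a ⟨θ x, hxS⟩) : Ω)
    rw [hy _ (val_mem hψ₀ _)]
    refine congrArg (fun z : S => (b z : Ω)) ?_
    rw [show (⟨θ x, hxS⟩ : S) = a⁻¹ ⟨ψ₀ ⟨φ x, h x⟩, val_mem hψ₀ _⟩ from Subtype.ext e3,
      MulAut.apply_inv_self]
  inv_mem := by
    rintro P φ ⟨hφ, a, ha, φ₀, hφ₀, hx⟩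
    obtain ⟨χ, hχ, hχx⟩ := exists_act_pAutSystem (hA ha) (rangeInv_mem hφ₀)
    have hle : φ.range ≤ imgSub (autHom a) φ₀.range := by
      rintro _ ⟨x, rfl⟩
      rw [hx x (val_mem hφ₀ x)]
      exact imgSub_act_mem (range_le hφ₀) ⟨φ₀ x, x, rfl⟩
    refine ⟨_, ⟨rangeInv_mem hφ, a⁻¹, Subgroup.inv_mem _ ha, _, restrict_mem hχ hle, ?_⟩,
      fun x => rangeInv_apply _ _ x _⟩
    rintro ⟨_, x, rfl⟩ hxS
    refine (rangeInv_apply φ _ x _).trans ?_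
    have e1 : (Subgroup.inclusion hle ⟨φ x, x, rfl⟩) =
        ⟨_, imgSub_act_mem (range_le hφ₀) ⟨φ₀ x, x, rfl⟩⟩ :=
      Subtype.ext (hx x (val_mem hφ₀ x))
    have e2 : χ (Subgroup.inclusion hle ⟨φ x, x, rfl⟩) = (a ⟨x, src_le hφ x.2⟩ : Ω) := by
      rw [e1, hχx]
      exact congrArg (fun z : S => (a z : Ω)) (Subtype.ext (rangeInv_apply φ₀ _ x _))
    have e3 : (⟨_, hxS⟩ : S) = a ⟨x, src_le hφ x.2⟩ := Subtype.ext e2
    show (x : Ω) = _
    rw [e3, MulAut.inv_apply_self]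

/-- The `p'`-residual subsystem. -/
def pPrimeResidualSystem (F : FusionSystem S) (p : ℕ) : FusionSystem S :=
  primeIndexSystem F p (centricAutS F p) (centricAutS_le F p)

theorem pAutSystem_le_pPrimeResidualSystem (F : FusionSystem S) (p : ℕ) :
    pAutSystem F p ≤ pPrimeResidualSystem F p :=
  fun _ φ hφ => ⟨hφ.1, 1, Subgroup.one_mem _, φ, hφ, fun _ _ => rfl⟩

theorem hasPAut_pPrimeResidualSystem (F : FusionSystem S) (p : ℕ) :
    HasPAut (pPrimeResidualSystem F p) F p :=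
  fun P hP α hα hk =>
    pAutSystem_le_pPrimeResidualSystem F p P (hasPAut_pAutSystem F p P hP α hα hk)

theorem centricAutS_le_pPrimeResidualSystem (F : FusionSystem S) (p : ℕ) {a : MulAut S}
    (ha : a ∈ centricAutS F p) : autHom a ∈ (pPrimeResidualSystem F p).Hom S :=
  ⟨autGroup_hom_mem le_rfl (centricAutS_le F p ha), a, ha, _, subtype_mem le_rfl, fun _ _ => rfl⟩

theorem isSaturated_pPrimeResidualSystem [Fact p.Prime] [Finite S] (hS : IsPGroup p S)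
    (hF : F.IsSaturated p) : (pPrimeResidualSystem F p).IsSaturated p := by
  set E := pPrimeResidualSystem F p with hE
  have hEF : ∀ {P : Subgroup Ω} {φ : P →* Ω}, φ ∈ E.Hom P → φ ∈ F.Hom P := fun h => h.1
  have hconjF : ∀ {P Q : Subgroup Ω}, E.IsConj P Q → F.IsConj P Q :=
    fun ⟨φ, hφ, hr⟩ => ⟨φ, hEF hφ, hr⟩
  have hpaut := hasPAut_pPrimeResidualSystem F p
  refine isSaturated_of_generated (F := E) hS (ℋ := {P | F.IsCentric P})
    (fun P hP Q hQ => isCentric_of_isConj hP (hconjF hQ)) (fun P hP => ?_) (fun G hG => ?_)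
    (fun P hP hPH => absurd (isCentric_of_hasPAut hS hF hpaut hP) hPH)
  · obtain ⟨Q, hPQ, hQ⟩ := exists_isFullyNormalized_conj E hP.1
    have hQc : F.IsCentric Q := isCentric_of_isConj hP (hconjF hPQ)
    have hQF : F.IsFullyNormalized Q := by
      refine ⟨hQ.1, ?_⟩
      rintro R ⟨φ, hφ, rfl⟩
      obtain ⟨a, ha, φ₀, hφ₀, hx⟩ := exists_decomp hS hF (hasPAut_pAutSystem F p) hφ
      have h₀ : E.IsConj Q φ₀.range :=
        ⟨φ₀, pAutSystem_le_pPrimeResidualSystem F p Q hφ₀, rfl⟩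
      refine le_trans ?_ (hQ.2 _ h₀)
      have ha' := autGroup_hom_mem le_rfl (Subgroup.inv_mem _ ha)
      have hNS : normalizerIn S φ.range ≤ S := normalizerIn_le _
      have hres := restrict_mem ha' hNS
      have himg : imgSub ((autHom a⁻¹).comp (Subgroup.inclusion hNS)) φ.range = φ₀.range := by
        have hval : ∀ x : Q, (a⁻¹ ⟨φ x, val_mem hφ x⟩ : Ω) = φ₀ x := fun x => by
          rw [show (⟨φ x, val_mem hφ x⟩ : S) = a ⟨φ₀ x, val_mem hφ₀ x⟩ from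
            Subtype.ext (hx x _), MulAut.inv_apply_self]
        ext y
        rw [mem_imgSub]
        constructor
        · rintro ⟨z, hz, rfl⟩
          obtain ⟨x, hxz⟩ := hz
          refine ⟨x, (hval x).symm.trans ?_⟩
          exact congrArg (fun w : S => (a⁻¹ w : Ω)) (Subtype.ext hxz)
        · rintro ⟨x, rfl⟩
          exact ⟨⟨φ x, le_normalizerIn (range_le hφ) ⟨x, rfl⟩⟩, ⟨x, rfl⟩, hval x⟩
      haveI := finite_normalizerIn (S := S) φ₀.range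
      refine Nat.card_le_card_of_injective (fun z =>
        (⟨((autHom a⁻¹).comp (Subgroup.inclusion hNS)) z, ?_⟩ : normalizerIn S φ₀.range))
        fun u v huv => F.injective_of_mem hres
          (congrArg (fun w : normalizerIn S φ₀.range => (w : Ω)) huv)
      have h := apply_mem_normalizerIn hres z z.2.2 (P := φ.range)
      rwa [himg] at h
    obtain ⟨-, hsyl⟩ := isFullyAutomized_iff.1 (isFullyAutomized_of_isFullyNormalized hS hF hQF)
    refine ⟨Q, hPQ, isFullyAutomized_iff.2 ⟨hQ.1, hsyl.of_le (autInducedBy_le_autGroup hQ.1)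
      ((Subgroup.closure_le _).2 fun α hα => Subgroup.subset_closure (hEF hα))⟩,
      hQ.1, fun R φ hφ hr => ?_⟩
    obtain ⟨ψ, hψ, hag⟩ := (isReceptive_of_isFullyNormalized hS hF hQF).2 R φ hφ.1 hr
    obtain ⟨c, hc, ψ₀, hψ₀, hψx⟩ := exists_decomp hS hF (hasPAut_pAutSystem F p) hψ
    obtain ⟨hφF, a, ha, φ₀, hφ₀, hx⟩ := hφ
    refine ⟨ψ, ⟨hψ, c, ?_, ψ₀, hψ₀, hψx⟩, hag⟩
    have hRN : R ≤ extender S R φ := le_extender hφF
    have hψ₀R := restrict_mem hψ₀ hRN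
    obtain ⟨τ, hτ, hτr, hτx, -⟩ := exists_inverse hψ₀R rfl
    obtain ⟨μ, hμ, hμx⟩ := exists_comp hτ hφ₀ fun y => hτr.le ⟨y, rfl⟩
    have hmem : a⁻¹ * c ∈ centricAutS F p := by
      refine Subgroup.subset_closure ⟨Subgroup.mul_mem _
        (Subgroup.inv_mem _ (centricAutS_le F p ha)) hc, _, μ,
        isCentric_of_isConj (isCentric_of_isConj hQc (isConj_symm ⟨φ, hφF, hr⟩))
          (isConj_range hψ₀R.1), hμ, ?_⟩
      rintro ⟨_, x, rfl⟩ h
      rw [hμx]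
      refine (congrArg φ₀ (Subtype.ext (hτx x ⟨x, rfl⟩))).trans ?_
      have h1 : (c ⟨ψ₀ (Subgroup.inclusion hRN x), val_mem hψ₀ _⟩ : Ω) =
          (a ⟨φ₀ x, val_mem hφ₀ x⟩ : Ω) := by
        rw [← hψx, ← hx]
        exact hag x x.2 (hRN x.2)
      show φ₀ x = (a⁻¹ (c ⟨ψ₀ (Subgroup.inclusion hRN x), h⟩) : Ω)
      rw [show c ⟨ψ₀ (Subgroup.inclusion hRN x), h⟩ = a ⟨φ₀ x, val_mem hφ₀ x⟩ from
        Subtype.ext h1, MulAut.inv_apply_self]
    have h := Subgroup.mul_mem _ ha hmem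
    rwa [mul_inv_cancel_left] at h
  · have hS' : F.IsCentric S := isCentric_top
    have hGp : HasPAut G F p := fun P hP α hα hk => hG P hP (hpaut P hP α hα hk)
    rintro P φ ⟨hφ, a, ha, φ₀, hφ₀, hx⟩
    exact comp_of_apply (hφ₀.2 G hGp) (hG S hS' (centricAutS_le_pPrimeResidualSystem F p ha))
      fun x => ⟨val_mem hφ₀ x, hx x _⟩

theorem pPrimeResidualSystem_le [Fact p.Prime] [Finite S] (hS : IsPGroup p S)
    (hF : F.IsSaturated p) (hD : D.IsSaturated p) (hDi : D.HasPrimeToPIndexIn F p) :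
    (pPrimeResidualSystem F p).IsSubsystemOf D := by
  have hp := hasPAut_of_hasPrimeToPIndexIn hDi
  have hA : centricAutS F p ≤ D.autGroup S := by
    refine (Subgroup.closure_le _).2 ?_
    rintro a ⟨ha, P, ψ, hP, hψ, hψx⟩
    refine (mem_autGroup le_rfl).2 (Fusion87.mem_of_restrict_centric hS hF hD hDi.1 hP hP.1
      (autGroup_hom_mem le_rfl ha) (mem_congr (hψ.2 D hp) fun x => (hψx x (hP.1 x.2)).symm))
  rintro P φ ⟨hφ, a, ha, φ₀, hφ₀, hx⟩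
  exact comp_of_apply (hφ₀.2 D hp) (autGroup_hom_mem le_rfl (hA ha))
    fun x => ⟨val_mem hφ₀ x, hx x _⟩

theorem isPPrimeResidual_pPrimeResidualSystem [Fact p.Prime] [Finite S] (hS : IsPGroup p S)
    (hF : F.IsSaturated p) : F.IsPPrimeResidual p (pPrimeResidualSystem F p) :=
  ⟨isSaturated_pPrimeResidualSystem hS hF,
    hasPrimeToPIndexIn_of_hasPAut hS hF (fun _ _ h => h.1) (hasPAut_pPrimeResidualSystem F p),
    fun _ hD hDi => pPrimeResidualSystem_le hS hF hD hDi⟩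

theorem isPPrimeResidual_unique {E : FusionSystem S} (hE : F.IsPPrimeResidual p E)
    (hD : F.IsPPrimeResidual p D) (P : Subgroup Ω) : E.Hom P = D.Hom P :=
  Set.Subset.antisymm (hE.2.2 D hD.1 hD.2.1 P) (hD.2.2 E hE.1 hE.2.1 P)

end Cfsg.Agent.Lib.Fusion
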