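/-
The `p'`-residual of a normal subsystem lies in every normal subsystem over the same subgroup.
-/
import Cfsg.Agent.Lib.Fusion.Invariant
import Cfsg.Agent.Lib.Fusion.PPrimeResidual
import Cfsg.Agent.S5119

set_option autoImplicit false

namespace Cfsg.Agent.Lib.Fusion

open Cfsg Cfsg.FusionSystem

universe u

variable {Ω : Type u} [Group Ω] {S T : Subgroup Ω} {F : FusionSystem S} {E : FusionSystem T}
  {p : ℕ}

theorem isFullyCentralized_of_isCentric [Finite S] {P : Subgroup Ω} (hP : F.IsCentric P) :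
    F.IsFullyCentralized P := by
  refine ⟨hP.1, ?_⟩
  rintro Q ⟨φ, hφ, rfl⟩
  haveI : Finite (centralizerIn S P) := finite_centralizerIn P
  have hsub : centralizerIn S φ.range ≤ imgSub φ (centralizerIn S P) := by
    intro y hy
    obtain ⟨x, rfl⟩ := hP.2 _ (isConj_range hφ) hy
    refine apply_mem_imgSub φ x ⟨hP.1 x.2, fun w hw => ?_⟩
    have h2 := hy.2 _ (⟨⟨w, hw⟩, rfl⟩ : φ ⟨w, hw⟩ ∈ φ.range)
    rw [← map_mul, ← map_mul] at h2
    exact congrArg Subtype.val (F.injective_of_mem hφ h2)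
  haveI : Finite (imgSub φ (centralizerIn S P)) :=
    finite_of_le ((imgSub_le_range φ).trans (range_le hφ))
  refine (Subgroup.card_le_of_le hsub).trans ?_
  rw [card_imgSub (F.injective_of_mem hφ) (centralizerIn_le_of_isCentric hP)]

/-- Every conjugate in `F` lying in `T` contains its centralizer in `T`. -/
def TCentric (F : FusionSystem S) (T P : Subgroup Ω) : Prop :=
  P ≤ T ∧ ∀ φ ∈ F.Hom P, φ.range ≤ T → centralizerIn T φ.range ≤ φ.range

theorem TCentric.isCentric {X : FusionSystem T} {P : Subgroup Ω} (h : TCentric F T P)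
    (hX : X.IsSubsystemOf F) : X.IsCentric P :=
  ⟨h.1, fun _ ⟨φ, hφ, hr⟩ => hr ▸ h.2 φ (hX P hφ) (range_le hφ)⟩

theorem TCentric.act {P : Subgroup Ω} (h : TCentric F T P) (hTS : T ≤ S) {a : MulAut T}
    (ha : a ∈ F.autGroup T) : TCentric F T (imgSub (autHom a) P) := by
  refine ⟨imgSub_act_le P, fun φ hφ hr => ?_⟩
  have hm := restrict_mem (autGroup_hom_mem hTS ha) h.1
  obtain ⟨χ, hχ, hχx⟩ := exists_comp hm hφ fun x => imgSub_act_mem h.1 x
  have hrr : χ.range = φ.range := by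
    refine le_antisymm ?_ ?_
    · rintro _ ⟨x, rfl⟩
      exact ⟨_, (hχx x).symm⟩
    · rintro _ ⟨⟨y, hy⟩, rfl⟩
      obtain ⟨x, hxS, rfl⟩ := exists_of_mem_imgSub_act hy
      exact ⟨x, hχx x⟩
  rw [← hrr]
  exact h.2 χ hχ (hrr.le.trans hr)

theorem tCentric_of_isCentric (hinv : E.IsInvariantIn F) {P : Subgroup Ω} (hP : E.IsCentric P) :
    TCentric F T P := by
  refine ⟨hP.1, fun φ hφ _ => ?_⟩
  obtain ⟨a, -, φ₀, hφ₀, hx⟩ := hinv.2.2.2 P hP.1 φ hφ
  intro y hy
  obtain ⟨w, hw⟩ : ∃ w : T, a w = ⟨y, hy.1⟩ := ⟨a.symm ⟨y, hy.1⟩, a.apply_symm_apply _⟩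
  have hwc : (w : Ω) ∈ centralizerIn T φ₀.range := by
    refine ⟨w.2, ?_⟩
    rintro _ ⟨x, rfl⟩
    have h1 := hy.2 (φ x) ⟨x, rfl⟩
    have h2 : a ⟨φ₀ x, val_mem hφ₀ x⟩ * a w = a w * a ⟨φ₀ x, val_mem hφ₀ x⟩ := by
      rw [hw]
      refine Subtype.ext ?_
      rw [Subgroup.coe_mul, Subgroup.coe_mul, ← hx x (val_mem hφ₀ x)]
      exact h1
    rw [← map_mul, ← map_mul] at h2
    exact congrArg Subtype.val (a.injective h2)
  obtain ⟨x, hxw⟩ := hP.2 _ (isConj_range hφ₀) hwc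
  refine ⟨x, ?_⟩
  rw [hx x (val_mem hφ₀ x), show (⟨φ₀ x, val_mem hφ₀ x⟩ : T) = w from Subtype.ext hxw, hw]

theorem stronglyInvariant_of_isWeaklyNormalIn [Finite S] [Fact p.Prime] (hS : IsPGroup p S)
    {X : FusionSystem T} (hX : X.IsWeaklyNormalIn F p) : StronglyInvariant X F :=
  fun P Q hPQ hQT φ hφ hφQ ψ hψ =>
    (Cfsg.Agent.S5119.result p hS F hX.2.1 X hX.2.2.1 hX.2.2.2.1).mp hX.2.2 P Q hPQ hQT φ hφ hφQ
      ψ hψ

/-- The automorphisms of `p`-power order in a saturated subsystem belong to every strongly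
invariant system on the same subgroup. -/
theorem autHom_mem_of_stronglyInvariant [Finite S] [Fact p.Prime] (hS : IsPGroup p S)
    (hTS : T ≤ S) {X Y : FusionSystem T} (hX : X.IsSaturated p) (hXF : X.IsSubsystemOf F)
    (hY : StronglyInvariant Y F) {P : Subgroup Ω} (hP : P ≤ T) {α : MulAut P}
    (hα : α ∈ X.autGroup P) (hk : ∃ k, α ^ p ^ k = 1) : autHom α ∈ Y.Hom P := by
  haveI : Finite T := finite_of_le hTS
  have hTp : IsPGroup p T := hS.to_le hTS
  obtain ⟨k, hk⟩ := hk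
  obtain ⟨Q, ⟨φ, hφ, hr⟩, hQ⟩ := exists_isFullyNormalized_conj X hP
  haveI := finite_mulAut hQ.1
  set e := isoOnto φ (X.injective_of_mem hφ) hr with he
  have hem : Q.subtype.comp e.toMonoidHom ∈ X.Hom P := mem_congr hφ fun x => rfl
  have hb := congr_mem_autGroup e hem hα
  have hbp : (MulAut.congr e α) ^ p ^ k = 1 :=
    (map_pow (MulAut.congr e) α (p ^ k)).symm.trans
      ((congrArg (MulAut.congr e) hk).trans (map_one (MulAut.congr e)))
  obtain ⟨i, -, hi⟩ :=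
    (Nat.dvd_prime_pow (Fact.out : p.Prime)).1 (orderOf_dvd_of_pow_eq_one hbp)
  obtain ⟨-, hsyl⟩ := isFullyAutomized_iff.1 (isFullyAutomized_of_isFullyNormalized hTp hX hQ)
  obtain ⟨δ, hδ, hle⟩ := hsyl.exists_conj_le (IsPGroup.of_card (n := i)
    ((Nat.card_zpowers _).trans hi)) (Subgroup.zpowers_le.2 hb)
  obtain ⟨t, ht, htx⟩ := mem_autInducedBy.1 (hle ⟨_, Subgroup.mem_zpowers _, rfl⟩)
  obtain ⟨ψ, hψ, hψx⟩ := exists_comp hem (autGroup_hom_mem hQ.1 hδ) fun x => (e x).2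
  have hψe : ∀ x, ψ x = (δ (e x) : Ω) := fun x => hψx x
  have hψr : ψ.range = Q := by
    refine le_antisymm ?_ fun y hy => ⟨e.symm (δ.symm ⟨y, hy⟩), ?_⟩
    · rintro _ ⟨x, rfl⟩
      rw [hψe]
      exact (δ _).2
    · rw [hψe]
      show (δ (e (e.symm (δ.symm ⟨y, hy⟩))) : Ω) = y
      rw [MulEquiv.apply_symm_apply, MulEquiv.apply_symm_apply]
  have hconj : ∀ x : P, ψ (α x) = t * ψ x * t⁻¹ := by
    intro x
    have h := htx (δ (e x))
    rw [hψe, hψe, ← h]
    show _ = (δ ((MulAut.congr e α) (δ⁻¹ (δ (e x)))) : Ω)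
    rw [MulAut.inv_apply_self]
    exact congrArg (fun y => (δ (e (α y)) : Ω)) (e.symm_apply_apply x).symm
  obtain ⟨τ, hτ, hτr, hτx, -⟩ := exists_inverse hψ hψr
  have hval : ∀ y : Q, conjHom Q t y ∈ Q := by
    intro y
    obtain ⟨x, hx⟩ := hψr.ge y.2
    show t * (y : Ω) * t⁻¹ ∈ Q
    rw [← hx, ← hconj]
    exact hψr.le ⟨_, rfl⟩
  obtain ⟨χ, hχ, hχx⟩ := hY Q Q le_rfl hQ.1 (conjHom Q t) (Y.conj_mem hQ.1 ht) hval τ (hXF Q hτ)
  have hle' : P ≤ imgSub τ Q := by rw [imgSub_self]; exact hτr.ge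
  refine mem_of_restrict hχ hle' fun x => ?_
  have hx : ψ x ∈ Q := hψr.le ⟨x, rfl⟩
  have e1 : τ (Subgroup.inclusion le_rfl ⟨ψ x, hx⟩) = (x : Ω) := hτx x hx
  refine Eq.trans ?_ ((congrArg χ (Subtype.ext e1.symm :
    (⟨(x : Ω), hle' x.2⟩ : imgSub τ Q) = ⟨_, apply_mem_imgSub τ _ hx⟩)).trans
    (hχx ⟨ψ x, hx⟩ _)).symm
  refine Eq.trans ?_ (congrArg τ (Subtype.ext (hconj x) :
    (⟨ψ (α x), hψr.le ⟨_, rfl⟩⟩ : Q) = ⟨conjHom Q t ⟨ψ x, hx⟩, hval _⟩))
  exact (hτx (α x) (hψr.le ⟨_, rfl⟩)).symm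

/-- The system generated by the `p`-automorphisms of centric subgroups of an invariant subsystem
is invariant. -/
theorem actInvariant_pAutSystem [Finite S] (hTS : T ≤ S) (hinv : E.IsInvariantIn F)
    (hE : ActInvariant E F) : ActInvariant (pAutSystem E p) F := by
  intro a ha Q ψ hψ
  obtain ⟨χ, hχ, hval⟩ := hE a ha Q ψ hψ.1
  refine ⟨χ, ⟨hχ, fun D hD => ?_⟩, hval⟩
  have hD' : HasPAut (transportAct E D a) E p := by
    intro P hP α hα ⟨k, hk⟩
    have hc := ((tCentric_of_isCentric hinv hP).act hTS ha).isCentric hinv.1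
    set θ := (autHom a).comp (Subgroup.inclusion hP.1) with hθ
    have hθr : θ.range = imgSub (autHom a) P := range_restrict _ hP.1
    have hθi : Function.Injective θ := fun u v h =>
      Subgroup.inclusion_injective hP.1 (a.injective (Subtype.ext h))
    set e := isoOnto θ hθi hθr with he
    obtain ⟨μ, hμ, hμx⟩ := hE a ha P (autHom α) (autGroup_hom_mem hP.1 hα)
    have hα' : MulAut.congr e α ∈ E.autGroup (imgSub (autHom a) P) := by
      refine (mem_autGroup (imgSub_act_le P)).2 (mem_congr hμ fun y => ?_)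
      obtain ⟨x, rfl⟩ := e.surjective y
      show (e (α (e.symm (e x))) : Ω) = _
      rw [e.symm_apply_apply]
      exact (hμx x).symm
    have hk' : (MulAut.congr e α) ^ p ^ k = 1 :=
      (map_pow (MulAut.congr e) α (p ^ k)).symm.trans
        ((congrArg (MulAut.congr e) hk).trans (map_one (MulAut.congr e)))
    have hmem := hD _ hc _ hα' ⟨k, hk'⟩
    refine ⟨autGroup_hom_mem hP.1 hα, _, _, hmem, fun x => ⟨imgSub_act_mem hP.1 x, ?_⟩⟩
    have h2 : MulAut.congr e α (e x) = e (α x) := by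
      show e (α (e.symm (e x))) = _
      rw [e.symm_apply_apply]
    exact congrArg Subtype.val h2
  obtain ⟨_, R, χ', hχ', hx⟩ := hψ.2 _ hD'
  obtain ⟨χ'', hχ'', hx''⟩ := exists_restrict_act (src_le hψ) hχ' fun x => (hx x).1
  refine mem_congr hχ'' ?_
  rintro ⟨y, hy⟩
  obtain ⟨x, hxS, rfl⟩ := exists_of_mem_imgSub_act hy
  exact (hval x).trans ((hx'' x).trans (hx x).2).symm

/-- Two weakly normal subsystems over the same subgroup: an automorphism of `T` in the group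
generated by theirs, agreeing on a centric subgroup with a map generated by `p`-automorphisms,
is in both. -/
theorem mem_inf_autGroup [Finite S] [Fact p.Prime] (hS : IsPGroup p S) (hTS : T ≤ S)
    {E' : FusionSystem T} (hE : E.IsWeaklyNormalIn F p) (hE' : E'.IsWeaklyNormalIn F p)
    {P : Subgroup Ω} {μ : P →* Ω} (hP : E.IsCentric P) {h : MulAut T}
    (hh : h ∈ E.autGroup T ⊔ E'.autGroup T) (hμ : μ ∈ (pAutSystem E p).Hom P)
    (hμx : ∀ (x : P) (hx : (x : Ω) ∈ T), μ x = (h ⟨x, hx⟩ : Ω)) :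
    h ∈ E.autGroup T ⊓ E'.autGroup T := by
  haveI : Finite T := finite_of_le hTS
  haveI := finite_mulAut (S := S) hTS
  have hTp : IsPGroup p T := hS.to_le hTS
  have hEF : E.IsSubsystemOf F := hE.2.2.1
  have hE'F : E'.IsSubsystemOf F := hE'.2.2.1
  have hsE := stronglyInvariant_of_isWeaklyNormalIn hS hE
  have hsE' := stronglyInvariant_of_isWeaklyNormalIn hS hE'
  have hTC : ∀ {Q : Subgroup Ω}, E.IsCentric Q → TCentric F T Q :=
    fun h => tCentric_of_isCentric hE.2.2 h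
  have hTC' : ∀ {Q : Subgroup Ω}, E'.IsCentric Q → TCentric F T Q :=
    fun h => tCentric_of_isCentric hE'.2.2 h
  have hpE : HasPAut (pAutSystem E p) E p := hasPAut_pAutSystem E p
  have hpE' : HasPAut (pAutSystem E p) E' p := by
    intro Q hQ α hα hk
    have h1 := autHom_mem_of_stronglyInvariant hS hTS hE'.1 hE'F hsE hQ.1 hα hk
    exact hpE Q ((hTC' hQ).isCentric hEF) α ((mem_autGroup hQ.1).2 h1) hk
  have h₀E : pAutSystem E p ≤ E := fun _ _ h => h.1
  have h₀E' : pAutSystem E p ≤ E' := fun Q φ hφ => hφ.2 E' fun R hR α hα hk =>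
    autHom_mem_of_stronglyInvariant hS hTS hE.1 hEF hsE' hR.1 hα hk
  set G := F.autGroup T with hG
  haveI : Finite G := inferInstance
  set A := E.autGroup T ⊓ E'.autGroup T with hA
  have hHG : E.autGroup T ⊔ E'.autGroup T ≤ G :=
    sup_le (autGroup_mono hEF T) (autGroup_mono hE'F T)
  -- the image of the join in `G ⧸ A` has order prime to `p`
  have hnorm : ∀ {X : FusionSystem T}, StronglyInvariant X F → ∀ g ∈ G, ∀ a ∈ X.autGroup T,
      g * a * g⁻¹ ∈ X.autGroup T := by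
    intro X hX g hg a ha
    obtain ⟨χ, hχ, hχx⟩ := hX T T le_rfl le_rfl (autHom a) ((mem_autGroup le_rfl).1 ha)
      (fun x => (a x).2) (autHom g) (autGroup_hom_mem hTS hg)
    have hr : T ≤ imgSub (autHom g) T := by rw [imgSub_self, range_autHom]
    refine (mem_autGroup le_rfl).2 (mem_of_restrict hχ hr fun y => ?_)
    have hy : autHom g (Subgroup.inclusion le_rfl (g⁻¹ y)) = (y : Ω) :=
      congrArg Subtype.val (g.apply_symm_apply y)
    refine Eq.trans ?_ ((congrArg χ (Subtype.ext hy.symm :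
      (⟨(y : Ω), hr y.2⟩ : imgSub (autHom g) T) = ⟨_, apply_mem_imgSub (autHom g) _ (g⁻¹ y).2⟩)).trans
        (hχx (g⁻¹ y) _)).symm
    rfl
  haveI hAn : (A.subgroupOf G).Normal := ⟨fun a ha g =>
    ⟨hnorm hsE g g.2 a ha.1, hnorm hsE' g g.2 a ha.2⟩⟩
  let π := QuotientGroup.mk' (A.subgroupOf G)
  have hcore : ∀ {X : FusionSystem T}, StronglyInvariant X F → X.IsSaturated p →
      X.IsSubsystemOf F → (X.autGroup T).subgroupOf G ≤ (pPrimeCore p (G ⧸ A.subgroupOf G)).comap π := by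
    intro X hX hXs hXF
    rw [← Subgroup.map_le_iff_le_comap]
    haveI : ((X.autGroup T).subgroupOf G).Normal := ⟨fun a ha g => hnorm hX g g.2 a ha⟩
    haveI : (((X.autGroup T).subgroupOf G).map π).Normal :=
      Subgroup.Normal.map inferInstance π (QuotientGroup.mk'_surjective _)
    refine PSolvable.le_pPrimeCore (Nat.Coprime.symm
      ((Fact.out : p.Prime).coprime_iff_not_dvd.2 fun hd => ?_))
    obtain ⟨-, hsyl⟩ := isFullyAutomized_iff.1
      (isFullyAutomized_of_isFullyNormalized hTp hXs (isFullyNormalized_top X))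
    obtain ⟨z, hz⟩ := exists_prime_orderOf_dvd_card' p hd
    obtain ⟨⟨-, a, ha, rfl⟩, hz1⟩ : ∃ z : ((X.autGroup T).subgroupOf G).map π, orderOf z = p :=
      ⟨z, hz⟩
    -- a `p`-power element of the same image
    obtain ⟨j, m, hm, hord⟩ :=
      Nat.exists_eq_pow_mul_and_not_dvd (orderOf_pos a).ne' p (Fact.out : p.Prime).ne_one
    have ham : ((a : MulAut T) ^ m) ∈ A := by
      have hb : ((a : MulAut T) ^ m) ^ p ^ j = 1 := by
        rw [← pow_mul, mul_comm, ← hord]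
        exact congrArg Subtype.val (pow_orderOf_eq_one a)
      obtain ⟨i, -, hi⟩ :=
        (Nat.dvd_prime_pow (Fact.out : p.Prime)).1 (orderOf_dvd_of_pow_eq_one hb)
      have hbX : (a : MulAut T) ^ m ∈ X.autGroup T := Subgroup.pow_mem _ ha m
      obtain ⟨d, -, hle⟩ := hsyl.exists_conj_le (IsPGroup.of_card (n := i)
        ((Nat.card_zpowers _).trans hi)) (Subgroup.zpowers_le.2 hbX)
      refine ⟨?_, ?_⟩
      · exact (mem_autGroup le_rfl).2 (autHom_mem_of_stronglyInvariant hS hTS hXs hXF hsE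
          le_rfl hbX ⟨j, hb⟩)
      · exact (mem_autGroup le_rfl).2 (autHom_mem_of_stronglyInvariant hS hTS hXs hXF hsE'
          le_rfl hbX ⟨j, hb⟩)
    have h1 : π a ^ m = 1 := by
      rw [← map_pow, ← MonoidHom.mem_ker, QuotientGroup.ker_mk']
      exact ham
    have h2 : orderOf (π a) = p := by
      rw [← hz1, ← Subgroup.orderOf_coe]
    exact hm (h2 ▸ orderOf_dvd_of_pow_eq_one h1)
  have hH : ∀ k ∈ E.autGroup T ⊔ E'.autGroup T, ∀ j, k ^ p ^ j ∈ A → k ∈ A := by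
    intro k hk j hkA
    have hsup : (E.autGroup T ⊔ E'.autGroup T).subgroupOf G ≤
        (pPrimeCore p (G ⧸ A.subgroupOf G)).comap π := by
      rw [Subgroup.subgroupOf_sup (autGroup_mono hEF T) (autGroup_mono hE'F T)]
      exact sup_le (hcore hsE hE.1 hEF) (hcore hsE' hE'.1 hE'F)
    have h1 : π ⟨k, hHG hk⟩ ∈ pPrimeCore p (G ⧸ A.subgroupOf G) := hsup hk
    set z : pPrimeCore p (G ⧸ A.subgroupOf G) := ⟨_, h1⟩ with hz
    have h2 : z ^ p ^ j = 1 := by
      refine Subtype.ext ?_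
      show π ⟨k, hHG hk⟩ ^ p ^ j = 1
      rw [← map_pow, ← MonoidHom.mem_ker, QuotientGroup.ker_mk']
      exact hkA
    have h3 : orderOf z = 1 := Nat.eq_one_of_dvd_coprimes
      (Nat.Coprime.pow_right j PSolvable.pPrimeCore_coprime) (orderOf_dvd_natCard z)
      (orderOf_dvd_of_pow_eq_one h2)
    have h4 : π ⟨k, hHG hk⟩ = 1 := congrArg Subtype.val (orderOf_eq_one_iff.1 h3)
    rw [← MonoidHom.mem_ker, QuotientGroup.ker_mk'] at h4
    exact h4
  have hactE := actInvariant_pAutSystem (p := p) hTS hE.2.2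
    (actInvariant_of_stronglyInvariant hTS hsE)
  suffices key : ∀ n (P : Subgroup Ω) (μ : P →* Ω) (h : MulAut T), Nat.card T - Nat.card P ≤ n →
      E.IsCentric P → h ∈ E.autGroup T ⊔ E'.autGroup T → μ ∈ (pAutSystem E p).Hom P →
      (∀ (x : P) (hx : (x : Ω) ∈ T), μ x = (h ⟨x, hx⟩ : Ω)) → h ∈ A from
    key _ P μ h le_rfl hP hh hμ hμx
  clear hμx hμ hh h hP μ P
  intro n
  induction n using Nat.strong_induction_on with
  | _ n ih =>
    intro P μ h hn hP hh hμ hμx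
    haveI : Finite P := finite_of_le hP.1
    by_cases hPT : P = T
    · subst hPT
      exact ⟨(mem_autGroup le_rfl).2 (mem_congr (h₀E _ hμ) fun x => (hμx x x.2).symm),
        (mem_autGroup le_rfl).2 (mem_congr (h₀E' _ hμ) fun x => (hμx x x.2).symm)⟩
    set N := normalizerIn T P with hN
    have hPN : P ≤ N := le_normalizerIn hP.1
    have hNT : N ≤ T := normalizerIn_le P
    haveI : Finite N := finite_of_le hNT
    have hlt : Nat.card P < Nat.card N := Fusion87.card_lt_normalizerIn hTp hP.1 hPT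
    have hIH : ∀ (Q : Subgroup Ω) (ν : Q →* Ω) (k : MulAut T), Nat.card P < Nat.card Q →
        E.IsCentric Q → k ∈ E.autGroup T ⊔ E'.autGroup T → ν ∈ (pAutSystem E p).Hom Q →
        (∀ (x : Q) (hx : (x : Ω) ∈ T), ν x = (k ⟨x, hx⟩ : Ω)) → k ∈ A := by
      intro Q ν k hc hQ
      have := Subgroup.card_le_of_le hQ.1
      exact ih _ (by omega) Q ν k le_rfl hQ
    have hPC := hTC hP
    suffices side : ∀ X : FusionSystem T, X.IsSaturated p → X.IsSubsystemOf F →
        pAutSystem E p ≤ X → HasPAut (pAutSystem E p) X p →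
        X.autGroup T ≤ E.autGroup T ⊔ E'.autGroup T → A ≤ X.autGroup T → h ∈ X.autGroup T from
      ⟨side E hE.1 hEF h₀E hpE le_sup_left inf_le_left,
        side E' hE'.1 hE'F h₀E' hpE' le_sup_right inf_le_right⟩
    intro X hXs hXF h₀X hpX hXH hAX
    have hPX : X.IsCentric P := hPC.isCentric hXF
    have hμX := h₀X P hμ
    obtain ⟨ψ₁, hψ₁, hag⟩ := (isReceptive_of_isFullyCentralized hTp hXs
      (isFullyCentralized_of_isCentric (isCentric_of_isConj hPX (isConj_range hμX)))).2 P μ hμX rfl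
    have hext : N ≤ extender T P μ := fun g hg => mem_extender.2 ⟨hg.1, hg.2,
      (h ⟨g, hg.1⟩ : Ω), (h _).2, fun x hx => by
        rw [hμx ⟨_, hx⟩ (hP.1 hx), hμx x (hP.1 x.2)]
        rw [show (⟨g * x * g⁻¹, hP.1 hx⟩ : T) = ⟨g, hg.1⟩ * ⟨x, hP.1 x.2⟩ * ⟨g, hg.1⟩⁻¹ from
          Subtype.ext rfl, map_mul, map_mul, map_inv]
        rfl⟩
    set ψ := ψ₁.comp (Subgroup.inclusion hext) with hψdef
    have hψ : ψ ∈ X.Hom N := restrict_mem hψ₁ hext
    have hψP : ∀ x : N, (x : Ω) ∈ P → ψ x = (h ⟨x, hNT x.2⟩ : Ω) := fun x hx =>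
      (hag x hx (hext x.2)).trans (hμx ⟨x, hx⟩ _)
    obtain ⟨d, hd, ν, hν, hdν⟩ := exists_decomp hTp hXs hpX hψ
    set k := h⁻¹ * d with hk
    have hkH : k ∈ E.autGroup T ⊔ E'.autGroup T :=
      Subgroup.mul_mem _ (Subgroup.inv_mem _ hh) (hXH hd)
    have hkν : ∀ x : N, (k ⟨ν x, val_mem hν x⟩ : Ω) = (h⁻¹ ⟨ψ x, val_mem hψ x⟩ : Ω) := fun x => by
      rw [hk, MulAut.mul_apply]
      exact congrArg (fun z : T => (h⁻¹ z : Ω)) (Subtype.ext (hdν x _).symm)
    have hG' : k ∈ G := hHG hkH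
    obtain ⟨b, hb, hbx⟩ : ∃ b ∈ F.Hom N, ∀ x, b x = (k ⟨ν x, val_mem hν x⟩ : Ω) := by
      obtain ⟨b, hb, hbx⟩ := exists_comp (hXF N (h₀X N hν)) (autGroup_hom_mem hTS hG')
        fun x => val_mem hν x
      exact ⟨b, hb, hbx⟩
    have hbfix : ∀ x : N, (x : Ω) ∈ P → b x = x := fun x hx => by
      rw [hbx, hkν]
      rw [show (⟨ψ x, val_mem hψ x⟩ : T) = h ⟨x, hNT x.2⟩ from Subtype.ext (hψP x hx),
        MulAut.inv_apply_self]
    have hbT : ∀ x : N, b x ∈ T := fun x => (hbx x).symm ▸ (k _).2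
    have hdiff : ∀ x : N, (x : Ω)⁻¹ * b x ∈ P := by
      intro x
      refine centralizerIn_le_of_isCentric hP
        ⟨T.mul_mem (T.inv_mem (hNT x.2)) (hbT x), fun q hq => ?_⟩
      have hxq : (x : Ω) * q * (x : Ω)⁻¹ ∈ P := (Subgroup.mem_normalizer_iff.1 x.2.2 q).1 hq
      have h1 := hbfix (x * ⟨q, hPN hq⟩ * x⁻¹) hxq
      rw [map_mul, map_mul, map_inv, hbfix ⟨q, hPN hq⟩ hq] at h1
      change b x * q * (b x)⁻¹ = (x : Ω) * q * (x : Ω)⁻¹ at h1
      calc q * ((x : Ω)⁻¹ * b x) = (x : Ω)⁻¹ * ((x : Ω) * q * (x : Ω)⁻¹) * b x := by group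
        _ = (x : Ω)⁻¹ * (b x * q * (b x)⁻¹) * b x := by rw [h1]
        _ = (x : Ω)⁻¹ * b x * q := by group
    obtain ⟨β, hβ, hβx⟩ := exists_aut_of_hom hb fun x => by
      have h1 := N.mul_mem x.2 (hPN (hdiff x))
      rwa [mul_inv_cancel_left] at h1
    have hfix : ∀ x : N, (x : Ω) ∈ P → β x = x := fun x hx =>
      Subtype.ext ((hβx x).trans (hbfix x hx))
    obtain ⟨i, hβi⟩ : ∃ i, β ^ p ^ i = 1 := by
      obtain ⟨i, hi⟩ := IsPGroup.iff_card.1 (hTp.to_le hNT)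
      refine ⟨i, MulEquiv.ext fun x => ?_⟩
      set q : N := x⁻¹ * β x with hq
      have hqP : (q : Ω) ∈ P := by
        show (x : Ω)⁻¹ * (β x : Ω) ∈ P
        rw [hβx]
        exact hdiff x
      have hit : ∀ j : ℕ, (β ^ j) x = x * q ^ j := by
        intro j
        induction j with
        | zero => simp
        | succ j ih =>
          rw [pow_succ', MulAut.mul_apply, ih, map_mul, map_pow, hfix q hqP, pow_succ',
            show β x = x * q by rw [hq, mul_inv_cancel_left], mul_assoc]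
      rw [hit, MulAut.one_apply, ← hi, pow_card_eq_one', mul_one]
    -- powers of `β`
    have hiter : ∀ j : ℕ, ∃ νj, ∃ hνj : νj ∈ (pAutSystem E p).Hom N, ∀ x : N,
        ((β ^ j) x : Ω) = ((k ^ j) ⟨νj x, val_mem hνj x⟩ : Ω) := by
      intro j
      induction j with
      | zero => exact ⟨_, subtype_mem hNT, fun x => rfl⟩
      | succ j hj =>
        obtain ⟨νj, hνj, hx⟩ := hj
        obtain ⟨χ, hχ, hχx⟩ := hactE (k ^ j)⁻¹ (Subgroup.inv_mem _ (Subgroup.pow_mem _ hG' j))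
          N ν hν
        have hval : ∀ x : N, νj x = ((k ^ j)⁻¹ ⟨((β ^ j) x : Ω), hNT ((β ^ j) x).2⟩ : Ω) := by
          intro x
          rw [show (⟨((β ^ j) x : Ω), hNT ((β ^ j) x).2⟩ : T) = (k ^ j) ⟨νj x, val_mem hνj x⟩ from
            Subtype.ext (hx x), MulAut.inv_apply_self]
        have hmem : ∀ x : N, νj x ∈ imgSub (autHom (k ^ j)⁻¹) N := fun x =>
          (hval x).symm ▸ imgSub_act_mem hNT ((β ^ j) x)
        obtain ⟨θ, hθ, hθx⟩ := exists_comp hνj hχ hmem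
        refine ⟨θ, hθ, fun x => ?_⟩
        have e1 : θ x = ((k ^ j)⁻¹ ⟨ν ((β ^ j) x), val_mem hν _⟩ : Ω) := by
          rw [hθx, ← hχx ((β ^ j) x)]
          exact congrArg χ (Subtype.ext (hval x))
        rw [show (⟨θ x, val_mem hθ x⟩ : T) = (k ^ j)⁻¹ ⟨ν ((β ^ j) x), val_mem hν _⟩ from
          Subtype.ext e1, pow_succ' β, MulAut.mul_apply, hβx, hbx, pow_succ' k]
        refine congrArg (fun z : T => (k z : Ω)) ?_
        exact ((k ^ j).apply_symm_apply _).symm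
    obtain ⟨νi, hνi, hνix⟩ := hiter (p ^ i)
    have hNc : E.IsCentric N := isCentric_mono hP hPN hNT
    have hkA : k ∈ A := by
      refine hH k hkH i ?_
      obtain ⟨τ, hτ, hτr, hτx, -⟩ := exists_inverse hνi rfl
      refine hIH _ τ (k ^ p ^ i) (by rw [card_range hνi]; exact hlt)
        (isCentric_of_isConj hNc (isConj_range hνi.1)) (Subgroup.pow_mem _ hkH _) hτ ?_
      rintro ⟨_, x, rfl⟩ hx'
      refine (hτx x _).trans ?_
      have h1 := hνix x
      rw [hβi] at h1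
      exact h1
    have hβX : β ∈ X.autGroup N := by
      refine (mem_autGroup hNT).2 (mem_congr (comp_of_apply (φ := ν) (ψ := autHom k)
        (χ := autHom β) (h₀X N hν) ((mem_autGroup le_rfl).1 (hAX hkA)) fun x => ⟨val_mem hν x, ?_⟩)
        fun x => rfl)
      exact (hβx x).trans (hbx x)
    obtain ⟨z, hz, hzx⟩ := Fusion87.exists_conj_of_fixes hTp hXs hPX hPN hβX hNT hfix ⟨i, hβi⟩
    have hzT : z ∈ T := hP.1 hz
    obtain ⟨ν', hν', hν'x⟩ := exists_comp ((pAutSystem E p).conj_mem hNT (T.inv_mem hzT)) hν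
      fun x => N.mul_mem (N.mul_mem (N.inv_mem (hPN hz)) x.2)
        (N.inv_mem (N.inv_mem (hPN hz)))
    have hdA : d⁻¹ * h ∈ A := by
      refine hIH N ν' (d⁻¹ * h) hlt hNc (Subgroup.mul_mem _ (Subgroup.inv_mem _ (hXH hd)) hh)
        hν' fun x hx => ?_
      set w : N := ⟨z⁻¹ * (x : Ω) * z⁻¹⁻¹, N.mul_mem (N.mul_mem (N.inv_mem (hPN hz)) x.2)
        (N.inv_mem (N.inv_mem (hPN hz)))⟩ with hw
      have h1 : (β w : Ω) = x := by
        rw [hzx, hw]
        group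
      rw [hβx, hbx, hkν] at h1
      have h2 : h ⟨x, hx⟩ = d ⟨ν w, val_mem hν w⟩ := by
        rw [show (⟨(x : Ω), hx⟩ : T) = h⁻¹ ⟨ψ w, val_mem hψ w⟩ from Subtype.ext h1.symm,
          MulAut.apply_inv_self]
        exact Subtype.ext (hdν w _)
      rw [MulAut.mul_apply, h2, MulAut.inv_apply_self]
      exact hν'x x
    have := X.autGroup T |>.mul_mem hd (hAX hdA)
    rwa [mul_inv_cancel_left] at this

theorem pPrimeResidual_subsystem [Finite S] [Fact p.Prime] (hS : IsPGroup p S)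
    {D D' : FusionSystem T} (hE : E.IsWeaklyNormalIn F p) (hD : E.IsPPrimeResidual p D)
    (hD' : D'.IsWeaklyNormalIn F p) : D.IsSubsystemOf D' := by
  have hTS : T ≤ S := hE.2.2.2.1.1
  haveI : Finite T := finite_of_le hTS
  have hTp := hS.to_le hTS
  have hres := isPPrimeResidual_pPrimeResidualSystem hTp hE.1
  have h₀ : pAutSystem E p ≤ D' := fun Q φ hφ => hφ.2 D' fun R hR α hα hk =>
    autHom_mem_of_stronglyInvariant hS hTS hE.1 hE.2.2.1
      (stronglyInvariant_of_isWeaklyNormalIn hS hD') hR.1 hα hk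
  have hA : centricAutS E p ≤ D'.autGroup T := by
    refine (Subgroup.closure_le _).2 ?_
    rintro a ⟨ha, P, ψ, hP, hψ, hψx⟩
    exact (mem_inf_autGroup hS hTS hE hD' hP (Subgroup.mem_sup_left ha) hψ hψx).2
  intro P φ hφ
  obtain ⟨-, a, ha, φ₀, hφ₀, hx⟩ := hD.2.2 _ hres.1 hres.2.1 P hφ
  exact comp_of_apply (h₀ P hφ₀) (autGroup_hom_mem le_rfl (hA ha))
    fun x => ⟨val_mem hφ₀ x, hx x _⟩

end Cfsg.Agent.Lib.Fusion
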