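/-
Subsystems of `p`-power index: uniqueness.
-/
import Cfsg.Agent.Lib.Fusion.Saturated
import Cfsg.Agent.Lib.Fusion87.Reduction
import Cfsg.Agent.Lib.Transfer.PResidual

set_option autoImplicit false

namespace Cfsg.Agent.Lib.Fusion

open Cfsg Cfsg.FusionSystem

universe u

variable {Ω : Type u} [Group Ω] {S T : Subgroup Ω} {F : FusionSystem S} {p : ℕ}

/-- `O^p` of the automorphism groups is monotone. -/
theorem map_pResidual_autGroup_mono {E : FusionSystem T} (hEF : E.IsSubsystemOf F)
    (Q : Subgroup Ω) :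
    (pResidual p (E.autGroup Q)).map (E.autGroup Q).subtype ≤
      (pResidual p (F.autGroup Q)).map (F.autGroup Q).subtype := by
  have h := Subgroup.map_mono (f := (F.autGroup Q).subtype)
    (Transfer.map_pResidual_le (p := p) (Subgroup.inclusion (autGroup_mono hEF Q)))
  rw [Subgroup.map_map] at h
  exact h

/-- `Aut_E(Q) = O^p(Aut_E(Q)) Aut_T(Q)` for `Q` fully normalized. -/
theorem autGroup_le_pResidual_sup [Finite T] [Fact p.Prime] (hT : IsPGroup p T)
    {E : FusionSystem T} (hE : E.IsSaturated p) {Q : Subgroup Ω} (hQ : E.IsFullyNormalized Q) :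
    E.autGroup Q ≤ (pResidual p (E.autGroup Q)).map (E.autGroup Q).subtype ⊔ autInducedBy T Q := by
  haveI := finite_mulAut (S := T) hQ.1
  obtain ⟨-, hsyl⟩ := isFullyAutomized_iff.1 (isFullyAutomized_of_isFullyNormalized hT hE hQ)
  intro α hα
  have h : (⟨α, hα⟩ : E.autGroup Q) ∈
      pResidual p (E.autGroup Q) ⊔ (hsyl.toSylow : Subgroup (E.autGroup Q)) := by
    rw [Transfer.pResidual_sup_sylow]
    exact Subgroup.mem_top _
  have h2 := Subgroup.mem_map_of_mem (E.autGroup Q).subtype h
  rw [Subgroup.map_sup, IsSylowIn.coe_toSylow, Subgroup.subgroupOf_map_subtype] at h2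
  have h3 : (pResidual p (E.autGroup Q)).map (E.autGroup Q).subtype ⊔
      (autInducedBy T Q ⊓ E.autGroup Q) ≤
      (pResidual p (E.autGroup Q)).map (E.autGroup Q).subtype ⊔ autInducedBy T Q :=
    sup_le le_sup_left (inf_le_left.trans le_sup_right)
  exact h3 h2

/-- A saturated system is contained in any system having its `O^p` of automorphism groups. -/
theorem le_of_pResidual_le [Finite T] [Fact p.Prime] (hT : IsPGroup p T)
    {E D : FusionSystem T} (hE : E.IsSaturated p)
    (h : ∀ Q : Subgroup Ω, Q ≤ T →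
      (pResidual p (E.autGroup Q)).map (E.autGroup Q).subtype ≤ D.autGroup Q) : E ≤ D :=
  Fusion87.le_of_autGroup_fullyNormalized hT hE fun Q hQ _ =>
    (autGroup_le_pResidual_sup hT hE hQ).trans
      (sup_le (h Q hQ.1) (autInducedBy_le_autGroup hQ.1))

/-- A saturated subsystem is contained in every subsystem of `p`-power index over the same
subgroup. -/
theorem le_of_hasPPowerIndexIn [Finite T] [Fact p.Prime] (hT : IsPGroup p T)
    {E D : FusionSystem T} (hE : E.IsSaturated p) (hEF : E.IsSubsystemOf F)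
    (hD : D.HasPPowerIndexIn F p) : E ≤ D :=
  le_of_pResidual_le hT hE fun Q hQ =>
    (map_pResidual_autGroup_mono hEF Q).trans (hD.2.2 Q hQ)

theorem fusionSystem_eq_of_le {E D : FusionSystem T} (h₁ : E ≤ D) (h₂ : D ≤ E) : E = D := by
  cases E; cases D
  congr 1
  funext P
  exact Set.Subset.antisymm (h₁ P) (h₂ P)

/-- There is at most one saturated subsystem of `p`-power index over a subgroup. -/
theorem hasPPowerIndexIn_unique [Finite T] [Fact p.Prime] (hT : IsPGroup p T)
    {E D : FusionSystem T} (hE : E.IsSaturated p) (hEi : E.HasPPowerIndexIn F p)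
    (hD : D.IsSaturated p) (hDi : D.HasPPowerIndexIn F p) : E = D :=
  fusionSystem_eq_of_le (le_of_hasPPowerIndexIn hT hE hEi.1 hDi)
    (le_of_hasPPowerIndexIn hT hD hDi.1 hEi)

end Cfsg.Agent.Lib.Fusion
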