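/-
Automorphisms of `P C_S(P)` acting trivially on `C_S(P)` modulo `P`, and the invariance of their
displacement under the centralizer system of `P`.
-/
import Cfsg.Agent.Lib.Fusion.KNormalizer
import Cfsg.Agent.Lib.Fusion87.Reduction
import Cfsg.Agent.Lib.Fusion87.Stabilizer
import Cfsg.Agent.Lib.Transfer.PResidual

set_option autoImplicit false

namespace Cfsg.Agent.Lib.Fusion

open Cfsg Cfsg.FusionSystem

universe u

variable {Ω : Type u} [Group Ω] {S : Subgroup Ω} {F : FusionSystem S} {p : ℕ}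

/-- `P C_S(P)`. -/
abbrev cenSup (S P : Subgroup Ω) : Subgroup Ω := P ⊔ centralizerIn S P

theorem cenSup_le {P : Subgroup Ω} (hP : P ≤ S) : cenSup S P ≤ S :=
  sup_le hP (centralizerIn_le P)

theorem cen_mem_cenSup {P : Subgroup Ω} (c : centralizerIn S P) : (c : Ω) ∈ cenSup S P :=
  Subgroup.mem_sup_right c.2

theorem centralizerIn_anti {P T : Subgroup Ω} (h : P ≤ T) :
    centralizerIn S T ≤ centralizerIn S P :=
  inf_le_inf_left _ (Subgroup.centralizer_le h)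

/-- An automorphism of `P C_S(P)` preserving `P` preserves `C_S(P)`. -/
theorem apply_mem_centralizerIn_of_iff {P : Subgroup Ω} (hP : P ≤ S)
    {β : MulAut (cenSup S P)} (hiff : ∀ x, (β x : Ω) ∈ P ↔ (x : Ω) ∈ P) (x : cenSup S P)
    (hx : (x : Ω) ∈ centralizerIn S P) : (β x : Ω) ∈ centralizerIn S P := by
  refine ⟨cenSup_le hP (β x).2, fun y hy => ?_⟩
  obtain ⟨w, hw⟩ := β.surjective ⟨y, Subgroup.mem_sup_left hy⟩
  have hwP : (w : Ω) ∈ P := (hiff w).1 (by rw [hw]; exact hy)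
  have h : w * x = x * w := Subtype.ext (hx.2 _ hwP)
  have h2 := congrArg (fun z => ((β z : cenSup S P) : Ω)) h
  simpa only [map_mul, Subgroup.coe_mul, hw] using h2

/-- The automorphisms of `P C_S(P)` in the system preserving `P` and trivial on `C_S(P)` modulo
`P`. -/
def trivLift (F : FusionSystem S) {P : Subgroup Ω} (hP : P ≤ S) :
    Subgroup (MulAut (cenSup S P)) where
  carrier := {β | β ∈ F.autGroup (cenSup S P) ∧ (∀ x, (β x : Ω) ∈ P ↔ (x : Ω) ∈ P) ∧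
    ∀ x : cenSup S P, (x : Ω) ∈ centralizerIn S P → (x : Ω)⁻¹ * (β x : Ω) ∈ P}
  one_mem' := ⟨one_mem _, fun _ => Iff.rfl, fun x _ => by
    show (x : Ω)⁻¹ * (x : Ω) ∈ P
    rw [inv_mul_cancel]; exact one_mem _⟩
  mul_mem' := by
    rintro a b ⟨ha, hai, haP⟩ ⟨hb, hbi, hbP⟩
    refine ⟨mul_mem ha hb, fun x => (hai _).trans (hbi x), fun x hx => ?_⟩
    have h1 := haP (b x) (apply_mem_centralizerIn_of_iff hP hbi x hx)
    have e : (x : Ω)⁻¹ * ((a * b) x : Ω) =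
        ((x : Ω)⁻¹ * (b x : Ω)) * ((b x : Ω)⁻¹ * (a (b x) : Ω)) := by
      rw [MulAut.mul_apply]; group
    rw [e]
    exact mul_mem (hbP x hx) h1
  inv_mem' := by
    rintro a ⟨ha, hai, haP⟩
    have hii : ∀ x, (a⁻¹ x : Ω) ∈ P ↔ (x : Ω) ∈ P := fun x => by
      have h := hai (a⁻¹ x)
      rw [MulAut.apply_inv_self] at h
      exact h.symm
    refine ⟨inv_mem ha, hii, fun x hx => ?_⟩
    have hd := apply_mem_centralizerIn_of_iff hP hii x hx
    have h1 := haP (a⁻¹ x) hd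
    rw [MulAut.apply_inv_self] at h1
    have h2 := inv_mem h1
    rw [mul_inv_rev, inv_inv] at h2
    have e : (x : Ω)⁻¹ * (a⁻¹ x : Ω) ∈ P := h2
    exact e

theorem trivLift_le_autGroup {P : Subgroup Ω} {hP : P ≤ S} :
    trivLift F hP ≤ F.autGroup (cenSup S P) := fun _ h => h.1

theorem shift_mem_centre {P : Subgroup Ω} {hP : P ≤ S} {β : MulAut (cenSup S P)}
    (hβ : β ∈ trivLift F hP) (c : centralizerIn S P) :
    (c : Ω)⁻¹ * (β ⟨c, cen_mem_cenSup c⟩ : Ω) ∈ P ⊓ centralizerIn S P :=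
  ⟨hβ.2.2 ⟨c, cen_mem_cenSup c⟩ c.2, Subgroup.mul_mem _ (Subgroup.inv_mem _ c.2)
    (apply_mem_centralizerIn_of_iff hP hβ.2.1 ⟨c, cen_mem_cenSup c⟩ c.2)⟩

/-- The displacement of an element of `trivLift`, a homomorphism on `C_S(P)`. -/
def shiftHom {P : Subgroup Ω} {hP : P ≤ S} {β : MulAut (cenSup S P)} (hβ : β ∈ trivLift F hP) :
    centralizerIn S P →* Ω :=
  MonoidHom.mk' (fun c => (c : Ω)⁻¹ * (β ⟨c, cen_mem_cenSup c⟩ : Ω)) fun c d => by
    set z := (c : Ω)⁻¹ * (β ⟨c, cen_mem_cenSup c⟩ : Ω) with hz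
    have hzd : z * (d : Ω) = (d : Ω) * z := d.2.2 _ (shift_mem_centre hβ c).1
    have hc : (β ⟨c, cen_mem_cenSup c⟩ : Ω) = c * z := by rw [hz]; group
    have e : (⟨((c * d : centralizerIn S P) : Ω), cen_mem_cenSup (c * d)⟩ : cenSup S P) =
        ⟨c, cen_mem_cenSup c⟩ * ⟨d, cen_mem_cenSup d⟩ := rfl
    show ((c * d : centralizerIn S P) : Ω)⁻¹ * _ = _
    rw [e, map_mul, Subgroup.coe_mul, Subgroup.coe_mul, mul_inv_rev, hc]
    calc (d : Ω)⁻¹ * (c : Ω)⁻¹ * ((c : Ω) * z * (β ⟨d, cen_mem_cenSup d⟩ : Ω))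
        = (d : Ω)⁻¹ * (z * (d : Ω)) * ((d : Ω)⁻¹ * (β ⟨d, cen_mem_cenSup d⟩ : Ω)) := by group
      _ = _ := by rw [hzd]; group

theorem shiftHom_apply {P : Subgroup Ω} {hP : P ≤ S} {β : MulAut (cenSup S P)}
    (hβ : β ∈ trivLift F hP) (c : centralizerIn S P) :
    shiftHom hβ c = (c : Ω)⁻¹ * (β ⟨c, cen_mem_cenSup c⟩ : Ω) := rfl

theorem shiftHom_eq_one_iff {P : Subgroup Ω} {hP : P ≤ S} {β : MulAut (cenSup S P)}
    (hβ : β ∈ trivLift F hP) (c : centralizerIn S P) :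
    shiftHom hβ c = 1 ↔ (β ⟨c, cen_mem_cenSup c⟩ : Ω) = c := by
  rw [shiftHom_apply, inv_mul_eq_one]
  exact eq_comm

/-- The displacement is invariant under the centralizer system of a fully centralized `P`. -/
theorem shiftHom_invariant [Fact p.Prime] [Finite S] (hS : IsPGroup p S) (hF : F.IsSaturated p)
    {P : Subgroup Ω} (hP : F.IsFullyCentralized P) {β : MulAut (cenSup S P)}
    (hβ : β ∈ trivLift F hP.1) (hco : (orderOf β).Coprime p) {R : Subgroup Ω} {θ : R →* Ω}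
    (hθ : θ ∈ F.centralizerHom P R) (r : R) :
    shiftHom hβ ⟨θ r, hθ.2.2.1 r⟩ = shiftHom hβ ⟨r, hθ.2.1 r.2⟩ := by
  classical
  set C := centralizerIn S P with hC
  obtain ⟨EC, hEC⟩ := exists_centralizerSystem F hP.1
  have hECs := isSaturated_centralizerSystem hS hF hP hEC
  have hCp : IsPGroup p C := hS.to_le (centralizerIn_le P)
  haveI : Finite C := finite_centralizerIn P
  let D : FusionSystem C :=
    { Hom := fun Q => {φ | ∃ h : φ ∈ EC.Hom Q,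
        ∀ x : Q, shiftHom hβ ⟨φ x, val_mem h x⟩ = shiftHom hβ ⟨x, src_le h x.2⟩}
      le_of_mem := fun h => EC.le_of_mem h.1
      injective_of_mem := fun h => EC.injective_of_mem h.1
      conj_mem := fun {Q g} hQ hg => ⟨EC.conj_mem hQ hg, fun x => by
        rw [show (⟨conjHom Q g x, val_mem (EC.conj_mem hQ hg) x⟩ : C) =
          ⟨g, hg⟩ * ⟨x, hQ x.2⟩ * ⟨g, hg⟩⁻¹ from Subtype.ext rfl, map_mul, map_mul, map_inv]
        have h1 := (shift_mem_centre hβ ⟨g, hg⟩).1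
        have h2 := (shift_mem_centre hβ ⟨x, hQ x.2⟩).2.2 _ h1
        rw [show shiftHom hβ ⟨g, hg⟩ * shiftHom hβ ⟨x, hQ x.2⟩ =
          shiftHom hβ ⟨x, hQ x.2⟩ * shiftHom hβ ⟨g, hg⟩ from h2]
        group⟩
      comp_mem := fun {P₁ Q₁ φ ψ} h₁ h₂ h => by
        obtain ⟨hφ, hφx⟩ := h₁
        obtain ⟨hψ, hψx⟩ := h₂
        exact ⟨EC.comp_mem hφ hψ h, fun x => (hψx ⟨φ x, h x⟩).trans (hφx x)⟩
      inv_mem := fun {P₁ φ} h₁ => by
        obtain ⟨hφ, hφx⟩ := h₁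
        refine ⟨_, ⟨rangeInv_mem hφ, ?_⟩, fun x => rangeInv_apply _ _ x _⟩
        rintro ⟨_, x, rfl⟩
        refine Eq.trans ?_ (hφx x).symm
        exact congrArg (shiftHom hβ) (Subtype.ext (rangeInv_apply φ _ x _)) }
  suffices hle : EC ≤ D by
    obtain ⟨h, hx⟩ := hle R ((hEC R).symm ▸ hθ : θ ∈ EC.Hom R)
    exact hx r
  refine Fusion87.le_of_autGroup_centric_radical hCp hECs fun Q hQn hQc _ _ γ hγ => ?_
  have hQC : Q ≤ C := hQn.1
  have hQS : Q ≤ S := hQC.trans (centralizerIn_le P)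
  haveI : Finite Q := finite_of_le hQS
  haveI := finite_mulAut (S := S) hQS
  have hZQ : ∀ z ∈ P ⊓ C, z ∈ Q := fun z hz =>
    centralizerIn_le_of_isCentric hQc ⟨hz.2, fun q hq => ((hQC hq).2 z hz.1).symm⟩
  have hQW : Q ≤ cenSup S P := fun q hq => Subgroup.mem_sup_right (hQC hq)
  have hshiftQ : ∀ q : Q, (q : Ω)⁻¹ * (β ⟨q, hQW q.2⟩ : Ω) ∈ Q := fun q =>
    hZQ _ (shift_mem_centre hβ ⟨q, hQC q.2⟩)
  have hmapsQ : ∀ q : Q, (autHom β).comp (Subgroup.inclusion hQW) q ∈ Q := fun q => by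
    have e : (β ⟨q, hQW q.2⟩ : Ω) = q * ((q : Ω)⁻¹ * (β ⟨q, hQW q.2⟩ : Ω)) := by group
    show (β ⟨q, hQW q.2⟩ : Ω) ∈ Q
    rw [e]
    exact mul_mem q.2 (hshiftQ q)
  obtain ⟨b, hb, hbx⟩ := exists_aut_of_hom
    (restrict_mem (autGroup_hom_mem (cenSup_le hP.1) hβ.1) hQW) hmapsQ
  have hbx' : ∀ q : Q, (b q : Ω) = (β ⟨q, hQW q.2⟩ : Ω) := hbx
  have hbpow : ∀ (n : ℕ) (q : Q), ((b ^ n) q : Ω) = ((β ^ n) ⟨q, hQW q.2⟩ : Ω) := by
    intro n
    induction n with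
    | zero => intro q; rfl
    | succ n ih =>
      intro q
      rw [pow_succ', pow_succ', MulAut.mul_apply, MulAut.mul_apply, hbx']
      exact congrArg (fun z => ((β z : cenSup S P) : Ω)) (Subtype.ext (ih q))
  have hb1 : b ^ orderOf β = 1 := by
    refine MulEquiv.ext fun q => Subtype.ext ?_
    rw [hbpow, pow_orderOf_eq_one]
    rfl
  -- extensions to `P Q`
  have hγF : autHom γ ∈ F.centralizerHom P Q := hEC Q ▸ autGroup_hom_mem hQC hγ
  obtain ⟨γ', hγ', hγQ, hγP⟩ := hγF.2.2.2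
  have hPQW : Q ⊔ P ≤ cenSup S P := sup_le hQW le_sup_left
  have hγm : ∀ x, γ' x ∈ Q ⊔ P := hom_sup_mem γ'
    (fun x => Subgroup.mem_sup_left (by rw [hγQ]; exact (γ x).2))
    (fun x => Subgroup.mem_sup_right (by rw [hγP]; exact x.2))
  haveI : Finite (Q ⊔ P : Subgroup Ω) := finite_of_le (sup_le hQS hP.1)
  obtain ⟨γh, hγh, hγhx⟩ := exists_aut_of_hom hγ' hγm
  have hβm : ∀ x, (autHom β).comp (Subgroup.inclusion hPQW) x ∈ Q ⊔ P := hom_sup_mem _
    (fun x => Subgroup.mem_sup_left (hmapsQ x))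
    (fun x => Subgroup.mem_sup_right ((hβ.2.1 _).2 x.2))
  obtain ⟨bh, hbh, hbhx⟩ := exists_aut_of_hom
    (restrict_mem (autGroup_hom_mem (cenSup_le hP.1) hβ.1) hPQW) hβm
  set k := γ * b * γ⁻¹ * b⁻¹ with hk
  set kh := γh * bh * γh⁻¹ * bh⁻¹ with hkh
  have hγhQ : ∀ q : Q, γh (Subgroup.inclusion le_sup_left q) = Subgroup.inclusion le_sup_left (γ q) :=
    fun q => Subtype.ext ((hγhx _).trans (hγQ q))
  have hbhQ : ∀ q : Q, bh (Subgroup.inclusion le_sup_left q) = Subgroup.inclusion le_sup_left (b q) :=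
    fun q => Subtype.ext ((hbhx _).trans (hbx' q).symm)
  have hinvQ : ∀ {c : MulAut (Q ⊔ P : Subgroup Ω)} {d : MulAut Q},
      (∀ q : Q, c (Subgroup.inclusion le_sup_left q) = Subgroup.inclusion le_sup_left (d q)) →
      ∀ q : Q, c⁻¹ (Subgroup.inclusion le_sup_left q) = Subgroup.inclusion le_sup_left (d⁻¹ q) := by
    intro c d h q
    have h1 := h (d⁻¹ q)
    rw [MulAut.apply_inv_self] at h1
    rw [← h1, MulAut.inv_apply_self]
  have hkQ : ∀ q : Q, kh (Subgroup.inclusion le_sup_left q) = Subgroup.inclusion le_sup_left (k q) := by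
    intro q
    simp only [hkh, hk, MulAut.mul_apply, hinvQ hbhQ, hinvQ hγhQ, hγhQ, hbhQ]
  have hγhP : ∀ x : P, γh (Subgroup.inclusion le_sup_right x) = Subgroup.inclusion le_sup_right x :=
    fun x => Subtype.ext ((hγhx _).trans (hγP x))
  have hγhinvP : ∀ x : P, γh⁻¹ (Subgroup.inclusion le_sup_right x) =
      Subgroup.inclusion le_sup_right x := fun x => by
    conv_lhs => rw [← hγhP x]
    exact MulAut.inv_apply_self _ γh _
  have hkP : ∀ x : P, (kh (Subgroup.inclusion le_sup_right x) : Ω) = x := by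
    intro x
    set w := bh⁻¹ (Subgroup.inclusion le_sup_right x) with hw
    have hwP : (w : Ω) ∈ P := by
      refine (hβ.2.1 ⟨w, hPQW w.2⟩).1 ?_
      rw [show ((β ⟨w, hPQW w.2⟩ : cenSup S P) : Ω) = (bh w : Ω) from (hbhx w).symm, hw,
        MulAut.apply_inv_self]
      exact x.2
    have e : w = Subgroup.inclusion le_sup_right (⟨w, hwP⟩ : P) := rfl
    show (γh (bh (γh⁻¹ w)) : Ω) = x
    rw [e, hγhinvP, ← e, hw, MulAut.apply_inv_self, hγhP]
    rfl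
  have hkF : kh ∈ F.autGroup (Q ⊔ P) :=
    mul_mem (mul_mem (mul_mem hγh hbh) (inv_mem hγh)) (inv_mem hbh)
  have hkE : k ∈ EC.autGroup Q := by
    refine (mem_autGroup hQC).2 ?_
    rw [hEC]
    refine ⟨?_, hQC, fun q => hQC (k q).2, _, autGroup_hom_mem (sup_le hQS hP.1) hkF,
      fun q => congrArg Subtype.val (hkQ q), hkP⟩
    refine mem_congr (restrict_mem (autGroup_hom_mem (sup_le hQS hP.1) hkF)
      (le_sup_left : Q ≤ Q ⊔ P)) fun q => (congrArg Subtype.val (hkQ q)).symm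
  -- `γ` fixes `P ∩ C`
  have hγfix : ∀ (z : Ω) (hz : z ∈ P ⊓ C), (γ ⟨z, hZQ z hz⟩ : Ω) = z := by
    intro z hz
    refine Eq.trans ?_ (hγP ⟨z, hz.1⟩)
    rw [← autHom_apply, ← hγQ]
    exact congrArg γ' (Subtype.ext rfl)
  have hbq : ∀ q : Q, ∃ z ∈ P ⊓ C, (b q : Ω) = q * z := fun q =>
    ⟨_, shift_mem_centre hβ ⟨q, hQC q.2⟩, by rw [hbx']; group⟩
  let M : Subgroup (MulAut Q) :=
    { carrier := {κ | κ ∈ EC.autGroup Q ∧ ∀ q : Q, (q : Ω)⁻¹ * (κ q : Ω) ∈ P ⊓ C}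
      one_mem' := ⟨one_mem _, fun q => by
        show (q : Ω)⁻¹ * (q : Ω) ∈ P ⊓ C
        rw [inv_mul_cancel]; exact one_mem _⟩
      mul_mem' := by
        rintro a c ⟨ha, haP⟩ ⟨hc, hcP⟩
        refine ⟨mul_mem ha hc, fun q => ?_⟩
        have e : (q : Ω)⁻¹ * ((a * c) q : Ω) =
            ((q : Ω)⁻¹ * (c q : Ω)) * ((c q : Ω)⁻¹ * (a (c q) : Ω)) := by
          rw [MulAut.mul_apply]; group
        rw [e]
        exact mul_mem (hcP q) (haP _)
      inv_mem' := by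
        rintro a ⟨ha, haP⟩
        refine ⟨inv_mem ha, fun q => ?_⟩
        have h1 := inv_mem (haP (a⁻¹ q))
        rw [MulAut.apply_inv_self, mul_inv_rev, inv_inv] at h1
        exact h1 }
  have hECfix : ∀ κ ∈ EC.autGroup Q, ∀ (z : Ω) (hz : z ∈ P ⊓ C), (κ ⟨z, hZQ z hz⟩ : Ω) = z := by
    intro κ hκ z hz
    have hκF : autHom κ ∈ F.centralizerHom P Q := hEC Q ▸ autGroup_hom_mem hQC hκ
    obtain ⟨κ', -, hκQ, hκP⟩ := hκF.2.2.2
    refine Eq.trans ?_ (hκP ⟨z, hz.1⟩)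
    rw [← autHom_apply, ← hκQ]
    exact congrArg κ' (Subtype.ext rfl)
  have hMn : (M.subgroupOf (EC.autGroup Q)).Normal := by
    refine ⟨fun m hm g => ⟨mul_mem (mul_mem g.2 hm.1) (inv_mem g.2), fun q => ?_⟩⟩
    set w : Q := ((g : MulAut Q))⁻¹ q with hw
    have h1 := hm.2 w
    have h3 : (g : MulAut Q) w = q := by rw [hw, MulAut.apply_inv_self]
    have e : (m : MulAut Q) w = w * ⟨_, hZQ _ h1⟩ := Subtype.ext (by
      show ((m : MulAut Q) w : Ω) = (w : Ω) * ((w : Ω)⁻¹ * ((m : MulAut Q) w : Ω))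
      group)
    show (q : Ω)⁻¹ * ((g : MulAut Q) ((m : MulAut Q) w) : Ω) ∈ P ⊓ C
    rw [e, map_mul, Subgroup.coe_mul, h3, hECfix g g.2 _ h1, inv_mul_cancel_left]
    exact h1
  have hMp : IsPGroup p (M.subgroupOf (EC.autGroup Q)) := by
    refine Fusion87.isPGroup_of_coprime_trivial fun m hm => ?_
    refine Subtype.ext (Subtype.ext (MulEquiv.ext fun q => ?_))
    have hmM : ((m : EC.autGroup Q) : MulAut Q) ∈ M := m.2
    have h1 := hmM.2 q
    refine Fusion87.fix_of_step (p := p) _ ?_ q ?_ ?_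
    · rwa [Subgroup.orderOf_coe, Subgroup.orderOf_coe]
    · refine Subtype.ext ?_
      exact hECfix _ hmM.1 _ h1
    · obtain ⟨j, hj⟩ := (hS.to_le hQS) (q⁻¹ * ((m : EC.autGroup Q) : MulAut Q) q)
      exact ⟨j, hj⟩
  have hkM : k ∈ M := by
    refine ⟨hkE, fun q => ?_⟩
    obtain ⟨z₁, hz₁, e₁⟩ := hbq (b⁻¹ q)
    rw [MulAut.apply_inv_self] at e₁
    have e₁' : b⁻¹ q = q * (⟨z₁, hZQ _ hz₁⟩ : Q)⁻¹ := by
      refine Subtype.ext ?_
      show (b⁻¹ q : Ω) = q * z₁⁻¹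
      rw [e₁]; group
    obtain ⟨z₂, hz₂, e₂⟩ := hbq (γ⁻¹ (b⁻¹ q))
    have e₂' : b (γ⁻¹ (b⁻¹ q)) = γ⁻¹ (b⁻¹ q) * ⟨z₂, hZQ _ hz₂⟩ := Subtype.ext e₂
    show (q : Ω)⁻¹ * (γ (b (γ⁻¹ (b⁻¹ q))) : Ω) ∈ P ⊓ C
    rw [e₂', map_mul, MulAut.apply_inv_self, Subgroup.coe_mul, hγfix _ hz₂, e₁',
      Subgroup.coe_mul, InvMemClass.coe_inv, ← mul_assoc, inv_mul_cancel_left]
    exact mul_mem (inv_mem hz₁) hz₂
  obtain ⟨-, hsyl⟩ := isFullyAutomized_iff.1 (isFullyAutomized_of_isFullyNormalized hCp hECs hQn)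
  have hkS : k ∈ autInducedBy C Q := by
    haveI := hMn
    have h1 := PSolvable.pCore_le_sylow hsyl.toSylow
      (PSolvable.le_pCore hMp (Subgroup.mem_subgroupOf.2 hkM :
        (⟨k, hkE⟩ : EC.autGroup Q) ∈ M.subgroupOf (EC.autGroup Q)))
    rw [IsSylowIn.coe_toSylow] at h1
    exact h1
  obtain ⟨y, hy, hyx⟩ := mem_autInducedBy.1 hkS
  -- `k` commutes with `b`
  have hcomm : Commute k b := by
    refine MulEquiv.ext fun q => Subtype.ext ?_
    show (k (b q) : Ω) = (b (k q) : Ω)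
    rw [hbx' (k q), hyx]
    set yW : cenSup S P := ⟨y, Subgroup.mem_sup_right hy⟩ with hyW
    have e : (⟨(k q : Ω), hQW (k q).2⟩ : cenSup S P) = yW * ⟨q, hQW q.2⟩ * yW⁻¹ :=
      Subtype.ext (hyx q)
    rw [e, map_mul, map_mul, map_inv, Subgroup.coe_mul, Subgroup.coe_mul, InvMemClass.coe_inv,
      ← hbx']
    set z := (y : Ω)⁻¹ * (β yW : Ω) with hz
    have hzM := shift_mem_centre hβ ⟨y, hy⟩
    have hc : (b q : Ω) ∈ C := hQC (b q).2
    have e2 : (β yW : Ω) = y * z := by rw [hz]; group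
    have e3 : z * (b q : Ω) = (b q : Ω) * z := hc.2 z hzM.1
    rw [e2]
    calc y * (b q : Ω) * y⁻¹ = y * ((b q : Ω) * z * z⁻¹) * y⁻¹ := by group
      _ = y * z * (b q : Ω) * (y * z)⁻¹ := by rw [← e3]; group
  have hk1 : k = 1 := by
    obtain ⟨j, hj⟩ := (isPGroup_autInducedBy hCp : IsPGroup p (autInducedBy C Q)) ⟨k, hkS⟩
    have h1 : (γ * b * γ⁻¹) ^ orderOf β = 1 := by
      rw [conj_pow, hb1, mul_one, mul_inv_cancel]
    have e : γ * b * γ⁻¹ = k * b := by rw [hk]; group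
    rw [e, hcomm.mul_pow, hb1, mul_one] at h1
    rw [← orderOf_eq_one_iff]
    exact Nat.eq_one_of_dvd_coprimes (hco.pow_right j) (orderOf_dvd_of_pow_eq_one h1)
      (orderOf_dvd_of_pow_eq_one (congrArg Subtype.val hj))
  have hγb : γ * b = b * γ := by
    rw [hk] at hk1
    exact mul_inv_eq_iff_eq_mul.1 (mul_inv_eq_one.1 hk1)
  refine (mem_autGroup hQC).2 ⟨autGroup_hom_mem hQC hγ, fun q => ?_⟩
  obtain ⟨z, hz, e⟩ := hbq q
  have h1 : b (γ q) = γ q * ⟨z, hZQ z hz⟩ := by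
    rw [show b (γ q) = γ (b q) from (DFunLike.congr_fun hγb q).symm,
      show b q = q * ⟨z, hZQ z hz⟩ from Subtype.ext e, map_mul]
    exact congrArg (γ q * ·) (Subtype.ext (hγfix z hz))
  rw [shiftHom_apply, shiftHom_apply]
  show ((γ q : Q) : Ω)⁻¹ * (β ⟨(γ q : Q), hQW (γ q).2⟩ : Ω) = (q : Ω)⁻¹ * (β ⟨q, hQW q.2⟩ : Ω)
  rw [← hbx', ← hbx', h1, e, Subgroup.coe_mul]
  group

/-- A map agreeing with `β` on `P` has the same displacement values as `β`. -/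
theorem shiftHom_agree [Fact p.Prime] [Finite S] (hS : IsPGroup p S) (hF : F.IsSaturated p)
    {P : Subgroup Ω} (hP : F.IsFullyCentralized P) {β : MulAut (cenSup S P)}
    (hβ : β ∈ trivLift F hP.1) (hco : (orderOf β).Coprime p) {R : Subgroup Ω}
    (hR : R ≤ centralizerIn S P) {ψ : (R ⊔ P : Subgroup Ω) →* Ω} (hψ : ψ ∈ F.Hom (R ⊔ P))
    (hag : ∀ x : P, ψ (Subgroup.inclusion le_sup_right x) =
      (β (Subgroup.inclusion le_sup_left x) : Ω))
    (r : R) (hv : ψ (Subgroup.inclusion le_sup_left r) ∈ centralizerIn S P) :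
    shiftHom hβ ⟨ψ (Subgroup.inclusion le_sup_left r), hv⟩ =
      shiftHom hβ ⟨(β ⟨r, Subgroup.mem_sup_right (hR r.2)⟩ : Ω),
        apply_mem_centralizerIn_of_iff hP.1 hβ.2.1 _ (hR r.2)⟩ := by
  set R' := imgSub (autHom β) R with hR'
  have hR'C : R' ≤ centralizerIn S P := by
    intro y hy
    obtain ⟨x, hx, rfl⟩ := mem_imgSub.1 hy
    exact apply_mem_centralizerIn_of_iff hP.1 hβ.2.1 x (hR hx)
  have hW' : R' ⊔ P ≤ cenSup S P :=
    sup_le (fun y hy => Subgroup.mem_sup_right (hR'C hy)) le_sup_left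
  have hiii : β⁻¹ ∈ trivLift F hP.1 := inv_mem hβ
  have hback : ∀ y, (autHom β⁻¹).comp (Subgroup.inclusion hW') y ∈ R ⊔ P := by
    refine hom_sup_mem _ (fun y => ?_) (fun y => Subgroup.mem_sup_right ((hiii.2.1 _).2 y.2))
    obtain ⟨x, hx, hxy⟩ := mem_imgSub.1 y.2
    refine Subgroup.mem_sup_left ?_
    show (β⁻¹ (Subgroup.inclusion hW' (Subgroup.inclusion le_sup_left y)) : Ω) ∈ R
    rw [show (Subgroup.inclusion hW' (Subgroup.inclusion le_sup_left y)) = β x from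
      Subtype.ext hxy.symm, MulAut.inv_apply_self]
    exact hx
  obtain ⟨θ', hθ', hθ'x⟩ := exists_comp
    (restrict_mem (autGroup_hom_mem (cenSup_le hP.1) hiii.1) hW') hψ hback
  set θ := θ'.comp (Subgroup.inclusion (le_sup_left : R' ≤ R' ⊔ P)) with hθ
  have hfixP : ∀ x : P, θ' (Subgroup.inclusion le_sup_right x) = x := by
    intro x
    rw [hθ'x]
    set w : P := ⟨(β⁻¹ (Subgroup.inclusion le_sup_left x) : Ω), (hiii.2.1 _).2 x.2⟩ with hw
    have e1 : (⟨_, hback (Subgroup.inclusion le_sup_right x)⟩ : (R ⊔ P : Subgroup Ω)) =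
        Subgroup.inclusion le_sup_right w := Subtype.ext rfl
    rw [e1, hag w,
      show Subgroup.inclusion le_sup_left w = β⁻¹ (Subgroup.inclusion le_sup_left x) from
        Subtype.ext rfl, MulAut.apply_inv_self]
    rfl
  have hθv : ∀ y : R', θ y ∈ centralizerIn S P := by
    intro y
    refine ⟨val_mem hθ' _, fun x hx => ?_⟩
    have h : (Subgroup.inclusion le_sup_right (⟨x, hx⟩ : P) : (R' ⊔ P : Subgroup Ω)) *
        Subgroup.inclusion le_sup_left y =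
        Subgroup.inclusion le_sup_left y * Subgroup.inclusion le_sup_right ⟨x, hx⟩ :=
      Subtype.ext ((hR'C y.2).2 x hx)
    have h2 := congrArg θ' h
    rw [map_mul, map_mul, hfixP] at h2
    exact h2
  have hmemC : θ ∈ F.centralizerHom P R' :=
    ⟨restrict_mem hθ' le_sup_left, hR'C, hθv, θ', hθ', fun y => rfl, hfixP⟩
  set r' : R' := ⟨(β ⟨r, Subgroup.mem_sup_right (hR r.2)⟩ : Ω),
    apply_mem_imgSub (autHom β) _ r.2⟩ with hr'
  have h := shiftHom_invariant hS hF hP hβ hco hmemC r'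
  refine Eq.trans (congrArg (shiftHom hβ) (Subtype.ext ?_)) h
  show _ = θ' (Subgroup.inclusion le_sup_left r')
  rw [hθ'x]
  refine congrArg ψ (Subtype.ext ?_)
  show (r : Ω) = (β⁻¹ _ : Ω)
  rw [show Subgroup.inclusion hW' (Subgroup.inclusion le_sup_left r') =
    β ⟨r, Subgroup.mem_sup_right (hR r.2)⟩ from Subtype.ext rfl, MulAut.inv_apply_self]

/-- If some extension of `β|P` fixes `x ∈ C_S(P)` then so does `β`. -/
theorem fixed_of_agree_fixed [Fact p.Prime] [Finite S] (hS : IsPGroup p S) (hF : F.IsSaturated p)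
    {P : Subgroup Ω} (hP : F.IsFullyCentralized P) {β : MulAut (cenSup S P)}
    (hβ : β ∈ trivLift F hP.1) (hco : (orderOf β).Coprime p) {R : Subgroup Ω}
    (hR : R ≤ centralizerIn S P) {ψ : (R ⊔ P : Subgroup Ω) →* Ω} (hψ : ψ ∈ F.Hom (R ⊔ P))
    (hag : ∀ x : P, ψ (Subgroup.inclusion le_sup_right x) =
      (β (Subgroup.inclusion le_sup_left x) : Ω))
    (r : R) (hfix : ψ (Subgroup.inclusion le_sup_left r) = r) :
    (β ⟨r, Subgroup.mem_sup_right (hR r.2)⟩ : Ω) = r := by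
  set rW : cenSup S P := ⟨r, Subgroup.mem_sup_right (hR r.2)⟩ with hrW
  have h := shiftHom_agree hS hF hP hβ hco hR hψ hag r (by rw [hfix]; exact hR r.2)
  rw [show (⟨ψ (Subgroup.inclusion le_sup_left r), _⟩ : centralizerIn S P) = ⟨r, hR r.2⟩ from
    Subtype.ext hfix, shiftHom_apply, shiftHom_apply] at h
  have h1 : β (rW⁻¹ * β rW) = rW⁻¹ * β rW := by
    rw [map_mul, map_inv]
    refine Subtype.ext ?_
    rw [Subgroup.coe_mul, InvMemClass.coe_inv, Subgroup.coe_mul, InvMemClass.coe_inv]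
    exact h.symm
  obtain ⟨j, hj⟩ := hS ⟨_, cenSup_le hP.1 (rW⁻¹ * β rW).2⟩
  exact congrArg Subtype.val
    (Fusion87.fix_of_step β hco rW h1 ⟨j, Subtype.ext (by simpa using congrArg Subtype.val hj)⟩)

/-- If `β` fixes `x ∈ C_S(P)`, then an automorphism of order prime to `p` agreeing with `β` on `P`
and trivial on `x` modulo `P` fixes `x`. -/
theorem agree_fixed_of_fixed [Fact p.Prime] [Finite S] (hS : IsPGroup p S) (hF : F.IsSaturated p)
    {P : Subgroup Ω} (hP : F.IsFullyCentralized P) {β : MulAut (cenSup S P)}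
    (hβ : β ∈ trivLift F hP.1) (hco : (orderOf β).Coprime p) {R : Subgroup Ω}
    (hR : R ≤ centralizerIn S P) {ψ : (R ⊔ P : Subgroup Ω) →* Ω} (hψ : ψ ∈ F.Hom (R ⊔ P))
    (hag : ∀ x : P, ψ (Subgroup.inclusion le_sup_right x) =
      (β (Subgroup.inclusion le_sup_left x) : Ω))
    (r : R) (hfix : (β ⟨r, Subgroup.mem_sup_right (hR r.2)⟩ : Ω) = r)
    {z : Ω} (hz : z ∈ P) (hψr : ψ (Subgroup.inclusion le_sup_left r) = r * z) :
    (β ⟨z, Subgroup.mem_sup_left hz⟩ : Ω) = z := by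
  have hzS := hP.1 hz
  have hrC := hR r.2
  have hv : ψ (Subgroup.inclusion le_sup_left r) ∈ centralizerIn S P := by
    refine ⟨val_mem hψ _, fun x hx => ?_⟩
    have hsymm : ((β⁻¹ ⟨x, Subgroup.mem_sup_left hx⟩ : cenSup S P) : Ω) ∈ P :=
      ((inv_mem hβ).2.1 _).2 hx
    have h : (Subgroup.inclusion le_sup_right (⟨_, hsymm⟩ : P) : (R ⊔ P : Subgroup Ω)) *
        Subgroup.inclusion le_sup_left r =
        Subgroup.inclusion le_sup_left r * Subgroup.inclusion le_sup_right ⟨_, hsymm⟩ :=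
      Subtype.ext (hrC.2 _ hsymm)
    have h2 := congrArg ψ h
    rw [map_mul, map_mul, hag] at h2
    have e : β (Subgroup.inclusion le_sup_left (⟨_, hsymm⟩ : P)) =
        ⟨x, Subgroup.mem_sup_left hx⟩ := by
      rw [show Subgroup.inclusion le_sup_left (⟨_, hsymm⟩ : P) =
        β⁻¹ ⟨x, Subgroup.mem_sup_left hx⟩ from Subtype.ext rfl, MulAut.apply_inv_self]
    rw [e] at h2
    exact h2
  have h := shiftHom_agree hS hF hP hβ hco hR hψ hag r hv
  rw [show (⟨(β ⟨r, Subgroup.mem_sup_right (hR r.2)⟩ : Ω), _⟩ : centralizerIn S P) = ⟨r, hR r.2⟩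
    from Subtype.ext hfix, (shiftHom_eq_one_iff hβ ⟨r, hR r.2⟩).2 hfix] at h
  have hzC : z ∈ centralizerIn S P := by
    have e : z = (r : Ω)⁻¹ * ψ (Subgroup.inclusion le_sup_left r) := by rw [hψr]; group
    rw [e]
    exact mul_mem (inv_mem hrC) hv
  rw [show (⟨ψ (Subgroup.inclusion le_sup_left r), hv⟩ : centralizerIn S P) =
    ⟨r, hR r.2⟩ * ⟨z, hzC⟩ from Subtype.ext hψr, map_mul,
    (shiftHom_eq_one_iff hβ ⟨r, hR r.2⟩).2 hfix, one_mul] at h
  exact (shiftHom_eq_one_iff hβ ⟨z, hzC⟩).1 h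

end Cfsg.Agent.Lib.Fusion
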