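/-
The centralizer in `S` of a normal subsystem.
-/
import Cfsg.Agent.Lib.Fusion.TrivialLift
import Cfsg.Agent.Lib.Fusion.LeastNormal
import Cfsg.Agent.Lib.Fusion.Simple
import Cfsg.Agent.Lib.Fusion.PPowerIndex
import Cfsg.Agent.Lib.Fusion.GroupFusion

set_option autoImplicit false

namespace Cfsg.Agent.Lib.Fusion

open Cfsg Cfsg.FusionSystem

universe u

variable {Ω : Type u} [Group Ω] {S T : Subgroup Ω} {F : FusionSystem S} {E : FusionSystem T}
  {p : ℕ}

/-- `β` restricts to `α` on `P`. -/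
def Agrees {P : Subgroup Ω} (β : MulAut (cenSup S P)) (α : MulAut P) : Prop :=
  ∀ y : P, (β (Subgroup.inclusion le_sup_left y) : Ω) = (α y : Ω)

/-- The automorphisms of `P` generated by those of `p`-power order in `Aut_E(P)`. -/
def pGen (E : FusionSystem T) (p : ℕ) (P : Subgroup Ω) : Subgroup (MulAut P) :=
  Subgroup.closure {α | α ∈ E.autGroup P ∧ ∃ k, α ^ p ^ k = 1}

theorem pGen_le (E : FusionSystem T) (p : ℕ) (P : Subgroup Ω) : pGen E p P ≤ E.autGroup P :=
  (Subgroup.closure_le _).2 fun _ h => h.1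

/-- Every automorphism of a fully centralized `P` extends to `P C_S(P)`, preserving `P`. -/
theorem exists_lift_aut [Fact p.Prime] [Finite S] (hS : IsPGroup p S) (hF : F.IsSaturated p)
    {P : Subgroup Ω} (hP : F.IsFullyCentralized P) {α : MulAut P} (hα : α ∈ F.autGroup P) :
    ∃ β ∈ F.autGroup (cenSup S P), (∀ x, (β x : Ω) ∈ P ↔ (x : Ω) ∈ P) ∧ Agrees β α := by
  obtain ⟨ψ, hψ, hag⟩ := (isReceptive_of_isFullyCentralized hS hF hP).2 P (autHom α)
    (autGroup_hom_mem hP.1 hα) (range_autHom α)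
  have hsub := sup_centralizerIn_le_extender (autGroup_hom_mem hP.1 hα)
  have hψW := restrict_mem hψ hsub
  have hag' : ∀ y : P, ψ.comp (Subgroup.inclusion hsub) (Subgroup.inclusion le_sup_left y) =
      (α y : Ω) := fun y => hag y y.2 _
  haveI : Finite (cenSup S P) := finite_of_le (cenSup_le hP.1)
  have hmem : ∀ y, ψ.comp (Subgroup.inclusion hsub) y ∈ cenSup S P := by
    refine hom_sup_mem _ (fun y => ?_) fun y => ?_
    · exact Subgroup.mem_sup_left ((hag' y).symm ▸ (α y).2)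
    · refine Subgroup.mem_sup_right ?_
      have h1 := apply_mem_centralizerIn (P := P) hψ
        (Subgroup.inclusion hsub (Subgroup.inclusion le_sup_right y)) y.2.2
      rwa [imgSub_of_agree (le_extender (autGroup_hom_mem hP.1 hα)) hag, range_autHom] at h1
  obtain ⟨β, hβ, hβx⟩ := exists_aut_of_hom hψW hmem
  refine ⟨β, hβ, fun x => ⟨fun h => ?_, fun h => ?_⟩, fun y => (hβx _).trans (hag' y)⟩
  · obtain ⟨y, hy⟩ := α.surjective ⟨_, h⟩
    have h1 : β x = β (Subgroup.inclusion le_sup_left y) :=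
      Subtype.ext (((hβx _).trans (hag' y)).trans (congrArg Subtype.val hy)).symm
    rw [β.injective h1]
    exact y.2
  · rw [show x = Subgroup.inclusion le_sup_left (⟨x, h⟩ : P) from Subtype.ext rfl, hβx, hag']
    exact (α _).2

theorem conj_mem_trivLift {P : Subgroup Ω} (hP : P ≤ S) {β g : MulAut (cenSup S P)}
    (hβ : β ∈ trivLift F hP) (hg : g ∈ F.autGroup (cenSup S P))
    (hgi : ∀ x, (g x : Ω) ∈ P ↔ (x : Ω) ∈ P) : g * β * g⁻¹ ∈ trivLift F hP := by
  have hgi' : ∀ x, (g⁻¹ x : Ω) ∈ P ↔ (x : Ω) ∈ P := fun x => by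
    have h := hgi (g⁻¹ x)
    rw [MulAut.apply_inv_self] at h
    exact h.symm
  refine ⟨mul_mem (mul_mem hg hβ.1) (inv_mem hg),
    fun x => (hgi _).trans ((hβ.2.1 _).trans (hgi' x)), fun x hx => ?_⟩
  set w := g⁻¹ x with hw
  have hwC := apply_mem_centralizerIn_of_iff hP hgi' x hx
  have h1 := hβ.2.2 w hwC
  have e : ((g * β * g⁻¹) x : cenSup S P) = g w * g (w⁻¹ * β w) := by
    rw [← map_mul, mul_inv_cancel_left]
    rfl
  have h2 : (g (w⁻¹ * β w) : Ω) ∈ P := (hgi _).2 h1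
  rw [e, Subgroup.coe_mul, hw, MulAut.apply_inv_self, inv_mul_cancel_left]
  exact h2

/-- A power of order prime to `p` of a lift of an element of order prime to `p` still lifts it. -/
theorem exists_coprime_lift [Fact p.Prime] [Finite S] {P : Subgroup Ω} {hP : P ≤ S}
    {β : MulAut (cenSup S P)} (hβ : β ∈ trivLift F hP) {α : MulAut P} (hag : Agrees β α)
    (hco : (orderOf α).Coprime p) :
    ∃ β' ∈ trivLift F hP, (orderOf β').Coprime p ∧ Agrees β' α := by
  haveI := finite_mulAut (S := S) (cenSup_le hP)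
  obtain ⟨k, hk⟩ := Transfer.exists_pow_coprime (p := p) β
  obtain ⟨m, hm⟩ := exists_pow_eq_self_of_coprime (Nat.Coprime.pow_right k hco).symm
  have hpow : ∀ n, Agrees (β ^ n) (α ^ n) := by
    intro n
    induction n with
    | zero => intro y; rfl
    | succ n ih =>
      intro y
      rw [pow_succ', pow_succ', MulAut.mul_apply, MulAut.mul_apply,
        show (β ^ n) (Subgroup.inclusion le_sup_left y) = Subgroup.inclusion le_sup_left ((α ^ n) y)
          from Subtype.ext (ih y)]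
      exact hag _
  refine ⟨(β ^ p ^ k) ^ m, pow_mem (pow_mem hβ _) _,
    Nat.Coprime.coprime_dvd_left (orderOf_pow_dvd m) hk, ?_⟩
  rw [← pow_mul]
  have h1 := hpow (p ^ k * m)
  rwa [pow_mul α (p ^ k) m, hm] at h1

/-- Elements of order prime to `p` generated by `p`-elements of `Aut_E(P)` lift trivially. -/
theorem exists_trivLift_pGen [Fact p.Prime] [Finite S] (hS : IsPGroup p S) (hF : F.IsSaturated p)
    (hT : F.StronglyClosed T) (hEF : E.IsSubsystemOf F) (hE : E.IsSaturated p) {P : Subgroup Ω}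
    (hPT : P ≤ T) (hPc : centralizerIn T P ≤ P) (hP : F.IsFullyNormalized P) {α : MulAut P}
    (hα : α ∈ pGen E p P) (hco : (orderOf α).Coprime p) :
    ∃ β ∈ trivLift F hP.1, (orderOf β).Coprime p ∧ Agrees β α := by
  haveI := finite_mulAut (S := S) hP.1
  haveI : Finite T := finite_of_le hT.1
  have hTp : IsPGroup p T := hS.to_le hT.1
  have hPfc := isFullyCentralized_of_isFullyNormalized hS hF hP
  obtain ⟨-, hsyl⟩ := isFullyAutomized_iff.1 (isFullyAutomized_of_isFullyNormalized hTp hE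
    (isFullyNormalized_subsystem hS hF hEF hT hPT hP))
  suffices key : ∀ a ∈ pGen E p P, ∃ β ∈ trivLift F hP.1, Agrees β a by
    obtain ⟨β, hβ, hag⟩ := key α hα
    exact exists_coprime_lift hβ hag hco
  intro a ha
  refine Subgroup.closure_induction (p := fun a _ => ∃ β ∈ trivLift F hP.1, Agrees β a)
    ?_ ⟨1, one_mem _, fun y => rfl⟩ ?_ ?_ ha
  · rintro b ⟨hb, k, hk⟩
    obtain ⟨i, -, hi⟩ := (Nat.dvd_prime_pow Fact.out).1 (orderOf_dvd_of_pow_eq_one hk)
    obtain ⟨γ, hγ, hle⟩ := hsyl.exists_conj_le (IsPGroup.of_card (n := i)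
      ((Nat.card_zpowers _).trans hi)) (Subgroup.zpowers_le.2 hb)
    obtain ⟨t, ht, htx⟩ := mem_autInducedBy.1 (hle ⟨_, Subgroup.mem_zpowers _, rfl⟩)
    have htP : t ∈ Subgroup.normalizer (P : Set Ω) := mem_normalizer_of_aut htx
    have htS : t ∈ S := hT.1 ht
    have htW : t ∈ Subgroup.normalizer (cenSup S P : Set Ω) := by
      have h2 : conjSub t P = P := conjSub_eq_self_iff.2 htP
      have h3 : conjSub t (centralizerIn S P) = centralizerIn S P := by
        rw [conjSub_centralizerIn htS, h2]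
      refine conjSub_eq_self_iff.1 ?_
      show (P ⊔ centralizerIn S P).map _ = _
      rw [Subgroup.map_sup]
      exact congrArg₂ (· ⊔ ·) h2 h3
    set c := conjAut (cenSup S P) t htW with hc
    have hcmem : c ∈ trivLift F hP.1 := by
      refine ⟨autInducedBy_le_autGroup (cenSup_le hP.1)
        (mem_autInducedBy.2 ⟨t, htS, fun _ => rfl⟩),
        fun x => (Subgroup.mem_normalizer_iff.1 htP x).symm, fun x hx => ?_⟩
      refine hPc ⟨?_, ?_⟩
      · have e : (x : Ω)⁻¹ * (c x : Ω) = (x : Ω)⁻¹ * t * (x : Ω) * t⁻¹ := by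
          show (x : Ω)⁻¹ * (t * (x : Ω) * t⁻¹) = _
          group
        rw [e]
        refine Subgroup.mul_mem _ ?_ (Subgroup.inv_mem _ ht)
        have h1 := stronglyClosed_conj hT (inv_mem hx.1) ht
        rwa [inv_inv] at h1
      · exact Subgroup.mul_mem _ (Subgroup.inv_mem _ hx.2) (apply_mem_centralizerIn_of_iff hP.1
          (fun y => (Subgroup.mem_normalizer_iff.1 htP y).symm) x hx).2
    obtain ⟨g, hg, hgi, hgag⟩ := exists_lift_aut hS hF hPfc (autGroup_mono hEF P hγ)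
    refine ⟨g⁻¹ * c * g⁻¹⁻¹, conj_mem_trivLift hP.1 hcmem (inv_mem hg) (fun x => by
      have h := hgi (g⁻¹ x); rw [MulAut.apply_inv_self] at h; exact h.symm), fun y => ?_⟩
    rw [inv_inv, MulAut.mul_apply, MulAut.mul_apply,
      show g (Subgroup.inclusion le_sup_left y) = Subgroup.inclusion le_sup_left (γ y) from
        Subtype.ext (hgag y)]
    have h1 := htx (γ y)
    have e : c (Subgroup.inclusion le_sup_left (γ y)) =
        g (Subgroup.inclusion le_sup_left (b y)) := by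
      refine Subtype.ext ?_
      rw [hgag (b y)]
      show t * (γ y : Ω) * t⁻¹ = _
      rw [← h1]
      show (γ (b (γ⁻¹ (γ y))) : Ω) = _
      rw [MulAut.inv_apply_self]
    rw [e, MulAut.inv_apply_self]
    rfl
  · rintro a b - - ⟨β, hβ, hβa⟩ ⟨β', hβ', hβb⟩
    refine ⟨β * β', mul_mem hβ hβ', fun y => ?_⟩
    rw [MulAut.mul_apply, MulAut.mul_apply,
      show β' (Subgroup.inclusion le_sup_left y) = Subgroup.inclusion le_sup_left (b y) from
        Subtype.ext (hβb y)]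
    exact hβa _
  · rintro a - ⟨β, hβ, hβa⟩
    refine ⟨β⁻¹, inv_mem hβ, fun y => ?_⟩
    have h1 := hβa (a⁻¹ y)
    rw [MulAut.apply_inv_self] at h1
    rw [show Subgroup.inclusion le_sup_left y = β (Subgroup.inclusion le_sup_left (a⁻¹ y)) from
      Subtype.ext h1.symm, MulAut.inv_apply_self]
    rfl

/-- By the extension condition every automorphism of `T` in a normal subsystem lifts trivially. -/
theorem exists_trivLift_top [Fact p.Prime] [Finite S] (hE : E.IsNormalIn F p) {α : MulAut T}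
    (hα : α ∈ E.autGroup T) :
    ∃ β ∈ trivLift F hE.1.2.2.2.1.1, Agrees β α := by
  obtain ⟨β, hβ, hβT, hβc⟩ := hE.2 α hα
  refine ⟨β, ⟨hβ, fun x => ⟨fun h => ?_, fun h => ?_⟩, fun x hx => (hβc x hx).1⟩, hβT⟩
  · obtain ⟨y, hy⟩ := α.surjective ⟨_, h⟩
    have h1 : β x = β (Subgroup.inclusion le_sup_left y) :=
      Subtype.ext ((hβT y).trans (congrArg Subtype.val hy)).symm
    rw [β.injective h1]
    exact y.2
  · rw [show x = Subgroup.inclusion le_sup_left (⟨x, h⟩ : T) from Subtype.ext rfl, hβT]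
    exact (α _).2

/-- The elements of `C_S(T)` fixed, after any automorphism of `T C_S(T)` stabilizing `T`, by all
trivial lifts of order prime to `p` of automorphisms in `E`. -/
def centFix (F : FusionSystem S) (E : FusionSystem T) (p : ℕ) (hTS : T ≤ S) : Subgroup Ω where
  carrier := {x | ∃ hx : x ∈ centralizerIn S T, ∀ a ∈ F.autGroup (cenSup S T),
    (∀ y, (a y : Ω) ∈ T ↔ (y : Ω) ∈ T) → ∀ (P : Subgroup Ω) (hP : P ≤ S), P ≤ T →
      centralizerIn T P ≤ P → F.IsFullyNormalized P → ∀ β ∈ trivLift F hP,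
        (orderOf β).Coprime p → (∃ α ∈ E.autGroup P, Agrees β α) →
          ∀ h : (a ⟨x, Subgroup.mem_sup_right hx⟩ : Ω) ∈ cenSup S P,
            (β ⟨_, h⟩ : Ω) = a ⟨x, Subgroup.mem_sup_right hx⟩}
  one_mem' := ⟨one_mem _, fun a _ _ P hP _ _ _ β _ _ _ h => by
    have e : (⟨_, h⟩ : cenSup S P) = 1 := Subtype.ext (by
      show (a 1 : Ω) = 1
      rw [map_one]; rfl)
    rw [e, map_one]
    show (1 : Ω) = (a 1 : Ω)
    rw [map_one]; rfl⟩
  mul_mem' := by
    rintro x y ⟨hx, hx'⟩ ⟨hy, hy'⟩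
    refine ⟨mul_mem hx hy, fun a ha hai P hP hPT hPc hPn β hβ hco hα h => ?_⟩
    have hax : (a ⟨x, Subgroup.mem_sup_right hx⟩ : Ω) ∈ cenSup S P := Subgroup.mem_sup_right
      (centralizerIn_anti hPT (apply_mem_centralizerIn_of_iff hTS hai _ hx))
    have hay : (a ⟨y, Subgroup.mem_sup_right hy⟩ : Ω) ∈ cenSup S P := Subgroup.mem_sup_right
      (centralizerIn_anti hPT (apply_mem_centralizerIn_of_iff hTS hai _ hy))
    have h1 := hx' a ha hai P hP hPT hPc hPn β hβ hco hα hax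
    have h2 := hy' a ha hai P hP hPT hPc hPn β hβ hco hα hay
    have e0 : (a ⟨x * y, Subgroup.mem_sup_right (mul_mem hx hy)⟩ : Ω) =
        (a ⟨x, Subgroup.mem_sup_right hx⟩ : Ω) * (a ⟨y, Subgroup.mem_sup_right hy⟩ : Ω) :=
      congrArg Subtype.val (map_mul a ⟨x, Subgroup.mem_sup_right hx⟩ ⟨y, Subgroup.mem_sup_right hy⟩)
    have e : (⟨_, h⟩ : cenSup S P) = ⟨_, hax⟩ * ⟨_, hay⟩ := Subtype.ext e0
    rw [e, map_mul, Subgroup.coe_mul, h1, h2, e0]
  inv_mem' := by
    rintro x ⟨hx, hx'⟩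
    refine ⟨inv_mem hx, fun a ha hai P hP hPT hPc hPn β hβ hco hα h => ?_⟩
    have hax : (a ⟨x, Subgroup.mem_sup_right hx⟩ : Ω) ∈ cenSup S P := Subgroup.mem_sup_right
      (centralizerIn_anti hPT (apply_mem_centralizerIn_of_iff hTS hai _ hx))
    have h1 := hx' a ha hai P hP hPT hPc hPn β hβ hco hα hax
    have e0 : (a ⟨x⁻¹, Subgroup.mem_sup_right (inv_mem hx)⟩ : Ω) =
        (a ⟨x, Subgroup.mem_sup_right hx⟩ : Ω)⁻¹ :=
      congrArg Subtype.val (map_inv a ⟨x, Subgroup.mem_sup_right hx⟩)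
    have e : (⟨_, h⟩ : cenSup S P) = ⟨_, hax⟩⁻¹ := Subtype.ext e0
    rw [e, map_inv, InvMemClass.coe_inv, h1, e0]

variable {hTS : T ≤ S}

theorem centFix_le_centralizerIn : centFix F E p hTS ≤ centralizerIn S T := fun _ h => h.1

theorem centFix_le : centFix F E p hTS ≤ S :=
  centFix_le_centralizerIn.trans (centralizerIn_le T)

/-- `C_S(E)` is stable under the automorphisms of `T C_S(T)` stabilizing `T`. -/
theorem apply_mem_centFix {a : MulAut (cenSup S T)} (ha : a ∈ F.autGroup (cenSup S T))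
    (hai : ∀ y, (a y : Ω) ∈ T ↔ (y : Ω) ∈ T) (x : cenSup S T)
    (hx : (x : Ω) ∈ centFix F E p hTS) : (a x : Ω) ∈ centFix F E p hTS := by
  obtain ⟨hxC, hx'⟩ := hx
  have hax : (a x : Ω) ∈ centralizerIn S T := apply_mem_centralizerIn_of_iff hTS hai x hxC
  refine ⟨hax, fun b hb hbi P hP hPT hPc hPn β hβ hco hα h => ?_⟩
  exact hx' (b * a) (mul_mem hb ha) (fun y => (hbi _).trans (hai y)) P hP hPT hPc hPn β hβ hco hα h

/-- A trivial lift of an element of order prime to `p` fixes `C_S(E)`. -/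
theorem fixed_of_mem_centFix {P : Subgroup Ω} (hP : P ≤ S) (hPT : P ≤ T)
    (hPc : centralizerIn T P ≤ P) (hPn : F.IsFullyNormalized P) {β : MulAut (cenSup S P)}
    (hβ : β ∈ trivLift F hP) (hco : (orderOf β).Coprime p) {α : MulAut P}
    (hα : α ∈ E.autGroup P) (hag : Agrees β α) (x : cenSup S P)
    (hx : (x : Ω) ∈ centFix F E p hTS) : (β x : Ω) = x :=
  hx.2 1 (one_mem _) (fun _ => Iff.rfl) P hP hPT hPc hPn β hβ hco ⟨α, hα, hag⟩ x.2

/-- A subgroup centralized by `E` lies in `C_S(E)`. -/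
theorem le_centFix [Fact p.Prime] [Finite S] (hS : IsPGroup p S) (hE : E.IsNormalIn F p)
    {Y : Subgroup Ω} (hY : Y ≤ centralizerIn S T)
    (hEY : ∀ P : Subgroup Ω, E.Hom P ⊆ F.centralizerHom Y P) : Y ≤ centFix F E p hTS := by
  have hF := hE.1.2.1
  have hstr := stronglyInvariant_of_isWeaklyNormalIn hS hE.1
  intro x hx
  refine ⟨hY hx, fun a ha hai P hP hPT hPc hPn β hβ hco ⟨α, hα, hag⟩ h => ?_⟩
  have hPfc := isFullyCentralized_of_isFullyNormalized hS hF hPn
  have hTW : T ≤ cenSup S T := le_sup_left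
  have hPW : P ≤ cenSup S T := hPT.trans hTW
  have hai' : ∀ y, (a⁻¹ y : Ω) ∈ T ↔ (y : Ω) ∈ T := fun y => by
    have h := hai (a⁻¹ y)
    rw [MulAut.apply_inv_self] at h
    exact h.symm
  -- the transported automorphism on `a⁻¹ P`
  have hai2 := autGroup_hom_mem (cenSup_le hTS) (inv_mem ha)
  obtain ⟨χ, hχ, hχx⟩ := hstr P P le_rfl hPT (autHom α) (autGroup_hom_mem hPT hα)
    (fun y => (α y).2) _ (restrict_mem hai2 hPW)
  set P' := imgSub ((autHom a⁻¹).comp (Subgroup.inclusion hPW)) P with hP'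
  have hP'T : P' ≤ T := by
    intro y hy
    obtain ⟨w, hw, rfl⟩ := mem_imgSub.1 hy
    exact (hai' _).2 (hPT hw)
  obtain ⟨-, -, -, ψ, hψ, hψP, hψY⟩ := hEY P' hχ
  set ax := (a ⟨x, Subgroup.mem_sup_right (hY hx)⟩ : Ω) with hax
  have haxC : ax ∈ centralizerIn S P :=
    centralizerIn_anti hPT (apply_mem_centralizerIn_of_iff hTS hai _ (hY hx))
  set R := Subgroup.zpowers ax with hR
  have hRC : R ≤ centralizerIn S P := Subgroup.zpowers_le.2 haxC
  have hRW : R ≤ cenSup S T := Subgroup.zpowers_le.2 (SetLike.coe_mem _)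
  -- back and forth
  set i₁ := (autHom a⁻¹).comp (Subgroup.inclusion (sup_le hRW hPW)) with hi₁
  have hi₁x : i₁ (Subgroup.inclusion le_sup_left ⟨ax, Subgroup.mem_zpowers ax⟩) = x := by
    show (a⁻¹ (a ⟨x, Subgroup.mem_sup_right (hY hx)⟩) : Ω) = x
    rw [MulAut.inv_apply_self]
  have hi₁m : ∀ y, i₁ y ∈ P' ⊔ Y := by
    refine hom_sup_mem _ (fun y => ?_) fun y => Subgroup.mem_sup_left
      (apply_mem_imgSub ((autHom a⁻¹).comp (Subgroup.inclusion hPW)) y y.2)
    obtain ⟨n, hn⟩ := Subgroup.mem_zpowers_iff.1 y.2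
    rw [show (Subgroup.inclusion le_sup_left y : (R ⊔ P : Subgroup Ω)) =
      (Subgroup.inclusion le_sup_left ⟨ax, Subgroup.mem_zpowers ax⟩) ^ n from
      Subtype.ext (by simp [hn.symm]), map_zpow, hi₁x]
    exact Subgroup.mem_sup_right (Subgroup.zpow_mem _ hx n)
  obtain ⟨ψ₁, hψ₁, hψ₁x⟩ := exists_comp (restrict_mem hai2 (sup_le hRW hPW)) hψ hi₁m
  have hP'W : P' ⊔ Y ≤ cenSup S T :=
    sup_le (hP'T.trans hTW) fun y hy => Subgroup.mem_sup_right (hY hy)
  have hψm : ∀ y, ψ y ∈ cenSup S T := hom_sup_mem _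
    (fun y => hTW (by rw [hψP]; exact val_mem hχ y))
    (fun y => by rw [hψY]; exact Subgroup.mem_sup_right (hY y.2))
  have hψ₁m : ∀ y, ψ₁ y ∈ cenSup S T := fun y => by rw [hψ₁x]; exact hψm _
  obtain ⟨ψ₂, hψ₂, hψ₂x⟩ := exists_comp hψ₁ (autGroup_hom_mem (cenSup_le hTS) ha) hψ₁m
  have h1 : (a ⟨x, Subgroup.mem_sup_right (hY hx)⟩ : Ω) = ax := rfl
  have hfix : ψ₂ (Subgroup.inclusion le_sup_left (⟨ax, Subgroup.mem_zpowers ax⟩ : R)) = ax := by
    rw [hψ₂x, autHom_apply]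
    show _ = (a ⟨x, Subgroup.mem_sup_right (hY hx)⟩ : Ω)
    refine congrArg (fun z : cenSup S T => (a z : Ω)) (Subtype.ext ?_)
    show ψ₁ _ = x
    rw [hψ₁x]
    refine Eq.trans (congrArg ψ (Subtype.ext hi₁x :
      (⟨_, hi₁m _⟩ : (P' ⊔ Y : Subgroup Ω)) = Subgroup.inclusion le_sup_right ⟨x, hx⟩)) ?_
    exact hψY ⟨x, hx⟩
  have hagP : ∀ y : P, ψ₂ (Subgroup.inclusion le_sup_right y) =
      (β (Subgroup.inclusion le_sup_left y) : Ω) := by
    intro y
    rw [hag y, hψ₂x, autHom_apply]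
    have hy' : (autHom a⁻¹).comp (Subgroup.inclusion hPW) (Subgroup.inclusion le_rfl y) ∈ P' :=
      apply_mem_imgSub _ _ y.2
    have e : ψ₁ (Subgroup.inclusion le_sup_right y) = (a⁻¹ (Subgroup.inclusion hPW (α y)) : Ω) := by
      rw [hψ₁x]
      refine Eq.trans (congrArg ψ (Subtype.ext rfl :
        (⟨_, hi₁m (Subgroup.inclusion le_sup_right y)⟩ : (P' ⊔ Y : Subgroup Ω)) =
          Subgroup.inclusion le_sup_left ⟨_, hy'⟩)) ?_
      rw [hψP]
      exact hχx y hy'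
    rw [show (⟨_, hψ₁m (Subgroup.inclusion le_sup_right y)⟩ : cenSup S T) =
      a⁻¹ (Subgroup.inclusion hPW (α y)) from Subtype.ext e, MulAut.apply_inv_self]
    rfl
  exact fixed_of_agree_fixed hS hF hPfc hβ hco hRC hψ₂ hagP ⟨ax, Subgroup.mem_zpowers ax⟩ hfix

/-- The maps of `E` extending to the identity on `C_S(E)`. -/
def fixSystem (F : FusionSystem S) (E : FusionSystem T) (p : ℕ) (hTS : T ≤ S) :
    FusionSystem T where
  Hom P := E.Hom P ∩ extHom F (centFix F E p hTS) T ⊥ P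
  le_of_mem h := E.le_of_mem h.1
  injective_of_mem h := E.injective_of_mem h.1
  conj_mem hP hg := ⟨E.conj_mem hP hg, (extSystem F (centFix F E p hTS) T ⊥ centFix_le hTS
    (exists_bot_conj_of_centralizes fun t ht y hy =>
      (((centFix_le_centralizerIn hy).2 t ht)).symm)).conj_mem hP hg⟩
  comp_mem hφ hψ h := ⟨E.comp_mem hφ.1 hψ.1 h, (extSystem F (centFix F E p hTS) T ⊥ centFix_le
    hTS (exists_bot_conj_of_centralizes fun t ht y hy =>
      (((centFix_le_centralizerIn hy).2 t ht)).symm)).comp_mem hφ.2 hψ.2 h⟩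
  inv_mem := fun {P φ} hφ => by
    obtain ⟨ψ, hψ, hx⟩ := (extSystem F (centFix F E p hTS) T ⊥ centFix_le hTS
      (exists_bot_conj_of_centralizes fun t ht y hy =>
        (((centFix_le_centralizerIn hy).2 t ht)).symm)).inv_mem hφ.2
    refine ⟨ψ, ⟨?_, hψ⟩, hx⟩
    obtain ⟨τ, hτ, hτx⟩ := E.inv_mem hφ.1
    refine mem_congr hτ ?_
    rintro ⟨_, x, rfl⟩
    exact (hx x).trans (hτx x).symm

/-- `E` lies in the centralizer system of `C_S(E)`. -/
theorem le_fixSystem [Fact p.Prime] [Finite S] (hS : IsPGroup p S) (hE : E.IsNormalIn F p) :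
    E ≤ fixSystem F E p hTS := by
  classical
  obtain ⟨hEs, hF, hinv⟩ := hE.1
  have hEF := hinv.1
  have hTc := hinv.2.1
  have hstr := stronglyInvariant_of_isWeaklyNormalIn hS hE.1
  haveI : Finite T := finite_of_le hTS
  have hTp : IsPGroup p T := hS.to_le hTS
  set C0 := centFix F E p hTS with hC0
  haveI : Finite C0 := finite_of_le (centFix_le (hTS := hTS))
  set D := fixSystem F E p hTS with hD
  -- a lift of order prime to `p` gives a map of `D`
  have hlift : ∀ (P : Subgroup Ω) (hPT : P ≤ T), centralizerIn T P ≤ P →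
      ∀ hPn : F.IsFullyNormalized P, ∀ (β : MulAut (cenSup S P)) (α : MulAut P),
        β ∈ trivLift F hPn.1 → (orderOf β).Coprime p → α ∈ E.autGroup P → Agrees β α →
          α ∈ D.autGroup P := by
    intro P hPT hPc hPn β α hβ hco hα hag
    refine (mem_autGroup hPT).2 ⟨autGroup_hom_mem hPT hα, ?_⟩
    have hle : P ⊔ C0 ≤ cenSup S P := sup_le le_sup_left fun y hy => Subgroup.mem_sup_right
      (centralizerIn_anti hPT (centFix_le_centralizerIn hy))
    refine ⟨hEF P (autGroup_hom_mem hPT hα), hPT, fun y => hPT (α y).2, _,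
      restrict_mem (autGroup_hom_mem (cenSup_le hPn.1) hβ.1) hle, fun y => hag y, 1, one_mem _,
      fun y => fixed_of_mem_centFix hPn.1 hPT hPc hPn hβ hco hα hag _ y.2⟩
  have hinner : ∀ (P : Subgroup Ω), P ≤ T → autInducedBy T P ≤ D.autGroup P := by
    intro P hPT a ha
    obtain ⟨t, ht, hx⟩ := mem_autInducedBy.1 ha
    exact (mem_autGroup hPT).2 (mem_congr (D.conj_mem hPT ht) fun y => (hx y))
  refine Fusion87.le_of_autGroup_centric_radical hTp hEs fun Q hQn hQc _ hbig α hα => ?_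
  haveI := finite_mulAut (S := T) hQn.1
  by_cases hQT : Q = T
  · subst hQT
    have hTfn : F.IsFullyNormalized Q := by
      refine ⟨hTS, fun R hR => ?_⟩
      obtain ⟨φ, hφ, rfl⟩ := hR
      haveI : Finite Q := finite_of_le hTS
      rw [range_eq_self hφ fun x => hTc.2 Q le_rfl φ hφ x]
    refine (autGroup_le_pResidual_sup hTp hEs (isFullyNormalized_top E)).trans
      (sup_le ?_ (hinner Q le_rfl)) hα
    rintro _ ⟨⟨a, ha⟩, har, rfl⟩
    refine (Subgroup.closure_le ((D.autGroup Q).comap (E.autGroup Q).subtype)).2 ?_ har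
    intro b hb
    obtain ⟨β, hβ, hag⟩ := exists_trivLift_top hE b.2
    obtain ⟨β', hβ', hco, hag'⟩ := exists_coprime_lift hβ hag (by rwa [Subgroup.orderOf_coe])
    exact hlift Q le_rfl inf_le_left hTfn β' b hβ' hco b.2 hag'
  -- move to a fully normalized subgroup
  obtain ⟨Q', hQQ', hQ'n⟩ := exists_isFullyNormalized_conj F (hQn.1.trans hTS)
  obtain ⟨ρ, hρ, -, hρimg⟩ := exists_map_to_fullyNormalized hS hF hQ'n hQQ'
  set N := normalizerIn T Q with hN
  have hNS : N ≤ normalizerIn S Q := inf_le_inf_right _ hTS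
  have hQN : Q ≤ N := le_normalizerIn hQn.1
  have hNT : N ≤ T := normalizerIn_le Q
  have hρN := restrict_mem hρ hNS
  obtain ⟨a, ha, φ₀, hφ₀, hax⟩ := hinv.2.2.2 N hNT _ hρN
  have hlt : Nat.card Q < Nat.card N := Fusion87.card_lt_normalizerIn hTp hQn.1 hQT
  obtain ⟨-, -, -, φh, hφh, hφhN, k, hk, hφhC⟩ := (hbig N hlt hφ₀).2
  rw [Subgroup.mem_bot] at hk
  subst hk
  have hTfc : F.IsFullyCentralized T := by
    refine ⟨hTS, fun R hR => ?_⟩
    obtain ⟨φ, hφ, rfl⟩ := hR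
    rw [range_eq_self hφ fun x => hTc.2 T le_rfl φ hφ x]
  obtain ⟨ah, hah, hahi, hahag⟩ := exists_lift_aut hS hF hTfc ha
  -- the map on `Q C_S(E)`
  have hQN' : Q ⊔ C0 ≤ N ⊔ C0 := sup_le_sup_right hQN _
  have hφm : ∀ y, φh.comp (Subgroup.inclusion hQN') y ∈ cenSup S T := hom_sup_mem _
    (fun y => Subgroup.mem_sup_left (by
      show φh (Subgroup.inclusion le_sup_left (Subgroup.inclusion hQN y)) ∈ T
      rw [hφhN]; exact val_mem hφ₀ _))
    (fun y => Subgroup.mem_sup_right (by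
      show φh (Subgroup.inclusion le_sup_right y) ∈ centralizerIn S T
      rw [hφhC]; exact centFix_le_centralizerIn (SetLike.coe_mem _)))
  obtain ⟨ρh, hρh, hρhx⟩ := exists_comp (restrict_mem hφh hQN')
    (autGroup_hom_mem (cenSup_le hTS) hah) hφm
  have hρhQ : ∀ y : Q, ρh (Subgroup.inclusion le_sup_left y) =
      ρ (Subgroup.inclusion (hQN.trans hNS) y) := by
    intro y
    refine (hρhx _).trans ?_
    have h2 := hax (Subgroup.inclusion hQN y) (val_mem hφ₀ _)
    refine Eq.trans ?_ h2.symm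
    refine Eq.trans ?_ (hahag ⟨φ₀ (Subgroup.inclusion hQN y), val_mem hφ₀ _⟩)
    exact congrArg (fun z : cenSup S T => (ah z : Ω)) (Subtype.ext
      (hφhN (Subgroup.inclusion hQN y)))
  have hρhC : ∀ y : C0, ρh (Subgroup.inclusion le_sup_right y) ∈ C0 := by
    intro y
    rw [hρhx]
    refine apply_mem_centFix hah hahi _ ?_
    show φh (Subgroup.inclusion le_sup_right y) ∈ C0
    rw [hφhC]
    exact SetLike.coe_mem _
  have hQ'T : Q' ≤ T := by
    rw [← hρimg]
    intro y hy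
    obtain ⟨w, hw, rfl⟩ := mem_imgSub.1 hy
    exact stronglyClosed_map hTc hρ w (hQn.1 hw)
  haveI : Finite Q' := finite_of_le (hQ'T.trans hTS)
  have hρhQ' : ∀ y : Q, ρh (Subgroup.inclusion le_sup_left y) ∈ Q' := by
    intro y
    rw [hρhQ, ← hρimg]
    exact apply_mem_imgSub ρ _ y.2
  have hQ'c : centralizerIn T Q' ≤ Q' := by
    have h := (tCentric_of_isCentric hinv hQc).2 _
      (restrict_mem hρ (hQN.trans hNS)) (by rw [range_restrict, hρimg]; exact hQ'T)
    rwa [range_restrict, hρimg] at h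
  -- the transported automorphism
  obtain ⟨χ, hχ, hχx⟩ := hstr Q Q le_rfl hQn.1 (autHom α) (autGroup_hom_mem hQn.1 hα)
    (fun y => (α y).2) _ (restrict_mem hρ (hQN.trans hNS))
  have hQ'eq : imgSub (ρ.comp (Subgroup.inclusion (hQN.trans hNS))) Q = Q' := by
    rw [imgSub_self, range_restrict, hρimg]
  have hχQ' := restrict_mem hχ hQ'eq.ge
  obtain ⟨α', hα', hα'x⟩ := exists_aut_of_hom hχQ' (fun y => by
    obtain ⟨w, hw, e⟩ := mem_imgSub.1 (hQ'eq.ge y.2)
    have e2 : (Subgroup.inclusion hQ'eq.ge y) =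
        ⟨ρ.comp (Subgroup.inclusion (hQN.trans hNS)) (Subgroup.inclusion le_rfl w),
          apply_mem_imgSub _ _ hw⟩ := Subtype.ext e.symm
    show χ (Subgroup.inclusion hQ'eq.ge y) ∈ Q'
    rw [e2, hχx]
    exact hQ'eq.le (apply_mem_imgSub _ _ (α w).2))
  have hQ'En := isFullyNormalized_subsystem hS hF hEF hTc hQ'T hQ'n
  have hcard : Nat.card Q' = Nat.card Q := isConj_card hQQ'
  have hα'D : α' ∈ D.autGroup Q' := by
    haveI := finite_mulAut (S := T) hQ'T
    set O := pGen E p Q' with hO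
    obtain ⟨-, hsyl⟩ := isFullyAutomized_iff.1 (isFullyAutomized_of_isFullyNormalized hTp hEs hQ'En)
    set A := autInducedBy T Q' with hA
    have hAO : A ≤ O := fun g hg => Subgroup.subset_closure ⟨hsyl.1 hg, by
      obtain ⟨j, hj⟩ := hsyl.2.1 ⟨g, hg⟩
      exact ⟨j, congrArg Subtype.val hj⟩⟩
    have hOD : O ≤ D.autGroup Q' := by
      intro g hg
      haveI : Finite O := inferInstance
      have hsO := hsyl.of_le hAO (pGen_le E p Q')
      have hmem : (⟨g, hg⟩ : O) ∈ pResidual p O ⊔ (hsO.toSylow : Subgroup O) := by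
        rw [Transfer.pResidual_sup_sylow]; exact Subgroup.mem_top _
      have h2 := Subgroup.mem_map_of_mem O.subtype hmem
      rw [Subgroup.map_sup, IsSylowIn.coe_toSylow, Subgroup.subgroupOf_map_subtype] at h2
      refine (sup_le ?_ (inf_le_left.trans (hinner Q' hQ'T))) h2
      rintro _ ⟨⟨b, hbO⟩, hbr, rfl⟩
      refine (Subgroup.closure_le ((D.autGroup Q').comap O.subtype)).2 ?_ hbr
      intro c hc
      obtain ⟨β, hβ, hco, hag⟩ := exists_trivLift_pGen hS hF hTc hEF hEs hQ'T hQ'c hQ'n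
        c.2 (by rwa [Subgroup.orderOf_coe])
      exact hlift Q' hQ'T hQ'c hQ'n β c hβ hco (pGen_le E p Q' c.2) hag
    have hconjle : A.map (MulAut.conj α').toMonoidHom ≤ O := by
      rintro _ ⟨g, hg, rfl⟩
      refine Subgroup.subset_closure ⟨mul_mem (mul_mem hα' (hsyl.1 hg)) (inv_mem hα'), ?_⟩
      obtain ⟨j, hj⟩ := hsyl.2.1 ⟨g, hg⟩
      refine ⟨j, ?_⟩
      show (MulAut.conj α' g) ^ p ^ j = 1
      rw [← map_pow, show g ^ p ^ j = 1 from congrArg Subtype.val hj, map_one]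
    obtain ⟨o, ho, hle⟩ := (hsyl.of_le hAO (pGen_le E p Q')).exists_conj_le (hsyl.2.1.map _) hconjle
    have hoα : o * α' ∈ E.autGroup Q' := mul_mem (pGen_le E p Q' ho) hα'
    have hext : normalizerIn T Q' ≤ extender T Q' (autHom (o * α')) := by
      intro g hg
      refine mem_extender_of_conj_mem hg.1 hg.2 ?_
      have h1 := hle ⟨_, ⟨conjAut Q' g hg.2, mem_autInducedBy.2 ⟨g, hg.1, fun _ => rfl⟩, rfl⟩, rfl⟩
      have e : (o * α') * conjAut Q' g hg.2 * (o * α')⁻¹ =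
          o * (α' * conjAut Q' g hg.2 * α'⁻¹) * o⁻¹ := by group
      rw [e]
      exact h1
    obtain ⟨ψ, hψ, hag⟩ := (isReceptive_of_isFullyNormalized hTp hEs hQ'En).2 Q' (autHom (o * α'))
      (autGroup_hom_mem hQ'T hoα) (range_autHom _)
    have hne : Q' ≠ T := fun e => hQT (Subgroup.eq_of_le_of_card_ge hQn.1 (by rw [← hcard, e]))
    have hN' := hbig (normalizerIn T Q')
      (hcard ▸ Fusion87.card_lt_normalizerIn hTp hQ'T hne) (restrict_mem hψ hext)
    have hQN'' : Q' ≤ normalizerIn T Q' := le_normalizerIn hQ'T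
    have h1 : o * α' ∈ D.autGroup Q' := (mem_autGroup hQ'T).2
      (mem_of_restrict hN' hQN'' fun y => (hag y y.2 (hext (hQN'' y.2))).symm)
    have h2 := mul_mem (inv_mem (hOD ho)) h1
    rwa [inv_mul_cancel_left] at h2
  obtain ⟨-, -, -, -, ψ', hψ', hψ'Q, k, hk, hψ'C⟩ := autGroup_hom_mem hQ'T hα'D
  rw [Subgroup.mem_bot] at hk
  subst hk
  -- transport back
  have hQC : Q ⊔ C0 ≤ S := sup_le (hQn.1.trans hTS) centFix_le
  haveI : Finite (Q ⊔ C0 : Subgroup Ω) := finite_of_le hQC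
  have hρhm : ∀ y, ρh y ∈ Q' ⊔ C0 := hom_sup_mem _
    (fun y => Subgroup.mem_sup_left (hρhQ' y))
    (fun y => Subgroup.mem_sup_right (hρhC y))
  have hρhr : ρh.range = Q' ⊔ C0 := by
    refine le_antisymm (by rintro _ ⟨y, rfl⟩; exact hρhm y) (sup_le ?_ ?_)
    · intro y hy
      obtain ⟨w, hw, e⟩ := mem_imgSub.1 (hQ'eq.ge hy)
      exact ⟨Subgroup.inclusion le_sup_left w, (hρhQ w).trans e⟩
    · have hle : imgSub ρh C0 ≤ C0 := by
        intro y hy
        obtain ⟨w, hw, rfl⟩ := mem_imgSub.1 hy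
        rw [show w = Subgroup.inclusion le_sup_right (⟨w, hw⟩ : C0) from Subtype.ext rfl]
        exact hρhC _
      have heq := Subgroup.eq_of_le_of_card_ge hle
        (card_imgSub (F.injective_of_mem hρh) le_sup_right).ge
      exact heq.ge.trans (imgSub_le_range _)
  obtain ⟨τ, hτ, hτr, hτx, -⟩ := exists_inverse hρh hρhr
  obtain ⟨μ, hμ, hμx⟩ := exists_comp hρh hψ' fun y => hρhm y
  have hμm : ∀ y, μ y ∈ Q' ⊔ C0 := fun y => by
    rw [hμx]
    exact hom_sup_mem ψ' (fun z => Subgroup.mem_sup_left (by rw [hψ'Q]; exact (α' z).2))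
      (fun z => Subgroup.mem_sup_right (by rw [hψ'C]; exact z.2)) _
  obtain ⟨ν, hν, hνx⟩ := exists_comp hμ hτ hμm
  refine (mem_autGroup hQn.1).2 ⟨autGroup_hom_mem hQn.1 hα, hEF Q (autGroup_hom_mem hQn.1 hα),
    hQn.1, fun y => hQn.1 (α y).2, ν, hν, fun y => ?_, 1, one_mem _, fun y => ?_⟩
  · rw [hνx]
    refine (congrArg τ (Subtype.ext ?_ :
      (⟨_, hμm (Subgroup.inclusion le_sup_left y)⟩ : (Q' ⊔ C0 : Subgroup Ω)) =
        ⟨_, hρhm (Subgroup.inclusion le_sup_left (α y))⟩)).trans (hτx _ _)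
    show μ _ = ρh _
    rw [hμx]
    refine (congrArg ψ' (Subtype.ext rfl :
      (⟨_, hρhm (Subgroup.inclusion le_sup_left y)⟩ : (Q' ⊔ C0 : Subgroup Ω)) =
        Subgroup.inclusion le_sup_left ⟨_, hρhQ' y⟩)).trans ?_
    rw [hψ'Q, autHom_apply, hα'x]
    refine Eq.trans ?_ (hρhQ (α y)).symm
    refine Eq.trans ?_ (hχx y (apply_mem_imgSub _ _ y.2))
    exact congrArg χ (Subtype.ext (hρhQ y))
  · rw [hνx]
    refine (congrArg τ (Subtype.ext ?_ :
      (⟨_, hμm (Subgroup.inclusion le_sup_right y)⟩ : (Q' ⊔ C0 : Subgroup Ω)) =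
        ⟨_, hρhm (Subgroup.inclusion le_sup_right y)⟩)).trans (hτx _ _)
    show μ _ = ρh _
    rw [hμx]
    refine (congrArg ψ' (Subtype.ext rfl :
      (⟨_, hρhm (Subgroup.inclusion le_sup_right y)⟩ : (Q' ⊔ C0 : Subgroup Ω)) =
        Subgroup.inclusion le_sup_right ⟨_, hρhC y⟩)).trans ?_
    exact hψ'C _

theorem hom_subset_centralizerHom_centFix [Fact p.Prime] [Finite S] (hS : IsPGroup p S)
    (hE : E.IsNormalIn F p) (P : Subgroup Ω) :
    E.Hom P ⊆ F.centralizerHom (centFix F E p hTS) P := by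
  intro φ hφ
  obtain ⟨hFφ, hPT, hφT, ψ, hψ, hψP, k, hk, hψC⟩ := (le_fixSystem (hTS := hTS) hS hE P hφ).2
  rw [Subgroup.mem_bot] at hk
  subst hk
  have hTC : T ≤ centralizerIn S (centFix F E p hTS) := fun t ht =>
    ⟨hTS ht, fun y hy => ((centFix_le_centralizerIn hy).2 t ht).symm⟩
  exact ⟨hFφ, hPT.trans hTC, fun x => hTC (hφT x), ψ, hψ, hψP, fun x => hψC x⟩

/-- `C_S(E)` is the join of the subgroups centralized by `E`. -/
theorem sSup_eq_centFix [Fact p.Prime] [Finite S] (hS : IsPGroup p S) (hE : E.IsNormalIn F p) :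
    sSup {X : Subgroup Ω | X ≤ centralizerIn S T ∧ ∀ P, E.Hom P ⊆ F.centralizerHom X P} =
      centFix F E p hTS :=
  le_antisymm (sSup_le fun _ hX => le_centFix hS hE hX.1 hX.2)
    (le_sSup ⟨centFix_le_centralizerIn, hom_subset_centralizerHom_centFix hS hE⟩)

/-- Displacements of the maps of the centralizer system of `T` lie in `C_S(E)`. -/
theorem inv_mul_mem_centFix [Fact p.Prime] [Finite S] (hS : IsPGroup p S)
    (hE : E.IsNormalIn F p) {R : Subgroup Ω} {θ : R →* Ω} (hθ : θ ∈ F.centralizerHom T R)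
    (r : R) : (r : Ω)⁻¹ * θ r ∈ centFix F E p hTS := by
  have hF := hE.1.2.1
  obtain ⟨hθF, hRC, hθC, θ', hθ', hθ'R, hθ'T⟩ := hθ
  refine ⟨mul_mem (inv_mem (hRC r.2)) (hθC r), fun a ha hai P hP hPT hPc hPn β hβ hco hα h => ?_⟩
  have hPfc := isFullyCentralized_of_isFullyNormalized hS hF hPn
  have hPW : P ≤ cenSup S T := hPT.trans le_sup_left
  have hai' : ∀ y, (a⁻¹ y : Ω) ∈ T ↔ (y : Ω) ∈ T := fun y => by
    have h := hai (a⁻¹ y)
    rw [MulAut.apply_inv_self] at h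
    exact h.symm
  -- the conjugated map fixes `P`
  set ar := (a ⟨r, Subgroup.mem_sup_right (hRC r.2)⟩ : Ω) with har
  set R' := Subgroup.zpowers ar with hR'
  have harT : ar ∈ centralizerIn S T := apply_mem_centralizerIn_of_iff hTS hai _ (hRC r.2)
  have hR'W : R' ≤ cenSup S T := Subgroup.zpowers_le.2 (SetLike.coe_mem _)
  have hm₁ : ∀ y, (autHom a⁻¹).comp (Subgroup.inclusion (sup_le hR'W hPW)) y ∈ R ⊔ T := by
    refine hom_sup_mem _ (fun y => ?_) fun y => Subgroup.mem_sup_right ((hai' _).2 (hPT y.2))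
    obtain ⟨n, hn⟩ := Subgroup.mem_zpowers_iff.1 y.2
    rw [show (Subgroup.inclusion le_sup_left y : (R' ⊔ P : Subgroup Ω)) =
      (Subgroup.inclusion le_sup_left ⟨ar, Subgroup.mem_zpowers ar⟩) ^ n from
      Subtype.ext (by simp [hn.symm]), map_zpow]
    refine Subgroup.zpow_mem _ (Subgroup.mem_sup_left ?_) n
    show (a⁻¹ (a ⟨r, Subgroup.mem_sup_right (hRC r.2)⟩) : Ω) ∈ R
    rw [MulAut.inv_apply_self]
    exact r.2
  obtain ⟨θ₁, hθ₁, hθ₁x⟩ := exists_comp
    (restrict_mem (autGroup_hom_mem (cenSup_le hTS) (inv_mem ha)) (sup_le hR'W hPW)) hθ' hm₁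
  have hm₂ : ∀ y, θ₁ y ∈ cenSup S T := fun y => by
    rw [hθ₁x]
    exact hom_sup_mem θ' (fun z => Subgroup.mem_sup_right (by rw [hθ'R]; exact hθC z))
      (fun z => Subgroup.mem_sup_left (by rw [hθ'T]; exact z.2)) _
  obtain ⟨θ₂, hθ₂, hθ₂x⟩ := exists_comp hθ₁ (autGroup_hom_mem (cenSup_le hTS) ha) hm₂
  have hP' : ∀ y : P, θ₂ (Subgroup.inclusion le_sup_right y) = y := by
    intro y
    rw [hθ₂x, autHom_apply]
    have e : θ₁ (Subgroup.inclusion le_sup_right y) = (a⁻¹ (Subgroup.inclusion hPW y) : Ω) := by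
      rw [hθ₁x]
      exact (congrArg θ' (Subtype.ext rfl :
        (⟨_, hm₁ (Subgroup.inclusion le_sup_right y)⟩ : (R ⊔ T : Subgroup Ω)) =
          Subgroup.inclusion le_sup_right ⟨_, (hai' _).2 (hPT y.2)⟩)).trans (hθ'T _)
    rw [show (⟨_, hm₂ (Subgroup.inclusion le_sup_right y)⟩ : cenSup S T) =
      a⁻¹ (Subgroup.inclusion hPW y) from Subtype.ext e, MulAut.apply_inv_self]
    rfl
  have hv : θ₂ (Subgroup.inclusion le_sup_left (⟨ar, Subgroup.mem_zpowers ar⟩ : R')) =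
      (a ⟨θ r, Subgroup.mem_sup_right (hθC r)⟩ : Ω) := by
    rw [hθ₂x, autHom_apply]
    refine congrArg (fun z : cenSup S T => (a z : Ω)) (Subtype.ext ?_)
    show θ₁ _ = θ r
    rw [hθ₁x]
    refine (congrArg θ' (Subtype.ext ?_ :
      (⟨_, hm₁ (Subgroup.inclusion le_sup_left (⟨ar, Subgroup.mem_zpowers ar⟩ : R'))⟩ :
        (R ⊔ T : Subgroup Ω)) = Subgroup.inclusion le_sup_left r)).trans (hθ'R r)
    show (a⁻¹ (a ⟨r, Subgroup.mem_sup_right (hRC r.2)⟩) : Ω) = r
    rw [MulAut.inv_apply_self]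
  have hR'C : R' ≤ centralizerIn S P := Subgroup.zpowers_le.2 (centralizerIn_anti hPT harT)
  have hvC : ∀ y : R', θ₂.comp (Subgroup.inclusion le_sup_left) y ∈ centralizerIn S P := by
    intro y
    obtain ⟨n, hn⟩ := Subgroup.mem_zpowers_iff.1 y.2
    rw [show y = (⟨ar, Subgroup.mem_zpowers ar⟩ : R') ^ n from Subtype.ext (by simp [hn.symm]),
      map_zpow]
    refine Subgroup.zpow_mem _ ?_ n
    show θ₂ (Subgroup.inclusion le_sup_left (⟨ar, Subgroup.mem_zpowers ar⟩ : R')) ∈ _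
    rw [hv]
    exact centralizerIn_anti hPT (apply_mem_centralizerIn_of_iff hTS hai _ (hθC r))
  have hC : θ₂.comp (Subgroup.inclusion le_sup_left) ∈ F.centralizerHom P R' :=
    ⟨restrict_mem hθ₂ le_sup_left, hR'C, hvC, θ₂, hθ₂, fun y => rfl, hP'⟩
  have hkey := shiftHom_invariant hS hF hPfc hβ hco hC ⟨ar, Subgroup.mem_zpowers ar⟩
  set g : centralizerIn S P := ⟨ar, centralizerIn_anti hPT harT⟩ with hg
  set g' : centralizerIn S P := ⟨_, centralizerIn_anti hPT
    (apply_mem_centralizerIn_of_iff hTS hai ⟨θ r, Subgroup.mem_sup_right (hθC r)⟩ (hθC r))⟩ with hg'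
  rw [show (⟨_, hC.2.2.1 ⟨ar, Subgroup.mem_zpowers ar⟩⟩ : centralizerIn S P) = g' from
    Subtype.ext hv] at hkey
  have h1 : shiftHom hβ (g⁻¹ * g') = 1 := by
    rw [map_mul, map_inv, hkey, inv_mul_cancel]
  have h2 := (shiftHom_eq_one_iff hβ (g⁻¹ * g')).1 h1
  have hprod : (a ⟨(r : Ω)⁻¹ * θ r,
      Subgroup.mem_sup_right (mul_mem (inv_mem (hRC r.2)) (hθC r))⟩ : Ω) = (g⁻¹ * g' : Ω) := by
    have e : (⟨(r : Ω)⁻¹ * θ r, Subgroup.mem_sup_right (mul_mem (inv_mem (hRC r.2)) (hθC r))⟩ :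
        cenSup S T) = (⟨r, Subgroup.mem_sup_right (hRC r.2)⟩)⁻¹ *
          ⟨θ r, Subgroup.mem_sup_right (hθC r)⟩ := rfl
    rw [e, map_mul, map_inv]
    rfl
  refine Eq.trans (congrArg (fun z => ((β z : cenSup S P) : Ω)) (Subtype.ext hprod :
    (⟨_, h⟩ : cenSup S P) = ⟨_, cen_mem_cenSup (g⁻¹ * g')⟩)) (h2.trans ?_)
  exact hprod.symm

end Cfsg.Agent.Lib.Fusion
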