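/-
Transfer from the biset group to a group of order `p`, with the centralizer of a fully centralized
subgroup controlled by its centralizer in `S`.
-/
import Cfsg.Agent.Lib.Fusion.BisetTransfer
import Cfsg.Agent.Lib.Fusion.Saturated

set_option autoImplicit false

namespace Cfsg.Agent.Lib.Fusion

open Cfsg Cfsg.FusionSystem
open Marks

universe u v

/-- A product along a stable set is trivial when it is trivial along every cycle. -/
theorem prod_eq_one_of_cycles {α : Type u} {M : Type v} [Finite α] [CommMonoid M] {σ : α → α}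
    (hσ : Function.Injective σ) (f : α → M) (s : Finset α) (hs : ∀ q ∈ s, σ q ∈ s)
    (hc : ∀ q ∈ s, ∀ m, σ^[m] q = q → ∏ i ∈ Finset.range m, f (σ^[i] q) = 1) :
    ∏ q ∈ s, f q = 1 := by
  classical
  induction s using Finset.strongInduction with
  | _ s ih =>
    obtain rfl | ⟨q, hq⟩ := s.eq_empty_or_nonempty
    · exact Finset.prod_empty
    set d := Function.minimalPeriod σ q with hd
    have hper : q ∈ Function.periodicPts σ := hσ.mem_periodicPts q
    have hd0 : 0 < d := Function.minimalPeriod_pos_of_mem_periodicPts hper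
    have hdq : σ^[d] q = q := Function.iterate_minimalPeriod
    set O := (Finset.range d).image fun i => σ^[i] q with hO
    have hiter : ∀ i, σ^[i] q ∈ s := by
      intro i
      induction i with
      | zero => exact hq
      | succ i hi => rw [Function.iterate_succ_apply']; exact hs _ hi
    have hOs : O ⊆ s := by
      intro r hr
      obtain ⟨i, -, rfl⟩ := Finset.mem_image.1 hr
      exact hiter i
    have hOne : q ∈ O := Finset.mem_image.2 ⟨0, Finset.mem_range.2 hd0, rfl⟩
    have hOimg : O.image σ = O := by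
      refine Finset.eq_of_subset_of_card_le ?_ (Finset.card_image_of_injective _ hσ).ge
      intro r hr
      obtain ⟨r', hr', rfl⟩ := Finset.mem_image.1 hr
      obtain ⟨i, hi, rfl⟩ := Finset.mem_image.1 hr'
      rw [← Function.iterate_succ_apply' σ i q, ← Function.iterate_mod_minimalPeriod_eq]
      exact Finset.mem_image.2 ⟨_, Finset.mem_range.2 (Nat.mod_lt _ hd0), rfl⟩
    have hrest : ∀ r ∈ s \ O, σ r ∈ s \ O := by
      intro r hr
      rw [Finset.mem_sdiff] at hr ⊢
      refine ⟨hs r hr.1, fun h => hr.2 ?_⟩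
      rw [← hOimg, Finset.mem_image] at h
      obtain ⟨r', hr', e⟩ := h
      rwa [← hσ e]
    rw [← Finset.prod_sdiff hOs,
      ih (s \ O) (Finset.sdiff_ssubset hOs ⟨q, hOne⟩) hrest
        (fun r hr => hc r (Finset.mem_sdiff.1 hr).1),
      one_mul, hO, Finset.prod_image]
    · exact hc q hq d hdq
    · intro i hi j hj e
      exact Function.iterate_injOn_Iio_minimalPeriod (Finset.mem_range.1 hi)
        (Finset.mem_range.1 hj) e

/-- An invariant product over a set acted on by a `p`-group only depends on the fixed points when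
the values have exponent `p`. -/
theorem prod_eq_prod_fixed {H : Type*} {α : Type u} {M : Type v} [Group H] [MulAction H α]
    [Fintype α] [CommMonoid M] {p : ℕ} [Fact p.Prime] (hH : IsPGroup p H)
    [DecidablePred (fun a => a ∈ MulAction.fixedPoints H α)]
    (f : α → M) (hf : ∀ (h : H) (a : α), f (h • a) = f a) (hM : ∀ m : M, m ^ p = 1) :
    ∏ a, f a = ∏ a ∈ Finset.univ.filter (fun a => a ∈ MulAction.fixedPoints H α), f a := by
  classical
  rw [← Finset.prod_fiberwise_of_maps_to (t := Finset.univ.image f) (g := f)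
    (fun a _ => Finset.mem_image_of_mem f (Finset.mem_univ a)) f,
    ← Finset.prod_fiberwise_of_maps_to (s := Finset.univ.filter _) (t := Finset.univ.image f)
    (g := f) (fun a _ => Finset.mem_image_of_mem f (Finset.mem_univ a)) f]
  refine Finset.prod_congr rfl fun j _ => ?_
  rw [Finset.prod_congr rfl (g := fun _ => j) (fun a ha => (Finset.mem_filter.1 ha).2),
    Finset.prod_congr rfl (g := fun _ => j) (fun a ha => (Finset.mem_filter.1 ha).2),
    Finset.prod_const, Finset.prod_const]
  have : (Finset.univ.filter fun a => f a = j).card ≡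
      ((Finset.univ.filter fun a => a ∈ MulAction.fixedPoints H α).filter fun a => f a = j).card
      [MOD p] := by
    let act : MulAction H {a : α // f a = j} :=
      { smul := fun h a => ⟨h • a.1, (hf h a.1).trans a.2⟩
        one_smul := fun a => Subtype.ext (one_smul H a.1)
        mul_smul := fun h h' a => Subtype.ext (mul_smul h h' a.1) }
    have h1 := @IsPGroup.card_modEq_card_fixedPoints p H _ hH _ {a : α // f a = j} act _
    rw [Nat.card_eq_fintype_card, Fintype.card_subtype] at h1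
    refine h1.trans (congrArg (· % p) ?_)
    rw [← Fintype.card_coe, ← Nat.card_eq_fintype_card]
    refine Nat.card_congr
      { toFun := fun a => ⟨a.1.1, Finset.mem_filter.2 ⟨Finset.mem_filter.2
          ⟨Finset.mem_univ _, fun h => congrArg Subtype.val (a.2 h)⟩, a.1.2⟩⟩
        invFun := fun a => ⟨⟨a.1, (Finset.mem_filter.1 a.2).2⟩, fun h => Subtype.ext
          ((Finset.mem_filter.1 (Finset.mem_filter.1 a.2).1).2 h)⟩
        left_inv := fun _ => rfl
        right_inv := fun _ => rfl }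
  exact pow_eq_pow_of_modEq this (hM j)

variable {Ω : Type u} [Group Ω] {S : Subgroup Ω} {F : FusionSystem S}
variable {X : Type u} [MulAction (↥S × ↥S) X]
variable {A : Type v} [CommGroup A]

theorem orbitPerm_mul (g g' : bisetGroup S X) :
    orbitPerm (g * g') = orbitPerm g * orbitPerm g' := by
  refine Equiv.ext fun q => ?_
  induction q using Quotient.inductionOn' with
  | h x => rfl

variable (S X) in
/-- The action of the biset group on the right orbits. -/
noncomputable def orbitHom : bisetGroup S X →* Equiv.Perm (Quotient (rightSetoid S X)) :=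
  MonoidHom.mk' orbitPerm orbitPerm_mul

theorem orbitPerm_iterate (g : bisetGroup S X) (m : ℕ) (q : Quotient (rightSetoid S X)) :
    (orbitPerm g)^[m] q = orbitPerm (g ^ m) q := by
  have h : orbitPerm (g ^ m) = orbitPerm g ^ m := map_pow (orbitHom S X) g m
  rw [h, Equiv.Perm.coe_pow]

theorem prod_transferTerm_iterate {π : ↥S →* A} {h : X → A} (hh : IsRightSection π h)
    (g : bisetGroup S X) (m : ℕ) (q : Quotient (rightSetoid S X)) :
    ∏ i ∈ Finset.range m, transferTerm hh g ((orbitPerm g)^[i] q) = transferTerm hh (g ^ m) q := by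
  induction m with
  | zero =>
    induction q using Quotient.inductionOn' with
    | h x =>
      rw [Finset.range_zero, Finset.prod_empty, pow_zero, transferTerm_mk]
      exact (div_self' (h x)).symm
  | succ m ih =>
    rw [Finset.prod_range_succ, ih, pow_succ', transferTerm_mul, orbitPerm_iterate, mul_comm]

/-- A map of the system given on a fixed right orbit of `P`. -/
theorem exists_twist (hX : IsLeftCharBiset F X) {P : Subgroup Ω} (hP : P ≤ S) {x : X}
    (hx : ∀ u : P, ∃ b : ↥S, ((⟨u, hP u.2⟩ : ↥S), b) • x = x) :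
    ∃ θ, ∃ hθ : θ ∈ F.Hom P,
      (∀ u : P, ((⟨u, hP u.2⟩ : ↥S), (⟨θ u, val_mem hθ u⟩ : ↥S)) • x = x) ∧
      ∀ (u : P) (b : ↥S), ((⟨u, hP u.2⟩ : ↥S), b) • x = x → (b : Ω) = θ u := by
  obtain ⟨Q, ψ, hψ, e⟩ := hX.twisted x
  have hst : ∀ (u : P) (b : ↥S), ((⟨u, hP u.2⟩ : ↥S), b) • x = x →
      ∃ hb : (b : Ω) ∈ Q, ψ ⟨b, hb⟩ = (u : Ω) := by
    intro u b h
    have hm : ((⟨u, hP u.2⟩ : ↥S), b) ∈ MulAction.stabilizer (↥S × ↥S) x := h
    rw [e] at hm
    exact hm
  have hPr : P ≤ ψ.range := by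
    intro u hu
    obtain ⟨b, hb⟩ := hx ⟨u, hu⟩
    obtain ⟨hbQ, hbe⟩ := hst ⟨u, hu⟩ b hb
    exact ⟨_, hbe⟩
  have hθ := restrict_mem (rangeInv_mem hψ) hPr
  have hval : ∀ (u : P) (b : ↥S), ((⟨u, hP u.2⟩ : ↥S), b) • x = x →
      (b : Ω) = ((rangeInv ψ (F.injective_of_mem hψ)).comp (Subgroup.inclusion hPr)) u := by
    intro u b h
    obtain ⟨hbQ, hbe⟩ := hst u b h
    have h1 := rangeInv_apply ψ (F.injective_of_mem hψ) ⟨b, hbQ⟩ ⟨_, rfl⟩
    refine h1.symm.trans ?_
    exact congrArg _ (Subtype.ext hbe)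
  refine ⟨_, hθ, fun u => ?_, hval⟩
  obtain ⟨b, hb⟩ := hx u
  have : b = ⟨_, val_mem hθ u⟩ := Subtype.ext (hval u b hb)
  rwa [this] at hb

variable [Finite X]

/-- The transfer is trivial on the centralizer of `P` when `π` is trivial on the centralizers in
`S` of the conjugates of `P`. -/
theorem transferAlong_eq_one [Finite S] {p : ℕ} [Fact p.Prime] (hS : IsPGroup p S)
    (hX : IsLeftCharBiset F X) {π : ↥S →* A} {h : X → A}
    (hb : ∀ (a b : ↥S) (x : X), h ((a, b) • x) = π a * (π b)⁻¹ * h x)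
    (hh : IsRightSection π h) (hA : ∀ a : A, a ^ p = 1) {P : Subgroup Ω} (hP : P ≤ S)
    (hC : ∀ θ ∈ F.Hom P, ∀ c : ↥S, (c : Ω) ∈ Subgroup.centralizer (θ.range : Set Ω) → π c = 1)
    {g : bisetGroup S X}
    (hg : ∀ (u : Ω) (hu : u ∈ P), Commute g (bisetEmbed S X ⟨u, hP hu⟩)) :
    transferAlong hh g = 1 := by
  classical
  letI := Fintype.ofFinite (Quotient (rightSetoid S X))
  let f : ↥P →* bisetGroup S X := (bisetEmbed S X).comp (Subgroup.inclusion hP)
  let act : MulAction ↥P (Quotient (rightSetoid S X)) :=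
    MulAction.compHom _ ((orbitHom S X).comp f)
  rw [transferAlong_apply]
  have hterm : ∀ (a : ↥S) (q : Quotient (rightSetoid S X)),
      transferTerm hh (bisetEmbed S X a) q = π a := by
    intro a q
    induction q using Quotient.inductionOn' with
    | h x =>
      rw [transferTerm_mk, bisetEmbed_apply, hb, map_one, inv_one, mul_one, mul_div_cancel_right]
  have hinv : ∀ (u : P) (q : Quotient (rightSetoid S X)),
      transferTerm hh g (orbitPerm (f u) q) = transferTerm hh g q := by
    intro u q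
    have h1 := transferTerm_mul hh g (f u) q
    rw [show g * f u = f u * g from hg u u.2, transferTerm_mul,
      show f u = bisetEmbed S X (Subgroup.inclusion hP u) from rfl, hterm, hterm] at h1
    exact (mul_right_cancel ((mul_comm _ _).trans h1)).symm
  rw [prod_eq_prod_fixed (hS.to_le hP) (transferTerm hh g) hinv hA]
  refine prod_eq_one_of_cycles (orbitPerm g).injective _ _ ?_ ?_
  · intro q hq
    refine Finset.mem_filter.2 ⟨Finset.mem_univ _, fun u => ?_⟩
    have hq' : orbitPerm (f u) q = q := (Finset.mem_filter.1 hq).2 u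
    show orbitPerm (f u) (orbitPerm g q) = orbitPerm g q
    have h2 : orbitPerm (f u) * orbitPerm g = orbitPerm g * orbitPerm (f u) := by
      rw [← orbitPerm_mul, ← orbitPerm_mul, show g * f u = f u * g from hg u u.2]
    calc orbitPerm (f u) (orbitPerm g q) = (orbitPerm (f u) * orbitPerm g) q := rfl
      _ = orbitPerm g (orbitPerm (f u) q) := by rw [h2]; rfl
      _ = orbitPerm g q := by rw [hq']
  · intro q hq m hm
    rw [prod_transferTerm_iterate]
    rw [orbitPerm_iterate] at hm
    induction q using Quotient.inductionOn' with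
    | h x =>
      rw [transferTerm_mk]
      have hfix : ∀ u : P, ∃ b : ↥S, ((⟨u, hP u.2⟩ : ↥S), b) • x = x := by
        intro u
        have h1 : orbitPerm (f u) (Quotient.mk'' x) = Quotient.mk'' x :=
          (Finset.mem_filter.1 hq).2 u
        obtain ⟨b, hb'⟩ : ∃ b : ↥S, ((1 : ↥S), b) • (f u : Equiv.Perm X) x = x :=
          Quotient.exact' h1
        refine ⟨b, ?_⟩
        conv_rhs => rw [← hb']
        rw [show (f u : Equiv.Perm X) x = ((⟨u, hP u.2⟩ : ↥S), (1 : ↥S)) • x from rfl, ← mul_smul]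
        simp
      obtain ⟨θ, hθ, hθx, hθu⟩ := exists_twist hX hP hfix
      obtain ⟨c, hc⟩ : ∃ c : ↥S, ((1 : ↥S), c) • x = ((g ^ m : bisetGroup S X) : Equiv.Perm X) x :=
        Quotient.exact' hm.symm
      have hcπ : π c = 1 := by
        refine hC θ hθ c ?_
        rintro _ ⟨u, rfl⟩
        have hgm : Commute (g ^ m) (f u) := (hg u u.2).pow_left m
        have h1 : ((g ^ m : bisetGroup S X) : Equiv.Perm X)
            (((⟨u, hP u.2⟩ : ↥S), (⟨θ u, val_mem hθ u⟩ : ↥S)) • x) =
            ((⟨u, hP u.2⟩ : ↥S), (⟨θ u, val_mem hθ u⟩ : ↥S)) •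
              ((g ^ m : bisetGroup S X) : Equiv.Perm X) x := by
          have e : ∀ y : X, ((⟨u, hP u.2⟩ : ↥S), (⟨θ u, val_mem hθ u⟩ : ↥S)) • y =
              (f u : Equiv.Perm X) (((1 : ↥S), (⟨θ u, val_mem hθ u⟩ : ↥S)) • y) := fun y => by
            rw [show ∀ z : X, (f u : Equiv.Perm X) z = ((⟨u, hP u.2⟩ : ↥S), (1 : ↥S)) • z from
              fun z => rfl, ← mul_smul]
            simp
          rw [e, e, ← bisetGroup_apply]
          exact congrArg (fun k : bisetGroup S X => (k : Equiv.Perm X) _) hgm.eq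
        rw [hθx, ← hc, ← mul_smul] at h1
        have h2 : ((⟨u, hP u.2⟩ : ↥S), c⁻¹ * (⟨θ u, val_mem hθ u⟩ * c)) • x = x := by
          calc ((⟨u, hP u.2⟩ : ↥S), c⁻¹ * (⟨θ u, val_mem hθ u⟩ * c)) • x
              = ((1 : ↥S), c⁻¹) •
                (((⟨u, hP u.2⟩ : ↥S), (⟨θ u, val_mem hθ u⟩ : ↥S)) * ((1 : ↥S), c)) • x := by
                rw [← mul_smul]; simp [mul_assoc]
            _ = x := by rw [← h1, ← mul_smul]; simp [Prod.mk_one_one]
        have h3 := hθu u _ h2
        push_cast at h3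
        rw [inv_mul_eq_iff_eq_mul] at h3
        exact h3
      rw [← hc, hb, map_one, hcπ, inv_one, one_mul, one_mul, div_self']

/-- The centralizer of a fully centralized subgroup in the transfer group is controlled by the
centralizer in `S`. -/
theorem exists_transfer_group [Finite S] {p : ℕ} [Fact p.Prime] (hS : IsPGroup p S)
    (hF : F.IsSaturated p) (π : ↥S →* A)
    (hπ : ∀ (P : Subgroup Ω) (φ : P →* Ω) (hφ : φ ∈ F.Hom P) (u : P),
      π ⟨φ u, val_mem hφ u⟩ = π ⟨u, src_le hφ u.2⟩)
    (hA : Nat.card A = p) (hsurj : Function.Surjective π) :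
    ∃ (G : Type u) (_ : Group G) (ι : ↥S →* G) (D : G →* A),
      (∀ (P : Subgroup Ω) (φ : P →* Ω), φ ∈ F.Hom P → ∃ g : G,
        ∀ (x : P) (hx : (x : Ω) ∈ S) (hy : φ x ∈ S), ι ⟨φ x, hy⟩ = g * ι ⟨x, hx⟩ * g⁻¹) ∧
      (∀ s : ↥S, D (ι s) = 1 ↔ π s = 1) ∧
      (∀ g : G, ∃ s : ↥S, D (ι s) = D g) ∧
      ∀ P : Subgroup Ω, F.IsFullyCentralized P → ∀ g : G,
        (∀ (u : Ω) (huS : u ∈ S), u ∈ P → Commute g (ι ⟨u, huS⟩)) →
        ∃ c : ↥S, (c : Ω) ∈ centralizerIn S P ∧ D (ι c) = D g := by
  classical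
  haveI : Finite A := Nat.finite_of_card_ne_zero (hA ▸ (Fact.out : p.Prime).ne_zero)
  have hexp : ∀ a : A, a ^ p = 1 := fun a => hA ▸ pow_card_eq_one'
  obtain ⟨X, _, _, hX⟩ := exists_leftCharBiset hS hF
  obtain ⟨h, hb⟩ := exists_biSection hX π hπ
  have hh : IsRightSection π h := fun b x => by rw [hb, map_one, one_mul]
  set n := Nat.card (Quotient (rightSetoid S X)) with hn
  have hnd : ¬ p ∣ n := hX.not_dvd_card_quotient hS hF
  have hD : ∀ s : ↥S, transferAlong hh (bisetEmbed S X s) = π s ^ n := by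
    intro s
    letI := Fintype.ofFinite (Quotient (rightSetoid S X))
    rw [transferAlong_apply, hn, Nat.card_eq_fintype_card, ← Finset.card_univ]
    refine Finset.prod_eq_pow_card fun q _ => ?_
    induction q using Quotient.inductionOn' with
    | h x =>
      rw [transferTerm_mk, bisetEmbed_apply, hb, map_one, inv_one, mul_one, mul_div_cancel_right]
  have hcop : (Nat.card A).Coprime n := by
    rw [hA]; exact (Nat.Prime.coprime_iff_not_dvd Fact.out).2 hnd
  have hbij : Function.Bijective fun a : A => a ^ n := (powCoprime hcop).bijective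
  refine ⟨↥(bisetGroup S X), inferInstance, bisetEmbed S X, transferAlong hh,
    fun P φ hφ => hX.exists_conj hφ, fun s => ?_, fun g => ?_, fun P hP g hg => ?_⟩
  · rw [hD]
    exact ⟨fun e => hbij.1 (e.trans (one_pow n).symm), fun e => by rw [e, one_pow]⟩
  · obtain ⟨a, ha⟩ := hbij.2 (transferAlong hh g)
    obtain ⟨s, rfl⟩ := hsurj a
    exact ⟨s, (hD s).trans ha⟩
  by_cases hc : ∃ c₀ : ↥S, (c₀ : Ω) ∈ centralizerIn S P ∧ π c₀ ≠ 1
  · obtain ⟨c₀, hc₀, hne⟩ := hc
    obtain ⟨a, ha⟩ := hbij.2 (transferAlong hh g)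
    have hmem : a ∈ Submonoid.powers (π c₀) := mem_powers_of_prime_card hA hne
    obtain ⟨k, rfl⟩ := hmem
    refine ⟨c₀ ^ k, ?_, ?_⟩
    · exact Subgroup.pow_mem _ hc₀ k
    · rw [hD, map_pow]; exact ha
  push_neg at hc
  refine ⟨1, Subgroup.one_mem _, ?_⟩
  rw [map_one, map_one]
  refine (transferAlong_eq_one hS hX hb hh hexp hP.1 (fun θ hθ c hcθ => ?_)
    (fun u hu => hg u (hP.1 hu) hu)).symm
  obtain ⟨τ, hτ, hτr, -⟩ := exists_inverse hθ rfl
  obtain ⟨ψ, hψ, hag⟩ := (isReceptive_of_isFullyCentralized hS hF hP).2 θ.range τ hτ hτr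
  have hcN : (c : Ω) ∈ extender S θ.range τ := centralizerIn_le_extender τ ⟨c.2, hcθ⟩
  have h1 := apply_mem_centralizerIn (P := θ.range) hψ ⟨c, hcN⟩ hcθ
  rw [imgSub_of_agree (le_extender hτ) hag, hτr] at h1
  exact (hπ _ ψ hψ ⟨c, hcN⟩).symm.trans (hc ⟨_, h1.1⟩ h1)

end Cfsg.Agent.Lib.Fusion
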