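/-
Existence of the saturated subsystem of `p`-power index over a subgroup containing the hyperfocal
subgroup, and the decomposition of the maps of the system through it.
-/
import Cfsg.Agent.Lib.Fusion.PPowerTransfer
import Cfsg.Agent.Lib.Fusion.PPowerIndex
import Cfsg.Agent.Lib.Fusion.GroupFusion
import Cfsg.Agent.Lib.Fusion.Hyperfocal

set_option autoImplicit false

namespace Cfsg.Agent.Lib.Fusion

open Cfsg Cfsg.FusionSystem

universe u v w

variable {Ω : Type u} [Group Ω] {S T : Subgroup Ω} {p : ℕ}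

/-- The maps realized by an element in the kernel of a homomorphism `D` of the transfer group. -/
def kernelSystem (F : FusionSystem S) (hTS : T ≤ S) {G : Type v} [Group G] {A : Type w} [Group A]
    (ι : ↥S →* G) (D : G →* A) (hD : ∀ s : ↥S, (s : Ω) ∈ T → D (ι s) = 1) : FusionSystem T where
  Hom P := {φ | φ ∈ F.Hom P ∧ P ≤ T ∧ (∀ x : P, φ x ∈ T) ∧ ∃ g : G, D g = 1 ∧
    ∀ (x : P) (hx : (x : Ω) ∈ S) (hy : φ x ∈ S), ι ⟨φ x, hy⟩ = g * ι ⟨x, hx⟩ * g⁻¹}
  le_of_mem h := ⟨h.2.1, h.2.2.1⟩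
  injective_of_mem h := F.injective_of_mem h.1
  conj_mem {P t} hP ht := ⟨F.conj_mem (hP.trans hTS) (hTS ht), hP,
    fun x => T.mul_mem (T.mul_mem ht (hP x.2)) (T.inv_mem ht), ι ⟨t, hTS ht⟩,
    hD _ ht, fun x hx hy => by
      rw [← map_inv, ← map_mul, ← map_mul]
      rfl⟩
  comp_mem := by
    rintro P Q φ ψ ⟨hφ, hP, hφT, g, hg, hgx⟩ ⟨hψ, -, hψT, k, hk, hkx⟩ h
    refine ⟨F.comp_mem hφ hψ h, hP, fun x => hψT _, k * g, by rw [map_mul, hg, hk, one_mul],
      fun x hx hy => ?_⟩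
    refine (hkx ⟨φ x, h x⟩ (val_mem hφ x) hy).trans ?_
    rw [hgx x hx (val_mem hφ x)]
    group
  inv_mem := by
    rintro P φ ⟨hφ, hP, hφT, g, hg, hgx⟩
    refine ⟨_, ⟨rangeInv_mem hφ, ?_, fun y => hP (rangeInv_mem_src _ _ y), g⁻¹,
      by rw [map_inv, hg, inv_one], ?_⟩, fun x => rangeInv_apply _ _ x _⟩
    · rintro _ ⟨x, rfl⟩
      exact hφT x
    · rintro ⟨_, x, rfl⟩ hx hy
      have e : (⟨_, hy⟩ : ↥S) = ⟨x, hTS (hP x.2)⟩ := Subtype.ext (rangeInv_apply φ _ x _)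
      rw [e, hgx x (hTS (hP x.2)) hx]
      group

variable {F : FusionSystem S}

/-- Translating a fully normalized subgroup by an element of `S` keeps it fully normalized. -/
theorem isFullyNormalized_conjSub [Finite S] {Q : Subgroup Ω} (hQ : F.IsFullyNormalized Q) {s : Ω}
    (hs : s ∈ S) : F.IsFullyNormalized (conjSub s Q) := by
  have hle : conjSub s Q ≤ S := by
    rintro _ ⟨x, hx, rfl⟩
    exact S.mul_mem (S.mul_mem hs (hQ.1 hx)) (S.inv_mem hs)
  have hconj : F.IsConj Q (conjSub s Q) :=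
    ⟨_, F.conj_mem hQ.1 hs, range_eq_conjSub fun x => rfl⟩
  refine ⟨hle, fun R hR => ?_⟩
  rw [← conjSub_normalizerIn hs, card_conjSub]
  exact hQ.2 R (isConj_trans hconj hR)

/-- A subsystem of `p`-power index over the kernel of an invariant homomorphism to a group of
order `p`, with the decomposition of the maps. -/
theorem exists_pPowerIndex_kernel [Finite S] [Fact p.Prime] (hS : IsPGroup p S)
    (hF : F.IsSaturated p) {A : Type v} [CommGroup A] (hA : Nat.card A = p) (π : ↥S →* A)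
    (hsurj : Function.Surjective π)
    (hπ : ∀ (P : Subgroup Ω) (φ : P →* Ω) (hφ : φ ∈ F.Hom P) (u : P),
      π ⟨φ u, val_mem hφ u⟩ = π ⟨u, src_le hφ u.2⟩)
    (hTS : T ≤ S) (hker : ∀ s : ↥S, π s = 1 ↔ (s : Ω) ∈ T)
    (hhyp : F.hyperfocalSubgroup p ≤ T) :
    ∃ E : FusionSystem T, E.IsSaturated p ∧ E.HasPPowerIndexIn F p ∧
      ∀ (P : Subgroup Ω), P ≤ T → ∀ φ ∈ F.Hom P, ∃ s ∈ S, ∃ φ₀ ∈ E.Hom P,
        ∀ x : P, φ x = s * φ₀ x * s⁻¹ := by
  classical
  obtain ⟨G, _, ι, D, hconj, hDι, hDsurj, hKC⟩ := exists_transfer_group hS hF π hπ hA hsurj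
  have hexp : ∀ a : A, a ^ p = 1 := by
    haveI : Finite A := Nat.finite_of_card_ne_zero (hA ▸ (Fact.out : p.Prime).ne_zero)
    exact fun a => hA ▸ pow_card_eq_one'
  have hTD : ∀ s : ↥S, (s : Ω) ∈ T → D (ι s) = 1 := fun s hs => (hDι s).2 ((hker s).2 hs)
  have hmemT : ∀ s : ↥S, D (ι s) = 1 → (s : Ω) ∈ T := fun s hs => (hker s).1 ((hDι s).1 hs)
  have hinv : ∀ {P : Subgroup Ω} {φ : P →* Ω} (hφ : φ ∈ F.Hom P) (x : P), (x : Ω) ∈ T → φ x ∈ T :=
    fun hφ x hx => (hker ⟨_, val_mem hφ x⟩).1 ((hπ _ _ hφ x).trans ((hker _).2 hx))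
  set E := kernelSystem F hTS ι D hTD with hE
  have hEF : E.IsSubsystemOf F := fun P φ hφ => hφ.1
  -- every map is an element of `S` composed with a map of `E`
  have hdec : ∀ (P : Subgroup Ω), P ≤ T → ∀ φ ∈ F.Hom P, ∃ s ∈ S, ∃ φ₀ ∈ E.Hom P,
      ∀ x : P, φ x = s * φ₀ x * s⁻¹ := by
    intro P hP φ hφ
    obtain ⟨g, hg⟩ := hconj P φ hφ
    obtain ⟨s, hs⟩ := hDsurj g
    obtain ⟨φ₀, hφ₀, hx₀⟩ := exists_comp hφ (F.conj_mem le_rfl (S.inv_mem s.2)) (val_mem hφ)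
    refine ⟨s, s.2, φ₀, ⟨hφ₀, hP, fun x => hinv hφ₀ x (hP x.2), (ι s)⁻¹ * g,
      by rw [map_mul, map_inv, hs, inv_mul_cancel], fun x hx hy => ?_⟩, fun x => ?_⟩
    · have e : (⟨φ₀ x, hy⟩ : ↥S) = s⁻¹ * ⟨φ x, val_mem hφ x⟩ * s := by
        refine Subtype.ext ?_
        show φ₀ x = (s : Ω)⁻¹ * φ x * (s : Ω)
        rw [hx₀, conjHom_apply, inv_inv]
      rw [e, map_mul, map_mul, map_inv, hg x hx (val_mem hφ x)]
      group
    · rw [hx₀, conjHom_apply]
      group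
  have hTp : IsPGroup p T := hS.to_le hTS
  haveI : Finite T := finite_of_le hTS
  refine ⟨E, fun P hP => ?_, ⟨hEF, hhyp, fun P hP => ?_⟩, hdec⟩
  · -- saturation
    obtain ⟨Q₀, hPQ, hQ₀⟩ := exists_isFullyNormalized_conj F (hP.trans hTS)
    obtain ⟨θ, hθ, rfl⟩ := hPQ
    obtain ⟨s, hs, θ₀, hθ₀, hθx⟩ := hdec P hP θ hθ
    set Q := θ₀.range with hQdef
    have hQT : Q ≤ T := by rintro _ ⟨x, rfl⟩; exact hθ₀.2.2.1 x
    have hQS : Q ≤ S := hQT.trans hTS
    have hQ : F.IsFullyNormalized Q := by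
      have e : Q = conjSub s⁻¹ θ.range := by
        rw [show θ.range = conjSub s Q from ?_, conjSub_inv_conjSub]
        ext y
        constructor
        · rintro ⟨x, rfl⟩
          exact hθx x ▸ conj_mem_conjSub ⟨x, rfl⟩
        · rintro ⟨_, ⟨x, rfl⟩, rfl⟩
          exact ⟨x, hθx x⟩
      rw [e]
      exact isFullyNormalized_conjSub hQ₀ (S.inv_mem hs)
    have hQc := isFullyCentralized_of_isFullyNormalized hS hF hQ
    haveI := finite_mulAut (S := S) hQS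
    refine ⟨Q, ⟨θ₀, hθ₀, rfl⟩, ?_, ?_⟩
    · -- fully automized
      refine isFullyAutomized_iff.2 ⟨hQT, ?_⟩
      obtain ⟨L, hL⟩ := exists_isSylowIn (p := p) (E.autGroup Q)
      obtain ⟨-, hsyl⟩ := isFullyAutomized_iff.1 (isFullyAutomized_of_isFullyNormalized hS hF hQ)
      obtain ⟨γ, hγ, hγL⟩ := hsyl.exists_conj_le hL.2.1 (hL.1.trans (autGroup_mono hEF Q))
      obtain ⟨gγ, hgγ⟩ := hconj Q _ (autGroup_hom_mem hQS hγ)
      have hle : L.map (MulAut.conj γ).toMonoidHom ≤ autInducedBy T Q := by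
        rintro _ ⟨l, hl, rfl⟩
        obtain ⟨s', hs', hsx⟩ := mem_autInducedBy.1 (hγL ⟨l, hl, rfl⟩)
        obtain ⟨-, -, -, gl, hgl, hglx⟩ := autGroup_hom_mem hQT (hL.1 hl)
        set g' := gγ * gl * gγ⁻¹ with hg'
        have hg'x : ∀ (x : Q) (hx : (x : Ω) ∈ S),
            ι ⟨s' * x * s'⁻¹, S.mul_mem (S.mul_mem hs' hx) (S.inv_mem hs')⟩ =
              g' * ι ⟨x, hx⟩ * g'⁻¹ := by
          intro x hx
          have e0 : (⟨s' * x * s'⁻¹, S.mul_mem (S.mul_mem hs' hx) (S.inv_mem hs')⟩ : ↥S) =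
              ⟨(γ (l (γ⁻¹ x)) : Ω), hQS (γ (l (γ⁻¹ x))).2⟩ := Subtype.ext (hsx x).symm
          have e1 := hgγ (l (γ⁻¹ x)) (hQS (l (γ⁻¹ x)).2) (hQS (γ (l (γ⁻¹ x))).2)
          have e2 := hglx (γ⁻¹ x) (hQS (γ⁻¹ x).2) (hQS (l (γ⁻¹ x)).2)
          have e3 := hgγ (γ⁻¹ x) (hQS (γ⁻¹ x).2) (hQS (γ (γ⁻¹ x)).2)
          simp only [autHom_apply, MulAut.apply_inv_self] at e1 e2 e3
          rw [e0, e1, e2, e3, hg']
          group
        set t : ↥S := ⟨s', hs'⟩
        obtain ⟨c, hc, hcD⟩ := hKC Q hQc ((ι t)⁻¹ * g') (fun u huS hu => by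
          have h1 := hg'x ⟨u, hu⟩ huS
          rw [show (⟨s' * u * s'⁻¹, S.mul_mem (S.mul_mem hs' huS) (S.inv_mem hs')⟩ : ↥S) =
            t * ⟨u, huS⟩ * t⁻¹ from rfl, map_mul, map_mul, map_inv] at h1
          show (ι t)⁻¹ * g' * ι ⟨u, huS⟩ = ι ⟨u, huS⟩ * ((ι t)⁻¹ * g')
          calc (ι t)⁻¹ * g' * ι ⟨u, huS⟩ = (ι t)⁻¹ * (g' * ι ⟨u, huS⟩ * g'⁻¹) * g' := by group
            _ = ι ⟨u, huS⟩ * ((ι t)⁻¹ * g') := by rw [← h1]; group)
        have hg'D : D g' = 1 := by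
          rw [hg', map_mul, map_mul, map_inv, hgl, mul_one, mul_inv_cancel]
        have htc : D (ι (t * c)) = 1 := by
          rw [map_mul, map_mul, hcD, map_mul, map_inv, mul_inv_cancel_left, hg'D]
        refine mem_autInducedBy.2 ⟨s' * c, hmemT _ htc, fun x => ?_⟩
        rw [hsx x]
        calc s' * (x : Ω) * s'⁻¹ = s' * ((x : Ω) * (c : Ω)) * (c : Ω)⁻¹ * s'⁻¹ := by group
          _ = s' * ((c : Ω) * (x : Ω)) * (c : Ω)⁻¹ * s'⁻¹ := by rw [hc.2 x x.2]
          _ = _ := by group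
      refine hL.of_card_eq (isPGroup_autInducedBy hTp) (autInducedBy_le_autGroup hQT)
        (le_antisymm (hL.card_le (isPGroup_autInducedBy hTp) (autInducedBy_le_autGroup hQT)) ?_)
      rw [← Subgroup.card_map_of_injective (K := L) (f := (MulAut.conj γ).toMonoidHom)
        (MulEquiv.injective _)]
      exact Subgroup.card_le_of_le hle
    · -- receptive
      refine ⟨hQT, fun R φ hφ hr => ?_⟩
      obtain ⟨ψ, hψ, hag⟩ := (isReceptive_of_isFullyNormalized hS hF hQ).2 R φ hφ.1 hr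
      obtain ⟨hφF, hRT, -, g₀, hg₀, hg₀x⟩ := hφ
      have hext : extender T R φ ≤ extender S R φ := Subgroup.closure_mono
        fun x hx => ⟨hTS hx.1, hx.2.1, hx.2.2.imp fun h hh => ⟨hTS hh.1, hh.2⟩⟩
      have hextT : extender T R φ ≤ T :=
        (extender_le_normalizerIn R φ).trans inf_le_left
      have hRN : R ≤ extender T R φ := le_extender (S := T) (F := E)
        ⟨hφF, hRT, fun x => hinv hφF x (hRT x.2), g₀, hg₀, hg₀x⟩
      have hψN := restrict_mem hψ hext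
      obtain ⟨g, hg⟩ := hconj _ _ hψN
      have hagR : ∀ (x : R), ψ (Subgroup.inclusion hext ⟨x, hRN x.2⟩) = φ x :=
        fun x => hag x x.2 (hext (hRN x.2))
      obtain ⟨c, hc, hcD⟩ := hKC Q hQc (g * g₀⁻¹) (fun u huS hu => by
        obtain ⟨x, rfl⟩ : ∃ x : R, φ x = u := hr.ge hu
        have h1 := hg₀x x (src_le hφF x.2) huS
        have h2 := hg ⟨x, hRN x.2⟩ (src_le hφF x.2) (val_mem hψN _)
        rw [show (⟨(ψ.comp (Subgroup.inclusion hext)) ⟨x, hRN x.2⟩, val_mem hψN _⟩ : ↥S) =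
          ⟨φ x, huS⟩ from Subtype.ext (hagR x)] at h2
        show g * g₀⁻¹ * ι ⟨φ x, huS⟩ = ι ⟨φ x, huS⟩ * (g * g₀⁻¹)
        nth_rewrite 1 [h1]
        rw [h2]
        group)
      have hgc : D ((ι c)⁻¹ * g) = 1 := by
        rw [map_mul, map_inv, hcD, map_mul, map_inv, hg₀, inv_one, mul_one, inv_mul_cancel]
      obtain ⟨ψ', hψ', hψ'x⟩ := exists_comp hψN (F.conj_mem le_rfl (S.inv_mem c.2)) (val_mem hψN)
      refine ⟨ψ', ⟨hψ', hextT, fun y => hinv hψ' y (hextT y.2), (ι c)⁻¹ * g, hgc,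
        fun y hy hy' => ?_⟩, fun x hR hN => ?_⟩
      · have e : (⟨ψ' y, hy'⟩ : ↥S) = c⁻¹ * ⟨_, val_mem hψN y⟩ * c := by
          refine Subtype.ext ?_
          show ψ' y = (c : Ω)⁻¹ * _ * (c : Ω)
          rw [hψ'x, conjHom_apply, inv_inv]
        rw [e, map_mul, map_mul, map_inv, hg y hy (val_mem hψN y)]
        group
      · rw [hψ'x, conjHom_apply]
        have e : (ψ.comp (Subgroup.inclusion hext)) ⟨x, hN⟩ = φ ⟨x, hR⟩ := hagR ⟨x, hR⟩
        show (c : Ω)⁻¹ * (ψ.comp (Subgroup.inclusion hext)) ⟨x, hN⟩ * ((c : Ω)⁻¹)⁻¹ = _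
        rw [inv_inv, e, mul_assoc, hc.2 _ (hr.le ⟨_, rfl⟩), inv_mul_cancel_left]
  · -- `p`-power index
    rintro _ ⟨⟨α, hα⟩, hαr, rfl⟩
    refine (Subgroup.closure_le
      ((E.autGroup P).comap (F.autGroup P).subtype)).2 ?_ hαr
    intro a ha
    obtain ⟨g, hg⟩ := hconj P _ (autGroup_hom_mem (hP.trans hTS) a.2)
    have hpow : ∀ (m : ℕ) (x : P) (hx : (x : Ω) ∈ S) (hy : (((a : MulAut P) ^ m) x : Ω) ∈ S),
        ι ⟨_, hy⟩ = g ^ m * ι ⟨x, hx⟩ * (g ^ m)⁻¹ := by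
      intro m
      induction m with
      | zero => intro x hx hy; simp
      | succ m ih =>
        intro x hx hy
        have h1 := hg (((a : MulAut P) ^ m) x) (hP.trans hTS (((a : MulAut P) ^ m) x).2) (by
          simpa [pow_succ'] using hy)
        simp only [autHom_apply] at h1
        have e : (⟨_, hy⟩ : ↥S) = ⟨((a : MulAut P) (((a : MulAut P) ^ m) x) : Ω),
            hP.trans hTS ((a : MulAut P) (((a : MulAut P) ^ m) x)).2⟩ := by
          refine Subtype.ext ?_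
          simp [pow_succ']
        rw [e, h1, ih x hx, pow_succ']
        group
    have h1 : (a : MulAut P) ^ p ∈ E.autGroup P := by
      refine (mem_autGroup hP).2 ⟨autGroup_hom_mem (hP.trans hTS) (Subgroup.pow_mem _ a.2 p), hP,
        fun x => hP ((((a : MulAut P) ^ p) x)).2, g ^ p, by rw [map_pow, hexp], ?_⟩
      exact fun x hx hy => hpow p x hx hy
    show (a : MulAut P) ∈ E.autGroup P
    have hco : (orderOf (a : MulAut P)).Coprime p := by
      rw [Subgroup.orderOf_coe]; exact ha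
    obtain ⟨m, hm⟩ := exists_pow_eq_self_of_coprime hco.symm
    rw [← hm]
    exact Subgroup.pow_mem _ h1 m

/-- A normal maximal subgroup of a finite `p`-group has index `p`. -/
theorem index_eq_prime_of_isCoatom {H : Type*} [Group H] [Finite H] [Fact p.Prime]
    (hH : IsPGroup p H) {M : Subgroup H} [M.Normal] (hM : IsCoatom M) : M.index = p := by
  have hne : M.index ≠ 1 := fun h => hM.1 (Subgroup.index_eq_one.1 h)
  obtain ⟨k, hk⟩ := hH.index M
  have hd : p ∣ Nat.card (H ⧸ M) := by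
    rw [← Subgroup.index_eq_card, hk]
    exact dvd_pow_self p fun h => hne (by rw [hk, h, pow_zero])
  obtain ⟨x, hx⟩ := exists_prime_orderOf_dvd_card' p hd
  have hK : (Subgroup.zpowers x).comap (QuotientGroup.mk' M) = ⊤ := by
    refine hM.2 _ (lt_of_le_of_ne ?_ fun e => ?_)
    · intro m hm
      rw [Subgroup.mem_comap, QuotientGroup.mk'_apply, (QuotientGroup.eq_one_iff m).2 hm]
      exact one_mem _
    · obtain ⟨h, rfl⟩ := QuotientGroup.mk'_surjective M x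
      have : h ∈ M := by rw [e]; exact Subgroup.mem_zpowers _
      rw [QuotientGroup.mk'_apply, (QuotientGroup.eq_one_iff h).2 this, orderOf_one] at hx
      exact (Fact.out : p.Prime).ne_one hx.symm
  have hK' : Subgroup.zpowers x = ⊤ := Subgroup.comap_injective (QuotientGroup.mk'_surjective M)
    (hK.trans (Subgroup.comap_top _).symm)
  rw [Subgroup.index_eq_card, ← Subgroup.card_top, ← hK', Nat.card_zpowers, hx]

/-- Existence of the saturated subsystem of `p`-power index over `T ≥ hyp(F)`, with the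
decomposition of the maps of `F`. -/
theorem exists_pPowerIndex [Fact p.Prime] [Finite S] (hS : IsPGroup p S) (hF : F.IsSaturated p)
    (hTS : T ≤ S) (hhyp : F.hyperfocalSubgroup p ≤ T) :
    ∃ E : FusionSystem T, E.IsSaturated p ∧ E.HasPPowerIndexIn F p ∧
      ∀ (P : Subgroup Ω), P ≤ T → ∀ φ ∈ F.Hom P, ∃ s ∈ S, ∃ φ₀ ∈ E.Hom P,
        ∀ x : P, φ x = s * φ₀ x * s⁻¹ := by
  classical
  suffices key : ∀ n, ∀ (S : Subgroup Ω) (F : FusionSystem S), Finite S → IsPGroup p S →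
      F.IsSaturated p → T ≤ S → F.hyperfocalSubgroup p ≤ T → Nat.card S ≤ n →
      ∃ E : FusionSystem T, E.IsSaturated p ∧ E.HasPPowerIndexIn F p ∧
        ∀ (P : Subgroup Ω), P ≤ T → ∀ φ ∈ F.Hom P, ∃ s ∈ S, ∃ φ₀ ∈ E.Hom P,
          ∀ x : P, φ x = s * φ₀ x * s⁻¹ from
    key _ S F inferInstance hS hF hTS hhyp le_rfl
  intro n
  induction n with
  | zero =>
    intro S F hfin _ _ _ _ hn
    exact absurd Nat.card_pos (not_lt.2 hn)
  | succ n ih =>
    intro S F hfin hS hF hTS hhyp hn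
    by_cases hTe : T = S
    · subst hTe
      refine ⟨F, hF, ⟨fun P φ hφ => hφ, hhyp, fun P hP => Subgroup.map_subtype_le _⟩,
        fun P hP φ hφ => ⟨1, one_mem _, φ, hφ, fun x => by group⟩⟩
    -- a maximal subgroup containing `T`
    obtain ⟨M, hTM, hMmax⟩ : ∃ M : Subgroup ↥S, T.subgroupOf S ≤ M ∧ IsCoatom M := by
      obtain h | ⟨M, hM, h⟩ := eq_top_or_exists_le_coatom (T.subgroupOf S)
      · exact absurd (le_antisymm hTS (Subgroup.subgroupOf_eq_top.1 h)) hTe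
      · exact ⟨M, h, hM⟩
    haveI : Group.IsNilpotent ↥S := hS.isNilpotent
    haveI hMn : M.Normal :=
      Subgroup.NormalizerCondition.normal_of_coatom M Group.normalizerCondition_of_isNilpotent hMmax
    have hMp : M.index = p := index_eq_prime_of_isCoatom hS hMmax
    set T₁ := M.map S.subtype with hT₁
    have hTT₁ : T ≤ T₁ := fun t ht => ⟨⟨t, hTS ht⟩, hTM ht, rfl⟩
    have hT₁S : T₁ ≤ S := Subgroup.map_subtype_le M
    have hAcard : Nat.card (↥S ⧸ M) = p := by rw [← Subgroup.index_eq_card, hMp]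
    haveI : IsCyclic (↥S ⧸ M) := isCyclic_of_prime_card hAcard
    letI := IsCyclic.commGroup (α := ↥S ⧸ M)
    have hker : ∀ s : ↥S, QuotientGroup.mk' M s = 1 ↔ (s : Ω) ∈ T₁ := by
      intro s
      rw [QuotientGroup.mk'_apply, QuotientGroup.eq_one_iff, hT₁]
      exact (Subgroup.mem_map_iff_mem Subtype.val_injective).symm
    obtain ⟨E₁, hE₁, hE₁i, hdec₁⟩ := exists_pPowerIndex_kernel hS hF hAcard (QuotientGroup.mk' M)
      (QuotientGroup.mk'_surjective M) (fun P φ hφ u => by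
        obtain ⟨s, hs, hx⟩ := exists_conj_mod_hyperfocal hS hF hφ
        have h1 := (hker ⟨_, S.mul_mem (S.inv_mem (S.mul_mem (S.mul_mem hs (src_le hφ u.2))
          (S.inv_mem hs))) (val_mem hφ u)⟩).2 (hTT₁ (hhyp (hx u)))
        rw [show (⟨(s * (u : Ω) * s⁻¹)⁻¹ * φ u, _⟩ : ↥S) =
          (⟨s, hs⟩ * ⟨u, src_le hφ u.2⟩ * ⟨s, hs⟩⁻¹)⁻¹ * ⟨φ u, val_mem hφ u⟩ from
            Subtype.ext (by simp [mul_assoc]), map_mul, map_inv, map_mul, map_mul, map_inv,
          inv_mul_eq_one] at h1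
        rw [← h1, mul_right_comm, mul_inv_cancel, one_mul]) hT₁S hker (hhyp.trans hTT₁)
    haveI : Finite T₁ := finite_of_le hT₁S
    have hhyp₁ : E₁.hyperfocalSubgroup p ≤ T := by
      refine le_trans ((Subgroup.closure_le _).2 ?_) hhyp
      rintro _ ⟨P, α, x, hP, hα, rfl⟩
      obtain ⟨β, hβ, hβe⟩ :=
        map_pResidual_autGroup_mono (p := p) hE₁i.1 P ⟨α, hα, rfl⟩
      have hβe' : (β : MulAut P) = (α : MulAut P) := hβe
      exact Subgroup.subset_closure ⟨P, β, x, hP.trans hT₁S, hβ, by rw [hβe']⟩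
    have hcard : Nat.card T₁ < Nat.card S := by
      rw [hT₁, Subgroup.card_map_of_injective Subtype.val_injective]
      exact lt_of_le_of_ne (Subgroup.card_le_card_group M) fun e =>
        hMmax.1 (Subgroup.eq_top_of_card_eq M e)
    obtain ⟨E, hE, hEi, hdec⟩ := ih T₁ E₁ inferInstance (hS.to_le hT₁S) hE₁ hTT₁ hhyp₁ (by omega)
    refine ⟨E, hE, ⟨fun P φ hφ => hE₁i.1 P (hEi.1 P hφ), hhyp, fun P hP => ?_⟩, ?_⟩
    · rintro _ ⟨α, hα, rfl⟩
      refine (Subgroup.closure_le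
        ((E.autGroup P).comap (F.autGroup P).subtype)).2 ?_ hα
      intro a ha
      have ha1 : (a : MulAut P) ∈ E₁.autGroup P :=
        hE₁i.2.2 P (hP.trans hTT₁) ⟨a, Transfer.mem_pResidual_of_coprime ha, rfl⟩
      exact hEi.2.2 P hP ⟨⟨a, ha1⟩, Transfer.mem_pResidual_of_coprime (by
        rw [← Subgroup.orderOf_coe]; show (orderOf (a : MulAut P)).Coprime p
        rw [Subgroup.orderOf_coe]; exact ha), rfl⟩
    · intro P hP φ hφ
      obtain ⟨s, hs, φ₁, hφ₁, h₁⟩ := hdec₁ P (hP.trans hTT₁) φ hφ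
      obtain ⟨t, ht, φ₀, hφ₀, h₀⟩ := hdec P hP φ₁ hφ₁
      refine ⟨s * t, S.mul_mem hs (hT₁S ht), φ₀, hφ₀, fun x => ?_⟩
      rw [h₁, h₀]
      group

end Cfsg.Agent.Lib.Fusion
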