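/-
A saturated subsystem of `p`-power index over a normal subgroup of `S` is a normal subsystem.
-/
import Cfsg.Agent.Lib.Fusion.PPowerExists
import Cfsg.Agent.Lib.Fusion.PrimeIndex

set_option autoImplicit false

namespace Cfsg.Agent.Lib.Fusion

open Cfsg Cfsg.FusionSystem

universe u

variable {Ω : Type u} [Group Ω] {S T : Subgroup Ω} {F : FusionSystem S} {E : FusionSystem T}
  {p : ℕ}

/-- A saturated subsystem of `p`-power index is stable under the automorphisms of `T` in `F`. -/
theorem exists_act_of_hasPPowerIndexIn [Fact p.Prime] [Finite T] (hTp : IsPGroup p T)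
    (hTS : T ≤ S) (hE : E.IsSaturated p) (hEi : E.HasPPowerIndexIn F p) {a : MulAut T}
    (ha : a ∈ F.autGroup T) {P : Subgroup Ω} {φ : P →* Ω} (hφ : φ ∈ E.Hom P) :
    ∃ χ ∈ E.Hom (imgSub (autHom a) P), ∀ x : P,
      χ ⟨_, imgSub_act_mem (src_le hφ) x⟩ = (a ⟨φ x, val_mem hφ x⟩ : Ω) := by
  have hle : E ≤ transportAct E E a := by
    refine le_of_pResidual_le hTp hE fun Q hQ => ?_
    rintro _ ⟨⟨β, hβ⟩, hβr, rfl⟩
    refine (Subgroup.closure_le
      (((transportAct E E a).autGroup Q).comap (E.autGroup Q).subtype)).2 ?_ hβr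
    intro b hb
    set θ := (autHom a).comp (Subgroup.inclusion hQ) with hθ
    have hθm : θ ∈ F.Hom Q := restrict_mem (autGroup_hom_mem hTS ha) hQ
    set e := isoOnto θ (F.injective_of_mem hθm) rfl with he
    have hem : (θ.range).subtype.comp e.toMonoidHom ∈ F.Hom Q := mem_congr hθm fun x => rfl
    have hR : θ.range ≤ T := by
      rintro _ ⟨x, rfl⟩
      exact SetLike.coe_mem _
    have hbF : (b : MulAut Q) ∈ F.autGroup Q := autGroup_mono hEi.1 Q b.2
    have hco : (orderOf (MulAut.congr e (b : MulAut Q))).Coprime p := by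
      rw [MulEquiv.orderOf_eq, Subgroup.orderOf_coe]
      exact hb
    have h1 : MulAut.congr e (b : MulAut Q) ∈ E.autGroup θ.range :=
      hEi.2.2 _ hR (Transfer.mem_map_pResidual_of_coprime (congr_mem_autGroup e hem hbF) hco)
    refine (mem_autGroup hQ).2
      ⟨autGroup_hom_mem hQ b.2, _, _, autGroup_hom_mem hR h1, fun x => ⟨⟨x, rfl⟩, ?_⟩⟩
    have h2 : MulAut.congr e (b : MulAut Q) (e x) = e ((b : MulAut Q) x) := by
      show e ((b : MulAut Q) (e.symm (e x))) = _
      rw [e.symm_apply_apply]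
    exact congrArg Subtype.val h2
  obtain ⟨hφ', R, χ, hχ, hx⟩ := hle P hφ
  obtain ⟨χ', hχ', hχx⟩ := exists_restrict_act (src_le hφ) hχ fun x => (hx x).1
  exact ⟨χ', hχ', fun x => (hχx x).trans (hx x).2⟩

/-- The automorphisms of `T` with an extension to `T C_S(T)` moving `C_S(T)` only inside
`Z(T)`. -/
def extendableAut (F : FusionSystem S) (T : Subgroup Ω) : Set (MulAut T) :=
  {α | ∃ β ∈ F.autGroup (T ⊔ centralizerIn S T),
    (∀ x : T, ((β (Subgroup.inclusion le_sup_left x) : ↥(T ⊔ centralizerIn S T)) : Ω) =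
      ((α x : T) : Ω)) ∧
    ∀ c : ↥(T ⊔ centralizerIn S T), (c : Ω) ∈ centralizerIn S T →
      (c : Ω)⁻¹ * ((β c : ↥(T ⊔ centralizerIn S T)) : Ω) ∈
        T ⊓ Subgroup.centralizer (T : Set Ω)}

theorem extendableAut_mul (hTS : T ≤ S) {α α' : MulAut T} (h : α ∈ extendableAut F T)
    (h' : α' ∈ extendableAut F T) : α * α' ∈ extendableAut F T := by
  obtain ⟨β, hβ, hβx, hβc⟩ := h
  obtain ⟨β', hβ', hβ'x, hβ'c⟩ := h'
  refine ⟨β * β', Subgroup.mul_mem _ hβ hβ', fun x => ?_, fun c hc => ?_⟩
  · have e : β' (Subgroup.inclusion le_sup_left x) = Subgroup.inclusion le_sup_left (α' x) :=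
      Subtype.ext (hβ'x x)
    rw [MulAut.mul_apply, e, hβx]
    rfl
  · have h1 := hβ'c c hc
    set z := (c : Ω)⁻¹ * ((β' c : ↥(T ⊔ centralizerIn S T)) : Ω) with hz
    have hcz : ((β' c : ↥(T ⊔ centralizerIn S T)) : Ω) ∈ centralizerIn S T := by
      have e : ((β' c : ↥(T ⊔ centralizerIn S T)) : Ω) = c * z := by rw [hz]; group
      rw [e]
      exact mul_mem hc ⟨hTS h1.1, h1.2⟩
    have h2 := hβc (β' c) hcz
    have e : (c : Ω)⁻¹ * ((β (β' c) : ↥(T ⊔ centralizerIn S T)) : Ω) =
        z * (((β' c : ↥(T ⊔ centralizerIn S T)) : Ω)⁻¹ *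
          ((β (β' c) : ↥(T ⊔ centralizerIn S T)) : Ω)) := by
      rw [hz]
      group
    rw [MulAut.mul_apply, e]
    exact mul_mem h1 h2

/-- A saturated subsystem of `p`-power index over a normal subgroup of `S` is normal. -/
theorem isNormalIn_of_hasPPowerIndexIn [Fact p.Prime] [Finite S] (hS : IsPGroup p S)
    (hF : F.IsSaturated p) (hTS : T ≤ S) (hTn : (T.subgroupOf S).Normal)
    (hE : E.IsSaturated p) (hEi : E.HasPPowerIndexIn F p) : E.IsNormalIn F p := by
  classical
  have hTp : IsPGroup p T := hS.to_le hTS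
  have : Finite T := finite_of_le hTS
  have hnorm : ∀ s ∈ S, ∀ x ∈ T, s * x * s⁻¹ ∈ T := fun s hs x hx =>
    Subgroup.mem_subgroupOf.1 (hTn.conj_mem ⟨x, hTS hx⟩ (Subgroup.mem_subgroupOf.2 hx) ⟨s, hs⟩)
  have hclosed : F.StronglyClosed T := by
    refine ⟨hTS, fun R hR φ hφ x => ?_⟩
    obtain ⟨s, hs, hx⟩ := exists_conj_mod_hyperfocal hS hF hφ
    have e : φ x = (s * (x : Ω) * s⁻¹) * ((s * (x : Ω) * s⁻¹)⁻¹ * φ x) := by group
    rw [e]
    exact mul_mem (hnorm s hs x (hR x.2)) (hEi.2.1 (hx x))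
  refine ⟨⟨hE, hF, hEi.1, hclosed, fun P hPT φ hφ α hα => ?_, fun P hP φ hφ => ?_⟩, ?_⟩
  · obtain ⟨χ, hχ, hχx⟩ := exists_act_of_hasPPowerIndexIn hTp hTS hE hEi hα hφ
    exact ⟨χ, hχ, fun x hφx hαx => hχx x⟩
  · -- Frattini
    obtain ⟨E', hE', hE'i, hdec⟩ := exists_pPowerIndex hS hF hTS hEi.2.1
    obtain rfl : E = E' := hasPPowerIndexIn_unique hTp hE hEi hE' hE'i
    obtain ⟨s, hs, φ₀, hφ₀, hx⟩ := hdec P hP φ hφ
    have hsN : s ∈ Subgroup.normalizer (T : Set Ω) := Subgroup.mem_normalizer_iff.2 fun x =>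
      ⟨hnorm s hs x, fun h => by
        have h1 := hnorm s⁻¹ (S.inv_mem hs) _ h
        simpa [mul_assoc] using h1⟩
    exact ⟨conjAut T s hsN, autInducedBy_le_autGroup hTS (mem_autInducedBy.2 ⟨s, hs, fun _ => rfl⟩),
      φ₀, hφ₀, fun x _ => hx x⟩
  · -- extension condition
    intro α hα
    have := finite_mulAut (S := T) (le_refl T)
    let K : Submonoid (MulAut T) :=
      { carrier := extendableAut F T
        one_mem' := ⟨1, one_mem _, fun x => rfl, fun c _ => by
          show (c : Ω)⁻¹ * (c : Ω) ∈ _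
          rw [inv_mul_cancel]; exact one_mem _⟩
        mul_mem' := extendableAut_mul hTS }
    let H : Subgroup (MulAut T) :=
      { K with
        inv_mem' := fun {a} ha => by
          obtain ⟨n, hn⟩ : a⁻¹ ∈ Submonoid.powers a :=
            mem_powers_iff_mem_zpowers.2 (inv_mem (Subgroup.mem_zpowers a))
          exact hn ▸ Submonoid.pow_mem K ha n }
    have hU : T ⊔ centralizerIn S T ≤ S := sup_le hTS inf_le_left
    have : Finite (T ⊔ centralizerIn S T : Subgroup Ω) := finite_of_le hU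
    have hTfn : E.IsFullyNormalized T := isFullyNormalized_top E
    refine (?_ : E.autGroup T ≤ H) hα
    refine (autGroup_le_pResidual_sup hTp hE hTfn).trans (sup_le ?_ ?_)
    · rintro _ ⟨⟨a, ha⟩, har, rfl⟩
      refine (Subgroup.closure_le (H.comap (E.autGroup T).subtype)).2 ?_ har
      intro b hb
      have hbF : (b : MulAut T) ∈ F.autGroup T := autGroup_mono hEi.1 T b.2
      have hfc : F.IsFullyCentralized T := by
        refine ⟨hTS, fun Q hQ => ?_⟩
        obtain ⟨φ, hφ, rfl⟩ := hQ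
        rw [range_eq_self hφ (hclosed.2 T le_rfl φ hφ)]
      obtain ⟨ψ, hψ, hag⟩ := (isReceptive_of_isFullyCentralized hS hF hfc).2 T
        (autHom (b : MulAut T)) (autGroup_hom_mem hTS hbF) (range_autHom _)
      have hsub := sup_centralizerIn_le_extender (autGroup_hom_mem hTS hbF)
      have hψU := restrict_mem hψ hsub
      have hmapsU : ∀ y, (ψ.comp (Subgroup.inclusion hsub)) y ∈ T ⊔ centralizerIn S T := by
        intro y
        have hrange : imgSub (ψ.comp (Subgroup.inclusion hsub)) (T ⊔ centralizerIn S T) ≤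
            T ⊔ centralizerIn S T := by
          have key : ∀ z : ↥(T ⊔ centralizerIn S T), (z : Ω) ∈ T ⊔ centralizerIn S T →
              (z : Ω) ∈ T ∨ (z : Ω) ∈ centralizerIn S T →
              (ψ.comp (Subgroup.inclusion hsub)) z ∈ T ⊔ centralizerIn S T := by
            rintro z - (hz | hz)
            · refine Subgroup.mem_sup_left ?_
              show ψ ⟨z, _⟩ ∈ T
              rw [hag z hz _]
              exact SetLike.coe_mem _
            · refine Subgroup.mem_sup_right ?_
              have h1 := apply_mem_centralizerIn (P := T) hψ (Subgroup.inclusion hsub z) hz.2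
              rw [imgSub_of_agree (le_extender (autGroup_hom_mem hTS hbF)) hag, range_autHom] at h1
              exact h1
          have hle : T ⊔ centralizerIn S T ≤
              (((T ⊔ centralizerIn S T).comap (ψ.comp (Subgroup.inclusion hsub))).map
                (T ⊔ centralizerIn S T).subtype) := by
            refine sup_le (fun z hz => ?_) (fun z hz => ?_)
            · exact ⟨⟨z, Subgroup.mem_sup_left hz⟩,
                key ⟨z, Subgroup.mem_sup_left hz⟩ (Subgroup.mem_sup_left hz) (Or.inl hz), rfl⟩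
            · exact ⟨⟨z, Subgroup.mem_sup_right hz⟩,
                key ⟨z, Subgroup.mem_sup_right hz⟩ (Subgroup.mem_sup_right hz) (Or.inr hz), rfl⟩
          intro w hw
          obtain ⟨z, -, rfl⟩ := mem_imgSub.1 hw
          obtain ⟨z', hz', e⟩ := hle z.2
          rwa [Subtype.ext e] at hz'
        exact hrange (apply_mem_imgSub _ y y.2)
      obtain ⟨β, hβ, hβx⟩ := exists_aut_of_hom hψU hmapsU
      have hres : ∀ (n : ℕ) (x : T), ((β ^ n) (Subgroup.inclusion le_sup_left x) : Ω) =
          (((b : MulAut T) ^ n) x : Ω) := by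
        intro n
        induction n with
        | zero => intro x; rfl
        | succ n ih =>
          intro x
          rw [pow_succ', pow_succ', MulAut.mul_apply, MulAut.mul_apply, hβx]
          have e : (β ^ n) (Subgroup.inclusion le_sup_left x) =
              Subgroup.inclusion le_sup_left (((b : MulAut T) ^ n) x) := Subtype.ext (ih x)
          rw [e]
          exact hag _ (SetLike.coe_mem _) _
      have := finite_mulAut (S := S) hU
      obtain ⟨k, hk⟩ := Transfer.exists_pow_coprime (p := p) β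
      have hco : (orderOf (b : MulAut T)).Coprime (p ^ k) := by
        refine Nat.Coprime.pow_right k ?_
        rw [Subgroup.orderOf_coe]; exact hb
      obtain ⟨m, hm⟩ := exists_pow_eq_self_of_coprime hco.symm
      refine ⟨(β ^ p ^ k) ^ m, Subgroup.pow_mem _ (Subgroup.pow_mem _ hβ _) _, fun x => ?_,
        fun c hc => ?_⟩
      · rw [← pow_mul, hres, pow_mul, hm]
        rfl
      · refine ⟨hEi.2.1 (Subgroup.subset_closure ⟨T ⊔ centralizerIn S T,
          ⟨_, Subgroup.pow_mem _ (Subgroup.pow_mem _ hβ _) m⟩, c, hU, ?_, rfl⟩), ?_⟩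
        · refine Transfer.mem_pResidual_of_coprime ?_
          rw [Subgroup.orderOf_mk]
          exact Nat.Coprime.coprime_dvd_left (orderOf_pow_dvd m) hk
        · refine Subgroup.mul_mem _ (Subgroup.inv_mem _ hc.2) ?_
          intro t ht
          have ht' : ∀ u : T, ((((β ^ p ^ k) ^ m) (Subgroup.inclusion le_sup_left u)) : Ω) = ((b : MulAut T) u : Ω) :=
            fun u => by rw [← pow_mul, hres, pow_mul, hm]
          have h1 : ((b : MulAut T) ((b : MulAut T)⁻¹ ⟨t, ht⟩) : Ω) = t :=
            congrArg Subtype.val (MulAut.apply_inv_self (M := T) _ _)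
          rw [← h1, ← ht']
          have h2 : Subgroup.inclusion le_sup_left ((b : MulAut T)⁻¹ ⟨t, ht⟩) * c =
              c * Subgroup.inclusion le_sup_left ((b : MulAut T)⁻¹ ⟨t, ht⟩) :=
            Subtype.ext (hc.2 _ ((b : MulAut T)⁻¹ ⟨t, ht⟩).2)
          have h3 := congrArg (fun z => ((((β ^ p ^ k) ^ m) z : ↥(T ⊔ centralizerIn S T)) : Ω)) h2
          simpa only [map_mul, Subgroup.coe_mul] using h3
    · intro a ha
      obtain ⟨t, ht, hta⟩ := mem_autInducedBy.1 ha
      have htN : t ∈ Subgroup.normalizer ((T ⊔ centralizerIn S T : Subgroup Ω) : Set Ω) :=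
        Subgroup.le_normalizer (Subgroup.mem_sup_left ht)
      refine ⟨conjAut _ t htN,
        autInducedBy_le_autGroup hU (mem_autInducedBy.2 ⟨t, hTS ht, fun _ => rfl⟩),
        fun x => (hta x).symm, fun c hc => ?_⟩
      rw [conjAut_apply]
      have e : (c : Ω)⁻¹ * (t * (c : Ω) * t⁻¹) = 1 := by
        rw [hc.2 t ht]; group
      rw [e]
      exact one_mem _

end Cfsg.Agent.Lib.Fusion
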