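/-
Maps between subgroups of a strongly closed subgroup `T` extending trivially modulo `T` over
`C_S(T)`.
-/
import Cfsg.Agent.Lib.Fusion.CentralizerNormal
import Cfsg.Agent.Lib.Fusion.PPowerNormal
import Cfsg.Agent.Lib.Fusion87.Normal

set_option autoImplicit false

namespace Cfsg.Agent.Lib.Fusion

open Cfsg Cfsg.FusionSystem

universe u

variable {Ω : Type u} [Group Ω] {S T : Subgroup Ω} {F : FusionSystem S} {p : ℕ}

/-- `φ` extends over `C_S(T)` trivially modulo `T`. -/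
def GoodLift (F : FusionSystem S) (T : Subgroup Ω) {P : Subgroup Ω} (φ : P →* Ω) : Prop :=
  P ≤ T ∧ (∀ x : P, φ x ∈ T) ∧
    ∃ ψ ∈ F.Hom (P ⊔ centralizerIn S T), (∀ x : P, ψ (Subgroup.inclusion le_sup_left x) = φ x) ∧
      ∀ c : centralizerIn S T, (c : Ω)⁻¹ * ψ (Subgroup.inclusion le_sup_right c) ∈ T

theorem GoodLift.mem_hom {P : Subgroup Ω} {φ : P →* Ω} (h : GoodLift F T φ) : φ ∈ F.Hom P := by
  obtain ⟨-, -, ψ, hψ, hψP, -⟩ := h
  exact mem_congr (restrict_mem hψ le_sup_left) fun x => (hψP x).symm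

theorem GoodLift.congr {P : Subgroup Ω} {φ φ' : P →* Ω} (h : GoodLift F T φ)
    (e : ∀ x, φ' x = φ x) : GoodLift F T φ' := (MonoidHom.ext e : φ' = φ) ▸ h

theorem GoodLift.restrict {P R : Subgroup Ω} {φ : P →* Ω} (h : GoodLift F T φ) (hR : R ≤ P) :
    GoodLift F T (φ.comp (Subgroup.inclusion hR)) := by
  obtain ⟨hP, hφ, ψ, hψ, hψP, hψC⟩ := h
  have hle : R ⊔ centralizerIn S T ≤ P ⊔ centralizerIn S T := sup_le_sup_right hR _
  exact ⟨hR.trans hP, fun x => hφ _, ψ.comp (Subgroup.inclusion hle), restrict_mem hψ hle,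
    fun x => hψP (Subgroup.inclusion hR x), fun c => hψC c⟩

theorem goodLift_conj (hTS : T ≤ S) {P : Subgroup Ω} (hP : P ≤ T) {t : Ω} (ht : t ∈ T) :
    GoodLift F T (conjHom P t) := by
  refine ⟨hP, fun x => mul_mem (mul_mem ht (hP x.2)) (inv_mem ht), conjHom _ t,
    F.conj_mem (sup_le (hP.trans hTS) (centralizerIn_le T)) (hTS ht), fun x => rfl, fun c => ?_⟩
  show (c : Ω)⁻¹ * (t * (c : Ω) * t⁻¹) ∈ T
  rw [c.2.2 t ht, mul_inv_cancel_right, inv_mul_cancel]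
  exact one_mem _

theorem goodLift_subtype (hTS : T ≤ S) {P : Subgroup Ω} (hP : P ≤ T) :
    GoodLift F T P.subtype :=
  (goodLift_conj hTS hP T.one_mem).congr fun x => by simp

/-- Conjugates inside `T` of a `T`-centric subgroup are `T`-centric. -/
theorem TCentric.range {P : Subgroup Ω} (h : TCentric F T P) {φ : P →* Ω} (hφ : φ ∈ F.Hom P)
    (hr : ∀ x, φ x ∈ T) : TCentric F T φ.range := by
  refine ⟨by rintro _ ⟨x, rfl⟩; exact hr x, fun χ hχ hχr => ?_⟩
  obtain ⟨μ, hμ, hμx⟩ := exists_comp hφ hχ fun x => ⟨x, rfl⟩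
  have e : μ.range = χ.range := by
    refine le_antisymm ?_ ?_
    · rintro _ ⟨x, rfl⟩
      exact ⟨_, (hμx x).symm⟩
    · rintro _ ⟨⟨_, x, rfl⟩, rfl⟩
      exact ⟨x, hμx x⟩
  rw [← e]
  exact h.2 μ hμ (e.le.trans hχr)

theorem TCentric.mono {P R : Subgroup Ω} (h : TCentric F T P) (hPR : P ≤ R) (hR : R ≤ T) :
    TCentric F T R := by
  refine ⟨hR, fun χ hχ hχr => ?_⟩
  have hle : (χ.comp (Subgroup.inclusion hPR)).range ≤ χ.range := by
    rintro _ ⟨x, rfl⟩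
    exact ⟨_, rfl⟩
  exact (inf_le_inf_left _ (Subgroup.centralizer_le hle)).trans
    ((h.2 _ (restrict_mem hχ hPR) (hle.trans hχr)).trans hle)

theorem TCentric.centralizerIn_le {P : Subgroup Ω} (h : TCentric F T P) (hTS : T ≤ S) :
    centralizerIn T P ≤ P := by
  have := h.2 P.subtype (subtype_mem (h.1.trans hTS)) (by rw [Subgroup.range_subtype]; exact h.1)
  rwa [Subgroup.range_subtype] at this

/-- The displacement of a good lift lies in the image. -/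
theorem GoodLift.shift_mem {P : Subgroup Ω} {φ : P →* Ω} (hP : TCentric F T P)
    (hφ : φ ∈ F.Hom P) (hφT : ∀ x, φ x ∈ T) {ψ : (P ⊔ centralizerIn S T : Subgroup Ω) →* Ω}
    (hψP : ∀ x : P, ψ (Subgroup.inclusion le_sup_left x) = φ x) (c : centralizerIn S T)
    (hc : (c : Ω)⁻¹ * ψ (Subgroup.inclusion le_sup_right c) ∈ T) :
    (c : Ω)⁻¹ * ψ (Subgroup.inclusion le_sup_right c) ∈ φ.range := by
  refine hP.2 φ hφ (by rintro _ ⟨x, rfl⟩; exact hφT x) ⟨hc, ?_⟩
  rintro _ ⟨x, rfl⟩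
  refine Commute.eq (Commute.mul_right ?_ ?_)
  · exact Commute.inv_right (c.2.2 _ (hφT x))
  · have h : (Subgroup.inclusion le_sup_left x : (P ⊔ centralizerIn S T : Subgroup Ω)) *
        Subgroup.inclusion le_sup_right c =
          Subgroup.inclusion le_sup_right c * Subgroup.inclusion le_sup_left x :=
      Subtype.ext (c.2.2 _ (hP.1 x.2))
    have h2 := congrArg ψ h
    rw [map_mul, map_mul, hψP] at h2
    exact h2

theorem GoodLift.comp {P Q : Subgroup Ω} {φ : P →* Ω} {χ : Q →* Ω} (hP : TCentric F T P)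
    (hφ : GoodLift F T φ) (hχ : GoodLift F T χ) (h : ∀ x, φ x ∈ Q) {μ : P →* Ω}
    (hμ : ∀ x, μ x = χ ⟨φ x, h x⟩) : GoodLift F T μ := by
  have hφF := hφ.mem_hom
  obtain ⟨hPT, hφT, ψ, hψ, hψP, hψC⟩ := hφ
  obtain ⟨-, hχT, ξ, hξ, hξQ, hξC⟩ := hχ
  have hsh : ∀ c : centralizerIn S T, (c : Ω)⁻¹ * ψ (Subgroup.inclusion le_sup_right c) ∈ Q :=
    fun c => by
      obtain ⟨x, hx⟩ := GoodLift.shift_mem hP hφF hφT hψP c (hψC c)
      rw [← hx]
      exact h x
  have hm : ∀ y, ψ y ∈ Q ⊔ centralizerIn S T := hom_sup_mem ψ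
    (fun x => Subgroup.mem_sup_left (by rw [hψP]; exact h x))
    (fun c => by
      rw [show ψ (Subgroup.inclusion le_sup_right c) =
        (c : Ω) * ((c : Ω)⁻¹ * ψ (Subgroup.inclusion le_sup_right c)) by group]
      exact mul_mem (Subgroup.mem_sup_right c.2) (Subgroup.mem_sup_left (hsh c)))
  obtain ⟨θ, hθ, hθx⟩ := exists_comp hψ hξ hm
  refine ⟨hPT, fun x => by rw [hμ]; exact hχT _, θ, hθ, fun x => ?_, fun c => ?_⟩
  · rw [hθx, hμ, ← hξQ]
    exact congrArg ξ (Subtype.ext (hψP x))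
  · rw [hθx, show (⟨_, hm (Subgroup.inclusion le_sup_right c)⟩ :
        (Q ⊔ centralizerIn S T : Subgroup Ω)) =
          Subgroup.inclusion le_sup_right c * Subgroup.inclusion le_sup_left ⟨_, hsh c⟩ from
        Subtype.ext (by simp), map_mul, hξQ, ← mul_assoc]
    exact mul_mem (hξC c) (hχT _)

theorem GoodLift.inverse {P : Subgroup Ω} {φ : P →* Ω} (hP : TCentric F T P)
    (hφ : GoodLift F T φ) {τ : φ.range →* Ω} (hτ : ∀ (x : P) (h : φ x ∈ φ.range), τ ⟨φ x, h⟩ = x) :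
    GoodLift F T τ := by
  have hφF := hφ.mem_hom
  obtain ⟨hPT, hφT, ψ, hψ, hψP, hψC⟩ := hφ
  obtain ⟨ξ, hξ, -, hξx, -⟩ := exists_inverse hψ rfl
  have hle : φ.range ⊔ centralizerIn S T ≤ ψ.range := by
    have h1 : φ.range ≤ ψ.range := by rintro _ ⟨x, rfl⟩; exact ⟨_, hψP x⟩
    refine sup_le h1 fun c hc => ?_
    have h2 := GoodLift.shift_mem hP hφF hφT hψP ⟨c, hc⟩ (hψC ⟨c, hc⟩)
    have h3 : ψ (Subgroup.inclusion le_sup_right ⟨c, hc⟩) ∈ ψ.range := ⟨_, rfl⟩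
    have := mul_mem h3 (inv_mem (h1 h2))
    rw [mul_inv_rev, inv_inv, mul_inv_cancel_left] at this
    exact this
  refine ⟨by rintro _ ⟨x, rfl⟩; exact hφT x, ?_, ξ.comp (Subgroup.inclusion hle),
    restrict_mem hξ hle, ?_, fun c => ?_⟩
  · rintro ⟨_, x, rfl⟩
    exact (hτ x _).symm ▸ hPT x.2
  · rintro ⟨_, x, rfl⟩
    refine Eq.trans ?_ (hτ x _).symm
    exact (congrArg ξ (Subtype.ext (hψP x).symm : Subgroup.inclusion hle
      (Subgroup.inclusion le_sup_left (⟨φ x, x, rfl⟩ : φ.range)) = ⟨_, _, rfl⟩)).trans (hξx _ _)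
  · obtain ⟨x, hx⟩ := GoodLift.shift_mem hP hφF hφT hψP c (hψC c)
    have e : Subgroup.inclusion hle (Subgroup.inclusion le_sup_right c) =
        (⟨_, Subgroup.inclusion le_sup_right c, rfl⟩ : ψ.range) *
          (⟨_, Subgroup.inclusion le_sup_left x, rfl⟩ : ψ.range)⁻¹ := by
      refine Subtype.ext ?_
      show (c : Ω) = ψ (Subgroup.inclusion le_sup_right c) *
        (ψ (Subgroup.inclusion le_sup_left x))⁻¹
      rw [hψP, hx, mul_inv_rev, inv_inv, mul_inv_cancel_left]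
    show (c : Ω)⁻¹ * ξ (Subgroup.inclusion hle (Subgroup.inclusion le_sup_right c)) ∈ T
    rw [e, map_mul, map_inv]
    erw [hξx, hξx]
    show (c : Ω)⁻¹ * ((c : Ω) * (x : Ω)⁻¹) ∈ T
    rw [inv_mul_cancel_left]
    exact inv_mem (hPT x.2)

/-- An automorphism of `T` lifts over `C_S(T)` stabilizing it. -/
theorem exists_lift_stable [Fact p.Prime] [Finite S] (hS : IsPGroup p S) (hF : F.IsSaturated p)
    (hTc : F.StronglyClosed T) {a : MulAut T} (ha : a ∈ F.autGroup T) :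
    ∃ b ∈ F.autGroup (cenSup S T), Agrees b a ∧
      (∀ x : cenSup S T, (x : Ω) ∈ centralizerIn S T → (b x : Ω) ∈ centralizerIn S T) ∧
      ∀ x : cenSup S T, (x : Ω) ∈ centralizerIn S T → (b⁻¹ x : Ω) ∈ centralizerIn S T := by
  haveI : Finite T := finite_of_le hTc.1
  have hfc : F.IsFullyCentralized T := by
    refine ⟨hTc.1, fun R hR => ?_⟩
    obtain ⟨φ, hφ, rfl⟩ := hR
    rw [range_eq_self hφ fun x => hTc.2 T le_rfl φ hφ x]
  obtain ⟨b, hb, hbi, hag⟩ := exists_lift_aut hS hF hfc ha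
  refine ⟨b, hb, hag, apply_mem_centralizerIn_of_iff hTc.1 hbi,
    apply_mem_centralizerIn_of_iff hTc.1 fun x => ?_⟩
  have h := hbi (b⁻¹ x)
  rw [MulAut.apply_inv_self] at h
  exact h.symm

/-- Transporting a good lift by an automorphism of `T`. -/
theorem GoodLift.act [Fact p.Prime] [Finite S] (hS : IsPGroup p S) (hF : F.IsSaturated p)
    (hTc : F.StronglyClosed T) {a : MulAut T} (ha : a ∈ F.autGroup T) {P : Subgroup Ω}
    {φ : P →* Ω} (hφ : GoodLift F T φ) {R : Subgroup Ω} {μ : R →* Ω}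
    (hR : ∀ y : R, ∃ (x : P) (hx : (x : Ω) ∈ T) (hφx : φ x ∈ T),
      (y : Ω) = a ⟨x, hx⟩ ∧ μ y = a ⟨φ x, hφx⟩) : GoodLift F T μ := by
  obtain ⟨b, hb, hag, hbC, hbC'⟩ := exists_lift_stable hS hF hTc ha
  obtain ⟨hPT, hφT, ψ, hψ, hψP, hψC⟩ := hφ
  have hW := cenSup_le (S := S) hTc.1
  have hRT : R ≤ T := fun y hy => by
    obtain ⟨x, hx, -, hy', -⟩ := hR ⟨y, hy⟩
    exact (hy'.symm ▸ (a ⟨x, hx⟩).2 : ((⟨y, hy⟩ : R) : Ω) ∈ T)
  have hRW : R ⊔ centralizerIn S T ≤ cenSup S T :=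
    sup_le (hRT.trans le_sup_left) le_sup_right
  have hinv : ∀ (x : P) (hx : (x : Ω) ∈ T) (h : (a ⟨x, hx⟩ : Ω) ∈ cenSup S T),
      (b⁻¹ ⟨_, h⟩ : Ω) = x := by
    intro x hx h
    rw [show (⟨(a ⟨x, hx⟩ : Ω), h⟩ : cenSup S T) = b (Subgroup.inclusion le_sup_left ⟨x, hx⟩) from
      Subtype.ext (hag ⟨x, hx⟩).symm, MulAut.inv_apply_self]
    rfl
  have hm1 : ∀ y, (autHom b⁻¹).comp (Subgroup.inclusion hRW) y ∈ P ⊔ centralizerIn S T :=
    hom_sup_mem _
      (fun y => Subgroup.mem_sup_left (by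
        obtain ⟨x, hx, -, hy', -⟩ := hR y
        have h' : (a ⟨x, hx⟩ : Ω) ∈ cenSup S T := hy' ▸ hRW (Subgroup.mem_sup_left y.2)
        show (b⁻¹ (Subgroup.inclusion hRW (Subgroup.inclusion le_sup_left y)) : Ω) ∈ P
        rw [show Subgroup.inclusion hRW (Subgroup.inclusion le_sup_left y) =
          (⟨_, h'⟩ : cenSup S T) from Subtype.ext hy', hinv x hx h']
        exact x.2))
      (fun c => Subgroup.mem_sup_right (hbC' _ c.2))
  obtain ⟨η₁, hη₁, hη₁x⟩ := exists_comp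
    (restrict_mem (autGroup_hom_mem hW (inv_mem hb)) hRW) hψ hm1
  have hψW : ∀ y, ψ y ∈ cenSup S T := hom_sup_mem ψ
    (fun x => Subgroup.mem_sup_left (by rw [hψP]; exact hφT x))
    (fun c => by
      rw [show ψ (Subgroup.inclusion le_sup_right c) =
        (c : Ω) * ((c : Ω)⁻¹ * ψ (Subgroup.inclusion le_sup_right c)) by group]
      exact mul_mem (Subgroup.mem_sup_right c.2) (Subgroup.mem_sup_left (hψC c)))
  have hm2 : ∀ y, η₁ y ∈ cenSup S T := fun y => by rw [hη₁x]; exact hψW _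
  obtain ⟨η, hη, hηx⟩ := exists_comp hη₁ (autGroup_hom_mem hW hb) hm2
  refine ⟨hRT, fun y => ?_, η, hη, fun y => ?_, fun c => ?_⟩
  · obtain ⟨x, -, hφx, -, hy'⟩ := hR y
    rw [hy']
    exact (a _).2
  · obtain ⟨x, hx, hφx, hy, hy'⟩ := hR y
    have h' : (a ⟨x, hx⟩ : Ω) ∈ cenSup S T := hy ▸ hRW (Subgroup.mem_sup_left y.2)
    have h1 : η₁ (Subgroup.inclusion le_sup_left y) = φ x := by
      rw [hη₁x, ← hψP]
      refine congrArg ψ (Subtype.ext ?_)
      show (b⁻¹ (Subgroup.inclusion hRW (Subgroup.inclusion le_sup_left y)) : Ω) = x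
      rw [show Subgroup.inclusion hRW (Subgroup.inclusion le_sup_left y) =
          (⟨_, h'⟩ : cenSup S T) from Subtype.ext hy, hinv x hx h']
    rw [hηx, autHom_apply, show (⟨_, hm2 (Subgroup.inclusion le_sup_left y)⟩ : cenSup S T) =
      Subgroup.inclusion le_sup_left ⟨φ x, hφx⟩ from Subtype.ext h1, hag, hy']
  · set c' : centralizerIn S T :=
      ⟨(b⁻¹ (Subgroup.inclusion hRW (Subgroup.inclusion le_sup_right c)) : Ω), hbC' _ c.2⟩ with hc'
    have h1 : η₁ (Subgroup.inclusion le_sup_right c) = ψ (Subgroup.inclusion le_sup_right c') := by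
      rw [hη₁x]
      exact congrArg ψ (Subtype.ext rfl)
    have h2 := hψC c'
    have e : (⟨_, hm2 (Subgroup.inclusion le_sup_right c)⟩ : cenSup S T) =
        b⁻¹ (Subgroup.inclusion hRW (Subgroup.inclusion le_sup_right c)) *
          Subgroup.inclusion le_sup_left ⟨_, h2⟩ := by
      refine Subtype.ext ?_
      show η₁ (Subgroup.inclusion le_sup_right c) =
        (c' : Ω) * ((c' : Ω)⁻¹ * ψ (Subgroup.inclusion le_sup_right c'))
      rw [h1]
      group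
    rw [hηx, autHom_apply, e, map_mul, MulAut.apply_inv_self, Subgroup.coe_mul, hag, ← mul_assoc]
    show (c : Ω)⁻¹ * (c : Ω) * _ ∈ T
    rw [inv_mul_cancel, one_mul]
    exact (a _).2

/-- An automorphism of `p`-power order of a `T`-centric subgroup in a saturated subsystem is
good. -/
theorem goodLift_of_pow_eq_one [Fact p.Prime] [Finite S] (hS : IsPGroup p S) (hF : F.IsSaturated p)
    (hTc : F.StronglyClosed T) {E : FusionSystem T} (hE : E.IsSaturated p)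
    (hEF : E.IsSubsystemOf F) (hstr : StronglyInvariant E F)
    (hfn : ∀ Q, Q ≤ T → F.IsFullyNormalized Q → E.IsFullyNormalized Q)
    {P : Subgroup Ω} (hP : TCentric F T P) {α : MulAut P} (hα : α ∈ E.autGroup P) {k : ℕ}
    (hk : α ^ p ^ k = 1) : GoodLift F T (autHom α) := by
  classical
  have hTS := hTc.1
  haveI : Finite T := finite_of_le hTS
  have hPS := hP.1.trans hTS
  obtain ⟨Q, ⟨φ, hφ, hr⟩, hQ⟩ := exists_isFullyNormalized_conj F hPS
  have hQT : Q ≤ T := by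
    rw [← hr]
    rintro _ ⟨x, rfl⟩
    exact hTc.2 P hP.1 φ hφ x
  haveI : Finite Q := finite_of_le hQ.1
  haveI := finite_mulAut (S := T) hQT
  set e := isoOnto φ (F.injective_of_mem hφ) hr with he
  obtain ⟨χ, hχ, hχx⟩ := hstr P P le_rfl hP.1 (autHom α) (autGroup_hom_mem hP.1 hα)
    (fun y => (α y).2) φ hφ
  have hb : MulAut.congr e α ∈ E.autGroup Q := by
    refine (mem_autGroup hQT).2 ?_
    have hle : Q ≤ imgSub φ P := by rw [imgSub_self]; exact hr.ge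
    refine mem_congr (restrict_mem hχ hle) fun y => ?_
    obtain ⟨x, rfl⟩ := e.surjective y
    refine Eq.trans ?_ ((congrArg χ (Subtype.ext rfl : Subgroup.inclusion hle (e x) =
      ⟨_, apply_mem_imgSub φ x x.2⟩)).trans (hχx x _)).symm
    show (e (α (e.symm (e x))) : Ω) = φ (α x)
    rw [e.symm_apply_apply]
    rfl
  have hbp : (MulAut.congr e α) ^ p ^ k = 1 :=
    (map_pow (MulAut.congr e) α (p ^ k)).symm.trans
      ((congrArg (MulAut.congr e) hk).trans (map_one (MulAut.congr e)))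
  obtain ⟨i, -, hi⟩ :=
    (Nat.dvd_prime_pow (Fact.out : p.Prime)).1 (orderOf_dvd_of_pow_eq_one hbp)
  obtain ⟨-, hsyl⟩ := isFullyAutomized_iff.1
    (isFullyAutomized_of_isFullyNormalized (hS.to_le hTS) hE (hfn Q hQT hQ))
  obtain ⟨δ, hδ, hle⟩ := hsyl.exists_conj_le (IsPGroup.of_card (n := i)
    ((Nat.card_zpowers _).trans hi)) (Subgroup.zpowers_le.2 hb)
  obtain ⟨t, ht, htx⟩ := mem_autInducedBy.1 (hle ⟨_, Subgroup.mem_zpowers _, rfl⟩)
  obtain ⟨φ₁, hφ₁, hφ₁x⟩ := exists_comp hφ (autGroup_hom_mem hQ.1 (autGroup_mono hEF Q hδ))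
    fun x => hr.le ⟨x, rfl⟩
  have hφ₁e : ∀ x, φ₁ x = (δ (e x) : Ω) := fun x => hφ₁x x
  have hφ₁r : φ₁.range = Q := by
    refine le_antisymm ?_ fun y hy => ⟨e.symm (δ.symm ⟨y, hy⟩), ?_⟩
    · rintro _ ⟨x, rfl⟩
      rw [hφ₁e]
      exact (δ _).2
    · rw [hφ₁e, MulEquiv.apply_symm_apply, MulEquiv.apply_symm_apply]
  have hconj : ∀ x : P, φ₁ (α x) = t * φ₁ x * t⁻¹ := by
    intro x
    have h := htx (δ (e x))
    rw [hφ₁e, hφ₁e, ← h]
    show _ = (δ ((MulAut.congr e α) (δ⁻¹ (δ (e x)))) : Ω)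
    rw [MulAut.inv_apply_self]
    exact congrArg (fun y => (δ (e (α y)) : Ω)) (e.symm_apply_apply x).symm
  obtain ⟨Φ, hΦ, hΦag⟩ := (isReceptive_of_isFullyCentralized hS hF
    (isFullyCentralized_of_isFullyNormalized hS hF hQ)).2 P φ₁ hφ₁ hφ₁r
  have hsub : P ⊔ centralizerIn S T ≤ extender S P φ₁ :=
    (sup_le_sup_left (centralizerIn_anti hP.1) P).trans (sup_centralizerIn_le_extender hφ₁)
  set ψ := Φ.comp (Subgroup.inclusion hsub) with hψdef
  have hψ : ψ ∈ F.Hom _ := restrict_mem hΦ hsub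
  have hψP : ∀ x : P, ψ (Subgroup.inclusion le_sup_left x) = φ₁ x := fun x => hΦag x x.2 _
  have hψC : ∀ c : centralizerIn S T, ψ (Subgroup.inclusion le_sup_right c) ∈ centralizerIn S Q := by
    intro c
    refine ⟨val_mem hψ _, fun q hq => ?_⟩
    obtain ⟨x, rfl⟩ := hφ₁r.ge hq
    have h : (Subgroup.inclusion le_sup_left x : (P ⊔ centralizerIn S T : Subgroup Ω)) *
        Subgroup.inclusion le_sup_right c =
          Subgroup.inclusion le_sup_right c * Subgroup.inclusion le_sup_left x :=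
      Subtype.ext (c.2.2 _ (hP.1 x.2))
    have h2 := congrArg ψ h
    rwa [map_mul, map_mul, hψP] at h2
  have hQc : centralizerIn T Q ≤ Q := by
    have := hP.2 φ₁ hφ₁ (hφ₁r.le.trans hQT)
    rwa [hφ₁r] at this
  have htN : t ∈ Subgroup.normalizer (Q : Set Ω) := mem_normalizer_of_aut htx
  -- `[t, ψ c]` lies in `Q`
  have hz : ∀ c : centralizerIn S T, (ψ (Subgroup.inclusion le_sup_right c))⁻¹ *
      (t * ψ (Subgroup.inclusion le_sup_right c) * t⁻¹) ∈ Q := by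
    intro c
    set c' := ψ (Subgroup.inclusion le_sup_right c) with hc'
    refine hQc ⟨?_, fun q hq => ?_⟩
    · have h1 : c'⁻¹ * t * c'⁻¹⁻¹ ∈ T :=
        stronglyClosed_conj hTc (inv_mem (hψC c).1) ht
      rw [inv_inv] at h1
      have := mul_mem h1 (inv_mem ht)
      rwa [show c'⁻¹ * (t * c' * t⁻¹) = c'⁻¹ * t * c' * t⁻¹ by group]
    · refine Commute.eq (Commute.mul_right (Commute.inv_right ((hψC c).2 q hq)) ?_)
      have hq' : t⁻¹ * q * t ∈ Q := by
        have := (Subgroup.mem_normalizer_iff.1 (inv_mem htN) q).1 hq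
        rwa [inv_inv] at this
      have h1 : (t⁻¹ * q * t) * c' = c' * (t⁻¹ * q * t) := (hψC c).2 _ hq'
      show q * (t * c' * t⁻¹) = t * c' * t⁻¹ * q
      calc q * (t * c' * t⁻¹) = t * ((t⁻¹ * q * t) * c') * t⁻¹ := by group
        _ = t * (c' * (t⁻¹ * q * t)) * t⁻¹ := by rw [h1]
        _ = _ := by group
  obtain ⟨μ, hμ, hμx⟩ := exists_comp hψ (F.conj_mem (range_le hψ) (hTS ht)) fun y => ⟨y, rfl⟩
  have hm : ∀ y, μ y ∈ ψ.range := hom_sup_mem μ
    (fun x => ⟨Subgroup.inclusion le_sup_left (α x), by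
      rw [hψP, hconj, hμx, ← hψP]
      rfl⟩)
    (fun c => by
      obtain ⟨x, hx⟩ := hφ₁r.ge (hz c)
      refine ⟨Subgroup.inclusion le_sup_right c * Subgroup.inclusion le_sup_left x, ?_⟩
      rw [map_mul, hψP, hx, mul_inv_cancel_left, hμx]
      rfl)
  obtain ⟨τ, hτ, -, hτx, -⟩ := exists_inverse hψ rfl
  obtain ⟨ξ, hξ, hξx⟩ := exists_comp hμ hτ hm
  refine ⟨hP.1, fun x => hP.1 (α x).2, ξ, hξ, fun x => ?_, fun c => ?_⟩
  · rw [hξx, show (⟨_, hm (Subgroup.inclusion le_sup_left x)⟩ : ψ.range) =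
      ⟨_, Subgroup.inclusion le_sup_left (α x), rfl⟩ from Subtype.ext (by
        show μ _ = ψ _
        rw [hψP, hconj, hμx, ← hψP]
        rfl)]
    erw [hτx]
    rfl
  · obtain ⟨x, hx⟩ := hφ₁r.ge (hz c)
    rw [hξx, show (⟨_, hm (Subgroup.inclusion le_sup_right c)⟩ : ψ.range) =
      ⟨_, Subgroup.inclusion le_sup_right c * Subgroup.inclusion le_sup_left x, rfl⟩ from
      Subtype.ext (by
        show μ _ = ψ _
        rw [map_mul, hψP, hx, mul_inv_cancel_left, hμx]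
        rfl)]
    erw [hτx]
    show (c : Ω)⁻¹ * ((c : Ω) * (x : Ω)) ∈ T
    rw [inv_mul_cancel_left]
    exact hP.1 x.2

end Cfsg.Agent.Lib.Fusion
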