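/-
The automorphisms of `T` with a good lift on a `T`-centric subgroup form a `p`-group modulo those
with a good lift on `T`.
-/
import Cfsg.Agent.Lib.Fusion.GoodLift
import Cfsg.Agent.Lib.Fusion.KNormalizer

set_option autoImplicit false

namespace Cfsg.Agent.Lib.Fusion

open Cfsg Cfsg.FusionSystem

universe u

variable {Ω : Type u} [Group Ω] {S T : Subgroup Ω} {F : FusionSystem S} {p : ℕ}

/-- `a` has a good lift on `P`. -/
def LiftAt (F : FusionSystem S) {T P : Subgroup Ω} (hPT : P ≤ T) (a : MulAut T) : Prop :=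
  a ∈ F.autGroup T ∧ GoodLift F T ((autHom a).comp (Subgroup.inclusion hPT))

theorem liftAt_range [Fact p.Prime] [Finite S] (hS : IsPGroup p S) (hF : F.IsSaturated p)
    (hTc : F.StronglyClosed T) {P : Subgroup Ω} (hP : TCentric F T P) {a : MulAut T}
    (ha : LiftAt F hP.1 a) {η : P →* Ω} (hη : GoodLift F T η) {R : Subgroup Ω} (hr : η.range = R)
    (hR : R ≤ T) : LiftAt F hR a := by
  subst hr
  obtain ⟨haA, hag⟩ := ha
  have hηF := hη.mem_hom
  have hηT := hη.2.1
  have hRc := hP.range hηF hηT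
  obtain ⟨τ, hτ, hτr, hτx, -⟩ := exists_inverse hηF rfl
  have hτg : GoodLift F T τ := hη.inverse hP hτx
  have hτm : ∀ y, τ y ∈ P := fun y => hτr.le ⟨y, rfl⟩
  set θ := (autHom a).comp (Subgroup.inclusion hP.1) with hθ
  obtain ⟨μ₁, hμ₁, hμ₁x⟩ := exists_comp hτ hag.mem_hom hτm
  have hμ₁g : GoodLift F T μ₁ := GoodLift.comp hRc hτg hag hτm hμ₁x
  obtain ⟨θ', hθ', hθ'r, hθ'x, -⟩ := exists_inverse hag.mem_hom rfl
  obtain ⟨ν₁, hν₁, hν₁x⟩ := exists_comp hθ' hηF fun y => hθ'r.le ⟨y, rfl⟩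
  obtain ⟨ν, hν, hνx⟩ := exists_comp hν₁ (autGroup_hom_mem hTc.1 haA)
    fun y => by rw [hν₁x]; exact hηT _
  have hνg : GoodLift F T ν := by
    refine GoodLift.act hS hF hTc haA hη ?_
    rintro ⟨_, x, rfl⟩
    refine ⟨x, hP.1 x.2, hηT x, rfl, ?_⟩
    rw [hνx]
    refine congrArg (fun z : T => (a z : Ω)) (Subtype.ext ?_)
    exact (hν₁x _).trans (congrArg η (Subtype.ext (hθ'x x _)))
  have hm : ∀ y, μ₁ y ∈ θ.range := fun y => ⟨⟨τ y, hτm y⟩, (hμ₁x y).symm⟩
  refine ⟨haA, GoodLift.comp hRc hμ₁g hνg hm ?_⟩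
  rintro ⟨_, x, rfl⟩
  have h1 : μ₁ ⟨η x, x, rfl⟩ = θ x := (hμ₁x _).trans (congrArg θ (Subtype.ext (hτx x _)))
  rw [show (⟨μ₁ ⟨η x, x, rfl⟩, hm _⟩ : θ.range) = ⟨θ x, x, rfl⟩ from Subtype.ext h1, hνx]
  refine congrArg (fun z : T => (a z : Ω)) (Subtype.ext ?_)
  exact ((hν₁x _).trans (congrArg η (Subtype.ext (hθ'x x _)))).symm

theorem liftAt_conj [Fact p.Prime] [Finite S] (hS : IsPGroup p S) (hF : F.IsSaturated p)
    (hTc : F.StronglyClosed T) {P : Subgroup Ω} {hP : P ≤ T} {a b : MulAut T}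
    (ha : LiftAt F hP a) (hb : b ∈ F.autGroup T) {R : Subgroup Ω} (hR : R ≤ T)
    (hRP : ∀ y ∈ R, ∃ (x : Ω) (hx : x ∈ P), y = (b ⟨x, hP hx⟩ : Ω)) :
    LiftAt F hR (b * a * b⁻¹) := by
  refine ⟨mul_mem (mul_mem hb ha.1) (inv_mem hb), GoodLift.act hS hF hTc hb ha.2 fun y => ?_⟩
  obtain ⟨x, hx, hyx⟩ := hRP y y.2
  refine ⟨⟨x, hx⟩, hP hx, (a _).2, hyx, ?_⟩
  show (b (a (b⁻¹ (Subgroup.inclusion hR y))) : Ω) = b (a ⟨x, hP hx⟩)
  rw [show Subgroup.inclusion hR y = b ⟨x, hP hx⟩ from Subtype.ext hyx, MulAut.inv_apply_self]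

theorem liftAt_one (hTc : F.StronglyClosed T) {P : Subgroup Ω} (hP : P ≤ T) :
    LiftAt F hP 1 :=
  ⟨one_mem _, (goodLift_subtype hTc.1 hP).congr fun _ => rfl⟩

theorem liftAt_mul [Fact p.Prime] [Finite S] (hS : IsPGroup p S) (hF : F.IsSaturated p)
    (hTc : F.StronglyClosed T) {P : Subgroup Ω} (hP : TCentric F T P) {a b : MulAut T}
    (ha : LiftAt F hP.1 a) (hb : LiftAt F hP.1 b) : LiftAt F hP.1 (a * b) := by
  have hR : ((autHom b).comp (Subgroup.inclusion hP.1)).range ≤ T := by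
    rintro _ ⟨x, rfl⟩
    exact SetLike.coe_mem _
  have h := liftAt_range hS hF hTc hP ha hb.2 rfl hR
  exact ⟨mul_mem ha.1 hb.1, GoodLift.comp hP hb.2 h.2 (fun x => ⟨x, rfl⟩) fun x => rfl⟩

/-- The automorphisms of `T` with a good lift on `P`. -/
def liftGroup [Fact p.Prime] [Finite S] (hS : IsPGroup p S) (hF : F.IsSaturated p)
    (hTc : F.StronglyClosed T) {P : Subgroup Ω} (hP : TCentric F T P) : Subgroup (MulAut T) :=
  { carrier := {a | LiftAt F hP.1 a}
    one_mem' := liftAt_one hTc hP.1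
    mul_mem' := liftAt_mul hS hF hTc hP
    inv_mem' := fun {a} ha => by
      haveI : Finite T := finite_of_le hTc.1
      haveI := finite_mulAut (S := S) hTc.1
      let K : Submonoid (MulAut T) :=
        { carrier := {a | LiftAt F hP.1 a}
          one_mem' := liftAt_one hTc hP.1
          mul_mem' := liftAt_mul hS hF hTc hP }
      obtain ⟨n, hn⟩ : a⁻¹ ∈ Submonoid.powers a :=
        mem_powers_iff_mem_zpowers.2 (inv_mem (Subgroup.mem_zpowers a))
      exact hn ▸ Submonoid.pow_mem K ha n }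

/-- One step up: modulo `Aut_S(T)` a good lift on a fully normalized `P` gives one on `N_T(P)`. -/
theorem exists_mul_liftAt_normalizer [Fact p.Prime] [Finite S] (hS : IsPGroup p S)
    (hF : F.IsSaturated p) (hTc : F.StronglyClosed T) {P : Subgroup Ω} (hP : TCentric F T P)
    (hPn : F.IsFullyNormalized P) {a : MulAut T} (ha : LiftAt F hP.1 a) :
    ∃ σ ∈ autInducedBy S T,
      LiftAt F (inf_le_left : normalizerIn T P ≤ T) (a * σ) := by
  classical
  have hTS := hTc.1
  haveI : Finite T := finite_of_le hTS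
  have hPT := hP.1
  have hPS := hPn.1
  haveI : Finite P := finite_of_le hPS
  haveI := finite_mulAut (S := S) hPS
  set N := normalizerIn T P with hNdef
  have hNT : N ≤ T := inf_le_left
  have hPN : P ≤ N := le_inf hPT Subgroup.le_normalizer
  have hPc := hP.centralizerIn_le hTS
  obtain ⟨haA, -, -, hψ'⟩ := ha
  set C := centralizerIn S T with hC
  obtain ⟨ψ, hψ, hψP, hψC⟩ := hψ'
  obtain ⟨b, hb, hag, hbC, hbC'⟩ := exists_lift_stable hS hF hTc haA
  have hW := cenSup_le (S := S) hTS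
  -- the map `θ` fixing `P`
  have hψW : ∀ y, ψ y ∈ cenSup S T := hom_sup_mem ψ
    (fun x => Subgroup.mem_sup_left (by rw [hψP]; exact SetLike.coe_mem _))
    (fun c => by
      rw [show ψ (Subgroup.inclusion le_sup_right c) =
        (c : Ω) * ((c : Ω)⁻¹ * ψ (Subgroup.inclusion le_sup_right c)) by group]
      exact mul_mem (Subgroup.mem_sup_right c.2) (Subgroup.mem_sup_left (hψC c)))
  obtain ⟨θ, hθ, hθx⟩ := exists_comp hψ (autGroup_hom_mem hW (inv_mem hb)) hψW
  have hθP : ∀ x : P, θ (Subgroup.inclusion le_sup_left x) = x := by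
    intro x
    rw [hθx, autHom_apply, show (⟨_, hψW (Subgroup.inclusion le_sup_left x)⟩ : cenSup S T) =
      b (Subgroup.inclusion le_sup_left (Subgroup.inclusion hPT x)) from
      Subtype.ext ((hψP x).trans (hag _).symm), MulAut.inv_apply_self]
    rfl
  -- the system of maps acting on `P` as `Aut_T(P)`
  set K := autInducedBy T P with hK
  have hKS : K ≤ autInducedBy S P := autInducedBy_mono hTS
  let TK : Subgroup Ω :=
    { carrier := {g | g ∈ S ∧ ∃ k ∈ K, ∀ x : P, (k x : Ω) = g * (x : Ω) * g⁻¹}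
      one_mem' := ⟨one_mem _, 1, one_mem _, fun x => by simp⟩
      mul_mem' := by
        rintro g h ⟨hg, k, hk, hkx⟩ ⟨hh, l, hl, hlx⟩
        refine ⟨mul_mem hg hh, k * l, mul_mem hk hl, fun x => ?_⟩
        rw [MulAut.mul_apply, hkx, hlx]
        group
      inv_mem' := by
        rintro g ⟨hg, k, hk, hkx⟩
        refine ⟨inv_mem hg, k⁻¹, inv_mem hk, fun x => ?_⟩
        have h := hkx (k⁻¹ x)
        rw [MulAut.apply_inv_self] at h
        rw [h]
        group }
  have hTKS : TK ≤ S := fun g hg => hg.1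
  let M := extSystem F P TK K hPS hTKS fun g hg => hg.2
  have hMs : M.IsSaturated p := by
    refine isSaturated_kNormalizer hS hF (isReceptive_of_isFullyNormalized hS hF hPn) ?_
      (fun g => Iff.rfl) M fun Q => rfl
    refine ⟨le_inf (inf_le_left.trans (autInducedBy_le_autGroup hPS)) inf_le_right,
      (isPGroup_autInducedBy hS).to_le inf_le_left, ?_⟩
    rw [show autInducedBy S P ⊓ K = K from inf_eq_right.2 hKS,
      show F.autGroup P ⊓ K = K from inf_eq_right.2 (hKS.trans (autInducedBy_le_autGroup hPS)),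
      Subgroup.relIndex_self]
    exact (Fact.out : p.Prime).not_dvd_one
  haveI : Finite TK := finite_of_le hTKS
  have hTKp : IsPGroup p TK := hS.to_le hTKS
  have hNTK : N ≤ TK := fun g hg => ⟨hTS hg.1, conjAut P g hg.2,
    mem_autInducedBy.2 ⟨g, hg.1, fun x => rfl⟩, fun x => rfl⟩
  have hTKN : ∀ g ∈ TK, g ∈ Subgroup.normalizer (P : Set Ω) := by
    rintro g ⟨-, k, -, hkx⟩
    exact mem_normalizer_of_aut hkx
  have hNc : M.StronglyClosed N := ⟨hNTK, fun R hR φ hφ x =>
    ⟨hTc.2 R (hR.trans hNT) φ hφ.1 x, hTKN _ (hφ.2.2.1 x)⟩⟩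
  have hPTK : P ≤ TK := hPN.trans hNTK
  have hCTK : C ≤ TK := fun c hc => ⟨hc.1, 1, one_mem _, fun x => by
    show (x : Ω) = c * x * c⁻¹
    rw [← hc.2 _ (hPT x.2), mul_inv_cancel_right]⟩
  have hPnM : M.IsNormal P := by
    refine ⟨hPTK, fun R φ hφ => ?_⟩
    obtain ⟨-, hRT, hφT, χ, hχ, hχR, k, hk, hχk⟩ := hφ
    refine ⟨χ, ⟨hχ, sup_le hRT hPTK, hom_sup_mem χ
      (fun x => by rw [hχR]; exact hφT x) (fun x => by rw [hχk]; exact hPTK (k x).2),
      χ.comp (Subgroup.inclusion (sup_le le_rfl le_sup_right)), restrict_mem hχ _,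
      fun x => rfl, k, hk, fun x => hχk x⟩, hχR, ?_⟩
    exact (map_subgroupOf_eq_iff le_sup_right (F.injective_of_mem hχ)).2 ⟨k, hχk⟩
  have hNn : M.IsNormal N := by
    refine Fusion87.isNormal_of_le_centric_radical hTKp hMs hNc fun R hRn hRc hRr => ?_
    have hPR : P ≤ R := Fusion87.le_centric_radical_of_isNormal hTKp hPnM hRc hRr
    have hRS : R ≤ S := hRn.1.trans hTKS
    haveI : Finite R := finite_of_le hRS
    haveI := finite_mulAut (S := S) hRS
    have hRN : R ≤ Subgroup.normalizer (N : Set Ω) :=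
      hRn.1.trans (Fusion87.stronglyClosed_le_normalizer' hNc)
    refine Fusion87.le_of_normalizerIn_le hTKp hRn.1 hNTK
      (Fusion87.stronglyClosed_le_normalizer' hNc) fun g hg hgN => ?_
    have hpres : ∀ (γ : MulAut R), γ ∈ M.autGroup R → ∀ x : R, (x : Ω) ∈ N → (γ x : Ω) ∈ N :=
      fun γ hγ x hx => stronglyClosed_map hNc (autGroup_hom_mem hRn.1 hγ) x hx
    let K' : Subgroup (M.autGroup R) :=
      { carrier := {γ | ∀ x : R, (x : Ω)⁻¹ * ((γ : MulAut R) x : Ω) ∈ N}
        one_mem' := fun x => by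
          show (x : Ω)⁻¹ * (x : Ω) ∈ N
          rw [inv_mul_cancel]; exact one_mem _
        mul_mem' := by
          intro u v hu hv x
          have e : (x : Ω)⁻¹ * (((u * v : M.autGroup R) : MulAut R) x : Ω) =
              ((x : Ω)⁻¹ * ((v : MulAut R) x : Ω)) *
                (((v : MulAut R) x : Ω)⁻¹ * ((u : MulAut R) ((v : MulAut R) x) : Ω)) := by
            rw [Subgroup.coe_mul, MulAut.mul_apply]; group
          rw [e]
          exact Subgroup.mul_mem _ (hv x) (hu _)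
        inv_mem' := by
          intro u hu x
          have h1 := Subgroup.inv_mem _ (hu ((u : MulAut R)⁻¹ x))
          rw [MulAut.apply_inv_self, mul_inv_rev, inv_inv] at h1
          exact h1 }
    haveI : K'.Normal := by
      refine ⟨fun u hu v x => ?_⟩
      set w := (v : MulAut R)⁻¹ x with hw
      have e : (x : Ω)⁻¹ * ((v : MulAut R) ((u : MulAut R) w) : Ω) =
          ((v : MulAut R) (w⁻¹ * (u : MulAut R) w) : Ω) := by
        rw [map_mul, map_inv, hw, MulAut.apply_inv_self]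
        rfl
      show (x : Ω)⁻¹ * ((v : MulAut R) ((u : MulAut R) w) : Ω) ∈ N
      rw [e]
      exact hpres _ v.2 _ (hu w)
    have hKp : IsPGroup p K' := by
      refine Fusion87.isPGroup_of_coprime_trivial fun u hu => ?_
      obtain ⟨⟨γ, hγM⟩, huK⟩ := u
      rw [← Subgroup.orderOf_coe, ← Subgroup.orderOf_coe] at hu
      change (orderOf γ).Coprime p at hu
      refine Subtype.ext (Subtype.ext (MulEquiv.ext fun x => ?_))
      obtain ⟨-, -, -, χ, hχ, hχR, k, hk, hχk⟩ := autGroup_hom_mem hRn.1 hγM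
      have hγk : ∀ z : P, γ (Subgroup.inclusion hPR z) = Subgroup.inclusion hPR (k z) := fun z =>
        Subtype.ext ((hχR _).symm.trans ((congrArg χ (Subtype.ext rfl)).trans (hχk z)))
      have hk1 : k = 1 := by
        obtain ⟨j, hj⟩ := (isPGroup_autInducedBy (hS.to_le hTS) : IsPGroup p K) ⟨k, hk⟩
        refine orderOf_eq_one_iff.1 (Nat.eq_one_of_dvd_coprimes (hu.pow_right j) ?_
          (orderOf_dvd_of_pow_eq_one (congrArg Subtype.val hj)))
        refine orderOf_dvd_of_pow_eq_one (MulEquiv.ext fun z => ?_)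
        have hpow : ∀ (n : ℕ), (γ ^ n) (Subgroup.inclusion hPR z) =
            Subgroup.inclusion hPR ((k ^ n) z) := by
          intro n
          induction n with
          | zero => rfl
          | succ n ih => rw [pow_succ', pow_succ', MulAut.mul_apply, MulAut.mul_apply, ih, hγk]
        have h := hpow (orderOf γ)
        rw [pow_orderOf_eq_one] at h
        exact (Subgroup.inclusion_injective hPR h).symm
      subst hk1
      have hfixP : ∀ z : P, γ (Subgroup.inclusion hPR z) = Subgroup.inclusion hPR z := hγk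
      have hpk : ∀ z : R, ∃ j, z ^ p ^ j = 1 := fun z => (hS.to_le hRS) z
      have hfixN : ∀ y : R, (y : Ω) ∈ N → γ y = y := by
        intro y hy
        refine Fusion87.fix_of_step (p := p) _ hu y ?_ (hpk _)
        have hz : ((y⁻¹ * γ y : R) : Ω) ∈ P := by
          refine hPc ⟨hNT (huK y), fun z hz => ?_⟩
          have hz' : (y : Ω) * z * (y : Ω)⁻¹ ∈ P :=
            (Subgroup.mem_normalizer_iff.1 hy.2 z).1 hz
          have h1 : γ (y * Subgroup.inclusion hPR ⟨z, hz⟩ * y⁻¹) =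
              Subgroup.inclusion hPR ⟨_, hz'⟩ := by
            rw [show y * Subgroup.inclusion hPR ⟨z, hz⟩ * y⁻¹ = Subgroup.inclusion hPR ⟨_, hz'⟩
              from Subtype.ext rfl]
            exact hfixP _
          rw [map_mul, map_mul, map_inv, hfixP] at h1
          have h2 : (γ y : Ω) * z * (γ y : Ω)⁻¹ = (y : Ω) * z * (y : Ω)⁻¹ :=
            congrArg Subtype.val h1
          show z * ((y : Ω)⁻¹ * (γ y : Ω)) = (y : Ω)⁻¹ * (γ y : Ω) * z
          calc z * ((y : Ω)⁻¹ * (γ y : Ω))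
              = (y : Ω)⁻¹ * ((y : Ω) * z * (y : Ω)⁻¹) * (γ y : Ω) := by group
            _ = (y : Ω)⁻¹ * ((γ y : Ω) * z * (γ y : Ω)⁻¹) * (γ y : Ω) := by rw [h2]
            _ = _ := by group
        exact hfixP ⟨_, hz⟩
      exact Fusion87.fix_of_step (p := p) _ hu x (hfixN _ (huK x)) (hpk _)
    refine Fusion87.mem_of_radical hRc hRr K' hKp (hNTK hg) hgN fun u hu => fun x => ?_
    rw [hu, conjAut_apply]
    have e : (x : Ω)⁻¹ * (g * (x : Ω) * g⁻¹) = ((x : Ω)⁻¹ * g * (x : Ω)) * g⁻¹ := by group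
    rw [e]
    refine Subgroup.mul_mem _ ?_ (Subgroup.inv_mem _ hg)
    have := (Subgroup.mem_normalizer_iff.1 (Subgroup.inv_mem _ (hRN x.2)) g).1 hg
    rwa [inv_inv] at this
  -- extending `θ` over `N`
  have hθC : ∀ c : C, θ (Subgroup.inclusion le_sup_right c) ∈ TK := by
    intro c
    refine ⟨val_mem hθ _, 1, one_mem _, fun x => ?_⟩
    have h : (Subgroup.inclusion le_sup_left x : (P ⊔ C : Subgroup Ω)) *
        Subgroup.inclusion le_sup_right c =
          Subgroup.inclusion le_sup_right c * Subgroup.inclusion le_sup_left x :=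
      Subtype.ext (c.2.2 _ (hPT x.2))
    have h2 := congrArg θ h
    rw [map_mul, map_mul, hθP] at h2
    show (x : Ω) = θ (Subgroup.inclusion le_sup_right c) * x *
      (θ (Subgroup.inclusion le_sup_right c))⁻¹
    rw [← h2, mul_inv_cancel_right]
  have hPC : (P ⊔ C) ⊔ P ≤ P ⊔ C := sup_le le_rfl le_sup_left
  have hθM : θ ∈ M.Hom (P ⊔ C) :=
    ⟨hθ, sup_le hPTK hCTK,
      hom_sup_mem θ (fun x => by rw [hθP]; exact hPTK x.2) hθC,
      θ.comp (Subgroup.inclusion hPC), restrict_mem hθ hPC, fun x => rfl, 1, one_mem _,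
      fun x => (congrArg θ (Subtype.ext rfl : Subgroup.inclusion hPC
        (Subgroup.inclusion le_sup_right x) = Subgroup.inclusion le_sup_left x)).trans (hθP x)⟩
  obtain ⟨χ, ⟨hχ, -⟩, hχθ, hχN⟩ := hNn.2 _ θ hθM
  have hχNm : ∀ n : N, χ (Subgroup.inclusion le_sup_right n) ∈ N :=
    fun n => hχN.le (apply_mem_imgSub χ _ n.2)
  haveI : Finite N := finite_of_le (hNT.trans hTS)
  obtain ⟨ε, hε, hεx⟩ := exists_aut_of_hom (restrict_mem hχ le_sup_right) hχNm
  have hεP : ∀ x : P, (ε (Subgroup.inclusion hPN x) : Ω) = x := by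
    intro x
    rw [hεx]
    show χ (Subgroup.inclusion le_sup_right (Subgroup.inclusion hPN x)) = x
    rw [show (Subgroup.inclusion le_sup_right (Subgroup.inclusion hPN x) :
        ((P ⊔ C) ⊔ N : Subgroup Ω)) =
          Subgroup.inclusion le_sup_left (Subgroup.inclusion le_sup_left x) from Subtype.ext rfl,
      hχθ, hθP]
  -- `ε` is induced by `S`
  obtain ⟨NF, hNF⟩ := exists_normalizerSystem F hPS
  have hNFs := isSaturated_normalizerSystem hS hF hPn hNF
  haveI := finite_normalizerIn (S := S) P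
  have hNS : N ≤ normalizerIn S P := le_inf (hNT.trans hTS) inf_le_right
  haveI := finite_mulAut (S := normalizerIn S P) hNS
  have hNfn : NF.IsFullyNormalized N := by
    refine ⟨hNS, fun R hR => ?_⟩
    obtain ⟨φ, hφ, rfl⟩ := hR
    have h : ∀ x, φ x ∈ N := fun x => by
      have hφ' := hφ
      rw [hNF] at hφ'
      exact ⟨hTc.2 N hNT φ hφ'.1 x, (hφ'.2.2.1 x).2⟩
    rw [range_eq_self hφ h]
  obtain ⟨-, hsyl⟩ := isFullyAutomized_iff.1
    (isFullyAutomized_of_isFullyNormalized (hS.to_le (normalizerIn_le P)) hNFs hNfn)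
  let Δ : Subgroup (MulAut N) :=
    { carrier := {γ | γ ∈ NF.autGroup N ∧ ∀ x : P, γ (Subgroup.inclusion hPN x) =
        Subgroup.inclusion hPN x}
      one_mem' := ⟨one_mem _, fun x => rfl⟩
      mul_mem' := by
        rintro u v ⟨hu, hux⟩ ⟨hv, hvx⟩
        exact ⟨mul_mem hu hv, fun x => by rw [MulAut.mul_apply, hvx, hux]⟩
      inv_mem' := by
        rintro u ⟨hu, hux⟩
        refine ⟨inv_mem hu, fun x => ?_⟩
        conv_lhs => rw [← hux x]
        exact MulAut.inv_apply_self _ u _ }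
  have hεΔ : ε ∈ Δ := by
    refine ⟨(mem_autGroup hNS).2 ?_, fun x => Subtype.ext (hεP x)⟩
    rw [hNF]
    refine ⟨autGroup_hom_mem (hNT.trans hTS) hε, hNS, fun x => hNS (ε x).2,
      (autHom ε).comp (Subgroup.inclusion (sup_le le_rfl hPN)),
      restrict_mem (autGroup_hom_mem (hNT.trans hTS) hε) _, fun x => rfl, ?_⟩
    exact (map_subgroupOf_eq_iff le_sup_right (F.injective_of_mem
      (restrict_mem (autGroup_hom_mem (hNT.trans hTS) hε) _))).2 ⟨1, fun x => hεP x⟩
  have hΔn : ∀ g ∈ NF.autGroup N, ∀ γ ∈ Δ, g * γ * g⁻¹ ∈ Δ := by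
    intro g hg γ hγ
    refine ⟨mul_mem (mul_mem hg hγ.1) (inv_mem hg), fun x => ?_⟩
    have hginv := autGroup_hom_mem hNS (inv_mem hg)
    rw [hNF] at hginv
    obtain ⟨-, -, -, χ', hχ', hχ'N, hχ'P⟩ := hginv
    have hz : (g⁻¹ (Subgroup.inclusion hPN x) : Ω) ∈ P := by
      rw [← autHom_apply, ← hχ'N]
      refine hχ'P.le ?_
      refine mem_imgSub.2 ⟨_, ?_, rfl⟩
      exact x.2
    rw [MulAut.mul_apply, MulAut.mul_apply,
      show g⁻¹ (Subgroup.inclusion hPN x) = Subgroup.inclusion hPN ⟨_, hz⟩ from Subtype.ext rfl,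
      hγ.2, show Subgroup.inclusion hPN ⟨_, hz⟩ = g⁻¹ (Subgroup.inclusion hPN x) from
        Subtype.ext rfl, MulAut.apply_inv_self]
  haveI : Finite Δ := inferInstance
  have hNp : IsPGroup p N := hS.to_le (hNT.trans hTS)
  have hΔp : IsPGroup p Δ := by
    refine Fusion87.isPGroup_of_coprime_trivial fun u hu => ?_
    rw [← Subgroup.orderOf_coe] at hu
    refine Subtype.ext (MulEquiv.ext fun y => ?_)
    have hfix : ∀ x : P, (u : MulAut N) (Subgroup.inclusion hPN x) = Subgroup.inclusion hPN x :=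
      u.2.2
    refine Fusion87.fix_of_step (p := p) _ hu y ?_ (hNp _)
    have hz : ((y⁻¹ * (u : MulAut N) y : N) : Ω) ∈ P := by
      refine hPc ⟨hNT (SetLike.coe_mem _), fun z hz => ?_⟩
      have hz' : (y : Ω) * z * (y : Ω)⁻¹ ∈ P :=
        (Subgroup.mem_normalizer_iff.1 y.2.2 z).1 hz
      have h1 : (u : MulAut N) (y * Subgroup.inclusion hPN ⟨z, hz⟩ * y⁻¹) =
          Subgroup.inclusion hPN ⟨_, hz'⟩ := by
        rw [show y * Subgroup.inclusion hPN ⟨z, hz⟩ * y⁻¹ = Subgroup.inclusion hPN ⟨_, hz'⟩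
          from Subtype.ext rfl]
        exact hfix _
      rw [map_mul, map_mul, map_inv, hfix] at h1
      have h2 : ((u : MulAut N) y : Ω) * z * ((u : MulAut N) y : Ω)⁻¹ =
          (y : Ω) * z * (y : Ω)⁻¹ := congrArg Subtype.val h1
      show z * ((y : Ω)⁻¹ * ((u : MulAut N) y : Ω)) = (y : Ω)⁻¹ * ((u : MulAut N) y : Ω) * z
      calc z * ((y : Ω)⁻¹ * ((u : MulAut N) y : Ω))
          = (y : Ω)⁻¹ * ((y : Ω) * z * (y : Ω)⁻¹) * ((u : MulAut N) y : Ω) := by group
        _ = (y : Ω)⁻¹ * (((u : MulAut N) y : Ω) * z * ((u : MulAut N) y : Ω)⁻¹) *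
            ((u : MulAut N) y : Ω) := by rw [h2]
        _ = _ := by group
    exact hfix ⟨_, hz⟩
  obtain ⟨δ, hδ, hle⟩ := hsyl.exists_conj_le hΔp fun γ h => h.1
  have hεS : ε ∈ autInducedBy (normalizerIn S P) N := by
    refine hle ⟨δ⁻¹ * ε * δ, ?_, ?_⟩
    · have := hΔn δ⁻¹ (inv_mem hδ) ε hεΔ
      rwa [inv_inv] at this
    · show δ * (δ⁻¹ * ε * δ) * δ⁻¹ = ε
      group
  obtain ⟨s, hs, hsx⟩ := mem_autInducedBy.1 hεS
  have hsT := stronglyClosed_le_normalizer hTc hs.1
  set σ := conjAut T s hsT with hσ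
  have hσS : σ ∈ autInducedBy S T := mem_autInducedBy.2 ⟨s, hs.1, fun x => rfl⟩
  refine ⟨σ, hσS, mul_mem haA (autInducedBy_le_autGroup hTS hσS), hNT, fun x => SetLike.coe_mem _, ?_⟩
  have hNC : N ⊔ C ≤ (P ⊔ C) ⊔ N := sup_le le_sup_right (le_sup_right.trans le_sup_left)
  have hχW : ∀ y, χ y ∈ cenSup S T := hom_sup_mem χ
    (fun y => by rw [hχθ, hθx]; exact SetLike.coe_mem _)
    (fun n => Subgroup.mem_sup_left (hNT (hχNm n)))
  obtain ⟨Φ, hΦ, hΦx⟩ := exists_comp (restrict_mem hχ hNC) (autGroup_hom_mem hW hb)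
    fun y => hχW _
  refine ⟨Φ, hΦ, (?_ : ∀ n : N, Φ (Subgroup.inclusion le_sup_left n) =
      ((a * σ) (Subgroup.inclusion hNT n) : Ω)), (?_ : ∀ c : C,
      (c : Ω)⁻¹ * Φ (Subgroup.inclusion le_sup_right c) ∈ T)⟩
  · intro n
    have h1 : χ (Subgroup.inclusion hNC (Subgroup.inclusion le_sup_left n)) =
        (σ (Subgroup.inclusion hNT n) : Ω) := by
      refine ((congrArg χ (Subtype.ext rfl : Subgroup.inclusion hNC
        (Subgroup.inclusion le_sup_left n) = Subgroup.inclusion le_sup_right n)).trans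
          (hεx n).symm).trans ?_
      exact hsx n
    rw [hΦx]
    show (b _ : Ω) = (a (σ (Subgroup.inclusion hNT n)) : Ω)
    rw [← hag]
    exact congrArg (fun z => (b z : Ω)) (Subtype.ext h1)
  · intro c
    rw [hΦx, autHom_apply]
    simp only [MonoidHom.comp_apply]
    have h1 : χ (Subgroup.inclusion hNC (Subgroup.inclusion le_sup_right c)) =
        (b⁻¹ ⟨_, hψW (Subgroup.inclusion le_sup_right c)⟩ : Ω) :=
      ((congrArg χ (Subtype.ext rfl : Subgroup.inclusion hNC (Subgroup.inclusion le_sup_right c) =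
        Subgroup.inclusion le_sup_left (Subgroup.inclusion le_sup_right c))).trans (hχθ _)).trans
          (hθx _)
    rw [show (⟨_, hχW (Subgroup.inclusion hNC (Subgroup.inclusion le_sup_right c))⟩ :
        cenSup S T) = b⁻¹ ⟨_, hψW (Subgroup.inclusion le_sup_right c)⟩ from Subtype.ext h1,
      MulAut.apply_inv_self]
    exact hψC c

theorem map_conj_eq_self {G : Type*} [Group G] {X : Subgroup G} {b : G}
    (h : ∀ x ∈ X, b * x * b⁻¹ ∈ X) (h' : ∀ x ∈ X, b⁻¹ * x * b ∈ X) :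
    X.map (MulAut.conj b).toMonoidHom = X := by
  refine le_antisymm (by rintro _ ⟨x, hx, rfl⟩; exact h x hx) fun x hx => ⟨_, h' x hx, ?_⟩
  show b * (b⁻¹ * x * b) * b⁻¹ = x
  group

/-- The automorphisms with a good lift on a `T`-centric subgroup, modulo those with a good lift
on `T`, form a `p`-group. -/
theorem exists_relIndex_liftGroup [Fact p.Prime] [Finite S] (hS : IsPGroup p S)
    (hF : F.IsSaturated p) (hTc : F.StronglyClosed T) (hTt : TCentric F T T)
    (hfr : ∀ (P : Subgroup Ω) (φ : P →* Ω), TCentric F T P → φ ∈ F.Hom P →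
      ∃ b ∈ F.autGroup T, ∃ η : P →* Ω, GoodLift F T η ∧
        ∀ x, ∃ h : η x ∈ T, φ x = (b ⟨η x, h⟩ : Ω))
    {P : Subgroup Ω} (hP : TCentric F T P) :
    ∃ k, (liftGroup hS hF hTc hTt).relIndex (liftGroup hS hF hTc hP) = p ^ k := by
  classical
  have hTS := hTc.1
  haveI : Finite T := finite_of_le hTS
  haveI := finite_mulAut (S := S) hTS
  have hTp : IsPGroup p T := hS.to_le hTS
  set X := liftGroup hS hF hTc hTt with hX
  have hXn : ∀ b ∈ F.autGroup T, ∀ x ∈ X, b * x * b⁻¹ ∈ X := fun b hb x hx =>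
    liftAt_conj hS hF hTc hx hb le_rfl fun y hy =>
      ⟨_, SetLike.coe_mem (b.symm ⟨y, hy⟩),
        (congrArg Subtype.val (b.apply_symm_apply ⟨y, hy⟩)).symm⟩
  suffices key : ∀ (n : ℕ) (P : Subgroup Ω) (hP : TCentric F T P),
      Nat.card T - Nat.card P ≤ n → ∃ k, X.relIndex (liftGroup hS hF hTc hP) = p ^ k from
    key _ P hP le_rfl
  intro n
  induction n using Nat.strong_induction_on with
  | _ n ih =>
  intro P hP hn
  obtain ⟨Q, ⟨φ, hφ, hr⟩, hQ⟩ := exists_isFullyNormalized_conj F (hP.1.trans hTS)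
  obtain ⟨b, hb, η, hη, hφb⟩ := hfr P φ hP hφ
  set R := η.range with hR
  have hRT : R ≤ T := by rintro _ ⟨x, rfl⟩; exact hη.2.1 x
  have hRc : TCentric F T R := hP.range hη.mem_hom hη.2.1
  have hQT : Q ≤ T := by
    rw [← hr]
    rintro _ ⟨x, rfl⟩
    exact hTc.2 P hP.1 φ hφ x
  have hQc : TCentric F T Q := by
    have := hP.range hφ fun x => hQT (hr.le ⟨x, rfl⟩)
    rwa [hr] at this
  have hPR : liftGroup hS hF hTc hP = liftGroup hS hF hTc hRc := by
    ext a
    refine ⟨fun h => liftAt_range hS hF hTc hP h hη rfl hRT, fun h => ?_⟩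
    obtain ⟨τ, hτ, hτr, hτx, -⟩ := exists_inverse hη.mem_hom rfl
    exact liftAt_range hS hF hTc hRc h (hη.inverse hP hτx) hτr hP.1
  have hRQ : (liftGroup hS hF hTc hRc).map (MulAut.conj b).toMonoidHom =
      liftGroup hS hF hTc hQc := by
    refine le_antisymm ?_ fun a ha => ⟨b⁻¹ * a * b, ?_, ?_⟩
    · rintro _ ⟨a, ha, rfl⟩
      refine liftAt_conj hS hF hTc ha hb hQT fun y hy => ?_
      obtain ⟨x, hx⟩ := hr.ge hy
      obtain ⟨h, hxb⟩ := hφb x
      exact ⟨η x, ⟨x, rfl⟩, hx.symm.trans hxb⟩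
    · have h1 := liftAt_conj hS hF hTc ha (inv_mem hb) hRT (by
        rintro _ ⟨x, rfl⟩
        obtain ⟨h, hxb⟩ := hφb x
        refine ⟨φ x, hr.le ⟨x, rfl⟩, ?_⟩
        rw [show (⟨φ x, hQT (hr.le ⟨x, rfl⟩)⟩ : T) = b ⟨η x, h⟩ from Subtype.ext hxb,
          MulAut.inv_apply_self])
      rw [inv_inv] at h1
      exact h1
    · show b * (b⁻¹ * a * b) * b⁻¹ = a
      group
  have hXb : X.map (MulAut.conj b).toMonoidHom = X :=
    map_conj_eq_self (hXn b hb) fun x hx => by
      have := hXn b⁻¹ (inv_mem hb) x hx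
      rwa [inv_inv] at this
  have hrel : X.relIndex (liftGroup hS hF hTc hP) = X.relIndex (liftGroup hS hF hTc hQc) := by
    rw [hPR, ← hRQ]
    conv_rhs => rw [← hXb]
    exact (Subgroup.relIndex_map_map_of_injective (f := (MulAut.conj b).toMonoidHom) _ _
      (MulAut.conj b).injective).symm
  rw [hrel]
  have hcard : Nat.card Q = Nat.card P := isConj_card ⟨φ, hφ, hr⟩
  by_cases hQe : Q = T
  · subst hQe
    exact ⟨0, by rw [show X = liftGroup hS hF hTc hQc from rfl, Subgroup.relIndex_self, pow_zero]⟩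
  set N := normalizerIn T Q with hN
  have hQN : Q ≤ N := le_inf hQT Subgroup.le_normalizer
  have hNT : N ≤ T := inf_le_left
  have hNc : TCentric F T N := hQc.mono hQN hNT
  haveI : Finite N := finite_of_le (hNT.trans hTS)
  have hlt := Fusion87.card_lt_normalizerIn hTp hQT hQe
  have hNle : Nat.card N ≤ Nat.card T := Subgroup.card_le_of_le hNT
  obtain ⟨k, hk⟩ := ih (Nat.card T - Nat.card N) (by
    have : Nat.card Q < Nat.card N := hlt
    omega) N hNc le_rfl
  set L := liftGroup hS hF hTc hQc with hL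
  set M := liftGroup hS hF hTc hNc with hM
  have hML : M ≤ L := fun a ha => ⟨ha.1, (ha.2.restrict hQN).congr fun x => rfl⟩
  have hXM : X ≤ M := fun a ha => ⟨ha.1, (ha.2.restrict hNT).congr fun x => rfl⟩
  rw [← Subgroup.relIndex_mul_relIndex X M L hXM hML, hk]
  set W := autInducedBy S T ⊓ L with hW
  have hWL : W ≤ L := inf_le_right
  have hsurj : Function.Surjective (Subgroup.quotientSubgroupOfEmbeddingOfLE M hWL) := by
    intro q
    obtain ⟨⟨a, ha⟩, rfl⟩ := QuotientGroup.mk_surjective q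
    obtain ⟨σ, hσ, hσM⟩ :=
      exists_mul_liftAt_normalizer hS hF hTc hQc hQ (inv_mem ha : a⁻¹ ∈ L)
    have hσM' : a⁻¹ * σ ∈ M := hσM
    have hσL : σ ∈ L := by
      have := mul_mem ha (hML hσM')
      rwa [mul_inv_cancel_left] at this
    refine ⟨(⟨σ, hσ, hσL⟩ : W), ?_⟩
    rw [Subgroup.quotientSubgroupOfEmbeddingOfLE_apply_mk, QuotientGroup.eq,
      Subgroup.mem_subgroupOf]
    show σ⁻¹ * a ∈ M
    have := inv_mem hσM'
    rwa [mul_inv_rev, inv_inv] at this
  have hcards : M.relIndex L = M.relIndex W :=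
    (Nat.card_congr (Equiv.ofBijective _
      ⟨(Subgroup.quotientSubgroupOfEmbeddingOfLE M hWL).injective, hsurj⟩)).symm
  have hWp : IsPGroup p W := (isPGroup_autInducedBy hS).to_le inf_le_left
  obtain ⟨j, hj⟩ := hWp.index (M.subgroupOf W)
  refine ⟨k + j, ?_⟩
  rw [hcards, show M.relIndex W = (M.subgroupOf W).index from rfl, hj, pow_add]

/-- An automorphism of order prime to `p` with a good lift on a `T`-centric subgroup has a good
lift on `T`. -/
theorem liftAt_top_of_coprime [Fact p.Prime] [Finite S] (hS : IsPGroup p S)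
    (hF : F.IsSaturated p) (hTc : F.StronglyClosed T) (hTt : TCentric F T T)
    (hfr : ∀ (P : Subgroup Ω) (φ : P →* Ω), TCentric F T P → φ ∈ F.Hom P →
      ∃ b ∈ F.autGroup T, ∃ η : P →* Ω, GoodLift F T η ∧
        ∀ x, ∃ h : η x ∈ T, φ x = (b ⟨η x, h⟩ : Ω))
    {P : Subgroup Ω} (hP : TCentric F T P) {a : MulAut T} (ha : LiftAt F hP.1 a) :
    ∃ k, a ^ p ^ k ∈ liftGroup hS hF hTc hTt := by
  set X := liftGroup hS hF hTc hTt
  set L := liftGroup hS hF hTc hP
  obtain ⟨k, hk⟩ := exists_relIndex_liftGroup hS hF hTc hTt hfr hP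
  haveI : (X.subgroupOf L).Normal := by
    refine ⟨fun x hx g => ?_⟩
    rw [Subgroup.mem_subgroupOf] at hx ⊢
    exact liftAt_conj hS hF hTc hx g.2.1 le_rfl fun y hy =>
      ⟨_, SetLike.coe_mem ((g : MulAut T).symm ⟨y, hy⟩),
        (congrArg Subtype.val ((g : MulAut T).apply_symm_apply ⟨y, hy⟩)).symm⟩
  refine ⟨k, ?_⟩
  have h := Subgroup.pow_index_mem (X.subgroupOf L) ⟨a, ha⟩
  rw [show (X.subgroupOf L).index = p ^ k from hk, Subgroup.mem_subgroupOf] at h
  exact h

end Cfsg.Agent.Lib.Fusion
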