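/-
The residual subsystem of index prime to `p` of a weakly normal subsystem is normal.
-/
import Cfsg.Agent.Lib.Fusion.LiftGroup
import Cfsg.Agent.Lib.Fusion.GroupFusion
import Cfsg.Agent.Lib.Fusion.Simple

set_option autoImplicit false

namespace Cfsg.Agent.Lib.Fusion

open Cfsg Cfsg.FusionSystem

universe u

variable {Ω : Type u} [Group Ω] {S T : Subgroup Ω} {F : FusionSystem S} {E : FusionSystem T}
  {p : ℕ}

/-- The maps of `E` that are good on `T`-centric sources. -/
def goodSystem (E : FusionSystem T) (F : FusionSystem S) (hTS : T ≤ S)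
    (hEF : E.IsSubsystemOf F) : FusionSystem T where
  Hom P := {φ | φ ∈ E.Hom P ∧ (TCentric F T P → GoodLift F T φ)}
  le_of_mem h := E.le_of_mem h.1
  injective_of_mem h := E.injective_of_mem h.1
  conj_mem hP hg := ⟨E.conj_mem hP hg, fun _ => goodLift_conj hTS hP hg⟩
  comp_mem := by
    rintro P Q φ ψ ⟨hφ, hφg⟩ ⟨hψ, hψg⟩ h
    refine ⟨E.comp_mem hφ hψ h, fun hP => GoodLift.comp hP (hφg hP) (hψg ?_) h fun x => rfl⟩
    exact (hP.range (hEF P hφ) (val_mem hφ)).mono (by rintro _ ⟨x, rfl⟩; exact h x) (src_le hψ)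
  inv_mem := by
    rintro P φ ⟨hφ, hφg⟩
    refine ⟨_, ⟨rangeInv_mem hφ, fun hR => ?_⟩, fun x => rangeInv_apply _ _ x _⟩
    have hP : TCentric F T P := by
      have h := hR.range (hEF _ (rangeInv_mem hφ)) (val_mem (rangeInv_mem hφ))
      rwa [range_rangeInv] at h
    exact (hφg hP).inverse hP fun x h => rangeInv_apply _ _ x h

/-- A subgroup fully normalized in `F` is fully normalized in a subsystem over a strongly closed
subgroup. -/
theorem isFullyNormalized_of_le [Fact p.Prime] [Finite S] (hS : IsPGroup p S) (hF : F.IsSaturated p)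
    (hTc : F.StronglyClosed T) (hEF : E.IsSubsystemOf F) {Q : Subgroup Ω} (hQT : Q ≤ T)
    (hQ : F.IsFullyNormalized Q) : E.IsFullyNormalized Q := by
  refine ⟨hQT, fun R hR => ?_⟩
  obtain ⟨φ, hφ, rfl⟩ := hR
  obtain ⟨ψ, hψ, hψN, hψR⟩ := exists_map_to_fullyNormalized hS hF hQ
    (isConj_symm (isConj_range (hEF Q hφ)))
  have hle : normalizerIn T φ.range ≤ normalizerIn S φ.range := inf_le_inf_right _ hTc.1
  haveI : Finite T := finite_of_le hTc.1
  haveI := finite_normalizerIn (S := T) Q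
  exact Nat.card_le_card_of_injective
    (fun x => (⟨ψ (Subgroup.inclusion hle x),
      stronglyClosed_map hTc hψ _ x.2.1, (hψN _).2⟩ : normalizerIn T Q))
    fun u v huv => Subgroup.inclusion_injective hle
      (F.injective_of_mem hψ (congrArg Subtype.val huv))

/-- The residual subsystem of index prime to `p` of a weakly normal subsystem is normal. -/
theorem isNormalIn_pPrimeResidualSystem [Fact p.Prime] [Finite S] (hS : IsPGroup p S)
    (hE : E.IsWeaklyNormalIn F p) : (pPrimeResidualSystem E p).IsNormalIn F p := by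
  classical
  obtain ⟨hEs, hF, hinv⟩ := id hE
  have hEF := hinv.1
  have hTc := hinv.2.1
  have hTS := hTc.1
  haveI : Finite T := finite_of_le hTS
  haveI := finite_mulAut (S := S) hTS
  have hTp : IsPGroup p T := hS.to_le hTS
  have hstr := stronglyInvariant_of_isWeaklyNormalIn hS hE
  have hact := actInvariant_of_stronglyInvariant hTS hstr
  have hres := isPPrimeResidual_pPrimeResidualSystem hTp hEs
  set D := pPrimeResidualSystem E p with hD
  have hconjA : ∀ a ∈ F.autGroup T, ∀ h ∈ centricAutS E p, a * h * a⁻¹ ∈ centricAutS E p := by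
    intro a ha h hh
    refine Subgroup.closure_induction (p := fun x _ => a * x * a⁻¹ ∈ centricAutS E p)
      ?_ ?_ ?_ ?_ hh
    · rintro x ⟨hx, P, ψ, hP, hψ, hψx⟩
      obtain ⟨ψ', hψ', hψ'x⟩ := actInvariant_pAutSystem hTS hinv hact a ha P ψ hψ
      refine Subgroup.subset_closure ⟨conj_mem_autGroup_of_invariant hinv le_rfl ha hx, _, ψ',
        ((tCentric_of_isCentric hinv hP).act hTS ha).isCentric hEF, hψ', ?_⟩
      rintro ⟨y, hy⟩ hyT
      obtain ⟨z, hzT, rfl⟩ := exists_of_mem_imgSub_act hy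
      refine (hψ'x z).trans ?_
      rw [MulAut.mul_apply, MulAut.mul_apply]
      refine congrArg (fun w : T => (a w : Ω)) (Subtype.ext ?_)
      refine (hψx z (hP.1 z.2)).trans ?_
      refine congrArg (fun w : T => (x w : Ω)) ?_
      exact (MulAut.inv_apply_self _ a _).symm
    · rw [mul_one, mul_inv_cancel]
      exact one_mem _
    · intro x y _ _ hx hy
      have e : a * (x * y) * a⁻¹ = (a * x * a⁻¹) * (a * y * a⁻¹) := by group
      rw [e]
      exact mul_mem hx hy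
    · intro x _ hx
      have e : a * x⁻¹ * a⁻¹ = (a * x * a⁻¹)⁻¹ := by group
      rw [e]
      exact inv_mem hx
  have hGood : HasPAut (goodSystem E F hTS hEF) E p := fun P hP α hα ⟨k, hk⟩ =>
    ⟨autGroup_hom_mem hP.1 hα, fun hPc => goodLift_of_pow_eq_one hS hF hTc hEs hEF hstr
      (fun Q hQT hQ => isFullyNormalized_of_le hS hF hTc hEF hQT hQ) hPc hα hk⟩
  have hTt : TCentric F T T := ⟨le_rfl, fun φ hφ hr => by
    rw [range_eq_self hφ fun x => hr ⟨x, rfl⟩]
    exact inf_le_left⟩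
  have hfr : ∀ (P : Subgroup Ω) (φ : P →* Ω), TCentric F T P → φ ∈ F.Hom P →
      ∃ b ∈ F.autGroup T, ∃ η : P →* Ω, GoodLift F T η ∧
        ∀ x, ∃ h : η x ∈ T, φ x = (b ⟨η x, h⟩ : Ω) := by
    intro P φ hP hφ
    obtain ⟨a, ha, φ₀, hφ₀, hx⟩ := hinv.2.2.2 P hP.1 φ hφ
    obtain ⟨a', ha', φ₁, hφ₁, hx'⟩ := exists_decomp hTp hEs hGood hφ₀
    refine ⟨a * a', mul_mem ha (autGroup_mono hEF T ha'), φ₁, hφ₁.2 hP,
      fun x => ⟨val_mem hφ₁ x, ?_⟩⟩
    rw [MulAut.mul_apply, hx x (val_mem hφ₀ x)]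
    exact congrArg (fun w : T => (a w : Ω)) (Subtype.ext (hx' x _))
  set X := liftGroup hS hF hTc hTt with hX
  have hInn : autInducedBy T T ≤ X := by
    intro a ha
    obtain ⟨t, ht, hta⟩ := mem_autInducedBy.1 ha
    exact ⟨autInducedBy_le_autGroup hTS (autInducedBy_mono hTS ha),
      (goodLift_conj hTS le_rfl ht).congr fun x => hta x⟩
  obtain ⟨-, hsyl⟩ := isFullyAutomized_iff.1
    (isFullyAutomized_of_isFullyNormalized hTp hEs (isFullyNormalized_top E))
  have hInnn : ((autInducedBy T T).subgroupOf (E.autGroup T)).Normal := by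
    refine ⟨fun x hx g => ?_⟩
    rw [Subgroup.mem_subgroupOf] at hx ⊢
    obtain ⟨t, ht, hta⟩ := mem_autInducedBy.1 hx
    refine mem_autInducedBy.2 ⟨((g : MulAut T) ⟨t, ht⟩ : Ω), SetLike.coe_mem _, fun y => ?_⟩
    show ((g : MulAut T) ((x : MulAut T) ((g : MulAut T)⁻¹ y)) : Ω) = _
    rw [show (x : MulAut T) ((g : MulAut T)⁻¹ y) = ⟨t, ht⟩ * (g : MulAut T)⁻¹ y * ⟨t, ht⟩⁻¹ from
      Subtype.ext (hta _), map_mul, map_mul, map_inv, MulAut.apply_inv_self]
    rfl
  have hAX : centricAutS E p ≤ X := by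
    refine (Subgroup.closure_le _).2 ?_
    rintro a ⟨ha, P, ψ, hP, hψ, hψx⟩
    have hPc := tCentric_of_isCentric hinv hP
    have haL : LiftAt F hPc.1 a := ⟨autGroup_mono hEF T ha,
      ((hψ.2 _ hGood).2 hPc).congr fun x => (hψx x (hPc.1 x.2)).symm⟩
    obtain ⟨k, hk⟩ := liftAt_top_of_coprime hS hF hTc hTt hfr hPc haL
    haveI := hInnn
    set m := ((autInducedBy T T).subgroupOf (E.autGroup T)).index with hm
    have hm1 : a ^ m ∈ X := by
      refine hInn ?_
      have h := Subgroup.pow_index_mem ((autInducedBy T T).subgroupOf (E.autGroup T)) ⟨a, ha⟩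
      exact Subgroup.mem_subgroupOf.1 h
    have hco : Nat.Coprime m (p ^ k) :=
      Nat.Coprime.pow_right k ((Nat.Prime.coprime_iff_not_dvd Fact.out).2 hsyl.2.2).symm
    have h1 := Nat.gcd_eq_gcd_ab m (p ^ k)
    rw [hco.gcd_eq_one] at h1
    have h2 : a = (a ^ m) ^ m.gcdA (p ^ k) * (a ^ p ^ k) ^ m.gcdB (p ^ k) := by
      rw [← zpow_natCast, ← zpow_natCast, ← zpow_mul, ← zpow_mul, ← zpow_add, ← h1, Nat.cast_one,
        zpow_one]
    rw [SetLike.mem_coe, h2]
    exact mul_mem (Subgroup.zpow_mem _ hm1 _) (Subgroup.zpow_mem _ hk _)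
  refine ⟨⟨hres.1, hF, fun P φ hφ => hEF P hφ.1, hTc, fun P hP φ hφ a ha => ?_,
    fun P hP φ hφ => ?_⟩, fun α hα => ?_⟩
  · -- invariance
    obtain ⟨hφE, b, hb, φ₀, hφ₀, hx⟩ := hφ
    obtain ⟨χ, hχ, hχx⟩ := hact a ha P φ hφE
    obtain ⟨χ₀, hχ₀, hχ₀x⟩ := actInvariant_pAutSystem hTS hinv hact a ha P φ₀ hφ₀
    refine ⟨χ, ⟨hχ, a * b * a⁻¹, hconjA a ha b hb, χ₀, hχ₀, ?_⟩, fun x hφx hαx => hχx x⟩
    rintro ⟨y, hy⟩ hyT
    obtain ⟨z, hzT, rfl⟩ := exists_of_mem_imgSub_act hy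
    refine (hχx z).trans ?_
    rw [MulAut.mul_apply, MulAut.mul_apply]
    refine congrArg (fun w : T => (a w : Ω)) (Subtype.ext ?_)
    refine (hx z (val_mem hφ₀ z)).trans ?_
    refine congrArg (fun w : T => (b w : Ω)) ?_
    exact ((congrArg (fun w : T => a⁻¹ w) (Subtype.ext (hχ₀x z))).trans
      (MulAut.inv_apply_self _ a _)).symm
  · -- Frattini
    obtain ⟨a, ha, φ₀, hφ₀, hx⟩ := hinv.2.2.2 P hP φ hφ
    obtain ⟨a', ha', φ₁, hφ₁, hx'⟩ := exists_decomp hTp hEs (hasPAut_pAutSystem E p) hφ₀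
    refine ⟨a * a', mul_mem ha (autGroup_mono hEF T ha'), φ₁,
      pAutSystem_le_pPrimeResidualSystem E p P hφ₁, fun x hxT => ?_⟩
    rw [MulAut.mul_apply, hx x (val_mem hφ₀ x)]
    exact congrArg (fun w : T => (a w : Ω)) (Subtype.ext (hx' x hxT))
  · -- extension
    have hαC : α ∈ centricAutS E p := by
      obtain ⟨hαE, b, hb, φ₀, hφ₀, hx⟩ := autGroup_hom_mem le_rfl hα
      have h : b⁻¹ * α ∈ centricAutS E p := by
        refine Subgroup.subset_closure ⟨mul_mem (inv_mem (centricAutS_le E p hb))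
          ((mem_autGroup le_rfl).2 hαE), T, φ₀, isCentric_top, hφ₀, fun x h => ?_⟩
        rw [MulAut.mul_apply, show α ⟨x, h⟩ = b ⟨φ₀ x, val_mem hφ₀ x⟩ from Subtype.ext (hx x _),
          MulAut.inv_apply_self]
      have := mul_mem hb h
      rwa [mul_inv_cancel_left] at this
    obtain ⟨-, -, -, ψ, hψ, hψT, hψC⟩ := hAX hαC
    haveI : Finite (T ⊔ centralizerIn S T : Subgroup Ω) :=
      finite_of_le (sup_le hTS (centralizerIn_le T))
    have hm : ∀ y, ψ y ∈ T ⊔ centralizerIn S T := hom_sup_mem ψ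
      (fun x => Subgroup.mem_sup_left (by rw [hψT]; exact SetLike.coe_mem _))
      (fun c => by
        rw [show ψ (Subgroup.inclusion le_sup_right c) =
          (c : Ω) * ((c : Ω)⁻¹ * ψ (Subgroup.inclusion le_sup_right c)) by group]
        exact mul_mem (Subgroup.mem_sup_right c.2) (Subgroup.mem_sup_left (hψC c)))
    obtain ⟨β, hβ, hβx⟩ := exists_aut_of_hom hψ hm
    refine ⟨β, hβ, fun x => (hβx _).trans (hψT x), fun c hc => ?_⟩
    rw [hβx]
    have hc' := hψC ⟨c, hc⟩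
    refine ⟨hc', ?_⟩
    intro t ht
    obtain ⟨t', ht'⟩ := α.surjective ⟨t, ht⟩
    have ht'' : ψ (Subgroup.inclusion le_sup_left t') = t :=
      (hψT t').trans (congrArg Subtype.val ht')
    have h : (Subgroup.inclusion le_sup_left t' : (T ⊔ centralizerIn S T : Subgroup Ω)) * c =
        c * Subgroup.inclusion le_sup_left t' := Subtype.ext (hc.2 _ t'.2)
    have h2 := congrArg ψ h
    rw [map_mul, map_mul, ht''] at h2
    refine Commute.eq (Commute.mul_right (Commute.inv_right (hc.2 t ht)) ?_)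
    exact h2

end Cfsg.Agent.Lib.Fusion
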