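/-
Lifting a normal subsystem through the quotient by a central subgroup: the full preimage system and
what is inherited by it from the subsystem of the quotient.
-/
import Cfsg.Agent.Lib.Fusion.WeaklyNormalResidual
import Cfsg.Agent.Lib.Fusion.Quotient
import Cfsg.Agent.Lib.Fusion.Solvable
import Cfsg.Agent.Lib.Fusion87.Centric

set_option autoImplicit false

namespace Cfsg.Agent.Lib.Fusion.CentralLift

open Cfsg Cfsg.FusionSystem
open Cfsg.Agent.Lib.FusionFactor (mem_preimageAlong mem_imageAlong preimageAlong_le exists_preimage)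

variable {Ω : Type*} [Group Ω] {S Z : Subgroup Ω} {F : FusionSystem S} {p : ℕ}
  {Ω' : Type*} [Group Ω'] {S' T' : Subgroup Ω'} {θ : S →* Ω'} {Fb : FusionSystem S'}
  {E : FusionSystem T'}

/-- A central subgroup, the factor system and a normal subsystem of that. -/
structure Data (p : ℕ) (F : FusionSystem S) (Z : Subgroup Ω) (θ : S →* Ω')
    (Fb : FusionSystem S') (E : FusionSystem T') : Prop where
  isPGroup : IsPGroup p S
  saturated : F.IsSaturated p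
  central : F.IsCentral Z
  factor : F.IsFactorSystem Z θ Fb
  normal : E.IsNormalIn Fb p

/-- The preimage of `T'`. -/
abbrev top (θ : S →* Ω') (T' : Subgroup Ω') : Subgroup Ω := preimageAlong θ T'

/-- Agreement modulo `Z`. -/
def ModZ (Z : Subgroup Ω) {P : Subgroup Ω} (φ ψ : P →* Ω) : Prop := ∀ x, (φ x)⁻¹ * ψ x ∈ Z

theorem ModZ.symm {P : Subgroup Ω} {φ ψ : P →* Ω} (h : ModZ Z φ ψ) : ModZ Z ψ φ := fun x => by
  have := Z.inv_mem (h x)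
  rwa [mul_inv_rev, inv_inv] at this

theorem ModZ.refl {P : Subgroup Ω} (φ : P →* Ω) : ModZ Z φ φ := fun x => by
  rw [inv_mul_cancel]; exact one_mem _

theorem ModZ.trans {P : Subgroup Ω} {φ ψ χ : P →* Ω} (h : ModZ Z φ ψ) (h' : ModZ Z ψ χ) :
    ModZ Z φ χ := fun x => by
  have := Z.mul_mem (h x) (h' x)
  rwa [mul_assoc, mul_inv_cancel_left] at this

theorem rangeInv_eq {P : Subgroup Ω} {φ : P →* Ω} (hφ : Function.Injective φ) {x : P} {y : Ω}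
    (h : φ x = y) (hy : y ∈ φ.range) : rangeInv φ hφ ⟨y, hy⟩ = x := by
  subst h
  exact rangeInv_apply φ hφ x hy

variable (d : Data p F Z θ Fb E)
include d

theorem fix {P : Subgroup Ω} {φ : P →* Ω} (hφ : φ ∈ F.Hom P) (x : P) (hx : (x : Ω) ∈ Z) :
    φ x = x := by
  obtain ⟨ψ, -, hψP, hψZ⟩ := d.central.2 P φ hφ
  rw [← hψP]
  exact (congrArg ψ (Subtype.ext rfl)).trans (hψZ ⟨x, hx⟩)

theorem comm {z s : Ω} (hz : z ∈ Z) (hs : s ∈ S) : s * z = z * s := by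
  have h := fix d (F.conj_mem le_rfl hs) ⟨z, d.central.1 hz⟩ hz
  rw [conjHom_apply] at h
  exact mul_inv_eq_iff_eq_mul.1 h

theorem stronglyClosed_Z : F.StronglyClosed Z :=
  ⟨d.central.1, fun R hR φ hφ x => by rw [fix d hφ x (hR x.2)]; exact hR x.2⟩

theorem theta_eq_one {x : S} : θ x = 1 ↔ (x : Ω) ∈ Z := d.factor.2.1 x

theorem theta_eq {x y : S} : θ x = θ y ↔ (x : Ω)⁻¹ * y ∈ Z := by
  rw [← inv_mul_eq_one, ← map_inv, ← map_mul, theta_eq_one d]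
  rfl

theorem range_eq : θ.range = S' := d.factor.2.2.1

theorem top_le_range : T' ≤ θ.range := d.normal.1.2.2.2.1.1.trans (range_eq d).ge

theorem le_preimage (P' : Subgroup Ω') : Z ≤ preimageAlong θ P' := fun x hx =>
  (mem_preimageAlong θ).2 ⟨d.central.1 hx, by
    rw [(theta_eq_one d (x := ⟨x, d.central.1 hx⟩)).2 hx]; exact one_mem _⟩

theorem le_top : Z ≤ top θ T' := le_preimage d T'

omit d in
theorem top_le : top θ T' ≤ S := preimageAlong_le θ T'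

omit d in
theorem mem_top {x : Ω} : x ∈ top θ T' ↔ ∃ hx : x ∈ S, θ ⟨x, hx⟩ ∈ T' := mem_preimageAlong θ

omit d in
theorem theta_mem_image {P : Subgroup Ω} {x : Ω} (hx : x ∈ P) (hxS : x ∈ S) :
    θ ⟨x, hxS⟩ ∈ imageAlong θ P := ⟨⟨x, hxS⟩, hx, rfl⟩

omit d in
theorem image_le_of_le {P : Subgroup Ω} (hP : P ≤ top θ T') : imageAlong θ P ≤ T' := by
  rintro _ ⟨x, hx, rfl⟩
  exact (mem_top.1 (hP hx)).2

omit d in
theorem image_preimage {P' : Subgroup Ω'} (h : P' ≤ θ.range) :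
    imageAlong θ (preimageAlong θ P') = P' := by
  refine le_antisymm ?_ fun y hy => ?_
  · rintro _ ⟨x, hx, rfl⟩
    exact ((mem_preimageAlong θ).1 hx).2
  · obtain ⟨x, rfl⟩ := h hy
    exact theta_mem_image ((mem_preimageAlong θ).2 ⟨x.2, hy⟩) x.2

theorem preimage_image {P : Subgroup Ω} (hZ : Z ≤ P) (hP : P ≤ S) :
    preimageAlong θ (imageAlong θ P) = P := by
  refine le_antisymm (fun x hx => ?_) fun x hx =>
    (mem_preimageAlong θ).2 ⟨hP hx, theta_mem_image hx (hP hx)⟩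
  obtain ⟨hxS, y, hy, hyx⟩ := (mem_preimageAlong θ).1 hx
  have h := (theta_eq d).1 hyx
  have h2 := P.mul_mem (Subgroup.mem_subgroupOf.1 hy) (hZ h)
  rwa [mul_inv_cancel_left] at h2

omit d in
theorem induced_iff {P : Subgroup Ω} {φ : P →* Ω} (hP : P ≤ S) (hφ : ∀ x, φ x ∈ S)
    {φ' : imageAlong θ P →* Ω'} : InducedAlong θ φ φ' ↔
      ∀ x : P, φ' ⟨θ ⟨x, hP x.2⟩, theta_mem_image x.2 (hP x.2)⟩ = θ ⟨φ x, hφ x⟩ :=
  ⟨fun ⟨_, _, _, h⟩ x => h x, fun h => ⟨hP, hφ, fun x => theta_mem_image x.2 (hP x.2), h⟩⟩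

/-- The maps over the preimage of `T'` inducing maps of `E`. -/
def liftSystem (_ : Data p F Z θ Fb E) : FusionSystem (top θ T') where
  Hom P := {φ | φ ∈ F.Hom P ∧ P ≤ top θ T' ∧ (∀ x, φ x ∈ top θ T') ∧
    ∃ φ' ∈ E.Hom (imageAlong θ P), InducedAlong θ φ φ'}
  le_of_mem h := ⟨h.2.1, h.2.2.1⟩
  injective_of_mem h := F.injective_of_mem h.1
  conj_mem := by
    intro P g hP hg
    have hPS := hP.trans top_le
    obtain ⟨hgS, hgT⟩ := mem_top.1 hg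
    refine ⟨F.conj_mem hPS hgS, hP, fun x => mul_mem (mul_mem hg (hP x.2)) (inv_mem hg),
      conjHom _ (θ ⟨g, hgS⟩), E.conj_mem (image_le_of_le hP) hgT,
      (induced_iff hPS fun x => val_mem (F.conj_mem hPS hgS) x).2 fun x => ?_⟩
    show θ ⟨g, hgS⟩ * θ ⟨x, hPS x.2⟩ * (θ ⟨g, hgS⟩)⁻¹ = _
    rw [← map_inv, ← map_mul, ← map_mul]
    rfl
  comp_mem := by
    rintro P Q φ ψ ⟨hφ, hP, hφT, φ', hφ', hφi⟩ ⟨hψ, hQ, hψT, ψ', hψ', hψi⟩ h
    have hPS := hP.trans top_le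
    have hQS := hQ.trans top_le
    have hφi' := (induced_iff hPS fun x => top_le (hφT x)).1 hφi
    have hψi' := (induced_iff hQS fun x => top_le (hψT x)).1 hψi
    have hval : ∀ y : imageAlong θ P, φ' y ∈ imageAlong θ Q := by
      rintro ⟨_, x, hx, rfl⟩
      refine (congrArg (· ∈ imageAlong θ Q) (hφi' ⟨x, hx⟩)).mpr ?_
      exact theta_mem_image (h _) _
    refine ⟨F.comp_mem hφ hψ h, hP, fun x => hψT _, _, E.comp_mem hφ' hψ' hval,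
      (induced_iff hPS fun x => top_le (hψT _)).2 fun x => ?_⟩
    refine Eq.trans ?_ (hψi' ⟨φ x, h x⟩)
    exact congrArg ψ' (Subtype.ext (hφi' x))
  inv_mem := by
    rintro P φ ⟨hφ, hP, hφT, φ', hφ', hφi⟩
    have hPS := hP.trans top_le
    have hφi' := (induced_iff hPS fun x => top_le (hφT x)).1 hφi
    have hR : φ.range ≤ top θ T' := by rintro _ ⟨x, rfl⟩; exact hφT x
    have hle : imageAlong θ φ.range ≤ φ'.range := by
      rintro _ ⟨y, ⟨x, hx⟩, rfl⟩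
      refine ⟨⟨θ ⟨x, hPS x.2⟩, theta_mem_image x.2 (hPS x.2)⟩, (hφi' x).trans ?_⟩
      exact congrArg θ (Subtype.ext hx)
    refine ⟨_, ⟨rangeInv_mem hφ, hR, fun y => ?_, _, restrict_mem (rangeInv_mem hφ') hle,
      (induced_iff (hR.trans top_le) (val_mem (rangeInv_mem hφ))).2 ?_⟩,
      fun x => rangeInv_apply _ _ x _⟩
    · exact hP (rangeInv_mem_src _ _ y)
    · rintro ⟨_, x, rfl⟩
      have e : (⟨rangeInv φ (F.injective_of_mem hφ) ⟨φ x, x, rfl⟩,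
          val_mem (rangeInv_mem hφ) _⟩ : S) = ⟨x, hPS x.2⟩ :=
        Subtype.ext (rangeInv_apply φ _ x _)
      rw [e]
      exact rangeInv_eq _ (hφi' x) _

theorem liftSystem_le : (liftSystem d).IsSubsystemOf F := fun _ _ h => h.1

theorem mem_lift_of_modZ {P : Subgroup Ω} {φ ψ : P →* Ω} (hφ : φ ∈ F.Hom P)
    (hψ : ψ ∈ (liftSystem d).Hom P) (h : ModZ Z ψ φ) : φ ∈ (liftSystem d).Hom P := by
  obtain ⟨-, hP, hψT, ψ', hψ', hψi⟩ := hψ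
  have hPS := hP.trans top_le
  have hψi' := (induced_iff hPS fun x => top_le (hψT x)).1 hψi
  refine ⟨hφ, hP, fun x => ?_, ψ', hψ', (induced_iff hPS (val_mem hφ)).2 fun x => ?_⟩
  · have h2 := mul_mem (hψT x) (le_top d (h x))
    rwa [mul_inv_cancel_left] at h2
  · rw [hψi']
    exact (theta_eq d).2 (h x)

/-- Maps of the system inducing the same map modulo `Z`. -/
theorem exists_bar {P : Subgroup Ω} {φ : P →* Ω} (hφ : φ ∈ F.Hom P) [Finite S] [Fact p.Prime] :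
    ∃ φ' ∈ Fb.Hom (imageAlong θ P), ∀ x : P,
      φ' ⟨θ ⟨x, src_le hφ x.2⟩, theta_mem_image x.2 (src_le hφ x.2)⟩ = θ ⟨φ x, val_mem hφ x⟩ := by
  obtain ⟨φ', hφ', hi⟩ := (isSurjectiveMorphism_of_isFactorSystem d.isPGroup d.saturated
    (stronglyClosed_Z d) d.factor).1.2 P φ hφ
  exact ⟨φ', hφ', (induced_iff (src_le hφ) (val_mem hφ)).1 hi⟩

/-- Maps of `E` lift. -/
theorem exists_lift {P : Subgroup Ω} (hZ : Z ≤ P) (hP : P ≤ top θ T')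
    {φ' : imageAlong θ P →* Ω'} (hφ' : φ' ∈ E.Hom (imageAlong θ P)) :
    ∃ φ, ∃ hφ : φ ∈ (liftSystem d).Hom P, ∀ x : P,
      φ' ⟨θ ⟨x, top_le (hP x.2)⟩, theta_mem_image x.2 (top_le (hP x.2))⟩ =
        θ ⟨φ x, top_le (val_mem hφ x)⟩ := by
  obtain ⟨-, φ, hφ, hi⟩ := (d.factor.2.2.2 _ φ').1 (d.normal.1.2.2.1 _ hφ')
  have hle : P ≤ preimageAlong θ (imageAlong θ P) := (preimage_image d hZ (hP.trans top_le)).ge
  obtain ⟨h1, h2, h3, hi'⟩ := hi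
  have hm := restrict_mem hφ hle
  have hres : ∀ x : P, φ' ⟨θ ⟨x, top_le (hP x.2)⟩, theta_mem_image x.2 (top_le (hP x.2))⟩ =
      θ ⟨φ.comp (Subgroup.inclusion hle) x, val_mem hm x⟩ := fun x => hi' (Subgroup.inclusion hle x)
  have hT : ∀ x : P, φ.comp (Subgroup.inclusion hle) x ∈ top θ T' := fun x =>
    mem_top.2 ⟨val_mem hm x, hres x ▸ val_mem hφ' _⟩
  exact ⟨_, ⟨hm, hP, hT, φ', hφ', (induced_iff (hP.trans top_le) (val_mem hm)).2 hres⟩, hres⟩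

variable [Finite S]

theorem finite_top : Finite (top θ T') := finite_of_le top_le

theorem isPGroup_top : IsPGroup p (top θ T') := d.isPGroup.to_le top_le

theorem stronglyClosed_top [Fact p.Prime] : F.StronglyClosed (top θ T') :=
  stronglyClosed_preimageAlong d.isPGroup d.saturated (stronglyClosed_Z d) d.factor
    d.normal.1.2.2.2.1

/-- The Frattini decomposition over the preimage. -/
theorem frattini [Fact p.Prime] {P : Subgroup Ω} (hP : P ≤ top θ T') {φ : P →* Ω}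
    (hφ : φ ∈ F.Hom P) :
    ∃ α ∈ F.autGroup (top θ T'), ∃ φ₀, ∃ h₀ : φ₀ ∈ (liftSystem d).Hom P,
      ∀ x, φ x = (α ⟨φ₀ x, val_mem h₀ x⟩ : Ω) := by
  have hPS := hP.trans top_le
  haveI := finite_top d
  obtain ⟨φ', hφ', hφi⟩ := exists_bar d hφ
  obtain ⟨β, hβ, φ₀', hφ₀', hdec⟩ := d.normal.1.2.2.2.2.2 _ (image_le_of_le hP) φ' hφ'
  obtain ⟨-, b, hb, hbi⟩ := (d.factor.2.2.2 _ _).1 (autGroup_hom_mem d.normal.1.2.2.2.1.1 hβ)
  obtain ⟨h1, h2, h3, hbi'⟩ := hbi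
  obtain ⟨α, hα, hαx⟩ := exists_aut_of_hom hb fun w => mem_top.2 ⟨h2 w, by
    rw [← hbi' w]; exact SetLike.coe_mem _⟩
  have hφT : ∀ x, φ x ∈ top θ T' := fun x => (stronglyClosed_top d).2 P hP φ hφ x
  obtain ⟨φ₀, hφ₀, hφ₀x⟩ := exists_comp hφ (autGroup_hom_mem top_le (inv_mem hα)) hφT
  have hφ₀T : ∀ x, φ₀ x ∈ top θ T' := fun x => by rw [hφ₀x]; exact SetLike.coe_mem _
  have hα₀ : ∀ x, (α ⟨φ₀ x, hφ₀T x⟩ : Ω) = φ x := fun x => by
    rw [show (⟨φ₀ x, hφ₀T x⟩ : top θ T') = α⁻¹ ⟨φ x, hφT x⟩ from Subtype.ext (hφ₀x x),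
      MulAut.apply_inv_self]
  refine ⟨α, hα, φ₀, ⟨hφ₀, hP, hφ₀T, φ₀', hφ₀', (induced_iff hPS (val_mem hφ₀)).2 fun x => ?_⟩,
    fun x => (hα₀ x).symm⟩
  set y := φ₀' ⟨θ ⟨x, hPS x.2⟩, theta_mem_image x.2 (hPS x.2)⟩ with hy
  have hyT : y ∈ T' := val_mem hφ₀' _
  obtain ⟨hwS, hwT⟩ := mem_top.1 (hφ₀T x)
  suffices he : (β ⟨y, hyT⟩ : Ω') = β ⟨θ ⟨φ₀ x, top_le (hφ₀T x)⟩, hwT⟩ from
    congrArg Subtype.val (β.injective (Subtype.ext he))
  rw [← hdec _ hyT, hφi]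
  refine Eq.trans ?_ (hbi' ⟨φ₀ x, hφ₀T x⟩).symm
  exact congrArg θ (Subtype.ext ((hα₀ x).symm.trans (hαx _)))

theorem card_normalizerIn_image [Fact p.Prime] {X : Subgroup Ω} (hZ : Z ≤ X) (hX : X ≤ S) :
    Nat.card (normalizerIn (top θ T') X) =
      Nat.card Z * Nat.card (normalizerIn T' (imageAlong θ X)) := by
  set N := normalizerIn (top θ T') X with hN
  have hNS : N ≤ S := inf_le_left.trans top_le
  set f := θ.comp (Subgroup.inclusion hNS)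
  have hconj : ∀ (g x : Ω) (hg : g ∈ S) (hx : x ∈ S),
      (θ ⟨g, hg⟩ * θ ⟨x, hx⟩ * (θ ⟨g, hg⟩)⁻¹ ∈ imageAlong θ X ↔ g * x * g⁻¹ ∈ X) := by
    intro g x hg hx
    rw [← map_inv, ← map_mul, ← map_mul]
    refine ⟨fun h => ?_, fun h => theta_mem_image h _⟩
    exact (preimage_image d hZ hX).le ((mem_preimageAlong θ).2 ⟨_, h⟩)
  have hr : f.range = normalizerIn T' (imageAlong θ X) := by
    ext y
    constructor
    · rintro ⟨g, rfl⟩
      refine ⟨(mem_top.1 g.2.1).2, Subgroup.mem_normalizer_iff.2 fun w => ?_⟩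
      constructor
      · rintro ⟨x, hx, rfl⟩
        exact (hconj g x (hNS g.2) x.2).2 ((Subgroup.mem_normalizer_iff.1 g.2.2 x).1 hx)
      · rintro ⟨x, hx, hxw⟩
        refine ⟨(⟨g, hNS g.2⟩ : S)⁻¹ * x * ⟨g, hNS g.2⟩, ?_, ?_⟩
        · refine (Subgroup.mem_normalizer_iff.1 g.2.2 _).2 ?_
          show (g : Ω) * ((g : Ω)⁻¹ * x * g) * (g : Ω)⁻¹ ∈ X
          simpa [mul_assoc, Subgroup.mem_subgroupOf] using hx
        · rw [map_mul, map_mul, map_inv, hxw]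
          show (θ ⟨g, _⟩)⁻¹ * (θ ⟨g, _⟩ * w * (θ ⟨g, _⟩)⁻¹) * θ ⟨g, _⟩ = w
          group
    · rintro ⟨hyT, hyn⟩
      obtain ⟨g, rfl⟩ := top_le_range d hyT
      refine ⟨⟨g, mem_top.2 ⟨g.2, hyT⟩, Subgroup.mem_normalizer_iff.2 fun x => ?_⟩, rfl⟩
      constructor
      · intro hx
        exact (hconj g x g.2 (hX hx)).1
          ((Subgroup.mem_normalizer_iff.1 hyn _).1 (theta_mem_image hx (hX hx)))
      · intro hx
        have hxS : x ∈ S := by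
          simpa [mul_assoc] using S.mul_mem (S.mul_mem (S.inv_mem g.2) (hX hx)) g.2
        exact (preimage_image d hZ hX).le ((mem_preimageAlong θ).2
          ⟨hxS, (Subgroup.mem_normalizer_iff.1 hyn _).2 ((hconj g x g.2 hxS).2 hx)⟩)
  have hker : f.ker = Z.subgroupOf N := Subgroup.ext fun g => theta_eq_one d
  have hZN : Z ≤ N := le_inf (le_top d) (hZ.trans Subgroup.le_normalizer)
  rw [← hr, ← Nat.card_congr (Subgroup.subgroupOfEquivOfLe hZN).toEquiv, ← hker,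
    Subgroup.card_eq_card_quotient_mul_card_subgroup f.ker,
    Nat.card_congr (QuotientGroup.quotientKerEquivRange f).toEquiv, mul_comm]

theorem isFullyNormalized_image [Fact p.Prime] {P : Subgroup Ω} (hZ : Z ≤ P) (hP : P ≤ top θ T')
    (hG : (liftSystem d).IsFullyNormalized P) : E.IsFullyNormalized (imageAlong θ P) := by
  refine ⟨image_le_of_le hP, fun Q' hQ' => ?_⟩
  obtain ⟨φ', hφ', rfl⟩ := hQ'
  obtain ⟨φ, hφ, hφi⟩ := exists_lift d hZ hP hφ'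
  have hle := hG.2 φ.range (isConj_range hφ)
  have hZR : Z ≤ φ.range := fun z hz => ⟨⟨z, hZ hz⟩, fix d hφ.1 ⟨z, hZ hz⟩ hz⟩
  have himg : imageAlong θ φ.range = φ'.range := by
    refine le_antisymm ?_ ?_
    · rintro _ ⟨y, ⟨x, hx⟩, rfl⟩
      exact ⟨_, (hφi x).trans (congrArg θ (Subtype.ext hx))⟩
    · rintro _ ⟨⟨_, x, hx, rfl⟩, rfl⟩
      exact (congrArg (· ∈ imageAlong θ φ.range) (hφi ⟨x, hx⟩)).mpr
        (theta_mem_image (P := φ.range) ⟨_, rfl⟩ _)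
  rw [card_normalizerIn_image d hZR (range_le hφ.1), card_normalizerIn_image d hZ (hP.trans top_le),
    himg] at hle
  haveI : Finite Z := finite_of_le d.central.1
  exact Nat.le_of_mul_le_mul_left hle Nat.card_pos

/-- Extension modulo `Z` from the receptivity of `E`. -/
theorem exists_extend [Fact p.Prime] {Q M P : Subgroup Ω} (hZQ : Z ≤ Q) (hPn : (liftSystem d).IsFullyNormalized P)
    {φ : Q →* Ω} (hφ : φ ∈ (liftSystem d).Hom Q) (hr : φ.range = P) (hQM : Q ≤ M)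
    (hM : M ≤ normalizerIn (top θ T') Q)
    (hext : ∀ g ∈ M, ∃ h ∈ top θ T', ∀ (x : Q) (hx : g * (x : Ω) * g⁻¹ ∈ Q),
      (φ ⟨g * x * g⁻¹, hx⟩)⁻¹ * (h * φ x * h⁻¹) ∈ Z) :
    ∃ ψ ∈ (liftSystem d).Hom M, ModZ Z φ (ψ.comp (Subgroup.inclusion hQM)) := by
  obtain ⟨hφF, hQT, hφT, φ', hφ', hi⟩ := id hφ
  have hQS := hQT.trans top_le
  have hi' := (induced_iff hQS fun x => top_le (hφT x)).1 hi
  have hPT : P ≤ top θ T' := by rw [← hr]; rintro _ ⟨x, rfl⟩; exact hφT x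
  have hZP : Z ≤ P := fun z hz => hr ▸ ⟨⟨z, hZQ hz⟩, fix d hφF ⟨z, hZQ hz⟩ hz⟩
  have hr' : φ'.range = imageAlong θ P := by
    subst hr
    refine le_antisymm ?_ ?_
    · rintro _ ⟨⟨_, x, hx, rfl⟩, rfl⟩
      exact (congrArg (· ∈ imageAlong θ φ.range) (hi' ⟨x, hx⟩)).mpr (theta_mem_image (P := φ.range) ⟨_, rfl⟩ _)
    · rintro _ ⟨y, ⟨x, hx⟩, rfl⟩
      exact ⟨_, (hi' x).trans (congrArg θ (Subtype.ext hx))⟩
  have hEs := d.normal.1.1
  haveI : Finite S' := d.factor.2.2.1 ▸ Finite.of_surjective θ.rangeRestrict θ.rangeRestrict_surjective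
  haveI : Finite T' := finite_of_le d.normal.1.2.2.2.1.1
  have hT'p : IsPGroup p T' := (isPGroup_of_isFactorSystem d.isPGroup d.factor).to_le
    d.normal.1.2.2.2.1.1
  obtain ⟨ψ', hψ', hag⟩ := (isReceptive_of_isFullyNormalized hT'p hEs
    (isFullyNormalized_image d hZP hPT hPn)).2 _ φ' hφ' hr'
  have hMT : M ≤ top θ T' := hM.trans inf_le_left
  have hle : imageAlong θ M ≤ extender T' (imageAlong θ Q) φ' := by
    rintro _ ⟨g, hg, rfl⟩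
    obtain ⟨hgT, hgn⟩ := hM hg
    obtain ⟨h, hh, hhx⟩ := hext g hg
    obtain ⟨hgS, hgT'⟩ := mem_top.1 hgT
    obtain ⟨hhS, hhT'⟩ := mem_top.1 hh
    refine mem_extender.2 ⟨hgT', Subgroup.mem_normalizer_iff.2 fun w => ?_, θ ⟨h, hhS⟩, hhT', ?_⟩
    · constructor
      · rintro ⟨x, hx, rfl⟩
        exact ⟨⟨g, hgS⟩ * x * ⟨g, hgS⟩⁻¹, (Subgroup.mem_normalizer_iff.1 hgn x).1 hx, by
          rw [map_mul, map_mul, map_inv]⟩
      · rintro ⟨x, hx, hxw⟩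
        refine ⟨(⟨g, hgS⟩ : S)⁻¹ * x * ⟨g, hgS⟩, (Subgroup.mem_normalizer_iff.1 hgn _).2 ?_, ?_⟩
        · show (g : Ω) * ((g : Ω)⁻¹ * x * g) * (g : Ω)⁻¹ ∈ Q
          simpa [mul_assoc, Subgroup.mem_subgroupOf] using hx
        · rw [map_mul, map_mul, map_inv, hxw]
          show (θ g)⁻¹ * (θ g * w * (θ g)⁻¹) * θ g = w
          group
    · rintro ⟨_, x, hx, rfl⟩ hconj
      have hx' : (g : Ω) * x * (g : Ω)⁻¹ ∈ Q := (Subgroup.mem_normalizer_iff.1 hgn x).1 hx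
      have e : (⟨θ g * θ x * (θ g)⁻¹, hconj⟩ : imageAlong θ Q) =
          ⟨θ ⟨(g : Ω) * x * (g : Ω)⁻¹, hQS hx'⟩, theta_mem_image hx' _⟩ := by
        refine Subtype.ext ?_
        show θ g * θ x * (θ g)⁻¹ = _
        rw [← map_inv, ← map_mul, ← map_mul]
        rfl
      rw [show φ' _ = φ' _ from congrArg φ' e, hi' ⟨_, hx'⟩, hi' ⟨x, hx⟩, ← map_inv, ← map_mul,
        ← map_mul]
      exact (theta_eq d).2 (hhx ⟨x, hx⟩ hx')
  obtain ⟨ψ, hψ, hψi⟩ := exists_lift d (hZQ.trans hQM) hMT (restrict_mem hψ' hle)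
  refine ⟨ψ, hψ, fun x => ?_⟩
  refine (theta_eq d (x := ⟨φ x, top_le (hφT x)⟩)
    (y := ⟨ψ ⟨x, hQM x.2⟩, top_le (val_mem hψ _)⟩)).1 ?_
  rw [← hi' x, ← hψi ⟨x, hQM x.2⟩]
  exact (hag _ (theta_mem_image x.2 _) _).symm

/-- `P` absorbs whatever centralizes a conjugate modulo `Z`. -/
def TCen {Ω : Type*} [Group Ω] {T : Subgroup Ω} (G : FusionSystem T) (Z P : Subgroup Ω) : Prop :=
  Z ≤ P ∧ P ≤ T ∧ ∀ φ ∈ G.Hom P, ∀ t ∈ T, (∀ y ∈ φ.range, t * y * t⁻¹ * y⁻¹ ∈ Z) → t ∈ φ.range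

theorem isCentric_image {P : Subgroup Ω} (hP : TCen (liftSystem d) Z P) :
    E.IsCentric (imageAlong θ P) := by
  refine ⟨image_le_of_le hP.2.1, fun Q' hQ' => ?_⟩
  obtain ⟨φ', hφ', rfl⟩ := hQ'
  obtain ⟨φ, hφ, hφi⟩ := exists_lift d hP.1 hP.2.1 hφ'
  rintro y ⟨hyT, hyc⟩
  obtain ⟨t, rfl⟩ := top_le_range d hyT
  obtain ⟨x, hx⟩ := hP.2.2 φ hφ t (mem_top.2 ⟨t.2, hyT⟩) (by
    rintro _ ⟨x, rfl⟩
    have hx := hyc _ ⟨_, hφi x⟩
    refine (theta_eq_one d (x := t * ⟨φ x, top_le (val_mem hφ x)⟩ * t⁻¹ *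
      ⟨φ x, top_le (val_mem hφ x)⟩⁻¹)).1 ?_
    rw [map_mul, map_mul, map_mul, map_inv, map_inv, ← hx]
    group)
  exact ⟨_, (hφi x).trans (congrArg θ (Subtype.ext hx))⟩

/-- A lift trivial modulo `Z` on an absorbing normal subgroup is inner modulo `Z`. -/
theorem exists_inner [Fact p.Prime] {P M : Subgroup Ω} (hP : TCen (liftSystem d) Z P) (hPM : P ≤ M)
    (hM : M ≤ normalizerIn (top θ T') P) {δ : M →* Ω} (hδ : δ ∈ (liftSystem d).Hom M)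
    (hδP : ∀ x : M, (x : Ω) ∈ P → (x : Ω)⁻¹ * δ x ∈ Z) :
    ∃ z ∈ P, ∀ x : M, (z * (x : Ω) * z⁻¹)⁻¹ * δ x ∈ Z := by
  classical
  obtain ⟨hδF, hMT, hδT, δ', hδ', hi⟩ := id hδ
  have hMS := hMT.trans top_le
  have hi' := (induced_iff hMS fun x => top_le (hδT x)).1 hi
  have hZc : ∀ z ∈ Z, ∀ s ∈ top θ T', s * z = z * s := fun z hz s hs => comm d hz (top_le hs)
  have hw : ∀ x : M, (x : Ω)⁻¹ * δ x ∈ P := by
    intro x
    have h := hP.2.2 P.subtype (subtype_mem hP.2.1) ((x : Ω)⁻¹ * δ x)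
      (mul_mem (inv_mem (hMT x.2)) (hδT x)) ?_
    · rwa [Subgroup.range_subtype] at h
    intro y hy
    rw [Subgroup.range_subtype] at hy
    have hy' : (x : Ω) * y * (x : Ω)⁻¹ ∈ P := (Subgroup.mem_normalizer_iff.1 (hM x.2).2 y).1 hy
    set yM : M := ⟨y, hPM hy⟩ with hyM
    set cM : M := x * yM * x⁻¹ with hcM
    have h1 := hδP yM hy
    have h2 := hδP cM hy'
    rw [hcM, map_mul, map_mul, map_inv, ← hcM] at h2
    set z₁ := y⁻¹ * δ yM with hz₁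
    set z₂ := (cM : Ω)⁻¹ * (δ x * δ yM * (δ x)⁻¹) with hz₂
    have e1 : δ yM = y * z₁ := by rw [hz₁]; group
    have e2 : δ x * δ yM * (δ x)⁻¹ = (x : Ω) * y * (x : Ω)⁻¹ * z₂ := by
      rw [hz₂]
      show _ = (cM : Ω) * _
      group
    have c1 : δ x * z₁ = z₁ * δ x := hZc z₁ h1 _ (hδT x)
    have c2 : (x : Ω) * z₂ = z₂ * x := hZc z₂ h2 _ (hMT x.2)
    have e3 : δ x * y * (δ x)⁻¹ = (x : Ω) * y * (x : Ω)⁻¹ * (z₂ * z₁⁻¹) := by
      have : δ x * y * (δ x)⁻¹ * z₁ = (x : Ω) * y * (x : Ω)⁻¹ * z₂ := by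
        rw [← e2, e1]
        calc δ x * y * (δ x)⁻¹ * z₁ = δ x * y * ((δ x)⁻¹ * (z₁ * δ x)) * (δ x)⁻¹ := by group
          _ = _ := by rw [← c1]; group
      rw [← mul_assoc, ← this]
      group
    have hzz : z₂ * z₁⁻¹ ∈ Z := mul_mem h2 (inv_mem h1)
    have c3 : (x : Ω) * (z₂ * z₁⁻¹) = z₂ * z₁⁻¹ * x := hZc _ hzz _ (hMT x.2)
    have c4 : y * (z₂ * z₁⁻¹) = z₂ * z₁⁻¹ * y := hZc _ hzz _ (hP.2.1 hy)
    have e4 : (x : Ω)⁻¹ * δ x * y * ((x : Ω)⁻¹ * δ x)⁻¹ * y⁻¹ = z₂ * z₁⁻¹ := by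
      calc (x : Ω)⁻¹ * δ x * y * ((x : Ω)⁻¹ * δ x)⁻¹ * y⁻¹
          = (x : Ω)⁻¹ * (δ x * y * (δ x)⁻¹) * x * y⁻¹ := by group
        _ = y * (x : Ω)⁻¹ * (z₂ * z₁⁻¹ * x) * y⁻¹ := by rw [e3]; group
        _ = y * (z₂ * z₁⁻¹) * y⁻¹ := by rw [← c3]; group
        _ = z₂ * z₁⁻¹ := by rw [c4, mul_inv_cancel_right]
    rw [e4]
    exact hzz
  -- the induced automorphism
  set M' := imageAlong θ M with hM'
  have hM'T : M' ≤ T' := image_le_of_le hMT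
  haveI : Finite S' := d.factor.2.2.1 ▸ Finite.of_surjective θ.rangeRestrict θ.rangeRestrict_surjective
  haveI : Finite T' := finite_of_le d.normal.1.2.2.2.1.1
  haveI : Finite M' := finite_of_le hM'T
  have hT'p : IsPGroup p T' := (isPGroup_of_isFactorSystem d.isPGroup d.factor).to_le
    d.normal.1.2.2.2.1.1
  have hδM : ∀ x : M, δ x ∈ M := fun x => by
    have := M.mul_mem x.2 (hPM (hw x))
    rwa [mul_inv_cancel_left] at this
  obtain ⟨β, hβ, hβx⟩ := exists_aut_of_hom hδ' (by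
    rintro ⟨_, x, hx, rfl⟩
    exact (congrArg (· ∈ M') (hi' ⟨x, hx⟩)).mpr (theta_mem_image (hδM _) _))
  have hβθ : ∀ x : M, (β ⟨θ ⟨x, hMS x.2⟩, theta_mem_image x.2 _⟩ : Ω') =
      θ ⟨δ x, top_le (hδT x)⟩ := fun x => (hβx _).trans (hi' x)
  have hfix : ∀ w : M', (w : Ω') ∈ imageAlong θ P → β w = w := by
    rintro ⟨w, hw'⟩ ⟨x, hx, rfl⟩
    refine Subtype.ext ?_
    have h := hβθ ⟨x, hPM hx⟩
    refine h.trans ?_
    exact ((theta_eq d).2 (hδP ⟨x, hPM hx⟩ hx)).symm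
  have hpow : ∃ k, β ^ p ^ k = 1 := by
    obtain ⟨k, hk⟩ := IsPGroup.iff_card.1 (hT'p.to_le hM'T)
    refine ⟨k, MulEquiv.ext ?_⟩
    rintro ⟨_, x, hx, rfl⟩
    set v : M' := ⟨θ x, theta_mem_image (P := M) hx x.2⟩
    have hwM : (x : Ω)⁻¹ * δ ⟨x, hx⟩ ∈ M := hPM (hw ⟨x, hx⟩)
    set u : M' := ⟨θ ⟨_, hMS hwM⟩, theta_mem_image hwM _⟩ with hu
    have h1 : β v = v * u := by
      refine Subtype.ext ((hβθ ⟨x, hx⟩).trans ?_)
      show _ = θ x * θ _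
      rw [← map_mul]
      exact congrArg θ (Subtype.ext (mul_inv_cancel_left _ _).symm)
    have hu' : β u = u := hfix u (theta_mem_image (hw ⟨x, hx⟩) _)
    have hit : ∀ i : ℕ, (β ^ i) v = v * u ^ i := by
      intro i
      induction i with
      | zero => simp
      | succ i ih => rw [pow_succ', MulAut.mul_apply, ih, map_mul, map_pow, hu', h1, mul_assoc,
          pow_succ']
    show (β ^ p ^ k) v = v
    rw [hit, ← hk, pow_card_eq_one', mul_one]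
  obtain ⟨z', hz', hzx⟩ := Fusion87.exists_conj_of_fixes hT'p d.normal.1.1 (isCentric_image d hP)
    (Subgroup.map_mono fun x hx => hPM hx : imageAlong θ P ≤ M') hβ hM'T hfix hpow
  obtain ⟨z, hz, rfl⟩ := hz'
  refine ⟨z, hz, fun x => ?_⟩
  have h := (hβθ x).symm.trans (hzx ⟨θ ⟨x, hMS x.2⟩, theta_mem_image x.2 _⟩)
  rw [← map_inv, ← map_mul, ← map_mul] at h
  exact (theta_eq d).1 h.symm

/-- The normality of `E` on the top. -/
theorem top_comm [Fact p.Prime] {a : MulAut (top θ T')}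
    (ha : a ∈ (liftSystem d).autGroup (top θ T'))
    {s : Ω} (hs : s ∈ S) (hsT : ∀ y ∈ top θ T', y⁻¹ * (s * y * s⁻¹) ∈ Z) :
    ∃ t ∈ top θ T', ∀ (y : top θ T') (hy : s * (y : Ω) * s⁻¹ ∈ top θ T'),
      (a ⟨_, hy⟩ : Ω) = s * t * (a y : Ω) * (s * t)⁻¹ := by
  obtain ⟨haF, -, -, a', ha', hi⟩ := autGroup_hom_mem le_rfl ha
  have hi' := (induced_iff top_le fun x => val_mem haF x).1 hi
  haveI : Finite S' := d.factor.2.2.1 ▸ Finite.of_surjective θ.rangeRestrict θ.rangeRestrict_surjective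
  have hT'S := d.normal.1.2.2.2.1.1
  haveI : Finite T' := finite_of_le hT'S
  have himg : imageAlong θ (top θ T') = T' := image_preimage (top_le_range d)
  have ha'T : a'.comp (Subgroup.inclusion himg.ge) ∈ E.Hom T' := restrict_mem ha' himg.ge
  obtain ⟨α, hα, hαx⟩ := exists_aut_of_hom ha'T fun y => val_mem ha'T y
  obtain ⟨β', hβ', hβα, hβc⟩ := d.normal.2 α hα
  have hU' : T' ⊔ centralizerIn S' T' ≤ S' := sup_le hT'S inf_le_left
  obtain ⟨-, b, hb, hbi⟩ := (d.factor.2.2.2 _ _).1 (autGroup_hom_mem hU' hβ')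
  obtain ⟨h1, h2, h3, hbi'⟩ := hbi
  have hsc : θ ⟨s, hs⟩ ∈ centralizerIn S' T' := by
    refine ⟨(range_eq d).le ⟨_, rfl⟩, fun w hw => ?_⟩
    obtain ⟨y, rfl⟩ := top_le_range d hw
    refine (mul_inv_eq_iff_eq_mul.1 ?_).symm
    rw [← map_inv, ← map_mul, ← map_mul]
    exact ((theta_eq d (x := y) (y := ⟨s, hs⟩ * y * ⟨s, hs⟩⁻¹)).2
      (hsT y (mem_top.2 ⟨y.2, hw⟩))).symm
  have hsU : s ∈ preimageAlong θ (T' ⊔ centralizerIn S' T') := (mem_preimageAlong θ).2 ⟨hs, Subgroup.mem_sup_right hsc⟩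
  have hTU : top θ T' ≤ preimageAlong θ (T' ⊔ centralizerIn S' T') := Subgroup.map_mono (Subgroup.comap_mono le_sup_left)
  obtain ⟨s₁, hs₁⟩ : ∃ s₁, b ⟨s, hsU⟩ = s₁ := ⟨_, rfl⟩
  have hs₁S : s₁ ∈ S := hs₁ ▸ val_mem hb _
  have hts : s⁻¹ * s₁ ∈ top θ T' := by
    refine mem_top.2 ⟨mul_mem (inv_mem hs) hs₁S, ?_⟩
    have h := (hβc ⟨_, h3 ⟨s, hsU⟩⟩ hsc).1
    rw [show ((β' ⟨θ ⟨s, h1 hsU⟩, h3 ⟨s, hsU⟩⟩ : _) : Ω') = θ ⟨b ⟨s, hsU⟩, h2 _⟩ from hbi' ⟨s, hsU⟩,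
      ← map_inv, ← map_mul] at h
    exact (congrArg (· ∈ T') (congrArg θ (Subtype.ext (congrArg (s⁻¹ * ·) hs₁.symm)))).mpr h
  refine ⟨s⁻¹ * s₁, hts, fun y hy => ?_⟩
  rw [mul_inv_cancel_left]
  obtain ⟨z, hz⟩ : ∃ z, (y : Ω)⁻¹ * (s * y * s⁻¹) = z := ⟨_, rfl⟩
  have hzZ : z ∈ Z := hz ▸ hsT y y.2
  have hzT : z ∈ top θ T' := le_top d hzZ
  have haz : ∀ (w : Ω) (hw : w ∈ top θ T'), w ∈ Z → (a ⟨w, hw⟩ : Ω) = w := fun w hw hwZ =>
    fix d haF ⟨w, hw⟩ hwZ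
  have e1 : (⟨s * y * s⁻¹, hy⟩ : top θ T') = y * ⟨z, hzT⟩ := Subtype.ext (by simp [← hz])
  rw [e1, map_mul, Subgroup.coe_mul, haz z hzT hzZ]
  -- `b` on `top θ T'` agrees with `a` modulo `Z`
  obtain ⟨z₁, hz₁⟩ : ∃ z₁, (a y : Ω)⁻¹ * b ⟨y, hTU y.2⟩ = z₁ := ⟨_, rfl⟩
  have hz₁Z : z₁ ∈ Z := by
    rw [← hz₁]
    refine (theta_eq d (x := ⟨(a y : Ω), top_le (a y).2⟩) (y := ⟨_, h2 _⟩)).1 ?_
    have k1 : θ ⟨(a y : Ω), top_le (a y).2⟩ = (α ⟨θ ⟨y, top_le y.2⟩, (mem_top.1 y.2).2⟩ : Ω') :=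
      ((hαx _).trans (hi' y)).symm
    rw [k1, ← hbi' ⟨y, hTU y.2⟩]
    exact (hβα _).symm
  have e2 : b (⟨y, hTU y.2⟩ * ⟨z, hTU hzT⟩) =
      s₁ * b ⟨y, hTU y.2⟩ * s₁⁻¹ := by
    rw [← hs₁, ← map_inv, ← map_mul, ← map_mul]
    exact congrArg b (Subtype.ext (by simp [← hz]))
  rw [map_mul, fix d hb ⟨z, hTU hzT⟩ hzZ] at e2
  have e3 : b ⟨y, hTU y.2⟩ = (a y : Ω) * z₁ := by rw [← hz₁, mul_inv_cancel_left]
  have c1 : s₁ * z₁ = z₁ * s₁ := comm d hz₁Z hs₁S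
  have c2 : z * z₁ = z₁ * z := comm d hz₁Z (d.central.1 hzZ)
  rw [e3] at e2
  calc (a y : Ω) * z = (a y : Ω) * z₁ * z * z₁⁻¹ := by
        rw [mul_assoc (a y : Ω), ← c2]; group
    _ = s₁ * ((a y : Ω) * z₁) * s₁⁻¹ * z₁⁻¹ := by rw [e2]
    _ = s₁ * (a y : Ω) * (z₁ * s₁⁻¹) * z₁⁻¹ := by group
    _ = s₁ * (a y : Ω) * s₁⁻¹ := by
        rw [show z₁ * s₁⁻¹ = s₁⁻¹ * z₁ from by
          rw [eq_inv_mul_iff_mul_eq, ← mul_assoc, c1, mul_inv_cancel_right]]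
        group

end Cfsg.Agent.Lib.Fusion.CentralLift
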