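/-
Automorphism groups of the lift of a normal subsystem through a central quotient: the part
generated by the automorphisms of order prime to `p` and by those induced inside the preimage, and
its intersection with the automorphisms induced by `S`.
-/
import Cfsg.Agent.Lib.Fusion.CentralLiftBase
import Cfsg.Agent.Lib.Fusion.SatCriterion
import Cfsg.Agent.Lib.Fusion.LeastNormal
import Cfsg.Agent.Lib.Fusion.ConstrainedSub
import Mathlib.GroupTheory.Focal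

set_option autoImplicit false

namespace Cfsg.Agent.Lib.Fusion.CentralLift

open Cfsg Cfsg.FusionSystem
open scoped commutatorElement IsMulCommutative
open Cfsg.Agent.Lib.FusionFactor (mem_preimageAlong mem_imageAlong preimageAlong_le exists_preimage)

/-! ### Group theory -/

theorem mem_of_parts {H : Type*} [Group H] [Finite H] {p : ℕ} [Fact p.Prime] {a : H}
    (K : Subgroup H) (h1 : ∀ n : ℕ, (orderOf (a ^ n)).Coprime p → a ^ n ∈ K)
    (h2 : ∀ n : ℕ, (∃ k, (a ^ n) ^ p ^ k = 1) → a ^ n ∈ K) : a ∈ K := by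
  have hp : p.Prime := Fact.out
  obtain ⟨i, m, hm, he⟩ := Nat.exists_eq_pow_mul_and_not_dvd (orderOf_pos a).ne' p hp.ne_one
  have hco : m.Coprime p := ((Nat.Prime.coprime_iff_not_dvd hp).2 hm).symm
  have hA : a ^ p ^ i ∈ K := h1 _ (Nat.Coprime.coprime_dvd_left (orderOf_dvd_of_pow_eq_one
    (by rw [← pow_mul, ← he, pow_orderOf_eq_one])) hco)
  have hB : a ^ m ∈ K := h2 _ ⟨i, by rw [← pow_mul, mul_comm, ← he, pow_orderOf_eq_one]⟩
  have hco' : Nat.Coprime m (p ^ i) := Nat.Coprime.pow_right i hco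
  have h3 := Nat.gcd_eq_gcd_ab m (p ^ i)
  rw [hco'.gcd_eq_one] at h3
  have h4 : a = (a ^ m) ^ m.gcdA (p ^ i) * (a ^ p ^ i) ^ m.gcdB (p ^ i) := by
    rw [← zpow_natCast, ← zpow_natCast, ← zpow_mul, ← zpow_mul, ← zpow_add, ← h3, Nat.cast_one,
      zpow_one]
  rw [h4]
  exact mul_mem (Subgroup.zpow_mem _ hB _) (Subgroup.zpow_mem _ hA _)

/-- A subgroup generated by elements of order prime to `p` and conjugates of elements of `W` meets
the Sylow subgroup inside `W`, provided `W` contains the focal subgroup. -/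
theorem inf_closure_le {H : Type*} [Group H] [Finite H] {p : ℕ} [Fact p.Prime] (P : Sylow p H)
    {W : Subgroup H} (hWP : W ≤ P)
    (hfoc : ∀ x ∈ (P : Subgroup H), ∀ u : H, u * x * u⁻¹ ∈ (P : Subgroup H) →
      x⁻¹ * (u * x * u⁻¹) ∈ W)
    {X : Set H} (hX : ∀ a ∈ X, (orderOf a).Coprime p ∨ ∃ u, u * a * u⁻¹ ∈ W) :
    Subgroup.closure X ⊓ (P : Subgroup H) ≤ W := by
  set P₀ : Subgroup H := (P : Subgroup H) with hP₀
  have hfocW : P₀.focalSubgroup ≤ W := by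
    rw [Subgroup.focalSubgroup_def, Subgroup.closure_le]
    rintro g ⟨hg, x, hx, u, rfl⟩
    have h1 : u * x⁻¹ * u⁻¹ ∈ P₀ := by
      have := P₀.mul_mem (P₀.inv_mem hx) hg
      rwa [commutatorElement_def, show x⁻¹ * (x * u * x⁻¹ * u⁻¹) = u * x⁻¹ * u⁻¹ by group] at this
    have h2 := hfoc _ (P₀.inv_mem hx) u h1
    rwa [show x⁻¹⁻¹ * (u * x⁻¹ * u⁻¹) = ⁅x, u⁆ by rw [commutatorElement_def]; group] at h2
  set τ := P₀.transferFocal with hτ
  set W' := (W.subgroupOf P₀).map (QuotientGroup.mk' P₀.focalSubgroupOf) with hW'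
  have hq : IsPGroup p (P₀ ⧸ P₀.focalSubgroupOf) := P.2.to_quotient _
  have hker : Subgroup.closure X ≤ W'.comap τ := by
    rw [Subgroup.closure_le]
    intro a ha
    show τ a ∈ W'
    rcases hX a ha with hco | ⟨u, hu⟩
    · obtain ⟨k, hk⟩ := hq (τ a)
      have h1 : orderOf (τ a) = 1 := Nat.eq_one_of_dvd_coprimes (hco.pow_right k)
        (orderOf_map_dvd τ a) (orderOf_dvd_of_pow_eq_one hk)
      rw [orderOf_eq_one_iff.1 h1]
      exact one_mem _
    · have h1 : τ a = τ (u * a * u⁻¹) := by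
        rw [map_mul, map_mul, map_inv, mul_comm (τ u), mul_inv_cancel_right]
      rw [h1, hτ]
      have h2 := P₀.transferFocal_eq_pow ⟨u * a * u⁻¹, hWP hu⟩
      rw [h2]
      have h3 : QuotientGroup.mk' P₀.focalSubgroupOf ⟨u * a * u⁻¹, hWP hu⟩ ∈ W' :=
        Subgroup.mem_map_of_mem _ hu
      exact pow_mem h3 _
  rintro x ⟨hxc, hxP⟩
  have h1 : τ x ∈ W' := hker hxc
  rw [hτ, P₀.transferFocal_eq_pow ⟨x, hxP⟩] at h1
  obtain ⟨k, hk⟩ := hq ((⟨x, hxP⟩ : P₀) : P₀ ⧸ P₀.focalSubgroupOf)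
  have hn : P₀.index.Coprime (orderOf ((⟨x, hxP⟩ : P₀) : P₀ ⧸ P₀.focalSubgroupOf)) :=
    (((Nat.Prime.coprime_iff_not_dvd Fact.out).2 P.not_dvd_index).pow_left k).symm
      |>.coprime_dvd_right (orderOf_dvd_of_pow_eq_one hk)
  obtain ⟨m, hm⟩ := exists_pow_eq_self_of_coprime hn
  have h2 := pow_mem h1 m
  rw [hm] at h2
  obtain ⟨w, hw, hwx⟩ := Subgroup.mem_map.1 h2
  have h3 : w⁻¹ * ⟨x, hxP⟩ ∈ P₀.focalSubgroupOf := QuotientGroup.eq.1 hwx
  have h4 := W.mul_mem hw (hfocW h3)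
  simpa using h4

/-! ### The setting -/

variable {Ω : Type*} [Group Ω] {S Z : Subgroup Ω} {F : FusionSystem S} {p : ℕ}
  {Ω' : Type*} [Group Ω'] {S' T' : Subgroup Ω'} {θ : S →* Ω'} {Fb : FusionSystem S'}
  {E : FusionSystem T'}

/-- Trivial action modulo `Z`. -/
def KMod (Z : Subgroup Ω) {Q : Subgroup Ω} (a : MulAut Q) : Prop :=
  ∀ x : Q, (x : Ω)⁻¹ * (a x : Ω) ∈ Z

/-- Conjugate under a map of `F` to an automorphism induced by an element of `T`. -/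
def Adm (F : FusionSystem S) (T : Subgroup Ω) {Q : Subgroup Ω} (a : MulAut Q) : Prop :=
  ∃ η ∈ F.Hom Q, ∃ t ∈ T, ∀ x : Q, η (a x) = t * η x * t⁻¹

theorem congr_apply_apply {P Q : Subgroup Ω} (e : P ≃* Q) (a : MulAut P) (x : P) :
    MulAut.congr e a (e x) = e (a x) := by
  show e (a (e.symm (e x))) = _
  rw [e.symm_apply_apply]

theorem congr_autHom {Q : Subgroup Ω} (b a : MulAut Q) (hinj : Function.Injective (autHom b)) :
    MulAut.congr (isoOnto (autHom b) hinj (range_autHom b)) a = b * a * b⁻¹ := by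
  refine MulEquiv.ext fun y => ?_
  obtain ⟨x, rfl⟩ := (isoOnto (autHom b) hinj (range_autHom b)).surjective y
  rw [congr_apply_apply]
  refine Subtype.ext ?_
  show (b (a x) : Ω) = (b (a (b⁻¹ (b x))) : Ω)
  rw [MulAut.inv_apply_self]

theorem Adm.restrict {T Q R : Subgroup Ω} (hQR : Q ≤ R) {a : MulAut Q} {b : MulAut R}
    (hab : ∀ x : Q, (b ⟨x, hQR x.2⟩ : Ω) = a x) (h : Adm F T b) : Adm F T a := by
  obtain ⟨η, hη, t, ht, hx⟩ := h
  refine ⟨_, restrict_mem hη hQR, t, ht, fun x => ?_⟩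
  refine Eq.trans ?_ (hx ⟨x, hQR x.2⟩)
  exact congrArg η (Subtype.ext (hab x).symm)

theorem adm_of_mem_autInducedBy {T Q : Subgroup Ω} (hQ : Q ≤ S) {a : MulAut Q}
    (ha : a ∈ autInducedBy T Q) : Adm F T a := by
  obtain ⟨t, ht, hx⟩ := mem_autInducedBy.1 ha
  exact ⟨_, subtype_mem hQ, t, ht, hx⟩

theorem Adm.pow_eq_one {T Q : Subgroup Ω} (hT : IsPGroup p T) {a : MulAut Q} (h : Adm F T a) :
    ∃ k, a ^ p ^ k = 1 := by
  obtain ⟨η, hη, t, ht, hx⟩ := h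
  obtain ⟨k, hk⟩ := hT ⟨t, ht⟩
  refine ⟨k, MulEquiv.ext fun x => F.injective_of_mem hη ?_⟩
  have hit : ∀ i : ℕ, η ((a ^ i) x) = t ^ i * η x * (t ^ i)⁻¹ := by
    intro i
    induction i with
    | zero => simp
    | succ i ih => rw [pow_succ', MulAut.mul_apply, hx, ih, pow_succ']; group
  rw [hit, show t ^ p ^ k = 1 from congrArg Subtype.val hk]
  simp

theorem TCen.mono {T : Subgroup Ω} {G : FusionSystem T} {P M : Subgroup Ω} (hP : TCen G Z P)
    (hPM : P ≤ M) (hM : M ≤ T) : TCen G Z M := by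
  refine ⟨hP.1.trans hPM, hM, fun φ hφ t ht hc => ?_⟩
  have hle : (φ.comp (Subgroup.inclusion hPM)).range ≤ φ.range := by rintro _ ⟨x, rfl⟩; exact ⟨_, rfl⟩
  exact hle (hP.2.2 _ (restrict_mem hφ hPM) t ht fun y hy => hc y (hle hy))

variable (d : Data p F Z θ Fb E)
include d

theorem tCen_top [Finite S] : TCen (liftSystem d) Z (top θ T') :=
  ⟨le_top d, le_rfl, fun φ hφ t ht _ => by
    haveI := finite_top d
    rw [range_eq_self hφ (val_mem hφ)]
    exact ht⟩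

theorem isPGroup_Z : IsPGroup p Z := d.isPGroup.to_le d.central.1

/-- The automorphisms trivial modulo `Z`. -/
def kGroup (_ : Data p F Z θ Fb E) (Q : Subgroup Ω) (hQ : Q ≤ S) : Subgroup (MulAut Q) where
  carrier := {a | a ∈ F.autGroup Q ∧ KMod Z a}
  one_mem' := ⟨one_mem _, fun x => by simp⟩
  mul_mem' := by
    rintro a b ⟨ha, ha'⟩ ⟨hb, hb'⟩
    refine ⟨mul_mem ha hb, fun x => ?_⟩
    have := Z.mul_mem (hb' x) (ha' (b x))
    rwa [mul_assoc, mul_inv_cancel_left] at this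
  inv_mem' := by
    rintro a ⟨ha, ha'⟩
    refine ⟨inv_mem ha, fun x => ?_⟩
    have := Z.inv_mem (ha' (a⁻¹ x))
    rwa [MulAut.apply_inv_self, mul_inv_rev, inv_inv] at this

theorem kMod_congr {P Q : Subgroup Ω} {φ : P →* Ω} (hφ : φ ∈ F.Hom P) (hr : φ.range = Q)
    {a : MulAut P} (ha : KMod Z a) :
    KMod Z (MulAut.congr (isoOnto φ (F.injective_of_mem hφ) hr) a) := by
  intro y
  obtain ⟨x, rfl⟩ := (isoOnto φ (F.injective_of_mem hφ) hr).surjective y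
  rw [congr_apply_apply]
  show (φ x)⁻¹ * φ (a x) ∈ Z
  have h := fix d hφ (x⁻¹ * a x) (ha x)
  rw [map_mul, map_inv] at h
  rw [h]
  exact ha x

theorem conj_mem_kGroup {Q : Subgroup Ω} (hQ : Q ≤ S) {b a : MulAut Q} (hb : b ∈ F.autGroup Q)
    (ha : a ∈ kGroup d Q hQ) : b * a * b⁻¹ ∈ kGroup d Q hQ := by
  refine ⟨mul_mem (mul_mem hb ha.1) (inv_mem hb), ?_⟩
  rw [← congr_autHom b a (F.injective_of_mem (autGroup_hom_mem hQ hb))]
  exact kMod_congr d (autGroup_hom_mem hQ hb) (range_autHom b) ha.2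

theorem kGroup_commute {Q : Subgroup Ω} (hQ : Q ≤ S) {a b : MulAut Q} (ha : a ∈ kGroup d Q hQ)
    (hb : b ∈ kGroup d Q hQ) : a * b = b * a := by
  refine MulEquiv.ext fun x => Subtype.ext ?_
  have key : ∀ c e : MulAut Q, c ∈ kGroup d Q hQ → e ∈ kGroup d Q hQ →
      (c (e x) : Ω) = (c x : Ω) * ((x : Ω)⁻¹ * e x) := fun c e hc he => by
    have h := fix d (autGroup_hom_mem hQ hc.1) (x⁻¹ * e x) (he.2 x)
    rw [map_mul, map_inv] at h
    rw [show ((x : Ω)⁻¹ * e x) = (c x : Ω)⁻¹ * c (e x) from h.symm, mul_inv_cancel_left]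
  show (a (b x) : Ω) = (b (a x) : Ω)
  rw [key a b ha hb, key b a hb ha]
  obtain ⟨za, hza, hax⟩ : ∃ z ∈ Z, (x : Ω)⁻¹ * a x = z := ⟨_, ha.2 x, rfl⟩
  obtain ⟨zb, hzb, hbx⟩ : ∃ z ∈ Z, (x : Ω)⁻¹ * b x = z := ⟨_, hb.2 x, rfl⟩
  rw [hax, hbx, inv_mul_eq_iff_eq_mul.1 hax, inv_mul_eq_iff_eq_mul.1 hbx, mul_assoc, mul_assoc,
    comm d hzb (d.central.1 hza)]

theorem isPGroup_kGroup [Finite S] [Fact p.Prime] {Q : Subgroup Ω} (hQ : Q ≤ S) :
    IsPGroup p (kGroup d Q hQ) := by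
  haveI : Finite Z := finite_of_le d.central.1
  obtain ⟨n, hn⟩ := IsPGroup.iff_card.1 (isPGroup_Z d)
  rintro ⟨a, ha⟩
  refine ⟨n, Subtype.ext (MulEquiv.ext fun x => ?_)⟩
  obtain ⟨z, hz⟩ : ∃ z : Q, x⁻¹ * a x = z := ⟨_, rfl⟩
  have hzZ : (z : Ω) ∈ Z := hz ▸ ha.2 x
  have haz : a z = z := Subtype.ext (fix d (autGroup_hom_mem hQ ha.1) z hzZ)
  have hit : ∀ i : ℕ, (a ^ i) x = x * z ^ i := by
    intro i
    induction i with
    | zero => simp
    | succ i ih => rw [pow_succ', MulAut.mul_apply, ih, map_mul, map_pow, haz,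
        inv_mul_eq_iff_eq_mul.1 hz, mul_assoc, pow_succ']
  show (a ^ p ^ n) x = x
  rw [hit, ← hn]
  have h1 : (z : Ω) ^ Nat.card Z = 1 :=
    congrArg Subtype.val (pow_card_eq_one' (x := (⟨z, hzZ⟩ : Z)))
  rw [show z ^ Nat.card Z = 1 from Subtype.ext h1, mul_one]

theorem kGroup_le_autInducedBy [Finite S] [Fact p.Prime] {Q : Subgroup Ω}
    (hQ : F.IsFullyNormalized Q) : kGroup d Q hQ.1 ≤ autInducedBy S Q := by
  haveI := finite_mulAut hQ.1
  obtain ⟨-, hsyl⟩ := isFullyAutomized_iff.1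
    (isFullyAutomized_of_isFullyNormalized d.isPGroup d.saturated hQ)
  have h := isSylowIn_inf_of_normalized hsyl (fun a ha => ha.1 : kGroup d Q hQ.1 ≤ F.autGroup Q)
    fun b hb a ha => conj_mem_kGroup d hQ.1 hb ha
  have h2 := h.eq_of_le (isPGroup_kGroup d hQ.1) le_rfl inf_le_right
  exact h2.ge.trans inf_le_left

theorem kGroup_le_lift {Q : Subgroup Ω} (hQ : Q ≤ top θ T') :
    kGroup d Q (hQ.trans top_le) ≤ (liftSystem d).autGroup Q := fun a ha =>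
  (mem_autGroup hQ).2 (mem_lift_of_modZ d (autGroup_hom_mem (hQ.trans top_le) ha.1)
    (subtype_mem hQ) ha.2)

variable [Finite S] [Fact p.Prime]

/-- The automorphisms of the lift are carried along every map of `F`. -/
theorem congr_mem_lift {P Q : Subgroup Ω} (hPT : P ≤ top θ T') {φ : P →* Ω} (hφ : φ ∈ F.Hom P)
    (hr : φ.range = Q) {a : MulAut P} (ha : a ∈ (liftSystem d).autGroup P) :
    MulAut.congr (isoOnto φ (F.injective_of_mem hφ) hr) a ∈ (liftSystem d).autGroup Q := by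
  have hPS := hPT.trans top_le
  set e := isoOnto φ (F.injective_of_mem hφ) hr with he
  have hQT : Q ≤ top θ T' := by
    rw [← hr]; rintro _ ⟨x, rfl⟩; exact (stronglyClosed_top d).2 P hPT φ hφ x
  have hQS := hQT.trans top_le
  obtain ⟨haF, -, -, a', ha', hai⟩ := autGroup_hom_mem hPT ha
  have hai' := (induced_iff hPS (val_mem haF)).1 hai
  have hc : MulAut.congr e a ∈ F.autGroup Q := congr_mem_autGroup e (mem_congr hφ fun _ => rfl)
    (autGroup_mono (liftSystem_le d) P ha)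
  have hcF := autGroup_hom_mem hQS hc
  obtain ⟨φ', hφ', hφx⟩ := exists_bar d hφ
  haveI : Finite S' := d.factor.2.2.1 ▸ Finite.of_surjective θ.rangeRestrict θ.rangeRestrict_surjective
  have hstr := stronglyInvariant_of_isWeaklyNormalIn
    (isPGroup_of_isFactorSystem d.isPGroup d.factor) d.normal.1
  have hval : ∀ y : imageAlong θ P, a' y ∈ imageAlong θ P := by
    rintro ⟨_, x, hx, rfl⟩
    exact (congrArg (· ∈ imageAlong θ P) (hai' ⟨x, hx⟩)).mpr (theta_mem_image (a ⟨x, hx⟩).2 _)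
  obtain ⟨χ, hχ, hχx⟩ := hstr (imageAlong θ P) (imageAlong θ P) le_rfl (image_le_of_le hPT) a' ha'
    hval φ' hφ'
  have hle : imageAlong θ Q ≤ imgSub φ' (imageAlong θ P) := by
    rintro _ ⟨y, hy, rfl⟩
    obtain ⟨x, hx⟩ := hr.ge hy
    refine mem_imgSub.2 ⟨⟨θ ⟨x, hPS x.2⟩, theta_mem_image x.2 _⟩, theta_mem_image x.2 _, ?_⟩
    exact (hφx x).trans (congrArg θ (Subtype.ext hx))
  refine (mem_autGroup hQT).2 ⟨hcF, hQT, fun y => hQT (SetLike.coe_mem _), _, restrict_mem hχ hle,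
    (induced_iff hQS (val_mem hcF)).2 fun y => ?_⟩
  obtain ⟨x, rfl⟩ := e.surjective y
  have hx' : θ ⟨e x, hQS (e x).2⟩ = φ' ⟨θ ⟨x, hPS x.2⟩, theta_mem_image x.2 _⟩ := (hφx x).symm
  have hm : φ' (Subgroup.inclusion le_rfl (⟨θ ⟨x, hPS x.2⟩, theta_mem_image x.2 _⟩ :
      imageAlong θ P)) ∈ imgSub φ' (imageAlong θ P) :=
    apply_mem_imgSub φ' _ (theta_mem_image x.2 _)
  refine Eq.trans ?_ ((hχx ⟨θ ⟨x, hPS x.2⟩, theta_mem_image x.2 _⟩ hm).trans ?_)
  · exact congrArg χ (Subtype.ext hx')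
  · have e1 : (⟨a' ⟨θ ⟨x, hPS x.2⟩, theta_mem_image x.2 _⟩, hval _⟩ : imageAlong θ P) =
        ⟨θ ⟨(a x : Ω), hPS (a x).2⟩, theta_mem_image (a x).2 _⟩ := Subtype.ext (hai' x)
    rw [e1]
    refine (hφx (a x)).trans (congrArg θ (Subtype.ext ?_))
    show φ (a x) = (MulAut.congr e a (e x) : Ω)
    rw [congr_apply_apply]
    rfl

theorem conj_mem_lift {Q : Subgroup Ω} (hQ : Q ≤ top θ T') {b a : MulAut Q} (hb : b ∈ F.autGroup Q)
    (ha : a ∈ (liftSystem d).autGroup Q) : b * a * b⁻¹ ∈ (liftSystem d).autGroup Q := by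
  have hbF := autGroup_hom_mem (hQ.trans top_le) hb
  rw [← congr_autHom b a (F.injective_of_mem hbF)]
  exact congr_mem_lift d hQ hbF (range_autHom b) ha

theorem TCen.image_hom {P : Subgroup Ω} (hP : TCen (liftSystem d) Z P) {φ : P →* Ω}
    (hφ : φ ∈ F.Hom P) : TCen (liftSystem d) Z φ.range := by
  have hφT : ∀ x, φ x ∈ top θ T' := (stronglyClosed_top d).2 P hP.2.1 φ hφ
  refine ⟨fun z hz => ⟨⟨z, hP.1 hz⟩, fix d hφ ⟨z, hP.1 hz⟩ hz⟩, by rintro _ ⟨x, rfl⟩; exact hφT x,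
    fun ψ hψ t ht hc => ?_⟩
  obtain ⟨ω, hω, hωx⟩ := exists_comp hφ hψ.1 fun x => ⟨x, rfl⟩
  obtain ⟨α, hα, ω₀, hω₀, hdec⟩ := frattini d hP.2.1 hω
  have hαF := autGroup_hom_mem top_le hα
  obtain ⟨u, hu⟩ : ∃ u, α u = ⟨t, ht⟩ := ⟨α.symm ⟨t, ht⟩, α.apply_symm_apply _⟩
  have hfix : ∀ (w : top θ T'), (α w : Ω) ∈ Z → (w : Ω) ∈ Z := fun w hw => by
    have h := fix d hαF ⟨(α w : Ω), (α w).2⟩ hw
    have : α w = w := α.injective (Subtype.ext h)
    rwa [this] at hw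
  obtain ⟨x, hx⟩ := hP.2.2 ω₀ hω₀ u u.2 (by
    rintro _ ⟨x, rfl⟩
    refine hfix (u * ⟨ω₀ x, val_mem hω₀ x⟩ * u⁻¹ * ⟨ω₀ x, val_mem hω₀ x⟩⁻¹) ?_
    simp only [map_mul, map_inv, Subgroup.coe_mul, Subgroup.coe_inv, hu]
    rw [← hdec]
    exact hc (ω x) ⟨_, (hωx x).symm⟩)
  refine ⟨⟨φ x, x, rfl⟩, ?_⟩
  rw [← hωx, hdec, show (⟨ω₀ x, val_mem hω₀ x⟩ : top θ T') = u from Subtype.ext hx, hu]

/-- Automorphisms of the lift, on the image. -/
theorem exists_barHom {Q : Subgroup Ω} (hZ : Z ≤ Q) (hQ : Q ≤ top θ T') :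
    ∃ f : (liftSystem d).autGroup Q →* MulAut (imageAlong θ Q),
      (∀ a (x : Q), (f a ⟨θ ⟨x, top_le (hQ x.2)⟩, theta_mem_image x.2 _⟩ : Ω') =
        θ ⟨((a : MulAut Q) x : Ω), top_le (hQ ((a : MulAut Q) x).2)⟩) ∧
      f.range = E.autGroup (imageAlong θ Q) := by
  have hQS := hQ.trans top_le
  haveI : Finite S' := d.factor.2.2.1 ▸ Finite.of_surjective θ.rangeRestrict θ.rangeRestrict_surjective
  have hT'S := d.normal.1.2.2.2.1.1
  haveI : Finite (imageAlong θ Q) := finite_of_le ((image_le_of_le hQ).trans hT'S)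
  haveI : Finite Q := finite_of_le hQS
  have hex : ∀ a : (liftSystem d).autGroup Q, ∃ β ∈ E.autGroup (imageAlong θ Q), ∀ x : Q,
      (β ⟨θ ⟨x, hQS x.2⟩, theta_mem_image x.2 _⟩ : Ω') =
        θ ⟨((a : MulAut Q) x : Ω), hQS ((a : MulAut Q) x).2⟩ := by
    rintro ⟨a, ha⟩
    obtain ⟨haF, -, -, a', ha', hai⟩ := autGroup_hom_mem hQ ha
    have hai' := (induced_iff hQS (val_mem haF)).1 hai
    obtain ⟨β, hβ, hβx⟩ := exists_aut_of_hom ha' (by
      rintro ⟨_, x, hx, rfl⟩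
      exact (congrArg (· ∈ imageAlong θ Q) (hai' ⟨x, hx⟩)).mpr (theta_mem_image (a ⟨x, hx⟩).2 _))
    exact ⟨β, hβ, fun x => (hβx _).trans (hai' x)⟩
  choose g hgm hgx using hex
  refine ⟨MonoidHom.mk' g fun a b => ?_, hgx, le_antisymm ?_ fun β hβ => ?_⟩
  · refine MulEquiv.ext ?_
    rintro ⟨_, x, hx, rfl⟩
    refine Subtype.ext ?_
    refine (hgx (a * b) ⟨x, hx⟩).trans ?_
    rw [MulAut.mul_apply]
    have e : g b ⟨θ x, theta_mem_image (P := Q) hx x.2⟩ =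
        ⟨θ ⟨_, hQS ((b : MulAut Q) ⟨x, hx⟩).2⟩, theta_mem_image ((b : MulAut Q) ⟨x, hx⟩).2 _⟩ :=
      Subtype.ext (hgx b ⟨x, hx⟩)
    rw [e]
    exact (hgx a _).symm
  · rintro _ ⟨a, rfl⟩
    exact hgm a
  · obtain ⟨φ, hφ, hφx⟩ := exists_lift d hZ hQ (autGroup_hom_mem (image_le_of_le hQ) hβ)
    obtain ⟨a, ha, hax⟩ := exists_aut_of_hom hφ fun x => (preimage_image d hZ hQS).le
      ((mem_preimageAlong θ).2 ⟨top_le (val_mem hφ x), (hφx x) ▸ SetLike.coe_mem _⟩)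
    refine ⟨⟨a, ha⟩, MulEquiv.ext ?_⟩
    rintro ⟨_, x, hx, rfl⟩
    refine Subtype.ext ((hgx ⟨a, ha⟩ ⟨x, hx⟩).trans ?_)
    exact (congrArg θ (Subtype.ext (hax ⟨x, hx⟩))).trans (hφx ⟨x, hx⟩).symm

/-- The automorphisms generated by those of order prime to `p` and those induced from `T`. -/
def A0 (Q : Subgroup Ω) : Subgroup (MulAut Q) :=
  Subgroup.closure {a | a ∈ (liftSystem d).autGroup Q ∧
    ((orderOf a).Coprime p ∨ Adm F (top θ T') a)}

theorem A0_le (Q : Subgroup Ω) : A0 d Q ≤ (liftSystem d).autGroup Q :=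
  (Subgroup.closure_le _).2 fun _ h => h.1

theorem mem_A0_of_adm {Q : Subgroup Ω} {a : MulAut Q} (ha : a ∈ (liftSystem d).autGroup Q)
    (h : Adm F (top θ T') a) : a ∈ A0 d Q := Subgroup.subset_closure ⟨ha, Or.inr h⟩

theorem autT_le_A0 {Q : Subgroup Ω} (hQ : Q ≤ top θ T') :
    autInducedBy (top θ T') Q ≤ A0 d Q := fun _ ha =>
  mem_A0_of_adm d (autInducedBy_le_autGroup hQ ha) (adm_of_mem_autInducedBy (hQ.trans top_le) ha)

omit [Finite S] [Fact p.Prime] in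
theorem Adm.congr_map {P Q : Subgroup Ω} {φ : P →* Ω} (hφ : φ ∈ F.Hom P) (hr : φ.range = Q)
    {T : Subgroup Ω} {a : MulAut P} (h : Adm F T a) :
    Adm F T (MulAut.congr (isoOnto φ (F.injective_of_mem hφ) hr) a) := by
  obtain ⟨η, hη, t, ht, hx⟩ := h
  obtain ⟨τ, hτ, hτr, hτx, -⟩ := exists_inverse hφ hr
  obtain ⟨μ, hμ, hμx⟩ := exists_comp hτ hη fun y => hτr.le ⟨y, rfl⟩
  set e := isoOnto φ (F.injective_of_mem hφ) hr with he
  have hμe : ∀ x, μ (e x) = η x := fun x =>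
    (hμx _).trans (congrArg η (Subtype.ext (hτx x (e x).2)))
  refine ⟨μ, hμ, t, ht, fun y => ?_⟩
  obtain ⟨x, rfl⟩ := e.surjective y
  rw [congr_apply_apply, hμe, hμe, hx]

theorem congr_mem_A0 {P Q : Subgroup Ω} (hPT : P ≤ top θ T') {φ : P →* Ω} (hφ : φ ∈ F.Hom P)
    (hr : φ.range = Q) {a : MulAut P} (ha : a ∈ A0 d P) :
    MulAut.congr (isoOnto φ (F.injective_of_mem hφ) hr) a ∈ A0 d Q := by
  set f := (MulAut.congr (isoOnto φ (F.injective_of_mem hφ) hr)).toMonoidHom with hf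
  refine ((Subgroup.closure_le ((A0 d Q).comap f)).2 ?_) ha
  rintro b ⟨hb, hb'⟩
  refine Subgroup.subset_closure ⟨congr_mem_lift d hPT hφ hr hb, hb'.imp (fun hco => ?_)
    fun h => h.congr_map d hφ hr⟩
  exact Nat.Coprime.coprime_dvd_left (orderOf_map_dvd f b) hco

theorem conj_mem_A0 {Q : Subgroup Ω} (hQ : Q ≤ top θ T') {b a : MulAut Q} (hb : b ∈ F.autGroup Q)
    (ha : a ∈ A0 d Q) : b * a * b⁻¹ ∈ A0 d Q := by
  have hbF := autGroup_hom_mem (hQ.trans top_le) hb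
  rw [← congr_autHom b a (F.injective_of_mem hbF)]
  exact congr_mem_A0 d hQ hbF (range_autHom b) ha

/-- An admissible automorphism induced by `S` on a fully normalized subgroup is induced by `T`. -/
theorem mem_autT_of_adm {Q : Subgroup Ω} (hQn : F.IsFullyNormalized Q) {a : MulAut Q}
    (ha : a ∈ autInducedBy S Q) (h : Adm F (top θ T') a) : a ∈ autInducedBy (top θ T') Q := by
  obtain ⟨s, hs, hsx⟩ := mem_autInducedBy.1 ha
  obtain ⟨η, hη, t, ht, hx⟩ := h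
  obtain ⟨τ, hτ, hτr, hτx, -⟩ := exists_inverse hη rfl
  obtain ⟨ψ, hψ, hag⟩ := (isReceptive_of_isFullyNormalized d.isPGroup d.saturated hQn).2 _ τ hτ hτr
  have hn : t ∈ Subgroup.normalizer (η.range : Set Ω) := by
    refine Subgroup.mem_normalizer_iff.2 fun y => ⟨?_, ?_⟩
    · rintro ⟨x, rfl⟩; exact ⟨a x, hx x⟩
    · rintro ⟨x, hxy⟩
      refine ⟨a⁻¹ x, ?_⟩
      have h1 := hx (a⁻¹ x)
      rw [MulAut.apply_inv_self, hxy] at h1
      exact (mul_left_cancel (mul_right_cancel h1)).symm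
  have htE : t ∈ extender S η.range τ := by
    refine mem_extender.2 ⟨top_le ht, hn, s, hs, ?_⟩
    rintro ⟨_, x, rfl⟩ hc
    rw [show (⟨t * η x * t⁻¹, hc⟩ : η.range) = ⟨η (a x), a x, rfl⟩ from Subtype.ext (hx x).symm,
      hτx (a x) ⟨_, rfl⟩, hτx x ⟨_, rfl⟩, hsx]
  refine mem_autInducedBy.2 ⟨ψ ⟨t, htE⟩, stronglyClosed_map (stronglyClosed_top d) hψ _ ht,
    fun x => ?_⟩
  have hxE : ∀ y : Q, η y ∈ extender S η.range τ := fun y => le_extender hτ ⟨y, rfl⟩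
  have h1 : ∀ y : Q, ψ ⟨η y, hxE y⟩ = (y : Ω) := fun y =>
    (hag _ ⟨y, rfl⟩ (hxE y)).trans (hτx y _)
  rw [← h1 (a x), ← h1 x, ← map_inv, ← map_mul, ← map_mul]
  exact congrArg ψ (Subtype.ext (hx x))

theorem conj_mem_autT {Q : Subgroup Ω} {b a : MulAut Q} (hb : b ∈ autInducedBy S Q)
    (ha : a ∈ autInducedBy (top θ T') Q) : b * a * b⁻¹ ∈ autInducedBy (top θ T') Q := by
  obtain ⟨s, hs, hsx⟩ := mem_autInducedBy.1 hb
  obtain ⟨t, ht, htx⟩ := mem_autInducedBy.1 ha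
  have hst : s * t * s⁻¹ ∈ top θ T' :=
    stronglyClosed_map (stronglyClosed_top d) (F.conj_mem le_rfl hs) ⟨t, top_le ht⟩ ht
  refine mem_autInducedBy.2 ⟨_, hst, fun x => ?_⟩
  have h1 := hsx (b⁻¹ x)
  rw [MulAut.apply_inv_self] at h1
  rw [MulAut.mul_apply, MulAut.mul_apply, hsx, htx, h1]
  group

theorem isFullyNormalized_lift {Q : Subgroup Ω} (hQ : Q ≤ top θ T') (hQn : F.IsFullyNormalized Q) :
    (liftSystem d).IsFullyNormalized Q :=
  isFullyNormalized_of_le d.isPGroup d.saturated (stronglyClosed_top d) (liftSystem_le d) hQ hQn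

/-- On a fully normalized subgroup, an automorphism of the lift induced by `S` is induced by `T`
up to one trivial modulo `Z`. -/
theorem exists_autT_mul {Q : Subgroup Ω} (hQ : TCen (liftSystem d) Z Q)
    (hQn : F.IsFullyNormalized Q) {a : MulAut Q}
    (ha : a ∈ (liftSystem d).autGroup Q) (haS : a ∈ autInducedBy S Q) :
    ∃ w ∈ autInducedBy (top θ T') Q, w⁻¹ * a ∈ kGroup d Q hQn.1 := by
  have hQT := hQ.2.1
  haveI : Finite S' := d.factor.2.2.1 ▸ Finite.of_surjective θ.rangeRestrict θ.rangeRestrict_surjective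
  haveI : Finite T' := finite_of_le d.normal.1.2.2.2.1.1
  have hT'p : IsPGroup p T' := (isPGroup_of_isFactorSystem d.isPGroup d.factor).to_le
    d.normal.1.2.2.2.1.1
  haveI := finite_mulAut (S := T') (image_le_of_le hQT : imageAlong θ Q ≤ T')
  haveI := finite_mulAut hQn.1
  obtain ⟨f, hf, hfr⟩ := exists_barHom d hQ.1 hQT
  obtain ⟨-, hsyl⟩ := isFullyAutomized_iff.1 (isFullyAutomized_of_isFullyNormalized hT'p
    d.normal.1.1 (isFullyNormalized_image d hQ.1 hQT (isFullyNormalized_lift d hQT hQn)))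
  set L := ((autInducedBy S Q).subgroupOf ((liftSystem d).autGroup Q)).map f with hL
  have hconj : ∀ (t : Ω) (htT : t ∈ top θ T') (a : (liftSystem d).autGroup Q),
      (∀ x, ((a : MulAut Q) x : Ω) = t * x * t⁻¹) → ∀ x : Q,
      (f a ⟨θ ⟨x, top_le (hQT x.2)⟩, theta_mem_image x.2 _⟩ : Ω') =
        θ ⟨t, top_le htT⟩ * θ ⟨x, top_le (hQT x.2)⟩ * (θ ⟨t, top_le htT⟩)⁻¹ := fun t htT a hax x => by
    rw [hf, ← map_inv, ← map_mul, ← map_mul]
    exact congrArg θ (Subtype.ext (hax x))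
  have hWL : autInducedBy T' (imageAlong θ Q) ≤ L := by
    intro β hβ
    obtain ⟨y, hy, hyn, rfl⟩ := mem_autInducedBy_normalizer.1 hβ
    obtain ⟨t, rfl⟩ := top_le_range d hyn
    have htT : (t : Ω) ∈ top θ T' := mem_top.2 ⟨t.2, hyn⟩
    have htn : (t : Ω) ∈ Subgroup.normalizer (Q : Set Ω) := by
      have key : ∀ (u : S), θ u ∈ Subgroup.normalizer (imageAlong θ Q : Set Ω') →
          ∀ x ∈ Q, (u : Ω) * x * (u : Ω)⁻¹ ∈ Q := fun u hu x hx => by
        refine (preimage_image d hQ.1 hQn.1).le ((mem_preimageAlong θ).2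
          ⟨S.mul_mem (S.mul_mem u.2 (hQn.1 hx)) (S.inv_mem u.2), ?_⟩)
        have h1 := (Subgroup.mem_normalizer_iff.1 hu _).1 (theta_mem_image hx (hQn.1 hx))
        rw [← map_inv, ← map_mul, ← map_mul] at h1
        exact h1
      refine Subgroup.mem_normalizer_iff.2 fun x => ⟨key t hy x, fun hx => ?_⟩
      have h := key t⁻¹ (by rw [map_inv]; exact inv_mem hy) _ hx
      simpa [mul_assoc] using h
    have hc : conjAut Q t htn ∈ autInducedBy (top θ T') Q :=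
      mem_autInducedBy.2 ⟨t, htT, fun x => rfl⟩
    refine ⟨⟨conjAut Q t htn, autInducedBy_le_autGroup hQT hc⟩,
      autInducedBy_mono top_le hc, MulEquiv.ext ?_⟩
    rintro ⟨_, x, hx, rfl⟩
    exact Subtype.ext (hconj t htT _ (fun _ => rfl) ⟨x, hx⟩)
  have hLp : IsPGroup p L := (((isPGroup_autInducedBy d.isPGroup).comap_subtype).map f)
  have hLE : L ≤ E.autGroup (imageAlong θ Q) := (Subgroup.map_le_range _ _).trans hfr.le
  have heq := hsyl.eq_of_le hLp hLE hWL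
  have hfa : f ⟨a, ha⟩ ∈ autInducedBy T' (imageAlong θ Q) := heq.ge ⟨_, haS, rfl⟩
  obtain ⟨w', hw', hwe⟩ := hWL hfa
  obtain ⟨y, hy, hyx⟩ := mem_autInducedBy.1 hfa
  obtain ⟨t, rfl⟩ := top_le_range d hy
  have htT : (t : Ω) ∈ top θ T' := mem_top.2 ⟨t.2, hy⟩
  have key : ∀ x : Q, ((t : Ω) * x * (t : Ω)⁻¹)⁻¹ * a x ∈ Z := fun x => by
    refine (theta_eq d (x := ⟨(t : Ω) * x * (t : Ω)⁻¹, S.mul_mem (S.mul_mem t.2 (hQn.1 x.2))
      (S.inv_mem t.2)⟩) (y := ⟨a x, hQn.1 (a x).2⟩)).1 ?_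
    refine Eq.trans ?_ (hf ⟨a, ha⟩ x)
    rw [hyx, ← map_inv, ← map_mul, ← map_mul]
    rfl
  have htn : (t : Ω) ∈ Subgroup.normalizer (Q : Set Ω) := by
    haveI : Finite Q := finite_of_le hQn.1
    refine Subgroup.mem_normalizer_iff.2 fun x => ?_
    have h1 : ∀ x ∈ Q, (t : Ω) * x * (t : Ω)⁻¹ ∈ Q := fun x hx => by
      have := Q.mul_mem (a ⟨x, hx⟩).2 (Q.inv_mem (hQ.1 (key ⟨x, hx⟩)))
      rwa [mul_inv_rev, inv_inv, mul_inv_cancel_left] at this
    refine ⟨h1 x, fun hx => ?_⟩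
    have hs : Function.Surjective (fun z : Q => (⟨_, h1 z z.2⟩ : Q)) :=
      Finite.surjective_of_injective fun u v huv => Subtype.ext
        (mul_left_cancel (mul_right_cancel (congrArg Subtype.val huv)))
    obtain ⟨z, hz⟩ := hs ⟨_, hx⟩
    rw [← mul_left_cancel (mul_right_cancel (congrArg Subtype.val hz))]
    exact z.2
  have hw : conjAut Q t htn ∈ autInducedBy (top θ T') Q :=
    mem_autInducedBy.2 ⟨t, htT, fun x => rfl⟩
  refine ⟨_, hw, mul_mem (inv_mem (autInducedBy_le_autGroup hQn.1 (autInducedBy_mono top_le hw)))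
    (autGroup_mono (liftSystem_le d) Q ha), fun x => ?_⟩
  set u := (conjAut Q t htn)⁻¹ (a x) with hu
  have hax : (a x : Ω) = (t : Ω) * u * (t : Ω)⁻¹ :=
    congrArg Subtype.val (MulAut.apply_inv_self _ (conjAut Q t htn) (a x)).symm
  have h1 := key x
  rw [hax, show ((t : Ω) * x * (t : Ω)⁻¹)⁻¹ * ((t : Ω) * u * (t : Ω)⁻¹) =
    (t : Ω) * ((x : Ω)⁻¹ * u) * (t : Ω)⁻¹ by group] at h1
  have h2 : (t : Ω) * ((x : Ω)⁻¹ * u) = (t : Ω) * ((x : Ω)⁻¹ * u) * (t : Ω)⁻¹ * t := by group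
  rw [← comm d h1 t.2] at h2
  show (x : Ω)⁻¹ * u ∈ Z
  rw [mul_left_cancel h2]
  exact h1

theorem conj_mem_sup {Q : Subgroup Ω} (hQ : Q ≤ top θ T') {b a : MulAut Q} (hb : b ∈ F.autGroup Q)
    (ha : a ∈ A0 d Q ⊔ kGroup d Q (hQ.trans top_le)) :
    b * a * b⁻¹ ∈ A0 d Q ⊔ kGroup d Q (hQ.trans top_le) := by
  have h := Subgroup.mem_map_of_mem (MulAut.conj b).toMonoidHom ha
  rw [Subgroup.map_sup] at h
  refine SetLike.le_def.1 (sup_le_sup ?_ ?_) h
  · rintro _ ⟨c, hc, rfl⟩; exact conj_mem_A0 d hQ hb hc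
  · rintro _ ⟨c, hc, rfl⟩; exact conj_mem_kGroup d _ hb hc

/-- Every automorphism of the lift is one of `A0` up to one trivial modulo `Z`. -/
theorem lift_le_sup {Q : Subgroup Ω} (hQ : TCen (liftSystem d) Z Q) :
    (liftSystem d).autGroup Q ≤ A0 d Q ⊔ kGroup d Q (hQ.2.1.trans top_le) := by
  intro a ha
  haveI := finite_mulAut (hQ.2.1.trans top_le)
  refine mem_of_parts (p := p) _ (fun n hn => Subgroup.mem_sup_left
    (Subgroup.subset_closure ⟨pow_mem ha n, Or.inl hn⟩)) fun n ⟨k, hk⟩ => ?_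
  obtain ⟨Q₀, ⟨φ, hφ, hr⟩, hQ₀⟩ := exists_isFullyNormalized_conj F (hQ.2.1.trans top_le)
  have hQ₀c : TCen (liftSystem d) Z Q₀ := hr ▸ hQ.image_hom d hφ
  set e := isoOnto φ (F.injective_of_mem hφ) hr
  have hb := congr_mem_lift d hQ.2.1 hφ hr (pow_mem ha n)
  haveI := finite_mulAut hQ₀.1
  obtain ⟨-, hsyl⟩ := isFullyAutomized_iff.1
    (isFullyAutomized_of_isFullyNormalized d.isPGroup d.saturated hQ₀)
  have hsylA := isSylowIn_inf_of_normalized hsyl (autGroup_mono (liftSystem_le d) Q₀)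
    fun c hc h hh => conj_mem_lift d hQ₀c.2.1 hc hh
  obtain ⟨i, -, hi⟩ := (Nat.dvd_prime_pow Fact.out).1 (orderOf_dvd_of_pow_eq_one
    ((map_pow (MulAut.congr e) (a ^ n) (p ^ k)).symm.trans
      ((congrArg (MulAut.congr e) hk).trans (map_one _))))
  obtain ⟨c, hc, hle⟩ := hsylA.exists_conj_le
    (IsPGroup.of_card (n := i) ((Nat.card_zpowers _).trans hi)) (Subgroup.zpowers_le.2 hb)
  obtain ⟨hcS, hcA⟩ := hle ⟨_, Subgroup.mem_zpowers _, rfl⟩
  obtain ⟨w, hw, hwk⟩ := exists_autT_mul d hQ₀c hQ₀ hcA hcS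
  have h1 : c * MulAut.congr e (a ^ n) * c⁻¹ ∈ A0 d Q₀ ⊔ kGroup d Q₀ hQ₀.1 := by
    have := mul_mem (Subgroup.mem_sup_left (T := kGroup d Q₀ hQ₀.1)
      (autT_le_A0 d hQ₀c.2.1 hw)) (Subgroup.mem_sup_right hwk)
    rwa [mul_inv_cancel_left] at this
  have h2 := conj_mem_sup d hQ₀c.2.1 (inv_mem (autGroup_mono (liftSystem_le d) Q₀ hc)) h1
  rw [inv_inv, show c⁻¹ * (c * MulAut.congr e (a ^ n) * c⁻¹) * c = MulAut.congr e (a ^ n) by group]
    at h2
  obtain ⟨τ, hτ, hτr, hτx, -⟩ := exists_inverse hφ hr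
  have h3 := Subgroup.mem_map_of_mem
    (MulAut.congr (isoOnto τ (F.injective_of_mem hτ) hτr)).toMonoidHom h2
  rw [Subgroup.map_sup] at h3
  have hback : MulAut.congr (isoOnto τ (F.injective_of_mem hτ) hτr) (MulAut.congr e (a ^ n)) =
      a ^ n := by
    refine MulEquiv.ext fun x => ?_
    have he : ∀ z, isoOnto τ (F.injective_of_mem hτ) hτr (e z) = z := fun z =>
      Subtype.ext (hτx z (e z).2)
    conv_lhs => rw [← he x]
    rw [congr_apply_apply, congr_apply_apply, he]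
  rw [show (MulAut.congr (isoOnto τ (F.injective_of_mem hτ) hτr)).toMonoidHom _ = a ^ n from hback]
    at h3
  refine SetLike.le_def.1 (sup_le_sup ?_ ?_) h3
  · rintro _ ⟨g, hg, rfl⟩
    exact congr_mem_A0 d hQ₀c.2.1 hτ hτr hg
  · rintro _ ⟨g, hg, rfl⟩
    exact ⟨congr_mem_autGroup _ (mem_congr hτ fun _ => rfl) hg.1, kMod_congr d hτ hτr hg.2⟩

theorem exists_A0_mul {Q : Subgroup Ω} (hQ : TCen (liftSystem d) Z Q) {a : MulAut Q}
    (ha : a ∈ (liftSystem d).autGroup Q) :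
    ∃ b ∈ A0 d Q, ∃ k ∈ kGroup d Q (hQ.2.1.trans top_le), a = b * k := by
  have h : a ∈ ((A0 d Q ⊔ kGroup d Q (hQ.2.1.trans top_le) : Subgroup _) : Set (MulAut Q)) :=
    lift_le_sup d hQ ha
  rw [Subgroup.coe_mul_of_left_le_normalizer_right] at h
  · obtain ⟨b, hb, k, hk, rfl⟩ := h
    exact ⟨b, hb, k, hk, rfl⟩
  · intro b hb
    have hbF := autGroup_mono (liftSystem_le d) Q (A0_le d Q hb)
    refine Subgroup.mem_normalizer_iff.2 fun k => ⟨conj_mem_kGroup d _ hbF, fun hk => ?_⟩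
    have := conj_mem_kGroup d _ (inv_mem hbF) hk
    simpa [mul_assoc] using this

/-! ### The key property -/

/-- The intersection with the automorphisms induced by `S` is induced by `T`. -/
def Key (Q : Subgroup Ω) : Prop :=
  A0 d Q ⊓ autInducedBy S Q ≤ autInducedBy (top θ T') Q

/-- Given the key property, elements of `A0` of `p`-power order are admissible. -/
theorem adm_of_key {M : Subgroup Ω} (hM : TCen (liftSystem d) Z M)
    (hkey : ∀ Q, TCen (liftSystem d) Z Q → F.IsFullyNormalized Q → Nat.card Q = Nat.card M →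
      Key d Q)
    {a : MulAut M} (ha : a ∈ A0 d M) (hpow : ∃ k, a ^ p ^ k = 1) :
    Adm F (top θ T') a := by
  obtain ⟨k, hk⟩ := hpow
  obtain ⟨Q₀, ⟨φ, hφ, hr⟩, hQ₀⟩ := exists_isFullyNormalized_conj F (hM.2.1.trans top_le)
  have hQ₀c : TCen (liftSystem d) Z Q₀ := hr ▸ hM.image_hom d hφ
  have hc : Nat.card Q₀ = Nat.card M := hr ▸ card_range hφ
  haveI := finite_mulAut hQ₀.1
  set e := isoOnto φ (F.injective_of_mem hφ) hr
  obtain ⟨-, hsyl⟩ := isFullyAutomized_iff.1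
    (isFullyAutomized_of_isFullyNormalized d.isPGroup d.saturated hQ₀)
  have hsylA := isSylowIn_inf_of_normalized hsyl
    ((A0_le d Q₀).trans (autGroup_mono (liftSystem_le d) Q₀))
    fun c hc h hh => conj_mem_A0 d hQ₀c.2.1 hc hh
  obtain ⟨i, -, hi⟩ := (Nat.dvd_prime_pow Fact.out).1 (orderOf_dvd_of_pow_eq_one
    ((map_pow (MulAut.congr e) a (p ^ k)).symm.trans
      ((congrArg (MulAut.congr e) hk).trans (map_one _))))
  obtain ⟨c, hcA, hle⟩ := hsylA.exists_conj_le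
    (IsPGroup.of_card (n := i) ((Nat.card_zpowers _).trans hi))
    (Subgroup.zpowers_le.2 (congr_mem_A0 d hM.2.1 hφ hr ha))
  have hW := hkey Q₀ hQ₀c hQ₀ hc (show _ ∈ A0 d Q₀ ⊓ autInducedBy S Q₀ from
    ⟨(hle ⟨_, Subgroup.mem_zpowers _, rfl⟩).2, (hle ⟨_, Subgroup.mem_zpowers _, rfl⟩).1⟩)
  have h1 : Adm F (top θ T') ((MulAut.conj c) (MulAut.congr e a)) :=
    adm_of_mem_autInducedBy hQ₀.1 hW
  rw [MulAut.conj_apply] at h1
  obtain ⟨η, hη, t, ht, hx⟩ := h1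
  obtain ⟨μ, hμ, hμx⟩ := exists_comp hφ
    (autGroup_hom_mem hQ₀.1 (autGroup_mono (liftSystem_le d) Q₀ (A0_le d Q₀ hcA)))
    fun x => hr.le ⟨x, rfl⟩
  obtain ⟨ν, hν, hνx⟩ := exists_comp hμ hη fun x => by rw [hμx]; exact SetLike.coe_mem _
  have hνe : ∀ x, ν x = η (c (e x)) := fun x => (hνx x).trans (congrArg η (Subtype.ext (hμx x)))
  refine ⟨ν, hν, t, ht, fun x => ?_⟩
  rw [hνe, hνe, ← hx, MulAut.mul_apply, MulAut.mul_apply, MulAut.inv_apply_self, congr_apply_apply]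

/-- An element of `kGroup` that is admissible is induced by `T` on a fully normalized subgroup. -/
theorem kGroup_adm {Q : Subgroup Ω} (hQn : F.IsFullyNormalized Q) {k : MulAut Q}
    (hk : k ∈ kGroup d Q hQn.1) (h : Adm F (top θ T') k) : k ∈ autInducedBy (top θ T') Q :=
  mem_autT_of_adm d hQn (kGroup_le_autInducedBy d hQn hk) h

/-- The commutators with the automorphisms trivial modulo `Z` are induced by `T`, for an
automorphism normalizing the Sylow subgroup. -/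
theorem comm_mem_autT_of_normalizes {Q : Subgroup Ω} (hQ : TCen (liftSystem d) Z Q)
    (hQn : F.IsFullyNormalized Q)
    (hIH : ∀ R, TCen (liftSystem d) Z R → F.IsFullyNormalized R → Nat.card Q < Nat.card R →
      Key d R)
    {a : MulAut Q} (ha : a ∈ (liftSystem d).autGroup Q)
    (hnorm : ∀ b ∈ autInducedBy S Q ⊓ (liftSystem d).autGroup Q,
      a * b * a⁻¹ ∈ autInducedBy S Q ⊓ (liftSystem d).autGroup Q)
    {k : MulAut Q} (hk : k ∈ kGroup d Q hQn.1) :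
    a * k * a⁻¹ * k⁻¹ ∈ autInducedBy (top θ T') Q := by
  have hQT := hQ.2.1
  have haF := autGroup_mono (liftSystem_le d) Q ha
  obtain ⟨s, hsn, hs, rfl⟩ := mem_autInducedBy_normalizer.1 (kGroup_le_autInducedBy d hQn hk)
  haveI := finite_top d
  by_cases hQe : Q = top θ T'
  · subst hQe
    obtain ⟨t, ht, htx⟩ := top_comm d ha hs fun y hy => hk.2 ⟨y, hy⟩
    have htn : t ∈ Subgroup.normalizer ((top θ T' : Subgroup Ω) : Set Ω) := Subgroup.le_normalizer ht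
    set w := conjAut (top θ T') t htn
    have hw : w ∈ autInducedBy (top θ T') (top θ T') :=
      mem_autInducedBy.2 ⟨t, ht, fun _ => rfl⟩
    have h1 : a * conjAut _ s hsn = conjAut _ s hsn * w * a := by
      refine MulEquiv.ext fun y => Subtype.ext ?_
      refine (htx y (conjAut (top θ T') s hsn y).2).trans ?_
      show _ = s * (t * (a y : Ω) * t⁻¹) * s⁻¹
      group
    rw [h1, mul_inv_cancel_right]
    exact conj_mem_autT d (mem_autInducedBy.2 ⟨s, hs, fun _ => rfl⟩) hw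
  set M := normalizerIn (top θ T') Q with hM
  have hQM : Q ≤ M := le_normalizerIn hQT
  have hMT : M ≤ top θ T' := inf_le_left
  haveI : Finite Q := finite_of_le hQn.1
  have hext : ∀ g ∈ M, ∃ h ∈ top θ T', ∀ (x : Q) (hx : g * (x : Ω) * g⁻¹ ∈ Q),
      (autHom a ⟨g * x * g⁻¹, hx⟩)⁻¹ * (h * autHom a x * h⁻¹) ∈ Z := by
    intro g hg
    have hgW : conjAut Q g hg.2 ∈ autInducedBy (top θ T') Q :=
      mem_autInducedBy.2 ⟨g, hg.1, fun _ => rfl⟩
    have h1 := hnorm _ ⟨autInducedBy_mono top_le hgW, autInducedBy_le_autGroup hQT hgW⟩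
    have hadm : Adm F (top θ T') (a * conjAut Q g hg.2 * a⁻¹) := by
      have := (adm_of_mem_autInducedBy (F := F) hQn.1 hgW).congr_map d
        (autGroup_hom_mem hQn.1 haF) (range_autHom a)
      rwa [congr_autHom] at this
    obtain ⟨h, hh, hhx⟩ := mem_autInducedBy.1 (mem_autT_of_adm d hQn h1.1 hadm)
    refine ⟨h, hh, fun x hx => ?_⟩
    have h2 := hhx (a x)
    rw [MulAut.mul_apply, MulAut.mul_apply, MulAut.inv_apply_self] at h2
    rw [autHom_apply, autHom_apply, ← h2,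
      show (⟨g * x * g⁻¹, hx⟩ : Q) = conjAut Q g hg.2 x from rfl, inv_mul_cancel]
    exact one_mem _
  obtain ⟨ψ, hψ, hψa⟩ := exists_extend d hQ.1 (isFullyNormalized_lift d hQT hQn)
    ((mem_autGroup hQT).1 ha) (range_autHom a) hQM le_rfl hext
  haveI : Finite M := finite_of_le (hMT.trans top_le)
  have hψQ : imgSub ψ Q = Q := by
    refine imgSub_eq_of_le_of_card hψ.1 hQM ?_ le_rfl
    intro y hy
    obtain ⟨x, hx, rfl⟩ := mem_imgSub.1 hy
    have h := Q.mul_mem (a ⟨x, hx⟩).2 (hQ.1 (hψa ⟨x, hx⟩))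
    rwa [autHom_apply, mul_inv_cancel_left] at h
  obtain ⟨β, hβ, hβx⟩ := exists_aut_of_hom hψ fun y => by
    have h := apply_mem_normalizerIn hψ y y.2.2 (P := Q)
    rwa [hψQ] at h
  have hMc := hQ.mono hQM hMT
  obtain ⟨b, hb, k₃, hk₃, rfl⟩ := exists_A0_mul d hMc hβ
  have hbF := autGroup_mono (liftSystem_le d) M (A0_le d M hb)
  have hbst : ∀ x : M, (x : Ω) ∈ Q → (b x : Ω) ∈ Q := by
    intro x hx
    have h1 : ((b * k₃) x : Ω) ∈ Q := (hβx x).symm ▸ hψQ.le (apply_mem_imgSub ψ x hx)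
    have h2 := fix d (autGroup_hom_mem (hMT.trans top_le) hbF) (x⁻¹ * k₃ x) (hk₃.2 x)
    rw [map_mul, map_inv] at h2
    have h3 := Q.mul_mem h1 (Q.inv_mem (hQ.1 (hk₃.2 x)))
    rw [show ((x : Ω)⁻¹ * k₃ x) = (b x : Ω)⁻¹ * b (k₃ x) from h2.symm, mul_inv_rev, inv_inv,
      MulAut.mul_apply, mul_inv_cancel_left] at h3
    exact h3
  obtain ⟨a₁, ha₁, ha₁x⟩ := exists_aut_of_hom
    (restrict_mem (autGroup_hom_mem hMT (A0_le d M hb)) hQM) fun x => hbst _ x.2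
  have hk' : a⁻¹ * a₁ ∈ kGroup d Q hQn.1 := by
    refine ⟨mul_mem (inv_mem haF) (autGroup_mono (liftSystem_le d) Q ha₁), fun x => ?_⟩
    have h1 := hψa x
    obtain ⟨u, hu⟩ : ∃ u, u = (a⁻¹ * a₁) x := ⟨_, rfl⟩
    rw [← hu]
    have h2 : (a u : Ω) = a₁ x := by rw [hu, MulAut.mul_apply, MulAut.apply_inv_self]
    have h3 := fix d (autGroup_hom_mem (hMT.trans top_le) hbF)
      ((⟨x, hQM x.2⟩ : M)⁻¹ * k₃ ⟨x, hQM x.2⟩) (hk₃.2 ⟨x, hQM x.2⟩)
    rw [map_mul, map_inv] at h3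
    have hzb : (a x : Ω)⁻¹ * b ⟨x, hQM x.2⟩ ∈ Z := by
      have h4 := Z.mul_mem h1 (Z.inv_mem (hk₃.2 ⟨x, hQM x.2⟩))
      rw [show ((⟨x, hQM x.2⟩ : M) : Ω)⁻¹ * k₃ ⟨x, hQM x.2⟩ = _ from h3.symm,
        show ψ.comp (Subgroup.inclusion hQM) x = ((b * k₃) ⟨x, hQM x.2⟩ : Ω) from (hβx _).symm,
        MulAut.mul_apply, mul_inv_rev, inv_inv] at h4
      simpa [mul_assoc] using h4
    have h5 := fix d (autGroup_hom_mem hQn.1 (inv_mem haF)) ((a x)⁻¹ * a₁ x)
      (by rw [Subgroup.coe_mul, Subgroup.coe_inv, show ((a₁ x : Q) : Ω) = _ from ha₁x x]; exact hzb)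
    rw [map_mul, map_inv, autHom_apply, autHom_apply, MulAut.inv_apply_self] at h5
    rw [hu]
    show (x : Ω)⁻¹ * (a⁻¹ (a₁ x) : Ω) ∈ Z
    rw [show ((x : Ω))⁻¹ * (a⁻¹ (a₁ x) : Ω) = _ from h5, Subgroup.coe_mul, Subgroup.coe_inv,
      show ((a₁ x : Q) : Ω) = _ from ha₁x x]
    exact hzb
  set c := conjAut Q s hsn with hc
  have hcomm : a * c * a⁻¹ * c⁻¹ = a₁ * c * a₁⁻¹ * c⁻¹ := by
    obtain ⟨k', rfl⟩ : ∃ k', a₁ = a * k' := ⟨a⁻¹ * a₁, (mul_inv_cancel_left a a₁).symm⟩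
    rw [inv_mul_cancel_left] at hk'
    rw [mul_inv_rev, mul_assoc a k' c, kGroup_commute d hQn.1 hk' hk]
    group
  rw [hcomm]
  have hsM : s ∈ Subgroup.normalizer (M : Set Ω) := by
    have key : ∀ u : Ω, u ∈ S → u ∈ Subgroup.normalizer (Q : Set Ω) → ∀ x ∈ M, u * x * u⁻¹ ∈ M :=
      fun u hu hun x hx => ⟨stronglyClosed_map (stronglyClosed_top d) (F.conj_mem le_rfl hu)
        ⟨x, top_le hx.1⟩ hx.1, Subgroup.mul_mem _ (Subgroup.mul_mem _ hun hx.2) (inv_mem hun)⟩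
    refine Subgroup.mem_normalizer_iff.2 fun x => ⟨key s hs hsn x, fun hx => ?_⟩
    have := key s⁻¹ (inv_mem hs) (inv_mem hsn) _ hx
    simpa [mul_assoc] using this
  set cs := conjAut M s hsM with hcs
  have hcsF : cs ∈ F.autGroup M :=
    autInducedBy_le_autGroup (hMT.trans top_le) (mem_autInducedBy.2 ⟨s, hs, fun _ => rfl⟩)
  set u := b * (cs * b⁻¹ * cs⁻¹) with hu
  have huA : u ∈ A0 d M := mul_mem hb (conj_mem_A0 d hMT hcsF (inv_mem hb))
  have hucomm : a₁ * c * a₁⁻¹ * c⁻¹ ∈ kGroup d Q hQn.1 := by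
    exact mul_mem (conj_mem_kGroup d hQn.1 (autGroup_mono (liftSystem_le d) Q ha₁) hk) (inv_mem hk)
  have hresb : ∀ x : Q, (b ⟨x, hQM x.2⟩ : Ω) = a₁ x := fun x => (ha₁x x).symm
  have hresbi : ∀ x : Q, (b⁻¹ ⟨x, hQM x.2⟩ : Ω) = a₁⁻¹ x := fun x => by
    have h := hresb (a₁⁻¹ x)
    rw [MulAut.apply_inv_self] at h
    rw [show (⟨x, hQM x.2⟩ : M) = b ⟨a₁⁻¹ x, hQM (a₁⁻¹ x).2⟩ from Subtype.ext h.symm,
      MulAut.inv_apply_self]
  have hresc : ∀ x : Q, (cs⁻¹ ⟨x, hQM x.2⟩ : Ω) = c⁻¹ x := fun x => by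
    have h : cs ⟨(c⁻¹ x : Ω), hQM (c⁻¹ x).2⟩ = ⟨x, hQM x.2⟩ := Subtype.ext
      (show ((c (c⁻¹ x) : Q) : Ω) = x from congrArg Subtype.val (c.apply_symm_apply x))
    rw [← h, MulAut.inv_apply_self]
  have hres : ∀ x : Q, (u ⟨x, hQM x.2⟩ : Ω) = (a₁ * c * a₁⁻¹ * c⁻¹) x := fun x => by
    simp only [hu, MulAut.mul_apply]
    rw [show cs⁻¹ ⟨x, hQM x.2⟩ = ⟨(c⁻¹ x : Ω), hQM (c⁻¹ x).2⟩ from Subtype.ext (hresc x),
      show b⁻¹ ⟨(c⁻¹ x : Ω), hQM (c⁻¹ x).2⟩ = ⟨(a₁⁻¹ (c⁻¹ x) : Ω), hQM (SetLike.coe_mem _)⟩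
        from Subtype.ext (hresbi _),
      show cs ⟨(a₁⁻¹ (c⁻¹ x) : Ω), hQM (SetLike.coe_mem _)⟩ =
        ⟨(c (a₁⁻¹ (c⁻¹ x)) : Ω), hQM (SetLike.coe_mem _)⟩ from Subtype.ext rfl, hresb]
  obtain ⟨z, hzQ, hzx⟩ := exists_inner d hQ hQM le_rfl (autGroup_hom_mem hMT (A0_le d M huA))
    fun x hx => (congrArg (fun w => (x : Ω)⁻¹ * w ∈ Z) (hres ⟨x, hx⟩)).mpr (hucomm.2 ⟨x, hx⟩)
  have hzn : z ∈ Subgroup.normalizer (M : Set Ω) := Subgroup.le_normalizer (hQM hzQ)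
  set cz := conjAut M z hzn with hcz
  have hczA : cz ∈ A0 d M := autT_le_A0 d hMT (mem_autInducedBy.2 ⟨z, hQT hzQ, fun _ => rfl⟩)
  have hk₂K : cz⁻¹ * u ∈ kGroup d M (hMT.trans top_le) := by
    refine ⟨autGroup_mono (liftSystem_le d) M (A0_le d M (mul_mem (inv_mem hczA) huA)), fun x => ?_⟩
    have h1 := hzx x
    obtain ⟨y, hy⟩ : ∃ y, y = (cz⁻¹ * u) x := ⟨_, rfl⟩
    rw [← hy]
    have h2 : (u x : Ω) = z * (y : Ω) * z⁻¹ := by
      show _ = ((cz y : M) : Ω)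
      rw [show cz y = u x from by rw [hy, ← MulAut.mul_apply, mul_inv_cancel_left]]
    rw [autHom_apply, h2, show (z * (x : Ω) * z⁻¹)⁻¹ * (z * (y : Ω) * z⁻¹) =
      z * ((x : Ω)⁻¹ * y) * z⁻¹ by group] at h1
    have h3 : z * ((x : Ω)⁻¹ * y) = z * ((x : Ω)⁻¹ * y) * z⁻¹ * z := by group
    rw [← comm d h1 (top_le (hQT hzQ))] at h3
    rw [mul_left_cancel h3]
    exact h1
  haveI := finite_mulAut (hMT.trans top_le)
  obtain ⟨n, hn⟩ := isPGroup_kGroup d (hMT.trans top_le) ⟨_, hk₂K⟩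
  have hlt : Nat.card Q < Nat.card M :=
    Fusion87.card_lt_normalizerIn (isPGroup_top d) hQT hQe
  have hadm := adm_of_key d hMc (fun R hR hRn hc => hIH R hR hRn (hc ▸ hlt))
    (mul_mem (inv_mem hczA) huA) ⟨n, congrArg Subtype.val hn⟩
  have hzQn : z ∈ Subgroup.normalizer (Q : Set Ω) := Subgroup.le_normalizer hzQ
  set wz := conjAut Q z hzQn with hwz
  have hwzW : wz ∈ autInducedBy (top θ T') Q := mem_autInducedBy.2 ⟨z, hQT hzQ, fun _ => rfl⟩
  have hres₂ : ∀ x : Q, ((cz⁻¹ * u) ⟨x, hQM x.2⟩ : Ω) =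
      (wz⁻¹ * (a₁ * c * a₁⁻¹ * c⁻¹)) x := fun x => by
    set y := (wz⁻¹ * (a₁ * c * a₁⁻¹ * c⁻¹)) x with hy
    have h1 : cz ⟨y, hQM y.2⟩ = u ⟨x, hQM x.2⟩ := Subtype.ext (by
      rw [hres]
      show ((wz y : Q) : Ω) = _
      rw [show wz y = (a₁ * c * a₁⁻¹ * c⁻¹) x from by
        rw [hy, ← MulAut.mul_apply, mul_inv_cancel_left]])
    rw [MulAut.mul_apply, ← h1, MulAut.inv_apply_self]
  have h4 : wz⁻¹ * (a₁ * c * a₁⁻¹ * c⁻¹) ∈ autInducedBy (top θ T') Q := by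
    refine mem_autT_of_adm d hQn ?_ (hadm.restrict hQM hres₂)
    exact mul_mem (inv_mem (autInducedBy_mono top_le hwzW)) (kGroup_le_autInducedBy d hQn hucomm)
  simpa using mul_mem hwzW h4

/-- The key property holds on every fully normalized subgroup. -/
theorem key_all {Q : Subgroup Ω} (hQ : TCen (liftSystem d) Z Q) (hQn : F.IsFullyNormalized Q) :
    Key d Q := by
  suffices key : ∀ n (Q : Subgroup Ω), Nat.card S - Nat.card Q ≤ n → TCen (liftSystem d) Z Q →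
      F.IsFullyNormalized Q → Key d Q from key _ Q le_rfl hQ hQn
  clear hQ hQn Q
  intro n
  induction n using Nat.strong_induction_on with
  | _ n ih =>
  intro Q hn hQ hQn
  have hIH : ∀ R, TCen (liftSystem d) Z R → F.IsFullyNormalized R → Nat.card Q < Nat.card R →
      Key d R := fun R hR hRn hc => by
    have := Subgroup.card_le_of_le hRn.1
    exact ih _ (by omega) R le_rfl hR hRn
  have hQT := hQ.2.1
  haveI := finite_mulAut hQn.1
  set A := (liftSystem d).autGroup Q with hA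
  set K := kGroup d Q hQn.1 with hK
  set W := autInducedBy (top θ T') Q with hW
  have hAF : A ≤ F.autGroup Q := autGroup_mono (liftSystem_le d) Q
  have hKA : K ≤ A := kGroup_le_lift d hQT
  have hWA : W ≤ A := autInducedBy_le_autGroup hQT
  have hW0 : ∀ b ∈ F.autGroup Q, ∀ w ∈ K ⊓ W, b * w * b⁻¹ ∈ K ⊓ W := by
    intro b hb w hw
    have hbw := conj_mem_kGroup d hQn.1 hb hw.1
    refine ⟨hbw, kGroup_adm d hQn hbw ?_⟩
    have h := (adm_of_mem_autInducedBy (F := F) hQn.1 hw.2).congr_map d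
      (autGroup_hom_mem hQn.1 hb) (range_autHom b)
    rwa [congr_autHom] at h
  let N : Subgroup (MulAut Q) :=
    { carrier := {a | a ∈ A ∧ ∀ k ∈ K, a * k * a⁻¹ * k⁻¹ ∈ K ⊓ W}
      one_mem' := ⟨one_mem _, fun k _ => by simp⟩
      mul_mem' := fun {a b} ha hb => ⟨mul_mem ha.1 hb.1, fun k hk => by
        have h := mul_mem (hW0 a (hAF ha.1) _ (hb.2 k hk)) (ha.2 k hk)
        rwa [show a * (b * k * b⁻¹ * k⁻¹) * a⁻¹ * (a * k * a⁻¹ * k⁻¹) =
          a * b * k * (a * b)⁻¹ * k⁻¹ by group] at h⟩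
      inv_mem' := fun {a} ha => ⟨inv_mem ha.1, fun k hk => by
        have h := inv_mem (hW0 a⁻¹ (inv_mem (hAF ha.1)) _ (ha.2 k hk))
        rwa [show (a⁻¹ * (a * k * a⁻¹ * k⁻¹) * a⁻¹⁻¹)⁻¹ = a⁻¹ * k * a⁻¹⁻¹ * k⁻¹ by group] at h⟩ }
  have hN : ∀ a ∈ A, ∀ b ∈ N, a * b * a⁻¹ ∈ N := fun a ha b hb =>
    ⟨mul_mem (mul_mem ha hb.1) (inv_mem ha), fun k hk => by
      have h1 := hb.2 _ (conj_mem_kGroup d hQn.1 (inv_mem (hAF ha)) hk)
      have h := hW0 a (hAF ha) _ h1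
      rwa [show a * (b * (a⁻¹ * k * a⁻¹⁻¹) * b⁻¹ * (a⁻¹ * k * a⁻¹⁻¹)⁻¹) * a⁻¹ =
        a * b * a⁻¹ * k * (a * b * a⁻¹)⁻¹ * k⁻¹ by group] at h⟩
  obtain ⟨-, hsylF⟩ := isFullyAutomized_iff.1
    (isFullyAutomized_of_isFullyNormalized d.isPGroup d.saturated hQn)
  have hsyl := isSylowIn_inf_of_normalized hsylF hAF fun c hc h hh => conj_mem_lift d hQT hc hh
  have hdec : ∀ a ∈ autInducedBy S Q ⊓ A, ∃ w ∈ W, w⁻¹ * a ∈ K := fun a ha =>
    exists_autT_mul d hQ hQn ha.2 ha.1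
  have hWN : W ≤ N := fun w hw => ⟨hWA hw, fun k hk => by
    refine ⟨K.mul_mem (conj_mem_kGroup d hQn.1 (hAF (hWA hw)) hk) (K.inv_mem hk), ?_⟩
    have h := mul_mem hw (conj_mem_autT d (kGroup_le_autInducedBy d hQn hk) (inv_mem hw))
    rwa [← mul_assoc, ← mul_assoc] at h⟩
  have hKN : K ≤ N := fun a ha => ⟨hKA ha, fun k hk => by
    rw [kGroup_commute d hQn.1 ha hk, mul_inv_cancel_right, mul_inv_cancel]
    exact one_mem _⟩
  have hPN : autInducedBy S Q ⊓ A ≤ N := fun a ha => by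
    obtain ⟨w, hw, hwk⟩ := hdec a ha
    have h := mul_mem (hWN hw) (hKN hwk)
    rwa [mul_inv_cancel_left] at h
  have hAN : A ≤ N := by
    intro a ha
    have hNA : N ≤ A := fun x hx => hx.1
    have hsylN := hsyl.of_le hPN hNA
    have hconjle : (autInducedBy S Q ⊓ A).map (MulAut.conj a).toMonoidHom ≤ N := by
      rintro _ ⟨g, hg, rfl⟩
      exact hN a ha g (hPN hg)
    obtain ⟨o, ho, hle⟩ := hsylN.exists_conj_le (hsylN.2.1.map _) hconjle
    have hnorm : ∀ b ∈ autInducedBy S Q ⊓ A, o * a * b * (o * a)⁻¹ ∈ autInducedBy S Q ⊓ A := by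
      intro b hb
      have h := hle ⟨_, ⟨b, hb, rfl⟩, rfl⟩
      rw [show o * a * b * (o * a)⁻¹ = o * (a * b * a⁻¹) * o⁻¹ by group]
      exact h
    have hoa : o * a ∈ N := by
      refine ⟨mul_mem (hNA ho) ha, fun k hk => ⟨K.mul_mem (conj_mem_kGroup d hQn.1
        (mul_mem (hAF (hNA ho)) (hAF ha)) hk) (K.inv_mem hk), ?_⟩⟩
      exact comm_mem_autT_of_normalizes d hQ hQn hIH (mul_mem (hNA ho) ha) hnorm hk
    have := mul_mem (inv_mem ho) hoa
    rwa [inv_mul_cancel_left] at this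
  -- transfer
  rintro a ⟨haA0, haS⟩
  have haA := A0_le d Q haA0
  set W₁ := W.subgroupOf A with hW₁
  have hfoc : ∀ x ∈ (hsyl.toSylow : Subgroup A), ∀ u : A,
      u * x * u⁻¹ ∈ (hsyl.toSylow : Subgroup A) → x⁻¹ * (u * x * u⁻¹) ∈ W₁ := by
    intro x hx u hux
    rw [IsSylowIn.coe_toSylow, Subgroup.mem_subgroupOf] at hx hux
    obtain ⟨w, hw, hwk⟩ := hdec _ hx
    obtain ⟨k, hk, hxe⟩ : ∃ k ∈ K, (x : MulAut Q) = w * k :=
      ⟨_, hwk, (mul_inv_cancel_left w _).symm⟩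
    obtain ⟨huA, huN⟩ := hAN u.2
    have hc := huN k hk
    have hcS : (u : MulAut Q) * k * (u : MulAut Q)⁻¹ ∈ autInducedBy S Q :=
      kGroup_le_autInducedBy d hQn (conj_mem_kGroup d hQn.1 (hAF huA) hk)
    have huw : (u : MulAut Q) * w * (u : MulAut Q)⁻¹ ∈ W := by
      refine mem_autT_of_adm d hQn ?_ ?_
      · have h := (autInducedBy S Q).mul_mem hux.1 ((autInducedBy S Q).inv_mem hcS)
        simp only [Subgroup.coe_mul, Subgroup.coe_inv, hxe] at h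
        rwa [show (u : MulAut Q) * (w * k) * (u : MulAut Q)⁻¹ *
          ((u : MulAut Q) * k * (u : MulAut Q)⁻¹)⁻¹ = (u : MulAut Q) * w * (u : MulAut Q)⁻¹ by
            group] at h
      · have h := (adm_of_mem_autInducedBy (F := F) hQn.1 hw).congr_map d
          (autGroup_hom_mem hQn.1 (hAF huA)) (range_autHom (u : MulAut Q))
        rwa [congr_autHom] at h
    show ((x⁻¹ * (u * x * u⁻¹) : A) : MulAut Q) ∈ W
    simp only [Subgroup.coe_mul, Subgroup.coe_inv, hxe]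
    have h2 := mul_mem (conj_mem_autT d (inv_mem (kGroup_le_autInducedBy d hQn hk))
      (mul_mem (inv_mem hw) huw)) (conj_mem_autT d (inv_mem (kGroup_le_autInducedBy d hQn hk)) hc.2)
    rwa [show k⁻¹ * (w⁻¹ * ((u : MulAut Q) * w * (u : MulAut Q)⁻¹)) * k⁻¹⁻¹ *
      (k⁻¹ * ((u : MulAut Q) * k * (u : MulAut Q)⁻¹ * k⁻¹) * k⁻¹⁻¹) =
      (w * k)⁻¹ * ((u : MulAut Q) * (w * k) * (u : MulAut Q)⁻¹) by group] at h2
  have hX : ∀ x ∈ {b : A | (orderOf (b : MulAut Q)).Coprime p ∨ Adm F (top θ T') (b : MulAut Q)},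
      (orderOf x).Coprime p ∨ ∃ u, u * x * u⁻¹ ∈ W₁ := by
    intro x hx
    rcases hx with hx | hx
    · exact Or.inl (by rwa [Subgroup.orderOf_coe] at hx)
    · right
      obtain ⟨k, hk⟩ := hx.pow_eq_one (isPGroup_top d)
      obtain ⟨i, -, hi⟩ := (Nat.dvd_prime_pow Fact.out).1 (orderOf_dvd_of_pow_eq_one hk)
      obtain ⟨c, hc, hle⟩ := hsyl.exists_conj_le
        (IsPGroup.of_card (n := i) ((Nat.card_zpowers _).trans hi)) (Subgroup.zpowers_le.2 x.2)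
      refine ⟨⟨c, hc⟩, ?_⟩
      show c * (x : MulAut Q) * c⁻¹ ∈ W
      refine mem_autT_of_adm d hQn (hle ⟨_, Subgroup.mem_zpowers _, rfl⟩).1 ?_
      have h := hx.congr_map d (autGroup_hom_mem hQn.1 (hAF hc)) (range_autHom c)
      rwa [congr_autHom] at h
  have hWP : W₁ ≤ (hsyl.toSylow : Subgroup A) := by
    rw [IsSylowIn.coe_toSylow]
    exact fun w hw => ⟨autInducedBy_mono top_le hw, w.2⟩
  have hres := inf_closure_le hsyl.toSylow hWP hfoc hX (show (⟨a, haA⟩ : A) ∈ _ ⊓ _ from ⟨?_, ?_⟩)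
  · exact hres
  · have hle : A0 d Q ≤ (Subgroup.closure
        {b : A | (orderOf (b : MulAut Q)).Coprime p ∨ Adm F (top θ T') (b : MulAut Q)}).map
          A.subtype := by
      rw [MonoidHom.map_closure]
      exact Subgroup.closure_mono fun b hb => ⟨⟨b, hb.1⟩, hb.2, rfl⟩
    obtain ⟨b, hb, hba⟩ := hle haA0
    rwa [show (⟨a, haA⟩ : A) = b from Subtype.ext hba.symm]
  · rw [IsSylowIn.coe_toSylow]
    exact ⟨haS, haA⟩

/-- Elements of `A0` of `p`-power order are admissible. -/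
theorem adm_of_mem_A0 {M : Subgroup Ω} (hM : TCen (liftSystem d) Z M) {a : MulAut M}
    (ha : a ∈ A0 d M) (hpow : ∃ k, a ^ p ^ k = 1) : Adm F (top θ T') a :=
  adm_of_key d hM (fun _ hQ hQn _ => key_all d hQ hQn) ha hpow

/-- Restriction preserves `A0`. -/
theorem resAut_mem_A0 {R Q : Subgroup Ω} (hR : TCen (liftSystem d) Z R) (hQR : Q ≤ R)
    (h : stabSub R Q) (hh : (h : MulAut R) ∈ A0 d R) : resAut hQR h ∈ A0 d Q := by
  haveI := finite_mulAut (hR.2.1.trans top_le)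
  refine mem_of_parts (p := p) (a := h) ((A0 d Q).comap (resAut hQR)) ?_ ?_
  · intro n hn
    refine Subgroup.subset_closure ⟨resAut_mem (F := liftSystem d) hQR hR.2.1 _
      (A0_le d R (pow_mem hh n)), Or.inl ?_⟩
    exact Nat.Coprime.coprime_dvd_left (orderOf_map_dvd _ _) hn
  · rintro n ⟨k, hk⟩
    exact mem_A0_of_adm d (resAut_mem (F := liftSystem d) hQR hR.2.1 _ (A0_le d R (pow_mem hh n)))
      ((adm_of_mem_A0 d hR (pow_mem hh n) ⟨k, congrArg Subtype.val hk⟩).restrict hQR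
        fun x => rfl)

/-- On a subgroup fully normalized in the lift, the automorphisms induced by `T` form a Sylow
subgroup of `A0`. -/
theorem isSylowIn_A0 {Q : Subgroup Ω} (hQ : TCen (liftSystem d) Z Q)
    (hQn : (liftSystem d).IsFullyNormalized Q) :
    IsSylowIn p (autInducedBy (top θ T') Q) (A0 d Q) := by
  have hQS := hQ.2.1.trans top_le
  haveI := finite_top d
  haveI := finite_mulAut hQS
  obtain ⟨Q₀, ⟨φ, hφ, hr⟩, hQ₀⟩ := exists_isFullyNormalized_conj F hQS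
  have hQ₀c : TCen (liftSystem d) Z Q₀ := hr ▸ hQ.image_hom d hφ
  haveI := finite_mulAut hQ₀.1
  obtain ⟨α, hα, φ₀, hφ₀, hdec⟩ := frattini d hQ.2.1 hφ
  set R := φ₀.range with hR
  have hRc : TCen (liftSystem d) Z R := hQ.image_hom d hφ₀.1
  haveI := finite_mulAut (hRc.2.1.trans top_le)
  obtain ⟨-, hsylF⟩ := isFullyAutomized_iff.1
    (isFullyAutomized_of_isFullyNormalized d.isPGroup d.saturated hQ₀)
  have h₀ := isSylowIn_inf_of_normalized hsylF
    ((A0_le d Q₀).trans (autGroup_mono (liftSystem_le d) Q₀))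
    fun c hc h hh => conj_mem_A0 d hQ₀c.2.1 hc hh
  have hsyl₀ : IsSylowIn p (autInducedBy (top θ T') Q₀) (A0 d Q₀) := by
    refine h₀.of_card_eq ((isPGroup_autInducedBy (isPGroup_top d))) (autT_le_A0 d hQ₀c.2.1) ?_
    refine le_antisymm (Subgroup.card_le_of_le ?_) (Subgroup.card_le_of_le ?_)
    · exact le_inf (autInducedBy_mono top_le) (autT_le_A0 d hQ₀c.2.1)
    · exact fun x hx => key_all d hQ₀c hQ₀ ⟨hx.2, hx.1⟩
  have hαF := autGroup_hom_mem top_le hα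
  have hres := restrict_mem hαF hRc.2.1
  have hr₀ : ((autHom α).comp (Subgroup.inclusion hRc.2.1)).range = Q₀ := by
    rw [← hr]
    refine le_antisymm ?_ ?_
    · rintro _ ⟨⟨_, x, rfl⟩, rfl⟩; exact ⟨x, hdec x⟩
    · rintro _ ⟨x, rfl⟩; exact ⟨⟨φ₀ x, x, rfl⟩, (hdec x).symm⟩
  have hcard : Nat.card (A0 d Q) = Nat.card (A0 d Q₀) := by
    obtain ⟨τ, hτ, hτr, -, -⟩ := exists_inverse hφ hr
    haveI : Finite (A0 d Q) := inferInstance
    refine le_antisymm ?_ ?_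
    · exact Nat.card_le_card_of_injective
        (fun a : A0 d Q => (⟨_, congr_mem_A0 d hQ.2.1 hφ hr a.2⟩ : A0 d Q₀))
        fun u v h => Subtype.ext ((MulAut.congr _).injective (congrArg Subtype.val h))
    · exact Nat.card_le_card_of_injective
        (fun a : A0 d Q₀ => (⟨_, congr_mem_A0 d hQ₀c.2.1 hτ hτr a.2⟩ : A0 d Q))
        fun u v h => Subtype.ext ((MulAut.congr _).injective (congrArg Subtype.val h))
  -- the orders of the groups induced by `T`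
  have hW : Nat.card (autInducedBy (top θ T') Q₀) ≤ Nat.card (autInducedBy (top θ T') Q) := by
    have hW' : Nat.card (autInducedBy (top θ T') Q₀) = Nat.card (autInducedBy (top θ T') R) := by
      set e := isoOnto _ (F.injective_of_mem hres) hr₀ with he
      have hmap : ∀ w, w ∈ autInducedBy (top θ T') R ↔
          MulAut.congr e w ∈ autInducedBy (top θ T') Q₀ := by
        intro w
        constructor
        · intro hw
          obtain ⟨t, ht, htx⟩ := mem_autInducedBy.1 hw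
          refine mem_autInducedBy.2 ⟨(α ⟨t, ht⟩ : Ω), SetLike.coe_mem _, fun y => ?_⟩
          obtain ⟨x, rfl⟩ := e.surjective y
          rw [congr_apply_apply]
          show (α ⟨_, hRc.2.1 (w x).2⟩ : Ω) = (α ⟨t, ht⟩ : Ω) * (α ⟨_, hRc.2.1 x.2⟩ : Ω) *
            (α ⟨t, ht⟩ : Ω)⁻¹
          rw [show (⟨_, hRc.2.1 (w x).2⟩ : top θ T') = ⟨t, ht⟩ * ⟨_, hRc.2.1 x.2⟩ * ⟨t, ht⟩⁻¹ from
            Subtype.ext (htx x), map_mul, map_mul, map_inv]
          rfl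
        · intro hw
          obtain ⟨t, ht, htx⟩ := mem_autInducedBy.1 hw
          refine mem_autInducedBy.2 ⟨(α⁻¹ ⟨t, ht⟩ : Ω), SetLike.coe_mem _, fun x => ?_⟩
          have h := htx (e x)
          rw [congr_apply_apply] at h
          have h2 : α ⟨_, hRc.2.1 (w x).2⟩ = α (α⁻¹ ⟨t, ht⟩ * ⟨_, hRc.2.1 x.2⟩ * (α⁻¹ ⟨t, ht⟩)⁻¹) := by
            rw [map_mul, map_mul, map_inv α, MulAut.apply_inv_self]
            exact Subtype.ext h
          exact congrArg Subtype.val (α.injective h2)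
      exact Nat.card_congr ((MulAut.congr e).toEquiv.subtypeEquiv hmap).symm
    rw [hW']
    have hRQ : Nat.card (normalizerIn (top θ T') R) ≤ Nat.card (normalizerIn (top θ T') Q) :=
      hQn.2 R (isConj_range hφ₀)
    have hCQ : Nat.card (centralizerIn (top θ T') Q) ≤ Nat.card (centralizerIn (top θ T') R) := by
      have hle : centralizerIn (top θ T') Q ≤ Q := fun t ht => by
        have h := hQ.2.2 Q.subtype (subtype_mem hQ.2.1) t ht.1 fun y hy => by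
          rw [Subgroup.range_subtype] at hy
          rw [← ht.2 y hy, mul_inv_cancel_right, mul_inv_cancel]
          exact one_mem _
        rwa [Subgroup.range_subtype] at h
      haveI := finite_centralizerIn (S := top θ T') R
      refine Nat.card_le_card_of_injective (fun t : centralizerIn (top θ T') Q =>
        (⟨φ₀ ⟨t, hle t.2⟩, val_mem hφ₀ _, ?_⟩ : centralizerIn (top θ T') R))
        fun u v h => Subtype.ext (congrArg Subtype.val
          ((liftSystem d).injective_of_mem hφ₀ (congrArg Subtype.val h)) :)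
      rintro _ ⟨x, rfl⟩
      rw [← map_mul, ← map_mul]
      exact congrArg φ₀ (Subtype.ext (t.2.2 x x.2))
    have h1 := card_autInducedBy_mul_centralizerIn (S := top θ T') Q
    have h2 := card_autInducedBy_mul_centralizerIn (S := top θ T') R
    haveI := finite_centralizerIn (S := top θ T') Q
    have hpos : 0 < Nat.card (centralizerIn (top θ T') Q) := Nat.card_pos
    refine Nat.le_of_mul_le_mul_right ?_ hpos
    calc _ ≤ Nat.card (autInducedBy (top θ T') R) * Nat.card (centralizerIn (top θ T') R) :=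
          Nat.mul_le_mul_left _ hCQ
      _ ≤ _ := by rw [h1, h2]; exact hRQ
  obtain ⟨L, hL⟩ := exists_isSylowIn (p := p) (A0 d Q)
  have hWp := isPGroup_autInducedBy (P := Q) (isPGroup_top d)
  refine hL.of_card_eq hWp (autT_le_A0 d hQ.2.1) (le_antisymm
    (hL.card_le hWp (autT_le_A0 d hQ.2.1)) ?_)
  obtain ⟨τ, hτ, hτr, -, -⟩ := exists_inverse hφ hr
  refine le_trans ?_ hW
  rw [← Subgroup.card_map_of_injective (K := L)
    (f := (MulAut.congr (isoOnto φ (F.injective_of_mem hφ) hr)).toMonoidHom) (MulEquiv.injective _)]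
  refine hsyl₀.card_le (hL.2.1.map _) ?_
  rintro _ ⟨a, ha, rfl⟩
  exact congr_mem_A0 d hQ.2.1 hφ hr (hL.1 ha)

/-- On a subgroup fully normalized in the lift, an element of `A0` trivial modulo `Z` is induced by
`T`. -/
theorem mem_autT_of_kMod {Q : Subgroup Ω} (hQ : TCen (liftSystem d) Z Q)
    (hQn : (liftSystem d).IsFullyNormalized Q) {a : MulAut Q} (ha : a ∈ A0 d Q) (hK : KMod Z a) :
    a ∈ autInducedBy (top θ T') Q := by
  have hQS := hQ.2.1.trans top_le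
  haveI := finite_mulAut hQS
  set K := kGroup d Q hQS ⊓ A0 d Q
  have hs := isSylowIn_A0 d hQ hQn
  have h := isSylowIn_inf_of_normalized hs (inf_le_right : K ≤ A0 d Q) fun c hc k hk =>
    ⟨conj_mem_kGroup d hQS (autGroup_mono (liftSystem_le d) Q (A0_le d Q hc)) hk.1,
      (A0 d Q).mul_mem ((A0 d Q).mul_mem hc hk.2) ((A0 d Q).inv_mem hc)⟩
  have h2 := h.eq_of_le ((isPGroup_kGroup d hQS).to_le inf_le_left) le_rfl inf_le_right
  exact (h2.ge (show a ∈ K from ⟨⟨autGroup_mono (liftSystem_le d) Q (A0_le d Q ha), hK⟩, ha⟩)).1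

end Cfsg.Agent.Lib.Fusion.CentralLift
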