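/-
The system generated over the preimage by the groups `A0`, and its automorphism groups.
-/
import Cfsg.Agent.Lib.Fusion.CentralLiftAut
import Cfsg.Agent.Lib.Fusion.PPrimeResidual

set_option autoImplicit false

namespace Cfsg.Agent.Lib.Fusion.CentralLift

open Cfsg Cfsg.FusionSystem
open Cfsg.Agent.Lib.FusionFactor (mem_preimageAlong mem_imageAlong preimageAlong_le exists_preimage)

variable {Ω : Type*} [Group Ω] {S Z : Subgroup Ω} {F : FusionSystem S} {p : ℕ}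
  {Ω' : Type*} [Group Ω'] {S' T' : Subgroup Ω'} {θ : S →* Ω'} {Fb : FusionSystem S'}
  {E : FusionSystem T'}

theorem range_eq_of_modZ (d : Data p F Z θ Fb E) {P : Subgroup Ω} (hZ : Z ≤ P) {φ ψ : P →* Ω}
    (hφ : φ ∈ F.Hom P) (hψ : ψ ∈ F.Hom P) (h : ModZ Z φ ψ) : φ.range = ψ.range := by
  have key : ∀ {φ ψ : P →* Ω}, φ ∈ F.Hom P → ModZ Z φ ψ → ψ.range ≤ φ.range := by
    rintro φ ψ hφ h _ ⟨x, rfl⟩
    obtain ⟨w, hw⟩ : ∃ w : P, (w : Ω) = (φ x)⁻¹ * ψ x := ⟨⟨_, hZ (h x)⟩, rfl⟩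
    refine ⟨x * w, ?_⟩
    rw [map_mul, fix d hφ w (hw.symm ▸ h x), hw, mul_inv_cancel_left]
  exact le_antisymm (key hψ h.symm) (key hφ h)

variable (d : Data p F Z θ Fb E)
include d

variable [Finite S] [Fact p.Prime]

/-- Containing all the groups `A0`. -/
def GenAll (E' : FusionSystem (top θ T')) : Prop :=
  ∀ R, TCen (liftSystem d) Z R → ∀ a ∈ A0 d R, autHom a ∈ E'.Hom R

/-- The system generated by the groups `A0`. -/
def liftD : FusionSystem (top θ T') where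
  Hom P := {φ | φ ∈ (liftSystem d).Hom P ∧ ∀ E', GenAll d E' → φ ∈ E'.Hom P}
  le_of_mem h := (liftSystem d).le_of_mem h.1
  injective_of_mem h := (liftSystem d).injective_of_mem h.1
  conj_mem hP hg := ⟨(liftSystem d).conj_mem hP hg, fun E' _ => E'.conj_mem hP hg⟩
  comp_mem hφ hψ h :=
    ⟨(liftSystem d).comp_mem hφ.1 hψ.1 h, fun E' hE => E'.comp_mem (hφ.2 E' hE) (hψ.2 E' hE) h⟩
  inv_mem hφ := ⟨_, ⟨rangeInv_mem hφ.1, fun E' hE => rangeInv_mem (hφ.2 E' hE)⟩,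
    fun x => rangeInv_apply _ _ x _⟩

theorem liftD_le : (liftD d).IsSubsystemOf F := fun _ _ h => h.1.1

theorem autHom_mem_liftD {R : Subgroup Ω} (hR : TCen (liftSystem d) Z R) {a : MulAut R}
    (ha : a ∈ A0 d R) : autHom a ∈ (liftD d).Hom R :=
  ⟨autGroup_hom_mem hR.2.1 (A0_le d R ha), fun _ hE => hE R hR a ha⟩

theorem A0_le_liftD {R : Subgroup Ω} (hR : TCen (liftSystem d) Z R) :
    A0 d R ≤ (liftD d).autGroup R := fun _ ha =>
  (mem_autGroup hR.2.1).2 (autHom_mem_liftD d hR ha)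

theorem preimage_le_top {P' : Subgroup Ω'} (h : P' ≤ T') : preimageAlong θ P' ≤ top θ T' :=
  fun _ hx => mem_top.2 ⟨((mem_preimageAlong θ).1 hx).1, h ((mem_preimageAlong θ).1 hx).2⟩

/-- The maps of `E` induced by `liftD`. -/
def imgD : FusionSystem T' where
  Hom P' := {φ' | φ' ∈ E.Hom P' ∧ ∃ φ ∈ (liftD d).Hom (preimageAlong θ P'), InducedAlong θ φ φ'}
  le_of_mem h := E.le_of_mem h.1
  injective_of_mem h := E.injective_of_mem h.1
  conj_mem := by
    intro P' g hP hg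
    refine ⟨E.conj_mem hP hg, ?_⟩
    obtain ⟨t, rfl⟩ := top_le_range d hg
    have hPT := preimage_le_top d hP
    have hm := (liftD d).conj_mem hPT (mem_top.2 ⟨t.2, hg⟩)
    refine ⟨_, hm, preimageAlong_le θ P', fun x => top_le (val_mem hm x),
      fun x => ((mem_preimageAlong θ).1 x.2).2, fun x => ?_⟩
    show θ t * θ _ * (θ t)⁻¹ = _
    rw [← map_inv, ← map_mul, ← map_mul]
    rfl
  comp_mem := by
    rintro P' Q' φ' ψ' ⟨hφ', φ, hφ, h1, h2, h3, hi⟩ ⟨hψ', ψ, hψ, k1, k2, k3, hj⟩ h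
    refine ⟨E.comp_mem hφ' hψ' h, ?_⟩
    obtain ⟨χ, hχ, hχx⟩ := exists_comp hφ hψ fun x =>
      (mem_preimageAlong θ).2 ⟨h2 x, hi x ▸ h _⟩
    refine ⟨χ, hχ, h1, fun x => top_le (val_mem hχ x), h3, fun x => ?_⟩
    have hv : φ x ∈ preimageAlong θ Q' := (mem_preimageAlong θ).2 ⟨h2 x, hi x ▸ h _⟩
    refine (congrArg ψ' (Subtype.ext (hi x))).trans ((hj ⟨φ x, hv⟩).trans ?_)
    exact congrArg θ (Subtype.ext (hχx x).symm)
  inv_mem := by
    rintro P' φ' ⟨hφ', φ, hφ, h1, h2, h3, hi⟩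
    refine ⟨_, ⟨rangeInv_mem hφ', ?_⟩, fun x => rangeInv_apply _ _ x _⟩
    have hle : preimageAlong θ φ'.range ≤ φ.range := by
      intro y hy
      obtain ⟨hyS, x', hx'⟩ := (mem_preimageAlong θ).1 hy
      obtain ⟨⟨x, hxp⟩, hx⟩ := exists_preimage θ ((src_le hφ').trans (top_le_range d)) x'
      have h4 : θ ⟨φ ⟨x, hxp⟩, h2 _⟩ = θ ⟨y, hyS⟩ := by
        rw [← hi ⟨x, hxp⟩]
        refine (congrArg φ' (Subtype.ext hx)).trans hx'
      have h5 := (theta_eq d).1 h4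
      have h6 := φ.range.mul_mem ⟨⟨x, hxp⟩, rfl⟩
        (⟨⟨_, le_preimage d P' h5⟩, fix d hφ.1.1 ⟨_, le_preimage d P' h5⟩ h5⟩ :
          ((φ ⟨x, hxp⟩)⁻¹ * y) ∈ φ.range)
      rwa [mul_inv_cancel_left] at h6
    have hm := restrict_mem (rangeInv_mem hφ) hle
    refine ⟨_, hm, preimageAlong_le θ _, fun x => top_le (val_mem hm x),
      fun x => ((mem_preimageAlong θ).1 x.2).2, fun y => ?_⟩
    obtain ⟨x, hx⟩ := hle y.2
    refine (rangeInv_eq _ (y := θ ⟨y, _⟩) (x := ⟨θ ⟨x, h1 x.2⟩, h3 x⟩) ?_ _).trans ?_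
    · rw [hi x]; exact congrArg θ (Subtype.ext hx)
    · refine congrArg θ (Subtype.ext ?_)
      exact (rangeInv_eq _ hx _).symm

theorem tCen_preimage {P' : Subgroup Ω'} (hP' : E.IsCentric P') :
    TCen (liftSystem d) Z (preimageAlong θ P') := by
  have hPT := preimage_le_top d hP'.1
  have himg : imageAlong θ (preimageAlong θ P') = P' :=
    image_preimage (hP'.1.trans (top_le_range d))
  refine ⟨le_preimage d P', hPT, fun φ hφ t ht hc => ?_⟩
  obtain ⟨hφF, -, -, φ', hφ', hi⟩ := id hφ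
  have hi' := (induced_iff (hPT.trans top_le) (val_mem hφF)).1 hi
  obtain ⟨htS, htT⟩ := mem_top.1 ht
  have hc' : θ ⟨t, htS⟩ ∈ centralizerIn T' φ'.range := by
    refine ⟨htT, ?_⟩
    rintro _ ⟨⟨_, x, hx, rfl⟩, rfl⟩
    have h1 := (theta_eq_one d (x := ⟨t, htS⟩ * ⟨φ ⟨x, hx⟩, val_mem hφF _⟩ * ⟨t, htS⟩⁻¹ *
      ⟨φ ⟨x, hx⟩, val_mem hφF _⟩⁻¹)).2 (hc _ ⟨_, rfl⟩)
    rw [map_mul, map_mul, map_mul, map_inv, map_inv, mul_inv_eq_one, mul_inv_eq_iff_eq_mul] at h1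
    rw [show φ' ⟨θ x, _⟩ = θ ⟨φ ⟨x, hx⟩, val_mem hφF _⟩ from hi' ⟨x, hx⟩]
    exact h1.symm
  have hcen : E.IsCentric (imageAlong θ (preimageAlong θ P')) := himg.symm ▸ hP'
  obtain ⟨⟨_, x, hx, rfl⟩, he⟩ := hcen.2 φ'.range (isConj_range hφ') hc'
  have h5 := (theta_eq d).1 ((hi' ⟨x, hx⟩).symm.trans he)
  have h6 := φ.range.mul_mem ⟨⟨x, hx⟩, rfl⟩
    (⟨⟨_, le_preimage d P' h5⟩, fix d hφF ⟨_, le_preimage d P' h5⟩ h5⟩ :
      ((φ ⟨x, hx⟩)⁻¹ * t) ∈ φ.range)
  rwa [mul_inv_cancel_left] at h6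

theorem autHom_mem_imgD {P' : Subgroup Ω'} (hP' : E.IsCentric P') {α : MulAut P'}
    (hα : α ∈ E.autGroup P') : autHom α ∈ (imgD d).Hom P' := by
  set P := preimageAlong θ P' with hP
  have hPc := tCen_preimage d hP'
  have himg : imageAlong θ P = P' := image_preimage (hP'.1.trans (top_le_range d))
  have hα' := autGroup_hom_mem hP'.1 hα
  obtain ⟨φ, hφ, hφx⟩ := exists_lift d hPc.1 hPc.2.1 (restrict_mem hα' himg.le)
  haveI : Finite P := finite_of_le (hPc.2.1.trans top_le)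
  obtain ⟨a, ha, hax⟩ := exists_aut_of_hom hφ fun x => by
    refine (mem_preimageAlong θ).2 ⟨top_le (val_mem hφ x), ?_⟩
    rw [← hφx x]
    exact SetLike.coe_mem _
  obtain ⟨b, hb, k, hk, rfl⟩ := exists_A0_mul d hPc ha
  have hbm := autHom_mem_liftD d hPc hb
  refine ⟨hα', _, hbm, preimageAlong_le θ P', fun x => top_le (val_mem hbm x),
    fun x => ((mem_preimageAlong θ).1 x.2).2, fun x => ?_⟩
  refine Eq.trans ?_ (((theta_eq d (x := ⟨autHom b x, top_le (val_mem hbm x)⟩)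
    (y := ⟨φ x, top_le (val_mem hφ x)⟩))).2 ?_).symm
  · exact hφx x
  · have h := fix d hbm.1.1 (x⁻¹ * k x) (hk.2 x)
    rw [map_mul, map_inv] at h
    show (autHom b x)⁻¹ * φ x ∈ Z
    rw [← hax x, MulAut.mul_apply, show ((b (k x) : P) : Ω) = autHom b (k x) from rfl, h]
    exact hk.2 x

/-- Every map of the lift is congruent modulo `Z` to a map of `liftD`. -/
theorem exists_liftD_modZ {P : Subgroup Ω} (hZ : Z ≤ P) {φ : P →* Ω}
    (hφ : φ ∈ (liftSystem d).Hom P) : ∃ δ ∈ (liftD d).Hom P, ModZ Z φ δ := by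
  obtain ⟨hφF, hP, -, φ', hφ', hi⟩ := id hφ
  have hPS := hP.trans top_le
  have hi' := (induced_iff hPS (val_mem hφF)).1 hi
  haveI : Finite S' := d.factor.2.2.1 ▸ Finite.of_surjective θ.rangeRestrict θ.rangeRestrict_surjective
  haveI : Finite T' := finite_of_le d.normal.1.2.2.2.1.1
  have hT'p : IsPGroup p T' := (isPGroup_of_isFactorSystem d.isPGroup d.factor).to_le
    d.normal.1.2.2.2.1.1
  have hpA : HasPAut (imgD d) E p := fun P' hP' α hα _ => autHom_mem_imgD d hP' hα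
  obtain ⟨a, ha, φ₀, hφ₀, hx⟩ := exists_decomp hT'p d.normal.1.1 hpA hφ'
  have hall : φ' ∈ (imgD d).Hom (imageAlong θ P) :=
    comp_of_apply hφ₀ (autHom_mem_imgD d isCentric_top ha) fun x => ⟨val_mem hφ₀ x, hx x _⟩
  obtain ⟨-, δ, hδ, h1, h2, h3, hj⟩ := hall
  have hle : P ≤ preimageAlong θ (imageAlong θ P) := (preimage_image d hZ hPS).ge
  refine ⟨_, restrict_mem hδ hle, fun x => ?_⟩
  refine (theta_eq d (x := ⟨φ x, val_mem hφF x⟩) (y := ⟨δ (Subgroup.inclusion hle x), h2 _⟩)).1 ?_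
  exact (hi' x).symm.trans (hj (Subgroup.inclusion hle x))

theorem isConj_liftD {P Q : Subgroup Ω} (hZ : Z ≤ P) (h : (liftSystem d).IsConj P Q) :
    (liftD d).IsConj P Q := by
  obtain ⟨φ, hφ, rfl⟩ := h
  obtain ⟨δ, hδ, hδx⟩ := exists_liftD_modZ d hZ hφ
  exact ⟨δ, hδ, (range_eq_of_modZ d hZ hφ.1 hδ.1.1 hδx).symm⟩

omit [Finite S] [Fact p.Prime] in
theorem le_of_range {U X : Subgroup Ω} {φ : U →* Ω} (hφ : φ ∈ F.Hom U) (hr : φ.range = X)
    (hZ : Z ≤ X) : Z ≤ U := by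
  intro z hz
  obtain ⟨τ, hτ, hτr, -, -⟩ := exists_inverse hφ hr
  exact hτr.le ⟨⟨z, hZ hz⟩, fix d hτ ⟨z, hZ hz⟩ hz⟩

theorem isFullyAutomized_liftD {X : Subgroup Ω} (hX : TCen (liftSystem d) Z X)
    (hXn : (liftSystem d).IsFullyNormalized X) (hle : (liftD d).autGroup X ≤ A0 d X) :
    (liftD d).IsFullyAutomized p X := by
  haveI := finite_top d
  refine isFullyAutomized_iff.2 ⟨hX.2.1, ?_⟩
  rw [le_antisymm hle (A0_le_liftD d hX)]
  exact isSylowIn_A0 d hX hXn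

theorem isReceptive_liftD {X : Subgroup Ω} (hX : TCen (liftSystem d) Z X)
    (hXn : (liftSystem d).IsFullyNormalized X) (hle : (liftD d).autGroup X ≤ A0 d X) :
    (liftD d).IsReceptive X := by
  refine ⟨hX.2.1, fun U φ hφ hr => ?_⟩
  have hZU : Z ≤ U := le_of_range d hφ.1.1 hr hX.1
  set M := extender (top θ T') U φ with hM
  have hUM : U ≤ M := le_extender hφ
  obtain ⟨ψ, hψ, hψx⟩ := exists_extend d hZU hXn hφ.1 hr hUM (extender_le_normalizerIn U φ) (by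
    intro g hg
    obtain ⟨-, -, h, hh, hhx⟩ := mem_extender.1 hg
    refine ⟨h, hh, fun x hx => ?_⟩
    rw [hhx x hx, inv_mul_cancel]
    exact one_mem _)
  obtain ⟨δ, hδ, hδx⟩ := exists_liftD_modZ d (hZU.trans hUM) hψ
  set δU := δ.comp (Subgroup.inclusion hUM) with hδU
  have hδUm : δU ∈ (liftD d).Hom U := restrict_mem hδ hUM
  have hmod : ModZ Z φ δU := hψx.trans fun x => hδx _
  have hrU : δU.range = X := (range_eq_of_modZ d hZU hφ.1.1 hδUm.1.1 hmod).symm.trans hr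
  obtain ⟨τ, hτ, hτr, hτx, hτy⟩ := exists_inverse hδUm hrU
  obtain ⟨μ, hμ, hμx⟩ := exists_comp hτ hφ fun y => hτr.le ⟨y, rfl⟩
  haveI : Finite X := finite_of_le (hX.2.1.trans top_le)
  obtain ⟨k, hk, hkx⟩ := exists_aut_of_hom hμ fun y => by rw [hμx]; exact hr.le ⟨_, rfl⟩
  have hkK : KMod Z k := fun y => by
    obtain ⟨x, hx⟩ := hrU.ge y.2
    have h1 : (k y : Ω) = φ x := by
      rw [hkx, hμx]
      refine congrArg φ (Subtype.ext ?_)
      rw [show y = ⟨δU x, hx ▸ y.2⟩ from Subtype.ext hx.symm]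
      exact hτx x _
    rw [h1, ← hx]
    exact hmod.symm x
  obtain ⟨t, ht, htx⟩ := mem_autInducedBy.1 (mem_autT_of_kMod d hX hXn (hle hk) hkK)
  obtain ⟨δ', hδ', hδ'x⟩ := exists_comp hδ ((liftD d).conj_mem le_rfl ht) (val_mem hδ)
  refine ⟨δ', hδ', fun x hxU hxM => ?_⟩
  have hy : δ ⟨x, hxM⟩ ∈ X := hrU.le ⟨⟨x, hxU⟩, rfl⟩
  rw [hδ'x]
  show t * δ ⟨x, hxM⟩ * t⁻¹ = _
  refine (htx ⟨_, hy⟩).symm.trans ((hkx _).trans ((hμx _).trans ?_))
  exact congrArg φ (Subtype.ext (hτx ⟨x, hxU⟩ hy))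

/-- A map to a conjugate fully normalized in the lift, defined on the normalizer. -/
theorem exists_sink {Q P : Subgroup Ω} (hQ : TCen (liftSystem d) Z Q) (hPT : P ≤ top θ T')
    (hPn : (liftSystem d).IsFullyNormalized P) (hconj : (liftSystem d).IsConj Q P) :
    ∃ δ ∈ (liftD d).Hom (normalizerIn (top θ T') Q), imgSub δ Q = P := by
  have hQS := hQ.2.1.trans top_le
  haveI : Finite S' := d.factor.2.2.1 ▸ Finite.of_surjective θ.rangeRestrict θ.rangeRestrict_surjective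
  haveI : Finite T' := finite_of_le d.normal.1.2.2.2.1.1
  have hT'p : IsPGroup p T' := (isPGroup_of_isFactorSystem d.isPGroup d.factor).to_le
    d.normal.1.2.2.2.1.1
  obtain ⟨φ, hφ, hr⟩ := hconj
  have hZP : Z ≤ P := fun z hz => hr.le ⟨⟨z, hQ.1 hz⟩, fix d hφ.1 ⟨z, hQ.1 hz⟩ hz⟩
  obtain ⟨hφF, -, -, φ', hφ', hi⟩ := id hφ
  have hi' := (induced_iff hQS (val_mem hφF)).1 hi
  have hconj' : E.IsConj (imageAlong θ Q) (imageAlong θ P) := by
    refine ⟨φ', hφ', le_antisymm ?_ ?_⟩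
    · rintro _ ⟨⟨_, x, hx, rfl⟩, rfl⟩
      exact (congrArg (· ∈ imageAlong θ P) (hi' ⟨x, hx⟩)).mpr
        (theta_mem_image (hr.le ⟨_, rfl⟩) _)
    · rintro _ ⟨y, hy, rfl⟩
      obtain ⟨x, hx⟩ := hr.ge hy
      exact ⟨_, (hi' x).trans (congrArg θ (Subtype.ext hx))⟩
  obtain ⟨ψ', hψ', -, hψ'P⟩ := exists_map_to_fullyNormalized hT'p d.normal.1.1
    (isFullyNormalized_image d hZP hPT hPn) hconj'
  set M := normalizerIn (top θ T') Q with hM
  have hle : imageAlong θ M ≤ normalizerIn T' (imageAlong θ Q) := by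
    rintro _ ⟨g, hg, rfl⟩
    refine ⟨(mem_top.1 hg.1).2, Subgroup.mem_normalizer_iff.2 fun w => ⟨?_, ?_⟩⟩
    · rintro ⟨x, hx, rfl⟩
      rw [← map_inv, ← map_mul, ← map_mul]
      exact theta_mem_image ((Subgroup.mem_normalizer_iff.1 hg.2 x).1 hx) _
    · rintro ⟨x, hx, hxw⟩
      refine ⟨g⁻¹ * x * g, (Subgroup.mem_normalizer_iff.1 hg.2 _).2 ?_, ?_⟩
      · show (g : Ω) * ((g : Ω)⁻¹ * x * g) * (g : Ω)⁻¹ ∈ Q
        simpa [mul_assoc, Subgroup.mem_subgroupOf] using hx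
      · rw [map_mul, map_mul, map_inv, hxw]
        group
  have hQM : Q ≤ M := le_normalizerIn hQ.2.1
  obtain ⟨χ, hχ, hχx⟩ := exists_lift d (hQ.1.trans hQM) inf_le_left (restrict_mem hψ' hle)
  obtain ⟨δ, hδ, hδx⟩ := exists_liftD_modZ d (hQ.1.trans hQM) hχ
  haveI : Finite P := finite_of_le (hPT.trans top_le)
  refine ⟨δ, hδ, imgSub_eq_of_le_of_card hδ hQM ?_ (hr ▸ (card_range hφ).le)⟩
  intro y hy
  obtain ⟨x, hx, rfl⟩ := mem_imgSub.1 hy
  have hxS : (x : Ω) ∈ S := top_le x.2.1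
  refine (preimage_image d hZP (hPT.trans top_le)).le ((mem_preimageAlong θ).2
    ⟨top_le (val_mem hδ x), ?_⟩)
  rw [← (theta_eq d (x := ⟨χ x, top_le (val_mem hχ x)⟩)).2 (hδx x), ← hχx x]
  exact hψ'P.le (apply_mem_imgSub ψ' _ (theta_mem_image hx hxS))

/-- An automorphism extending to a map of `liftD` on a larger subgroup is in `A0`. -/
theorem link_mem {P : Subgroup Ω} (hP : TCen (liftSystem d) Z P)
    (hPn : (liftSystem d).IsFullyNormalized P)
    (hIH : ∀ R, TCen (liftSystem d) Z R → Nat.card P < Nat.card R →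
      (liftD d).autGroup R ≤ A0 d R) :
    ∀ (W : Subgroup Ω) (a : MulAut P) (ψ : W →* Ω), P ≤ W → P ≠ W →
      W ≤ normalizerIn (top θ T') P → ψ ∈ (liftD d).Hom W →
      (∀ (x : P) (h : (x : Ω) ∈ W), ψ ⟨x, h⟩ = (a x : Ω)) → a ∈ A0 d P := by
  haveI := finite_top d
  have hTp := isPGroup_top d
  have hPT := hP.2.1
  suffices key : ∀ n (W : Subgroup Ω) (a : MulAut P) (ψ : W →* Ω),
      Nat.card (top θ T') - Nat.card W ≤ n → P ≤ W → P ≠ W → W ≤ normalizerIn (top θ T') P →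
      ψ ∈ (liftD d).Hom W → (∀ (x : P) (h : (x : Ω) ∈ W), ψ ⟨x, h⟩ = (a x : Ω)) → a ∈ A0 d P from
    fun W a ψ => key _ W a ψ le_rfl
  intro n
  induction n using Nat.strong_induction_on with
  | _ n ih =>
  intro W a ψ hn hPW hne hWP hψ hag
  have hWT : W ≤ top θ T' := src_le hψ
  haveI : Finite W := finite_of_le hWT
  have hlt : Nat.card P < Nat.card W := lt_of_le_of_ne (Subgroup.card_le_of_le hPW)
    fun e => hne (Subgroup.eq_of_le_of_card_ge hPW e.ge)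
  have hWc := hP.mono hPW hWT
  have hψP : imgSub ψ P = P := by
    rw [imgSub_of_agree hPW (φ := autHom a) fun x hQ hN => hag ⟨x, hQ⟩ hN, range_autHom]
  have hrP : ψ.range ≤ normalizerIn (top θ T') P := by
    rintro _ ⟨x, rfl⟩
    have h := apply_mem_normalizerIn hψ x (P := P) (hWP x.2).2
    rwa [hψP] at h
  by_cases hWN : W = normalizerIn (top θ T') P
  · obtain ⟨h, hh, hhx⟩ := exists_aut_of_hom hψ fun x => hWN.ge (hrP ⟨x, rfl⟩)
    have hst : h ∈ stabSub W P := mem_stabSub_of_imgSub (by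
      rw [show autHom h = ψ from MonoidHom.ext hhx, hψP])
    have h1 := resAut_mem_A0 d hWc hPW ⟨h, hst⟩ (hIH W hWc hlt hh)
    convert h1 using 1
    refine MulEquiv.ext fun x => Subtype.ext ?_
    rw [resAut_apply, hhx]
    exact (hag x (hPW x.2)).symm
  have hrne : ψ.range ≠ normalizerIn (top θ T') P := fun e => hWN (by
    haveI := finite_normalizerIn (S := top θ T') P
    refine Subgroup.eq_of_le_of_card_ge hWP ?_
    rw [← card_range hψ, e])
  obtain ⟨X, hWX, hXn⟩ := exists_isFullyNormalized_conj (liftSystem d) hWT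
  have hXc : TCen (liftSystem d) Z X := by
    obtain ⟨φ, hφ, rfl⟩ := hWX
    exact hWc.image_hom d hφ.1
  have hX := hIH X hXc (isConj_card hWX ▸ hlt)
  obtain ⟨Q₃, hQ₃X, hPQ₃, -, s, hs, χ, hχ, χ', hχ', hχP, -, hχ'P, hrel⟩ :=
    exists_link_data hTp (isConj_liftD d hWc.1 hWX) (isFullyAutomized_liftD d hXc hXn hX)
      (isReceptive_liftD d hXc hXn hX) hPW hWP hψ
  have hQ₃c : TCen (liftSystem d) Z Q₃ := by
    obtain ⟨φ, hφ, rfl⟩ := hPQ₃
    exact hP.image_hom d hφ.1.1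
  have hQ₃G : (liftSystem d).IsConj Q₃ P := by
    obtain ⟨φ, hφ, hr⟩ := hPQ₃
    exact isConj_symm ⟨φ, hφ.1, hr⟩
  obtain ⟨δ, hδ, hδP⟩ := exists_sink d hQ₃c hPT hPn hQ₃G
  haveI : Finite P := finite_of_le hPT
  have side : ∀ (V : Subgroup Ω) (ν : V →* Ω), V ≤ normalizerIn (top θ T') P →
      Nat.card W < Nat.card V → ν ∈ (liftD d).Hom V → imgSub ν P = Q₃ → ∀ (hPV : P ≤ V),
      ∃ c ∈ A0 d P, ∀ (x : P) (h : ν ⟨x, hPV x.2⟩ ∈ normalizerIn (top θ T') Q₃),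
        (c x : Ω) = δ ⟨_, h⟩ := by
    intro V ν hVN hcard hν hνP hPV
    obtain ⟨μ, hμ, hμx⟩ := exists_comp hν hδ fun y => by
      have h := apply_mem_normalizerIn hν y (P := P) (hVN y.2).2
      rwa [hνP] at h
    obtain ⟨c, -, hcx⟩ := exists_aut_of_hom (restrict_mem hμ hPV) fun x => by
      rw [MonoidHom.comp_apply, hμx]
      exact hδP.le (apply_mem_imgSub δ _ (hνP.le (apply_mem_imgSub ν _ x.2)))
    have hle := Subgroup.card_le_of_le (src_le hμ)
    refine ⟨c, ih _ (by omega) V c μ le_rfl hPV (fun e => ?_) hVN hμ fun x h => (hcx x).symm,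
      fun x h => (hcx x).trans (hμx _)⟩
    rw [← e] at hcard
    omega
  have hPM : P ≤ normalizerIn (top θ T') W ⊓ normalizerIn (top θ T') P := fun x hx =>
    ⟨le_normalizerIn hWT (hPW hx), le_normalizerIn hPT hx⟩
  have hPr : P ≤ ψ.range := hψP.ge.trans (imgSub_le_range ψ)
  have hPM' : P ≤ normalizerIn (top θ T') ψ.range ⊓ normalizerIn (top θ T') (imgSub ψ P) :=
    fun x hx => ⟨le_normalizerIn (range_le hψ) (hPr hx), by rw [hψP]; exact le_normalizerIn hPT hx⟩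
  obtain ⟨c, hc, hcx⟩ := side _ χ inf_le_right (card_lt_normalizer_inf hTp hWP hWN) hχ hχP hPM
  obtain ⟨c', hc', hc'x⟩ := side _ χ' (inf_le_right.trans (congrArg (normalizerIn _) hψP).le) (by
    rw [hψP, ← card_range hψ]
    exact card_lt_normalizer_inf hTp hrP hrne) hχ'
    ((congrArg (imgSub χ') hψP.symm).trans hχ'P) hPM'
  have hQ₃N : Q₃ ≤ normalizerIn (top θ T') Q₃ := le_normalizerIn hQ₃c.2.1
  have hm : δ.comp (Subgroup.inclusion hQ₃N) ∈ (liftD d).Hom Q₃ := restrict_mem hδ hQ₃N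
  have hmr : (δ.comp (Subgroup.inclusion hQ₃N)).range = P := (range_restrict δ hQ₃N).trans hδP
  have ht := congr_mem_A0 d hQ₃c.2.1 hm.1.1 hmr
    (resAut_mem_A0 d hXc hQ₃X ⟨s, hs.2⟩ (hX hs.1))
  set t := MulAut.congr (isoOnto _ (F.injective_of_mem hm.1.1) hmr) (resAut hQ₃X ⟨s, hs.2⟩) with ht'
  have key2 : c' * a = t * c := by
    refine MulEquiv.ext fun x => Subtype.ext ?_
    have hxQ : χ ⟨x, hPM x.2⟩ ∈ Q₃ := hχP.le (apply_mem_imgSub χ _ x.2)
    have h1 := hag x (hPW x.2)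
    have h2 : ψ ⟨x, hPW x.2⟩ ∈ normalizerIn (top θ T') ψ.range ⊓
        normalizerIn (top θ T') (imgSub ψ P) := h1.symm ▸ hPM' (a x).2
    have h4 : χ' ⟨a x, hPM' (a x).2⟩ = (s ⟨χ ⟨x, hPM x.2⟩, hQ₃X hxQ⟩ : Ω) :=
      (congrArg χ' (Subtype.ext h1.symm)).trans (hrel ⟨x, hPW x.2⟩ (hPM x.2) (hQ₃X hxQ) h2)
    have hsy : (s ⟨χ ⟨x, hPM x.2⟩, hQ₃X hxQ⟩ : Ω) ∈ Q₃ := (hs.2 _).2 hxQ
    rw [MulAut.mul_apply, MulAut.mul_apply]
    refine (hc'x (a x) (h4.symm ▸ hQ₃N hsy)).trans ?_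
    have hcx' : c x = isoOnto _ (F.injective_of_mem hm.1.1) hmr ⟨_, hxQ⟩ :=
      Subtype.ext (hcx x (hQ₃N hxQ))
    rw [ht', hcx', congr_apply_apply]
    exact congrArg δ (Subtype.ext h4)
  rw [show a = c'⁻¹ * (t * c) by rw [← key2, inv_mul_cancel_left]]
  exact mul_mem (inv_mem hc') (mul_mem ht hc)

/-- The automorphisms of the top. -/
theorem autGroup_liftD_top : (liftD d).autGroup (top θ T') ≤ A0 d (top θ T') := by
  haveI := finite_top d
  set T := top θ T' with hT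
  let E' : FusionSystem T :=
    { Hom := fun P => {φ | φ ∈ (liftD d).Hom P ∧ (P = T →
        ∃ a ∈ A0 d T, ∀ (x : P) (h : (x : Ω) ∈ T), φ x = (a ⟨x, h⟩ : Ω))}
      le_of_mem := fun h => (liftD d).le_of_mem h.1
      injective_of_mem := fun h => (liftD d).injective_of_mem h.1
      conj_mem := fun {P g} hP hg => ⟨(liftD d).conj_mem hP hg, fun e =>
        ⟨conjAut T g (Subgroup.le_normalizer hg),
          autT_le_A0 d le_rfl (mem_autInducedBy.2 ⟨g, hg, fun _ => rfl⟩), fun _ _ => rfl⟩⟩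
      comp_mem := fun {P Q φ ψ} hφ hψ h => ⟨(liftD d).comp_mem hφ.1 hψ.1 h, fun e => by
        subst e
        have hQ : Q = T := le_antisymm (src_le hψ.1) fun y hy => by
          obtain ⟨x, rfl⟩ := (range_eq_self hφ.1 (val_mem hφ.1)).ge hy
          exact h x
        subst hQ
        obtain ⟨a, ha, hax⟩ := hφ.2 rfl
        obtain ⟨b, hb, hbx⟩ := hψ.2 rfl
        refine ⟨b * a, mul_mem hb ha, fun x hx => ?_⟩
        show ψ ⟨φ x, h x⟩ = _
        rw [hbx _ (h x), MulAut.mul_apply]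
        exact congrArg (fun w : T => (b w : Ω)) (Subtype.ext (hax x hx))⟩
      inv_mem := fun {P φ} hφ => ⟨_, ⟨rangeInv_mem hφ.1, fun e => by
        have hP : P = T := by
          refine Subgroup.eq_of_le_of_card_ge (src_le hφ.1) ?_
          rw [← e, card_range hφ.1]
        obtain ⟨a, ha, hax⟩ := hφ.2 hP
        refine ⟨a⁻¹, inv_mem ha, ?_⟩
        rintro ⟨_, x, rfl⟩ hy
        refine (rangeInv_apply φ _ x _).trans ?_
        have h1 : (⟨φ x, hy⟩ : T) = a ⟨x, hP.le x.2⟩ := Subtype.ext (hax x (hP.le x.2))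
        show _ = ((a⁻¹ (⟨φ x, hy⟩ : T) : T) : Ω)
        rw [h1, MulAut.inv_apply_self]⟩, fun x => rangeInv_apply _ _ x _⟩ }
  intro a ha
  have hmem : autHom a ∈ E'.Hom T := (autGroup_hom_mem le_rfl ha).2 E' fun R hR b hb =>
    ⟨autHom_mem_liftD d hR hb, fun e => by subst e; exact ⟨b, hb, fun _ _ => rfl⟩⟩
  obtain ⟨b, hb, hbx⟩ := hmem.2 rfl
  convert hb using 1
  exact MulEquiv.ext fun x => Subtype.ext (hbx x x.2)

/-- The map, read on `P₀` through maps of the normalizers, is in `A0`. -/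
def Good (P₀ Q : Subgroup Ω) (φ : Q →* Ω) : Prop :=
  ∀ R, φ.range = R → ∀ δ ∈ (liftD d).Hom (normalizerIn (top θ T') Q), imgSub δ Q = P₀ →
    ∀ δ' ∈ (liftD d).Hom (normalizerIn (top θ T') R), imgSub δ' R = P₀ → ∀ a : MulAut P₀,
      (∀ (x : Q) (h₁ : (x : Ω) ∈ normalizerIn (top θ T') Q) (h₂ : δ ⟨x, h₁⟩ ∈ P₀)
        (h₃ : φ x ∈ normalizerIn (top θ T') R), (a ⟨_, h₂⟩ : Ω) = δ' ⟨φ x, h₃⟩) →
      a ∈ A0 d P₀

/-- The automorphism groups of `liftD` are the groups `A0`. -/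
theorem autGroup_liftD_le {P : Subgroup Ω} (hP : TCen (liftSystem d) Z P) :
    (liftD d).autGroup P ≤ A0 d P := by
  haveI := finite_top d
  have hTp := isPGroup_top d
  suffices key : ∀ n (P : Subgroup Ω), Nat.card (top θ T') - Nat.card P ≤ n →
      TCen (liftSystem d) Z P → (liftD d).autGroup P ≤ A0 d P from key _ P le_rfl hP
  clear hP P
  intro n
  induction n using Nat.strong_induction_on with
  | _ n ih =>
  intro P hn hP
  by_cases hPT : P = top θ T'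
  · subst hPT; exact autGroup_liftD_top d
  obtain ⟨P₀, ⟨φ₀, hφ₀, hr₀⟩, hP₀n⟩ := exists_isFullyNormalized_conj (liftSystem d) hP.2.1
  have hc₀ : Nat.card P₀ = Nat.card P := hr₀ ▸ card_range hφ₀
  have hP₀ : TCen (liftSystem d) Z P₀ := hr₀ ▸ hP.image_hom d hφ₀.1
  have hIH : ∀ R, TCen (liftSystem d) Z R → Nat.card P₀ < Nat.card R →
      (liftD d).autGroup R ≤ A0 d R := fun R hR hc => by
    have := Subgroup.card_le_of_le hR.2.1
    exact ih _ (by omega) R le_rfl hR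
  -- conjugates of `P₀`
  have hcl : ∀ Q, (liftSystem d).IsConj P₀ Q → TCen (liftSystem d) Z Q ∧ Q ≠ top θ T' := by
    intro Q hQ
    refine ⟨?_, fun e => hPT ?_⟩
    · obtain ⟨φ, hφ, rfl⟩ := hQ
      exact hP₀.image_hom d hφ.1
    · refine Subgroup.eq_of_le_of_card_ge hP.2.1 ?_
      rw [← hc₀, ← e, isConj_card hQ]
  have hbig : ∀ (Q R : Subgroup Ω) (ψ : R →* Ω) (hQR : Q ≤ R), (liftSystem d).IsConj P₀ Q →
      Q ≠ R → R ≤ normalizerIn (top θ T') Q → ψ ∈ (liftD d).Hom R →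
      Good d P₀ Q (ψ.comp (Subgroup.inclusion hQR)) := by
    intro Q R ψ hQR hQ hne hRQ hψ B hB δ hδ hδP δ' hδ' hδ'P a hax
    obtain rfl : imgSub ψ Q = B := (range_restrict ψ hQR).symm.trans hB
    obtain ⟨a', -, W, ψ', hψ', hPW, hWN, hcard, hag', hax'⟩ :=
      exists_transfer hP₀.2.1 hδ hδP hψ hQR hRQ rfl hδ' hδ'P
    have e : a = a' := by
      refine MulEquiv.ext fun y => Subtype.ext ?_
      obtain ⟨x, hx, hxy⟩ := mem_imgSub.1 (hδP.ge y.2)
      have h2 : δ x ∈ P₀ := hxy ▸ y.2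
      have h3 : ψ ⟨x, hQR hx⟩ ∈ normalizerIn (top θ T') (imgSub ψ Q) :=
        apply_mem_normalizerIn hψ _ x.2.2
      rw [show y = ⟨δ x, h2⟩ from Subtype.ext hxy.symm]
      exact (hax ⟨x, hx⟩ x.2 h2 h3).trans (hax' ⟨x, hQR hx⟩ h2 h3 hx).symm
    refine link_mem d hP₀ hP₀n hIH W a ψ' hPW (fun e' => ?_) hWN hψ'
      (fun x h => by rw [e]; exact hag' x h)
    rw [← e', ← isConj_card hQ] at hcard
    haveI : Finite R := finite_of_le (src_le hψ)
    exact hne (Subgroup.eq_of_le_of_card_ge hQR hcard.ge)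
  have hbig' : ∀ (Q U : Subgroup Ω) (ψ : U →* Ω) (hQU : Q ≤ U), (liftSystem d).IsConj P₀ Q →
      Q ≠ U → ψ ∈ (liftD d).Hom U → Good d P₀ Q (ψ.comp (Subgroup.inclusion hQU)) := by
    intro Q U ψ hQU hQ hne hψ
    haveI : Finite U := finite_of_le (src_le hψ)
    have hlt := Fusion87.card_lt_normalizerIn (hTp.to_le (src_le hψ)) hQU hne
    exact hbig Q (normalizerIn U Q) (ψ.comp (Subgroup.inclusion inf_le_left))
      (le_normalizerIn hQU) hQ (fun e => absurd (congrArg (fun K : Subgroup Ω => Nat.card K) e) hlt.ne)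
      (inf_le_inf_right _ (src_le hψ)) (restrict_mem hψ inf_le_left)
  let E' : FusionSystem (top θ T') :=
    { Hom := fun U => {φ | φ ∈ (liftD d).Hom U ∧ ∀ Q (hQU : Q ≤ U), (liftSystem d).IsConj P₀ Q →
        Good d P₀ Q (φ.comp (Subgroup.inclusion hQU))}
      le_of_mem := fun h => (liftD d).le_of_mem h.1
      injective_of_mem := fun h => (liftD d).injective_of_mem h.1
      conj_mem := fun {U g} hU hg => ⟨(liftD d).conj_mem hU hg, fun Q hQU hQ =>
        hbig' Q _ _ (hQU.trans hU) hQ (hcl Q hQ).2 ((liftD d).conj_mem le_rfl hg)⟩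
      comp_mem := fun {U V φ ψ} hφ hψ h => ⟨(liftD d).comp_mem hφ.1 hψ.1 h, fun Q hQU hQ => by
        intro R hR δ hδ hδP δ' hδ' hδ'P a hax
        have hle : imgSub φ Q ≤ V := by
          intro y hy
          obtain ⟨x, -, rfl⟩ := mem_imgSub.1 hy
          exact h x
        have hQ' : (liftSystem d).IsConj P₀ (imgSub φ Q) :=
          isConj_trans hQ (isConj_imgSub hφ.1.1 hQU)
        have hφQ := restrict_mem hφ.1 hQU
        have hψB := restrict_mem hψ.1 hle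
        obtain ⟨δm, hδm, hδmP⟩ := exists_sink d (hcl _ hQ').1 hP₀.2.1 hP₀n (isConj_symm hQ')
        have hQN : Q ≤ normalizerIn (top θ T') Q := le_normalizerIn (src_le hφQ)
        obtain ⟨a₁, -, _, _, -, -, -, -, -, ha₁x⟩ := exists_transfer hP₀.2.1 hδ hδP hφQ le_rfl hQN
          ((imgSub_self _).trans (range_restrict φ hQU)) hδm hδmP
        have hBN : imgSub φ Q ≤ normalizerIn (top θ T') (imgSub φ Q) :=
          le_normalizerIn (src_le hψB)
        have hψr : (ψ.comp (Subgroup.inclusion hle)).range = R := by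
          rw [← hR]
          refine le_antisymm ?_ ?_
          · rintro _ ⟨⟨y, hy⟩, rfl⟩
            obtain ⟨x, hx, rfl⟩ := mem_imgSub.1 hy
            exact ⟨⟨x, hx⟩, rfl⟩
          · rintro _ ⟨x, rfl⟩
            exact ⟨⟨_, apply_mem_imgSub φ (Subgroup.inclusion hQU x) x.2⟩, rfl⟩
        obtain ⟨a₂, -, _, _, -, -, -, -, -, ha₂x⟩ :=
          exists_transfer hP₀.2.1 hδm hδmP hψB le_rfl hBN ((imgSub_self _).trans hψr) hδ' hδ'P
        have e : a = a₂ * a₁ := by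
          refine MulEquiv.ext fun y => Subtype.ext ?_
          obtain ⟨x, hx, hxy⟩ := mem_imgSub.1 (hδP.ge y.2)
          have h2 : δ x ∈ P₀ := hxy ▸ y.2
          rw [show y = ⟨δ x, h2⟩ from Subtype.ext hxy.symm, MulAut.mul_apply]
          have hb : φ ⟨x, hQU hx⟩ ∈ imgSub φ Q := apply_mem_imgSub φ _ hx
          have hm₂ : δm ⟨_, hBN hb⟩ ∈ P₀ := hδmP.le (apply_mem_imgSub δm _ hb)
          have h4 : a₁ ⟨δ x, h2⟩ = ⟨_, hm₂⟩ := Subtype.ext (ha₁x ⟨x, hx⟩ h2 (hBN hb) hx)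
          have hmemR : ψ ⟨_, hle hb⟩ ∈ R := hψr.le ⟨⟨_, hb⟩, rfl⟩
          have h3 : ψ ⟨_, hle hb⟩ ∈ normalizerIn (top θ T') R :=
            le_normalizerIn (hψr ▸ range_le hψB) hmemR
          rw [h4]
          exact (hax ⟨x, hx⟩ x.2 h2 h3).trans (ha₂x ⟨_, hb⟩ hm₂ h3 hb).symm
        rw [e]
        exact mul_mem
          (hψ.2 _ hle hQ' R hψr δm hδm hδmP δ' hδ' hδ'P a₂ fun x _ h₂ h₃ => ha₂x x h₂ h₃ x.2)
          (hφ.2 Q hQU hQ _ (range_restrict φ hQU) δ hδ hδP δm hδm hδmP a₁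
            fun x _ h₂ h₃ => ha₁x x h₂ h₃ x.2)⟩
      inv_mem := fun {U φ} hφ => ⟨_, ⟨rangeInv_mem hφ.1, fun Q hQU hQ => by
        intro R hR δ hδ hδP δ' hδ' hδ'P a hax
        set μ := rangeInv φ ((liftD d).injective_of_mem hφ.1) with hμ
        have hμm : μ ∈ (liftD d).Hom φ.range := rangeInv_mem hφ.1
        obtain rfl : imgSub μ Q = R := (range_restrict μ hQU).symm.trans hR
        have hle : imgSub μ Q ≤ U := (imgSub_le_range μ).trans (range_rangeInv _ _).le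
        have hQ' : (liftSystem d).IsConj P₀ (imgSub μ Q) :=
          isConj_trans hQ (isConj_imgSub hμm.1 hQU)
        have hr : (φ.comp (Subgroup.inclusion hle)).range = Q := by
          refine le_antisymm ?_ fun y hy => ?_
          · rintro _ ⟨⟨x, hx⟩, rfl⟩
            obtain ⟨z, hz, rfl⟩ := mem_imgSub.1 hx
            exact (congrArg (· ∈ Q) (apply_rangeInv φ _ z _)).mpr hz
          · exact ⟨⟨_, apply_mem_imgSub μ ⟨y, hQU hy⟩ hy⟩, apply_rangeInv φ _ _ _⟩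
        have h := hφ.2 _ hle hQ' Q hr δ' hδ' hδ'P δ hδ hδP a⁻¹ fun x h₁ h₂ h₃ => by
          obtain ⟨z, hz, hzx⟩ := mem_imgSub.1 x.2
          have h6 : δ ⟨z, le_normalizerIn (hQU.trans (range_le hφ.1)) hz⟩ ∈ P₀ :=
            hδP.le (apply_mem_imgSub δ _ hz)
          have h7 : a ⟨_, h6⟩ = ⟨δ' ⟨x, h₁⟩, h₂⟩ := Subtype.ext (
            (hax ⟨z, hz⟩ _ h6 (show μ z ∈ _ by rw [hzx]; exact h₁)).trans
              (congrArg δ' (Subtype.ext hzx)))
          rw [← h7, MulAut.inv_apply_self]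
          refine congrArg δ (Subtype.ext ?_)
          show (z : Ω) = φ (Subgroup.inclusion hle x)
          rw [← apply_rangeInv φ ((liftD d).injective_of_mem hφ.1) z (rangeInv_mem_src _ _ z)]
          exact congrArg φ (Subtype.ext hzx)
        simpa using inv_mem h⟩, fun x => rangeInv_apply _ _ x _⟩ }
  have hgen : GenAll d E' := fun R hR b hb => ⟨autHom_mem_liftD d hR hb, fun Q hQR hQ => by
    by_cases hne : Q = R
    · subst hne
      intro B hB δ hδ hδP δ' hδ' hδ'P a hax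
      obtain rfl : Q = B := by
        rw [← hB, range_restrict, imgSub_self, range_autHom]
      have hQN : Q ≤ normalizerIn (top θ T') Q := le_normalizerIn hR.2.1
      have hm : δ.comp (Subgroup.inclusion hQN) ∈ (liftD d).Hom Q := restrict_mem hδ hQN
      have hmr : (δ.comp (Subgroup.inclusion hQN)).range = P₀ := (range_restrict δ hQN).trans hδP
      have hb' := congr_mem_A0 d hR.2.1 hm.1.1 hmr hb
      have hneN : Q ≠ normalizerIn (top θ T') Q := fun e => by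
        have := Fusion87.card_lt_normalizerIn hTp hR.2.1 (hcl Q hQ).2
        rw [← e] at this
        omega
      set b' := MulAut.congr (isoOnto _ (F.injective_of_mem hm.1.1) hmr) b with hb''
      have hinclQ : ((normalizerIn (top θ T') Q).subtype.comp (Subgroup.inclusion hQN)).range = Q := by
        refine le_antisymm ?_ fun y hy => ⟨⟨y, hy⟩, rfl⟩
        rintro _ ⟨x, rfl⟩
        exact x.2
      have h1 := hbig Q _ _ hQN hQ hneN le_rfl (subtype_mem (inf_le_left : normalizerIn _ Q ≤ _))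
        Q hinclQ
        δ hδ hδP δ' hδ' hδ'P (a * b'⁻¹) fun x h₁ h₂ h₃ => by
          have h6 : δ ⟨(b⁻¹ x : Ω), hQN (b⁻¹ x).2⟩ ∈ P₀ :=
            hδP.le (apply_mem_imgSub δ _ (b⁻¹ x).2)
          have h5 : b' ⟨_, h6⟩ = ⟨δ ⟨x, h₁⟩, h₂⟩ := by
            rw [hb'', show (⟨_, h6⟩ : P₀) = isoOnto _ (F.injective_of_mem hm.1.1) hmr (b⁻¹ x) from
              Subtype.ext rfl, congr_apply_apply, MulAut.apply_inv_self]
            exact Subtype.ext rfl
          rw [MulAut.mul_apply, ← h5, MulAut.inv_apply_self]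
          refine (hax (b⁻¹ x) _ h6 ((congrArg (· ∈ normalizerIn (top θ T') Q)
            (congrArg Subtype.val (MulAut.apply_inv_self _ b x))).mpr h₃)).trans ?_
          exact congrArg δ' (Subtype.ext (congrArg Subtype.val (MulAut.apply_inv_self _ b x) :))
      have := mul_mem h1 hb'
      rwa [inv_mul_cancel_right] at this
    · exact hbig' Q R _ hQR hQ hne (autHom_mem_liftD d hR hb)⟩
  have hP₀le : (liftD d).autGroup P₀ ≤ A0 d P₀ := by
    intro a ha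
    have hm := (autGroup_hom_mem hP₀.2.1 ha).2 E' hgen
    have hincl : (normalizerIn (top θ T') P₀).subtype ∈ (liftD d).Hom _ := subtype_mem inf_le_left
    have hinclP : imgSub (normalizerIn (top θ T') P₀).subtype P₀ = P₀ := by
      rw [← range_restrict _ (le_normalizerIn hP₀.2.1)]
      exact le_antisymm (by rintro _ ⟨x, rfl⟩; exact x.2) fun x hx => ⟨⟨x, hx⟩, rfl⟩
    exact hm.2 P₀ le_rfl (isConj_refl hP₀.2.1) P₀ (by rw [range_restrict, imgSub_self, range_autHom])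
      _ hincl hinclP _ hincl hinclP a fun x _ _ _ => rfl
  intro a ha
  obtain ⟨δ₀, hδ₀, hmod⟩ := exists_liftD_modZ d hP.1 hφ₀
  have hr : δ₀.range = P₀ := (range_eq_of_modZ d hP.1 hφ₀.1 hδ₀.1.1 hmod).symm.trans hr₀
  obtain ⟨τ, hτ, hτr, hτx, -⟩ := exists_inverse hδ₀ hr
  set e := isoOnto δ₀ ((liftD d).injective_of_mem hδ₀) hr
  have hb : MulAut.congr e a ∈ (liftD d).autGroup P₀ :=
    congr_mem_autGroup e (mem_congr hδ₀ fun _ => rfl) ha
  have hback := congr_mem_A0 d hP₀.2.1 hτ.1.1 hτr (hP₀le hb)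
  convert hback using 1
  refine MulEquiv.ext fun x => ?_
  have he : ∀ z, isoOnto τ (F.injective_of_mem hτ.1.1) hτr (e z) = z := fun z =>
    Subtype.ext (hτx z (e z).2)
  conv_rhs => rw [← he x]
  rw [congr_apply_apply, congr_apply_apply, he]

end Cfsg.Agent.Lib.Fusion.CentralLift
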