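/-
A normal subsystem of the quotient by a central subgroup is induced by a weakly normal subsystem
over the preimage.
-/
import Cfsg.Agent.Lib.Fusion.CentralLiftLink

set_option autoImplicit false

namespace Cfsg.Agent.Lib.Fusion.CentralLift

open Cfsg Cfsg.FusionSystem
open Cfsg.Agent.Lib.FusionFactor (mem_preimageAlong mem_imageAlong preimageAlong_le exists_preimage)

variable {Ω : Type*} [Group Ω] {S Z : Subgroup Ω} {F : FusionSystem S} {p : ℕ}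
  {Ω' : Type*} [Group Ω'] {S' T' : Subgroup Ω'} {θ : S →* Ω'} {Fb : FusionSystem S'}
  {E : FusionSystem T'}

variable (d : Data p F Z θ Fb E)
include d

variable [Finite S] [Fact p.Prime]

theorem isSaturated_liftD : (liftD d).IsSaturated p := by
  haveI := finite_top d
  have hTp := isPGroup_top d
  refine isSaturated_of_generated hTp (ℋ := {P | TCen (liftSystem d) Z P}) ?_ ?_ ?_ ?_
  · rintro P hP Q ⟨φ, hφ, rfl⟩
    exact hP.image_hom d hφ.1.1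
  · intro P hP
    obtain ⟨X, hPX, hX⟩ := exists_isFullyNormalized_conj (liftSystem d) hP.2.1
    have hXc : TCen (liftSystem d) Z X := by
      obtain ⟨φ, hφ, rfl⟩ := hPX
      exact hP.image_hom d hφ.1
    exact ⟨X, isConj_liftD d hP.1 hPX,
      isFullyAutomized_liftD d hXc hX (autGroup_liftD_le d hXc),
      isReceptive_liftD d hXc hX (autGroup_liftD_le d hXc)⟩
  · intro E' hE' P φ hφ
    exact hφ.2 E' fun R hR a ha => hE' R hR (autHom_mem_liftD d hR ha)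
  · intro P hc hPH
    have hZP : Z ≤ P := fun z hz => centralizerIn_le_of_isCentric hc
      ⟨le_top d hz, fun y hy => comm d hz (top_le (hc.1 hy))⟩
    obtain ⟨φ, hφ, t, ht, htc, htn⟩ : ∃ φ ∈ (liftSystem d).Hom P, ∃ t ∈ top θ T',
        (∀ y ∈ φ.range, t * y * t⁻¹ * y⁻¹ ∈ Z) ∧ t ∉ φ.range := by
      by_contra hne
      push_neg at hne
      exact hPH ⟨hZP, hc.1, fun φ hφ t ht htc => hne φ hφ t ht htc⟩
    obtain ⟨δ, hδ, hmod⟩ := exists_liftD_modZ d hZP hφ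
    rw [range_eq_of_modZ d hZP hφ.1 hδ.1.1 hmod] at htc htn
    set Q := δ.range with hQ
    have hQT : Q ≤ top θ T' := range_le hδ
    have hZQ : Z ≤ Q := fun z hz => ⟨⟨z, hZP hz⟩, fix d hδ.1.1 ⟨z, hZP hz⟩ hz⟩
    have hQS := hQT.trans top_le
    haveI : Finite Q := finite_of_le hQS
    haveI := finite_mulAut hQS
    have hn : t ∈ Subgroup.normalizer (Q : Set Ω) := by
      have h1 : ∀ y ∈ Q, t * y * t⁻¹ ∈ Q := fun y hy => by
        have h := Q.mul_mem (hZQ (htc y hy)) hy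
        rwa [inv_mul_cancel_right] at h
      refine Subgroup.mem_normalizer_iff.2 fun y => ⟨h1 y, fun hy => ?_⟩
      have hs : Function.Surjective (fun z : Q => (⟨_, h1 z z.2⟩ : Q)) :=
        Finite.surjective_of_injective fun u v huv => Subtype.ext
          (mul_left_cancel (mul_right_cancel (congrArg Subtype.val huv)))
      obtain ⟨z, hz⟩ := hs ⟨_, hy⟩
      rw [← mul_left_cancel (mul_right_cancel (congrArg Subtype.val hz))]
      exact z.2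
    refine ⟨Q, isConj_range hδ, fun hle => ?_⟩
    set w := conjAut Q t hn with hw
    have hwT : w ∈ autInducedBy (top θ T') Q := mem_autInducedBy.2 ⟨t, ht, fun _ => rfl⟩
    have hwD : w ∈ (liftD d).autGroup Q := autInducedBy_le_autGroup hQT hwT
    have hwK : w ∈ kGroup d Q hQS := by
      refine ⟨autGroup_mono (liftD_le d) Q hwD, fun x => ?_⟩
      have h := htc x x.2
      show (x : Ω)⁻¹ * (t * x * t⁻¹) ∈ Z
      have h2 := comm d h (hQS x.2)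
      rwa [show (x : Ω)⁻¹ * (t * x * t⁻¹) = t * x * t⁻¹ * (x : Ω)⁻¹ from by
        rw [inv_mul_eq_iff_eq_mul, h2, inv_mul_cancel_right]]
    have hn' : ((kGroup d Q hQS ⊓ (liftD d).autGroup Q).subgroupOf
        ((liftD d).autGroup Q)).Normal := ⟨fun k hk g => by
      rw [Subgroup.mem_subgroupOf] at hk ⊢
      exact ⟨conj_mem_kGroup d hQS (autGroup_mono (liftD_le d) Q g.2) hk.1,
        (g * k * g⁻¹).2⟩⟩
    have hcore : w ∈ (pCore p ((liftD d).autGroup Q)).map ((liftD d).autGroup Q).subtype :=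
      ⟨⟨w, hwD⟩, PSolvable.le_pCore (hN := hn')
        (((isPGroup_kGroup d hQS).to_le inf_le_left).comap_subtype) ⟨hwK, hwD⟩, rfl⟩
    obtain ⟨q, hq⟩ := hle ⟨hwT, hcore⟩
    refine htn ?_
    have hc' : (q : Ω)⁻¹ * t ∈ centralizerIn (top θ T') Q := by
      refine ⟨(top θ T').mul_mem ((top θ T').inv_mem (hQT q.2)) ht, fun y hy => ?_⟩
      have h1 : (q : Ω) * y * (q : Ω)⁻¹ = t * y * t⁻¹ :=
        congrArg (fun f : MulAut Q => ((f ⟨y, hy⟩ : Q) : Ω)) hq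
      have h2 : y * ((q : Ω)⁻¹ * t) = (q : Ω)⁻¹ * ((q : Ω) * y * (q : Ω)⁻¹) * t := by group
      rw [h2, h1]
      group
    have h := Q.mul_mem q.2 (hc.2 Q (isConj_range hδ) hc')
    rwa [mul_inv_cancel_left] at h

/-- `liftD` is invariant under the automorphisms of the preimage in `F`. -/
theorem actInvariant_liftD : ActInvariant (liftD d) F := by
  intro a ha Q ψ hψ
  haveI := finite_top d
  have haF := autGroup_hom_mem top_le ha
  have hgen : GenAll d (transportAct (liftSystem d) (liftD d) a) := by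
    intro R hR b hb
    have hm := restrict_mem haF hR.2.1
    have hc : TCen (liftSystem d) Z ((autHom a).comp (Subgroup.inclusion hR.2.1)).range :=
      hR.image_hom d hm
    refine ⟨autGroup_hom_mem hR.2.1 (A0_le d R hb), _, _,
      autHom_mem_liftD d hc (congr_mem_A0 d hR.2.1 hm rfl hb), fun x => ⟨⟨x, rfl⟩, ?_⟩⟩
    exact congrArg Subtype.val
      (congr_apply_apply (isoOnto _ (F.injective_of_mem hm) rfl) b x)
  obtain ⟨hψG, R, χ, hχ, hx⟩ := hψ.2 _ hgen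
  obtain ⟨χ', hχ', hχ'x⟩ := exists_restrict_act (src_le hψ) hχ fun x => (hx x).1
  exact ⟨χ', hχ', fun x => (hχ'x x).trans (hx x).2⟩

/-- The Frattini decomposition for `liftD`. -/
theorem frattini_liftD {P : Subgroup Ω} (hP : P ≤ top θ T') {φ : P →* Ω} (hφ : φ ∈ F.Hom P) :
    ∃ α ∈ F.autGroup (top θ T'), ∃ φ₀ ∈ (liftD d).Hom P,
      ∀ (x : P) (hx : φ₀ x ∈ top θ T'), φ x = (α ⟨φ₀ x, hx⟩ : Ω) := by
  -- enlarge the source by `Z`
  suffices key : ∀ (P : Subgroup Ω), Z ≤ P → P ≤ top θ T' → ∀ φ ∈ F.Hom P,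
      ∃ α ∈ F.autGroup (top θ T'), ∃ φ₀ ∈ (liftD d).Hom P,
        ∀ (x : P) (hx : φ₀ x ∈ top θ T'), φ x = (α ⟨φ₀ x, hx⟩ : Ω) by
    obtain ⟨ψ, hψ, hψP, -⟩ := d.central.2 P φ hφ
    obtain ⟨α, hα, φ₀, hφ₀, hx⟩ := key (P ⊔ Z) le_sup_right (sup_le hP (le_top d)) ψ hψ
    exact ⟨α, hα, _, restrict_mem hφ₀ le_sup_left, fun x h => (hψP x).symm.trans (hx _ h)⟩
  clear hφ φ hP P
  intro P hZ hP φ hφ
  haveI := finite_top d
  have hPS := hP.trans top_le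
  haveI : Finite P := finite_of_le hPS
  obtain ⟨α, hα, φ₁, hφ₁, hdec⟩ := frattini d hP hφ
  obtain ⟨δ, hδ, hmod⟩ := exists_liftD_modZ d hZ hφ₁
  -- a conjugate fully normalized in `F`
  obtain ⟨Q₀, ⟨η₀, hη₀, hr₀⟩, hQ₀⟩ := exists_isFullyNormalized_conj F hPS
  obtain ⟨α₁, hα₁, ω, hω, hdec₁⟩ := frattini d hP hη₀
  obtain ⟨δ₁, hδ₁, hmod₁⟩ := exists_liftD_modZ d hZ hω
  obtain ⟨η, hη, hηx⟩ := exists_comp hδ₁.1.1 (autGroup_hom_mem top_le hα₁) (val_mem hδ₁)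
  have hηmod : ModZ Z η₀ η := fun x => by
    rw [hdec₁, hηx, autHom_apply]
    have h := fix d (autGroup_hom_mem top_le hα₁)
      ((⟨ω x, val_mem hω x⟩ : top θ T')⁻¹ * ⟨δ₁ x, val_mem hδ₁ x⟩) (hmod₁ x)
    rw [map_mul, map_inv] at h
    exact h.symm ▸ hmod₁ x
  have hηr : η.range = Q₀ := (range_eq_of_modZ d hZ hη₀ hη hηmod).symm.trans hr₀
  -- the defect
  have hrδ : φ₁.range = δ.range := range_eq_of_modZ d hZ hφ₁.1 hδ.1.1 hmod
  obtain ⟨τ, hτ, hτr, hτx, hτy⟩ := exists_inverse hδ rfl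
  obtain ⟨μ, hμ, hμx⟩ := exists_comp hφ₁.1 hτ.1.1 fun x => hrδ.le ⟨x, rfl⟩
  obtain ⟨k, hk, hkx⟩ := exists_aut_of_hom hμ fun x => by rw [hμx]; exact hτr.le ⟨_, rfl⟩
  have hδk : ∀ x, δ (k x) = φ₁ x := fun x => by
    rw [show k x = ⟨τ ⟨φ₁ x, hrδ.le ⟨x, rfl⟩⟩, hτr.le ⟨_, rfl⟩⟩ from
      Subtype.ext ((hkx x).trans (hμx x))]
    exact hτy _ _
  have hkK : k ∈ kGroup d P hPS := by
    refine ⟨hk, fun x => ?_⟩
    have h1 : (δ x)⁻¹ * δ (k x) ∈ Z := by rw [hδk]; exact hmod.symm x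
    obtain ⟨u, hu⟩ : ∃ u : P, u = x⁻¹ * k x := ⟨_, rfl⟩
    have h2 : δ u ∈ Z := by rw [hu, map_mul, map_inv]; exact h1
    have h3 : δ ⟨δ u, hZ h2⟩ = δ u := fix d hδ.1.1 ⟨δ u, hZ h2⟩ h2
    have h4 : (⟨δ u, hZ h2⟩ : P) = u := (liftD d).injective_of_mem hδ h3
    show ((x⁻¹ * k x : P) : Ω) ∈ Z
    rw [← hu, ← h4]
    exact h2
  set e := isoOnto η (F.injective_of_mem hη) hηr with he
  have hk' : MulAut.congr e k ∈ kGroup d Q₀ hQ₀.1 :=
    ⟨congr_mem_autGroup e (mem_congr hη fun _ => rfl) hkK.1, kMod_congr d hη hηr hkK.2⟩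
  obtain ⟨s, hs, hsx⟩ := mem_autInducedBy.1 (kGroup_le_autInducedBy d hQ₀ hk')
  obtain ⟨c, hc, hcx⟩ := exists_aut_of_hom (F := F) (F.conj_mem top_le hs :
    conjHom (top θ T') s ∈ F.Hom _) fun y =>
      (stronglyClosed_top d).2 _ le_rfl _ (F.conj_mem top_le hs) y
  set β := α₁⁻¹ * c * α₁ with hβ
  have hβF : β ∈ F.autGroup (top θ T') := mul_mem (mul_mem (inv_mem hα₁) hc) hα₁
  have hδ₁T : ∀ x, δ₁ x ∈ top θ T' := val_mem hδ₁
  have hβx : ∀ x : P, δ₁ (k x) = (β ⟨δ₁ x, hδ₁T x⟩ : Ω) := fun x => by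
    have h1 : (α₁ ⟨δ₁ (k x), hδ₁T _⟩ : Ω) = (c (α₁ ⟨δ₁ x, hδ₁T x⟩) : Ω) := by
      rw [hcx]
      show _ = s * (α₁ ⟨δ₁ x, hδ₁T x⟩ : Ω) * s⁻¹
      rw [← autHom_apply α₁, ← autHom_apply α₁, ← hηx, ← hηx]
      have h := hsx (e x)
      rw [congr_apply_apply] at h
      exact h
    rw [hβ, MulAut.mul_apply, MulAut.mul_apply, ← Subtype.ext h1, MulAut.inv_apply_self]
  -- transport
  obtain ⟨τ₁, hτ₁, hτ₁r, hτ₁x, -⟩ := exists_inverse hδ₁ rfl
  obtain ⟨ρ, hρ, hρx⟩ := exists_comp hτ₁ hδ fun y => hτ₁r.le ⟨y, rfl⟩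
  obtain ⟨χ, hχ, hχx⟩ := actInvariant_liftD d β⁻¹ (inv_mem hβF) _ ρ hρ
  have hval : ∀ x : P, δ₁ x ∈ imgSub (autHom β⁻¹) δ₁.range := fun x => by
    have h := imgSub_act_mem (a := β⁻¹) (range_le hδ₁) ⟨δ₁ (k x), k x, rfl⟩
    rwa [show (⟨δ₁ (k x), range_le hδ₁ ⟨k x, rfl⟩⟩ : top θ T') = β ⟨δ₁ x, hδ₁T x⟩ from
      Subtype.ext (hβx x), MulAut.inv_apply_self] at h
  obtain ⟨φ₀, hφ₀, hφ₀x⟩ := exists_comp hδ₁ hχ hval
  refine ⟨α * β, mul_mem hα hβF, φ₀, hφ₀, fun x hx => ?_⟩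
  have h1 : φ₀ x = (β⁻¹ ⟨φ₁ x, val_mem hφ₁ x⟩ : Ω) := by
    rw [hφ₀x]
    refine (congrArg χ (Subtype.ext ?_)).trans ((hχx ⟨δ₁ (k x), k x, rfl⟩).trans ?_)
    · show δ₁ x = (β⁻¹ ⟨δ₁ (k x), _⟩ : Ω)
      rw [show (⟨δ₁ (k x), range_le hδ₁ ⟨k x, rfl⟩⟩ : top θ T') = β ⟨δ₁ x, hδ₁T x⟩ from
        Subtype.ext (hβx x), MulAut.inv_apply_self]
    · refine congrArg (fun w : top θ T' => (β⁻¹ w : Ω)) (Subtype.ext ?_)
      refine (hρx ⟨δ₁ (k x), k x, rfl⟩).trans (Eq.trans ?_ (hδk x))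
      exact congrArg δ (Subtype.ext (hτ₁x (k x) ⟨k x, rfl⟩))
  rw [hdec, MulAut.mul_apply,
    show (⟨φ₀ x, hx⟩ : top θ T') = β⁻¹ ⟨φ₁ x, val_mem hφ₁ x⟩ from Subtype.ext h1,
    MulAut.apply_inv_self]

theorem isWeaklyNormalIn_liftD : (liftD d).IsWeaklyNormalIn F p := by
  refine ⟨isSaturated_liftD d, d.saturated, liftD_le d, stronglyClosed_top d, ?_, ?_⟩
  · intro P hPT φ hφ α hα
    obtain ⟨χ, hχ, hx⟩ := actInvariant_liftD d α hα P φ hφ
    exact ⟨χ, hχ, fun x hφx hαx => hx x⟩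
  · intro P hP φ hφ
    exact frattini_liftD d hP hφ

/-- **Lifting through a central quotient.** A normal subsystem of the factor system is induced
by a weakly normal subsystem over the preimage. -/
theorem exists_weaklyNormal_lift :
    ∃ D : FusionSystem (top θ T'), D.IsWeaklyNormalIn F p ∧
      ∀ (P' : Subgroup Ω') (φ' : P' →* Ω'), φ' ∈ E.Hom P' →
        ∃ φ ∈ D.Hom (preimageAlong θ P'), InducedAlong θ φ φ' := by
  refine ⟨liftD d, isWeaklyNormalIn_liftD d, fun P' φ' hφ' => ?_⟩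
  have hP' : P' ≤ T' := src_le hφ'
  set P := preimageAlong θ P' with hP
  have hPT := preimage_le_top d hP'
  have hle : imageAlong θ P ≤ P' := (image_preimage (hP'.trans (top_le_range d))).le
  obtain ⟨φ, hφ, hφx⟩ := exists_lift d (le_preimage d P') hPT (restrict_mem hφ' hle)
  obtain ⟨δ, hδ, hmod⟩ := exists_liftD_modZ d (le_preimage d P') hφ
  refine ⟨δ, hδ, preimageAlong_le θ P', fun x => top_le (val_mem hδ x),
    fun x => ((mem_preimageAlong θ).1 x.2).2, fun x => ?_⟩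
  exact (hφx x).trans ((theta_eq d (x := ⟨φ x, top_le (val_mem hφ x)⟩)
    (y := ⟨δ x, top_le (val_mem hδ x)⟩)).2 (hmod x))

end Cfsg.Agent.Lib.Fusion.CentralLift
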