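/-
The centralizer in `S` of a normal subsystem is strongly closed.
-/
import Cfsg.Agent.Lib.Fusion.CentralizerNormal
import Cfsg.Agent.Lib.Fusion.ConstrainedSub

set_option autoImplicit false

namespace Cfsg.Agent.Lib.Fusion

open Cfsg Cfsg.FusionSystem

universe u

variable {Ω : Type u} [Group Ω] {S T : Subgroup Ω} {F : FusionSystem S} {E : FusionSystem T}
  {p : ℕ}

/-- A conjugate of a radical subgroup is radical. -/
theorem isRadical_of_range {Q : Subgroup Ω} (hQ : F.IsRadical p Q) {φ : Q →* Ω}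
    (hφ : φ ∈ F.Hom Q) {Q' : Subgroup Ω} (hr : φ.range = Q') : F.IsRadical p Q' := by
  set e := isoOnto φ (F.injective_of_mem hφ) hr with he
  set f := MulAut.congr e with hf
  have hA : (F.autGroup Q).map f.toMonoidHom = F.autGroup Q' := map_congr_autGroup hφ hr
  refine ⟨hr ▸ range_le hφ, ?_⟩
  have hcore : (pCore p (F.autGroup Q')).map (F.autGroup Q').subtype =
      ((pCore p (F.autGroup Q)).map (F.autGroup Q).subtype).map f.toMonoidHom := by
    have key : ∀ {A : Subgroup (MulAut Q)} {B : Subgroup (MulAut Q')}, A.map f.toMonoidHom = B →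
        (pCore p B).map B.subtype = ((pCore p A).map A.subtype).map f.toMonoidHom := by
      rintro A _ rfl
      set g := A.equivMapOfInjective f.toMonoidHom f.injective with hg
      have h1 : (pCore p A).map g.toMonoidHom = pCore p ↥(A.map f.toMonoidHom) := by
        refine le_antisymm ?_ ?_
        · haveI : (pCore p A).Normal := pCore_normal
          haveI : ((pCore p A).map g.toMonoidHom).Normal :=
            Subgroup.Normal.map inferInstance _ g.surjective
          exact PSolvable.le_pCore (PSolvable.pCore_isPGroup.map _)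
        · haveI : (pCore p ↥(A.map f.toMonoidHom)).Normal := pCore_normal
          haveI : ((pCore p ↥(A.map f.toMonoidHom)).map g.symm.toMonoidHom).Normal :=
            Subgroup.Normal.map inferInstance _ g.symm.surjective
          have h2 := PSolvable.le_pCore (p := p)
            (N := (pCore p ↥(A.map f.toMonoidHom)).map g.symm.toMonoidHom)
            (PSolvable.pCore_isPGroup.map _)
          intro x hx
          exact ⟨g.symm x, h2 ⟨x, hx, rfl⟩, g.apply_symm_apply x⟩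
      rw [← h1, Subgroup.map_map, Subgroup.map_map]
      rfl
    exact key hA
  rw [hcore, hQ.2]
  refine le_antisymm ?_ ?_
  · rintro _ ⟨_, ⟨x, rfl⟩, rfl⟩
    refine ⟨e x, MulEquiv.ext fun y => ?_⟩
    show e x * y * (e x)⁻¹ = e (x * e.symm y * x⁻¹)
    rw [map_mul, map_mul, map_inv, e.apply_symm_apply]
  · rintro _ ⟨x, rfl⟩
    refine ⟨MulAut.conj (e.symm x), ⟨_, rfl⟩, MulEquiv.ext fun y => ?_⟩
    show e (e.symm x * e.symm y * (e.symm x)⁻¹) = x * y * x⁻¹
    rw [map_mul, map_mul, map_inv, e.apply_symm_apply, e.apply_symm_apply]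

/-- In a centric radical `Q` of a system with strongly closed `T`, the intersection with `T`
contains its centralizer in `T`. -/
theorem centralizerIn_inf_le [Fact p.Prime] [Finite S] (hS : IsPGroup p S)
    (hT : F.StronglyClosed T) {Q : Subgroup Ω} (hQc : F.IsCentric Q) (hQr : F.IsRadical p Q) :
    centralizerIn T (Q ⊓ T) ≤ Q ⊓ T := by
  set V := Q ⊓ T with hV
  set W := centralizerIn T V with hW
  haveI := finite_mulAut (S := S) hQc.1
  have hWS : W ≤ S := inf_le_left.trans hT.1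
  have hQW : Q ≤ Subgroup.normalizer (W : Set Ω) := by
    intro q hq
    have hqT := stronglyClosed_le_normalizer hT (hQc.1 hq)
    have hqV : q ∈ Subgroup.normalizer (V : Set Ω) := conjSub_eq_self_iff.1 (by
      rw [hV, conjSub_inf, conjSub_self_of_mem hq, conjSub_eq_self_iff.2 hqT])
    refine conjSub_eq_self_iff.1 ?_
    show conjSub q (T ⊓ Subgroup.centralizer (V : Set Ω)) = T ⊓ _
    rw [conjSub_inf, conjSub_centralizer, conjSub_eq_self_iff.2 hqV, conjSub_eq_self_iff.2 hqT]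
  have hfixV : ∀ κ ∈ F.autGroup Q, ∀ q : Q, (q : Ω) ∈ V → (κ q : Ω) ∈ V := fun κ hκ q hq =>
    ⟨(κ q).2, stronglyClosed_map hT (autGroup_hom_mem hQc.1 hκ) q hq.2⟩
  let K : Subgroup (MulAut Q) :=
    { carrier := {κ | κ ∈ F.autGroup Q ∧ (∀ q : Q, (q : Ω) ∈ V → κ q = q) ∧
        ∀ q : Q, (q : Ω)⁻¹ * (κ q : Ω) ∈ V}
      one_mem' := ⟨one_mem _, fun q _ => rfl, fun q => by
        show (q : Ω)⁻¹ * (q : Ω) ∈ V
        rw [inv_mul_cancel]; exact one_mem _⟩
      mul_mem' := by
        rintro a b ⟨ha, haf, has⟩ ⟨hb, hbf, hbs⟩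
        refine ⟨mul_mem ha hb, fun q hq => ?_, fun q => ?_⟩
        · rw [MulAut.mul_apply, hbf q hq, haf q hq]
        · have e : (q : Ω)⁻¹ * ((a * b) q : Ω) =
              ((q : Ω)⁻¹ * (b q : Ω)) * ((b q : Ω)⁻¹ * (a (b q) : Ω)) := by
            rw [MulAut.mul_apply]; group
          rw [e]
          exact mul_mem (hbs q) (has _)
      inv_mem' := by
        rintro a ⟨ha, haf, has⟩
        refine ⟨inv_mem ha, fun q hq => ?_, fun q => ?_⟩
        · conv_lhs => rw [← haf q hq]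
          exact MulAut.inv_apply_self _ a q
        · have h1 := inv_mem (has (a⁻¹ q))
          rw [MulAut.apply_inv_self, mul_inv_rev, inv_inv] at h1
          exact h1 }
  haveI hKn : (K.subgroupOf (F.autGroup Q)).Normal := by
    refine ⟨fun m hm g => ⟨mul_mem (mul_mem g.2 hm.1) (inv_mem g.2), fun q hq => ?_, fun q => ?_⟩⟩
    · show (g : MulAut Q) ((m : MulAut Q) ((g : MulAut Q)⁻¹ q)) = q
      have h : (m : MulAut Q) ((g : MulAut Q)⁻¹ q) = (g : MulAut Q)⁻¹ q :=
        hm.2.1 _ (hfixV _ (inv_mem g.2) q hq)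
      rw [h, MulAut.apply_inv_self]
    · set w := (g : MulAut Q)⁻¹ q with hw
      have e : (q : Ω)⁻¹ * ((g : MulAut Q) ((m : MulAut Q) w) : Ω) =
          ((g : MulAut Q) (w⁻¹ * (m : MulAut Q) w) : Ω) := by
        rw [map_mul, map_inv, hw, MulAut.apply_inv_self]
        rfl
      show (q : Ω)⁻¹ * ((g : MulAut Q) ((m : MulAut Q) w) : Ω) ∈ V
      rw [e]
      exact hfixV _ g.2 _ (hm.2.2 w)
  have hKp : IsPGroup p (K.subgroupOf (F.autGroup Q)) := by
    refine Fusion87.isPGroup_of_coprime_trivial fun m hm => ?_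
    refine Subtype.ext (Subtype.ext (MulEquiv.ext fun q => ?_))
    have hmK : ((m : F.autGroup Q) : MulAut Q) ∈ K := m.2
    refine Fusion87.fix_of_step (p := p) _ ?_ q (hmK.2.1 _ (hmK.2.2 q)) ?_
    · rwa [Subgroup.orderOf_coe, Subgroup.orderOf_coe]
    · exact (hS.to_le hQc.1) _
  have hN : ∀ g ∈ W, g ∈ Subgroup.normalizer (Q : Set Ω) → g ∈ Q := by
    intro g hg hgN
    refine Fusion87.mem_of_radical hQc hQr (K.subgroupOf (F.autGroup Q)) hKp (hWS hg) hgN
      fun a ha => ?_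
    show (a : MulAut Q) ∈ K
    rw [ha]
    refine ⟨ha ▸ a.2, fun q hq => Subtype.ext ?_, fun q => ?_⟩
    · rw [conjAut_apply, ← hg.2 _ hq]; group
    · refine ⟨Subgroup.mul_mem _ (Subgroup.inv_mem _ q.2) (conjAut Q g hgN q).2, ?_⟩
      have e : (q : Ω)⁻¹ * (conjAut Q g hgN q : Ω) = ((q : Ω)⁻¹ * g * (q : Ω)) * g⁻¹ := by
        rw [conjAut_apply]; group
      rw [e]
      refine Subgroup.mul_mem _ ?_ (Subgroup.inv_mem _ hg.1)
      have h1 := stronglyClosed_conj hT (S.inv_mem (hQc.1 q.2)) hg.1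
      rwa [inv_inv] at h1
  suffices hWQ : W ≤ Q from fun w hw => ⟨hWQ hw, hw.1⟩
  have hsup : Q ⊔ W ≤ S := sup_le hQc.1 hWS
  haveI : Finite (Q ⊔ W : Subgroup Ω) := finite_of_le hsup
  haveI : Finite Q := finite_of_le hQc.1
  by_contra hne
  have hlt := Fusion87.card_lt_normalizerIn (hS.to_le hsup) le_sup_left
    (fun e => hne (le_sup_right.trans e.ge) : Q ≠ Q ⊔ W)
  refine hlt.not_ge (Subgroup.card_le_of_le ?_)
  intro x hx
  obtain ⟨hx1, hx2⟩ := hx
  have hx1' : x ∈ ((Q ⊔ W : Subgroup Ω) : Set Ω) := hx1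
  rw [Subgroup.coe_mul_of_left_le_normalizer_right Q W hQW] at hx1'
  obtain ⟨r, hr, w, hw, rfl⟩ := hx1'
  refine Q.mul_mem hr (hN w hw ?_)
  have := mul_mem (inv_mem (Subgroup.le_normalizer hr)) hx2
  rwa [inv_mul_cancel_left] at this

variable {hTS : T ≤ S}

theorem conj_mem_centFix (hTc : F.StronglyClosed T) {s : Ω} (hs : s ∈ S) {x : Ω}
    (hx : x ∈ centFix F E p hTS) : s * x * s⁻¹ ∈ centFix F E p hTS := by
  have hsT := stronglyClosed_le_normalizer hTc hs
  have hsW : s ∈ Subgroup.normalizer (cenSup S T : Set Ω) := by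
    refine conjSub_eq_self_iff.1 ?_
    show (T ⊔ centralizerIn S T).map _ = _
    rw [Subgroup.map_sup]
    exact congrArg₂ (· ⊔ ·) (conjSub_eq_self_iff.2 hsT)
      ((conjSub_centralizerIn hs T).trans (by rw [conjSub_eq_self_iff.2 hsT]))
  exact apply_mem_centFix (a := conjAut (cenSup S T) s hsW) (autInducedBy_le_autGroup (cenSup_le hTS)
    (mem_autInducedBy.2 ⟨s, hs, fun _ => rfl⟩))
    (fun y => (Subgroup.mem_normalizer_iff.1 hsT (y : Ω)).symm)
    ⟨x, Subgroup.mem_sup_right hx.1⟩ hx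

/-- Maps centralizing `T` preserve `C_S(E)`. -/
theorem apply_centralizerHom_mem_centFix [Fact p.Prime] [Finite S] (hS : IsPGroup p S)
    (hE : E.IsNormalIn F p) {R : Subgroup Ω} {θ : R →* Ω} (hθ : θ ∈ F.centralizerHom T R) (r : R)
    (hr : (r : Ω) ∈ centFix F E p hTS) : θ r ∈ centFix F E p hTS := by
  have h := mul_mem hr (inv_mul_mem_centFix (hTS := hTS) hS hE hθ r)
  rwa [mul_inv_cancel_left] at h

/-- The maps respecting membership in a subgroup. -/
def respectSystem (F : FusionSystem S) (C : Subgroup Ω)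
    (hC : ∀ s ∈ S, ∀ x ∈ C, s * x * s⁻¹ ∈ C) : FusionSystem S where
  Hom P := {φ | φ ∈ F.Hom P ∧ ∀ x : P, (x : Ω) ∈ C ↔ φ x ∈ C}
  le_of_mem h := F.le_of_mem h.1
  injective_of_mem h := F.injective_of_mem h.1
  conj_mem {P g} hP hg := ⟨F.conj_mem hP hg, fun x => ⟨hC g hg x, fun h => by
    have h1 := hC g⁻¹ (S.inv_mem hg) _ h
    simpa [mul_assoc] using h1⟩⟩
  comp_mem hφ hψ h := ⟨F.comp_mem hφ.1 hψ.1 h, fun x => (hφ.2 x).trans (hψ.2 ⟨_, h x⟩)⟩
  inv_mem := fun {P φ} hφ => by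
    refine ⟨_, ⟨rangeInv_mem hφ.1, ?_⟩, fun x => rangeInv_apply _ _ x _⟩
    rintro ⟨_, x, rfl⟩
    rw [rangeInv_apply φ _ x ⟨x, rfl⟩]
    exact (hφ.2 x).symm

/-- `C_S(E)` is strongly closed. -/
theorem stronglyClosed_centFix [Fact p.Prime] [Finite S] (hS : IsPGroup p S)
    (hE : E.IsNormalIn F p) : F.StronglyClosed (centFix F E p hTS) := by
  classical
  obtain ⟨hEs, hF, hinv⟩ := hE.1
  have hEF := hinv.1
  have hTc := hinv.2.1
  haveI : Finite T := finite_of_le hTS
  have hTp : IsPGroup p T := hS.to_le hTS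
  set C0 := centFix F E p hTS with hC0
  set D := respectSystem F C0 fun s hs x hx => conj_mem_centFix hTc hs hx with hD
  suffices hle : F ≤ D from ⟨centFix_le, fun R hR φ hφ x => ((hle R hφ).2 x).1 (hR x.2)⟩
  refine Fusion87.le_of_autGroup_centric_radical hS hF fun Q hQn hQc hQr hbig => ?_
  have hQS := hQn.1
  haveI : Finite Q := finite_of_le hQS
  by_cases hTQ : T ≤ Q
  · -- the automorphisms preserve `T`
    have hone : ∀ γ ∈ F.autGroup Q, ∀ r : Q, (r : Ω) ∈ C0 → (γ r : Ω) ∈ C0 := by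
      intro γ hγ r hr
      obtain ⟨b, hb, hbx⟩ := exists_aut_of_hom (restrict_mem (autGroup_hom_mem hQS hγ) hTQ)
        fun y => stronglyClosed_map hTc (autGroup_hom_mem hQS hγ) _ y.2
      have hTfc : F.IsFullyCentralized T := by
        refine ⟨hTS, fun R hR => ?_⟩
        obtain ⟨φ, hφ, rfl⟩ := hR
        rw [range_eq_self hφ fun x => hTc.2 T le_rfl φ hφ x]
      obtain ⟨a, ha, hai, haag⟩ := exists_lift_aut hS hF hTfc hb
      have hai' : ∀ y, (a⁻¹ y : Ω) ∈ T ↔ (y : Ω) ∈ T := fun y => by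
        have h := hai (a⁻¹ y)
        rw [MulAut.apply_inv_self] at h
        exact h.symm
      set R := Subgroup.zpowers (r : Ω) with hR
      have hRQ : R ≤ Q := Subgroup.zpowers_le.2 r.2
      have hRC : R ≤ centralizerIn S T := Subgroup.zpowers_le.2 hr.1
      have hγC : ∀ w : R, (γ (Subgroup.inclusion hRQ w) : Ω) ∈ centralizerIn S T := by
        intro w
        refine ⟨hQS (γ _).2, fun t ht => ?_⟩
        obtain ⟨t', ht'⟩ := b.surjective ⟨t, ht⟩
        have ht'' : (γ (Subgroup.inclusion hTQ t') : Ω) = t :=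
          (hbx t').symm.trans (congrArg Subtype.val ht')
        have h : Subgroup.inclusion hTQ t' * Subgroup.inclusion hRQ w =
            Subgroup.inclusion hRQ w * Subgroup.inclusion hTQ t' :=
          Subtype.ext ((hRC w.2).2 _ t'.2)
        have h2 := congrArg (fun z => ((γ z : Q) : Ω)) h
        simpa only [map_mul, Subgroup.coe_mul, ht''] using h2
      have hm : ∀ y, (autHom γ).comp (Subgroup.inclusion (sup_le hRQ hTQ)) y ∈ cenSup S T :=
        hom_sup_mem _ (fun w => Subgroup.mem_sup_right (hγC w))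
          (fun t => Subgroup.mem_sup_left (by
            show (γ (Subgroup.inclusion hTQ t) : Ω) ∈ T
            exact stronglyClosed_map hTc (autGroup_hom_mem hQS hγ) _ t.2))
      obtain ⟨θ', hθ', hθ'x⟩ := exists_comp
        (restrict_mem (autGroup_hom_mem hQS hγ) (sup_le hRQ hTQ))
        (autGroup_hom_mem (cenSup_le hTS) (inv_mem ha)) hm
      have hθ'T : ∀ t : T, θ' (Subgroup.inclusion le_sup_right t) = t := by
        intro t
        rw [hθ'x, autHom_apply]
        have e : (⟨_, hm (Subgroup.inclusion le_sup_right t)⟩ : cenSup S T) =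
            a (Subgroup.inclusion le_sup_left t) :=
          Subtype.ext ((hbx t).symm.trans (haag t).symm)
        rw [e, MulAut.inv_apply_self]
        rfl
      have hθ : θ'.comp (Subgroup.inclusion le_sup_left) ∈ F.centralizerHom T R := by
        refine ⟨restrict_mem hθ' le_sup_left, hRC, fun w => ?_, θ', hθ', fun w => rfl, hθ'T⟩
        show θ' (Subgroup.inclusion le_sup_left w) ∈ centralizerIn S T
        rw [hθ'x, autHom_apply]
        exact apply_mem_centralizerIn_of_iff hTS hai' _ (hγC w)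
      have h1 := apply_centralizerHom_mem_centFix (hTS := hTS) hS hE hθ
        ⟨r, Subgroup.mem_zpowers _⟩ hr
      have h2 : θ' (Subgroup.inclusion le_sup_left (⟨r, Subgroup.mem_zpowers _⟩ : R)) =
          (a⁻¹ ⟨_, hm (Subgroup.inclusion le_sup_left (⟨r, Subgroup.mem_zpowers _⟩ : R))⟩ : Ω) :=
        hθ'x _
      have h3 := apply_mem_centFix ha hai _ (h2 ▸ h1)
      rw [MulAut.apply_inv_self] at h3
      exact h3
    intro γ hγ
    refine (mem_autGroup hQS).2 ⟨autGroup_hom_mem hQS hγ, fun r => ⟨hone γ hγ r, fun h => ?_⟩⟩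
    have := hone γ⁻¹ (inv_mem hγ) (γ r) h
    rwa [MulAut.inv_apply_self] at this
  -- an element of `T` normalizing `Q` outside it
  obtain ⟨n, hnT, hnN, hnQ⟩ : ∃ n ∈ T, n ∈ Subgroup.normalizer (Q : Set Ω) ∧ n ∉ Q := by
    obtain ⟨x, hxU, hxN, hxQ⟩ := exists_mem_normalizerIn hS (le_sup_left : Q ≤ Q ⊔ T)
      (sup_le hQS hTS) fun e => hTQ (le_sup_right.trans e.ge)
    obtain ⟨q, hq, t, ht, rfl⟩ := (mem_sup_stronglyClosed hTc hQS).1 hxU
    refine ⟨t, ht, ?_, fun h => hxQ (mul_mem hq h)⟩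
    have := mul_mem (inv_mem (Subgroup.le_normalizer hq)) hxN
    rwa [inv_mul_cancel_left] at this
  -- move `Q ∩ T` to a fully normalized subgroup
  set V₀ := Q ⊓ T with hV₀
  obtain ⟨V, hVV, hVn⟩ := exists_isFullyNormalized_conj F (inf_le_left.trans hQS : V₀ ≤ S)
  obtain ⟨ρ, hρ, hρm, hρimg⟩ := exists_map_to_fullyNormalized hS hF hVn hVV
  have hQN : normalizerIn S Q ≤ normalizerIn S V₀ := fun g hg => ⟨hg.1, conjSub_eq_self_iff.1 (by
    rw [hV₀, conjSub_inf, conjSub_eq_self_iff.2 hg.2,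
      conjSub_eq_self_iff.2 (stronglyClosed_le_normalizer hTc hg.1)])⟩
  have hQNle : Q ≤ normalizerIn S V₀ := (le_normalizerIn hQS).trans hQN
  have hρD : ρ ∈ D.Hom (normalizerIn S V₀) := by
    refine hbig _ ?_ hρ
    haveI := finite_normalizerIn (S := S) V₀
    refine lt_of_le_of_ne (Subgroup.card_le_of_le hQNle) fun h => hnQ ?_
    exact (Subgroup.eq_of_le_of_card_ge hQNle h.ge).ge (hQN ⟨hTS hnT, hnN⟩)
  set Q' := imgSub ρ Q with hQ'
  have hρQ := restrict_mem hρ hQNle
  have hr : (ρ.comp (Subgroup.inclusion hQNle)).range = Q' := range_restrict ρ hQNle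
  have hQQ' : F.IsConj Q Q' := ⟨_, hρQ, hr⟩
  have hQ'S : Q' ≤ S := isConj_le_right hQQ'
  haveI : Finite Q' := finite_of_le hQ'S
  haveI := finite_mulAut (S := S) hQ'S
  have hQ'n : F.IsFullyNormalized Q' := by
    refine ⟨hQ'S, fun R hR => (hQn.2 R (isConj_trans hQQ' hR)).trans ?_⟩
    haveI := finite_normalizerIn (S := S) Q'
    exact Nat.card_le_card_of_injective
      (fun x : normalizerIn S Q => (⟨ρ (Subgroup.inclusion hQN x),
        apply_mem_normalizerIn hρ _ x.2.2⟩ : normalizerIn S Q'))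
      fun a b h => Subgroup.inclusion_injective hQN (F.injective_of_mem hρ (congrArg Subtype.val h))
  have hQ'c := isCentric_of_isConj hQc hQQ'
  have hQ'r := isRadical_of_range hQr hρQ hr
  have hVeq : Q' ⊓ T = V := by
    refine le_antisymm (fun y hy => ?_) fun y hy => ?_
    · obtain ⟨w, hw, rfl⟩ := mem_imgSub.1 hy.1
      rw [← hρimg]
      refine apply_mem_imgSub ρ w ⟨hw, ?_⟩
      have h1 := stronglyClosed_map hTc (rangeInv_mem hρ) ⟨ρ w, w, rfl⟩ hy.2
      rwa [rangeInv_apply ρ _ w ⟨w, rfl⟩] at h1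
    · rw [← hρimg] at hy
      obtain ⟨w, hw, rfl⟩ := mem_imgSub.1 hy
      exact ⟨apply_mem_imgSub ρ w hw.1, stronglyClosed_map hTc hρ w hw.2⟩
  have hVT : V ≤ T := hVeq ▸ inf_le_right
  have hVQ : V ≤ Q' := hVeq ▸ inf_le_left
  haveI : Finite V := finite_of_le hVn.1
  have hVc : centralizerIn T V ≤ V := by
    rw [← hVeq]
    exact centralizerIn_inf_le hS hTc hQ'c hQ'r
  have hcard : Nat.card Q' = Nat.card Q := isConj_card hQQ'
  -- the key claim
  suffices key : F.autGroup Q' ≤ D.autGroup Q' by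
    intro γ hγ
    set e := isoOnto _ (F.injective_of_mem hρQ) hr with he
    have heF : Q'.subtype.comp e.toMonoidHom ∈ F.Hom Q := mem_congr hρQ fun x => rfl
    have heD : Q'.subtype.comp e.toMonoidHom ∈ D.Hom Q :=
      mem_congr (restrict_mem hρD hQNle) fun x => rfl
    have h1 := key (congr_mem_autGroup e heF hγ)
    obtain ⟨τ, hτ, hτr, hτx, -⟩ := exists_inverse heD
      (le_antisymm (by rintro _ ⟨x, rfl⟩; exact (e x).2)
        fun y hy => ⟨e.symm ⟨y, hy⟩, congrArg Subtype.val (e.apply_symm_apply _)⟩)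
    obtain ⟨μ, hμ, hμx⟩ := exists_comp heD (autGroup_hom_mem hQ'S h1) fun x => (e x).2
    refine (mem_autGroup hQS).2 (comp_of_apply hμ hτ fun x => ⟨?_, ?_⟩)
    · rw [hμx]; exact SetLike.coe_mem _
    · refine ((congrArg τ (Subtype.ext ?_)).trans (hτx (γ x) (e (γ x)).2)).symm
      show μ x = (e (γ x) : Ω)
      rw [hμx, autHom_apply]
      show ((e (γ (e.symm (e x)))) : Ω) = _
      rw [e.symm_apply_apply]

  let M : Subgroup (MulAut Q') :=
    { carrier := {m | m ∈ F.autGroup Q' ∧ (∀ q : Q', (q : Ω)⁻¹ * (m q : Ω) ∈ V) ∧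
        ∃ a ∈ pGen E p V, ∀ v : V, (m (Subgroup.inclusion hVQ v) : Ω) = (a v : Ω)}
      one_mem' := ⟨one_mem _, fun q => by
        show (q : Ω)⁻¹ * (q : Ω) ∈ V
        rw [inv_mul_cancel]; exact one_mem _, 1, one_mem _, fun v => rfl⟩
      mul_mem' := by
        rintro a b ⟨ha, has, a', ha', hax⟩ ⟨hb, hbs, b', hb', hbx⟩
        refine ⟨mul_mem ha hb, fun q => ?_, a' * b', mul_mem ha' hb', fun v => ?_⟩
        · have e : (q : Ω)⁻¹ * ((a * b) q : Ω) =
              ((q : Ω)⁻¹ * (b q : Ω)) * ((b q : Ω)⁻¹ * (a (b q) : Ω)) := by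
            rw [MulAut.mul_apply]; group
          rw [e]
          exact mul_mem (hbs q) (has _)
        · rw [MulAut.mul_apply, MulAut.mul_apply,
            show b (Subgroup.inclusion hVQ v) = Subgroup.inclusion hVQ (b' v) from Subtype.ext (hbx v)]
          exact hax _
      inv_mem' := by
        rintro a ⟨ha, has, a', ha', hax⟩
        refine ⟨inv_mem ha, fun q => ?_, a'⁻¹, inv_mem ha', fun v => ?_⟩
        · have h1 := inv_mem (has (a⁻¹ q))
          rw [MulAut.apply_inv_self, mul_inv_rev, inv_inv] at h1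
          exact h1
        · have h1 := hax (a'⁻¹ v)
          rw [MulAut.apply_inv_self] at h1
          rw [show Subgroup.inclusion hVQ v = a (Subgroup.inclusion hVQ (a'⁻¹ v)) from
            Subtype.ext h1.symm, MulAut.inv_apply_self]
          rfl }
  have hMA : M ≤ F.autGroup Q' := fun _ h => h.1
  have hMn : ∀ γ ∈ F.autGroup Q', ∀ m ∈ M, γ * m * γ⁻¹ ∈ M := by
    intro γ hγ m hm
    obtain ⟨hmF, hms, m', hm', hmx⟩ := hm
    have hγV : ∀ δ ∈ F.autGroup Q', ∀ v : V, (δ (Subgroup.inclusion hVQ v) : Ω) ∈ V :=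
      fun δ hδ v => hVeq.le
        ⟨(δ _).2, stronglyClosed_map hTc (autGroup_hom_mem hQ'S hδ) _ (hVT v.2)⟩
    obtain ⟨g, hg, hgx⟩ := exists_aut_of_hom (restrict_mem (autGroup_hom_mem hQ'S hγ) hVQ)
      (hγV γ hγ)
    refine ⟨mul_mem (mul_mem hγ hmF) (inv_mem hγ), fun q => ?_, g * m' * g⁻¹, ?_, fun v => ?_⟩
    · set w := γ⁻¹ q with hw
      have e : (q : Ω)⁻¹ * (γ (m w) : Ω) = (γ (w⁻¹ * m w) : Ω) := by
        rw [map_mul, map_inv, hw, MulAut.apply_inv_self]
        rfl
      show (q : Ω)⁻¹ * (γ (m w) : Ω) ∈ V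
      rw [e]
      exact hγV γ hγ ⟨_, hms w⟩
    · refine Subgroup.closure_induction (p := fun x _ => g * x * g⁻¹ ∈ pGen E p V) ?_ ?_ ?_ ?_ hm'
      · rintro x ⟨hx, k, hk⟩
        refine Subgroup.subset_closure ⟨conj_mem_autGroup_of_invariant hinv hVT hg hx, k, ?_⟩
        rw [conj_pow, hk, mul_one, mul_inv_cancel]
      · show g * 1 * g⁻¹ ∈ _
        rw [mul_one, mul_inv_cancel]; exact one_mem _
      · intro x y _ _ hx hy
        have e : g * (x * y) * g⁻¹ = (g * x * g⁻¹) * (g * y * g⁻¹) := by group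
        rw [e]; exact mul_mem hx hy
      · intro x _ hx
        have e : g * x⁻¹ * g⁻¹ = (g * x * g⁻¹)⁻¹ := by group
        rw [e]; exact inv_mem hx
    · have h0 : Subgroup.inclusion hVQ v = γ (Subgroup.inclusion hVQ (g⁻¹ v)) := by
        have h1 := hgx (g⁻¹ v)
        rw [MulAut.apply_inv_self] at h1
        exact Subtype.ext h1
      show (γ (m (γ⁻¹ (Subgroup.inclusion hVQ v))) : Ω) = (g (m' (g⁻¹ v)) : Ω)
      rw [h0, MulAut.inv_apply_self,
        show m (Subgroup.inclusion hVQ (g⁻¹ v)) = Subgroup.inclusion hVQ (m' (g⁻¹ v)) from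
          Subtype.ext (hmx _), hgx]
      rfl
  haveI : Finite M := inferInstance
  obtain ⟨-, hsyl⟩ := isFullyAutomized_iff.1 (isFullyAutomized_of_isFullyNormalized hS hF hQ'n)
  have hsylM := isSylowIn_inf_of_normalized hsyl hMA hMn
  set A₀ := autInducedBy S Q' ⊓ M with hA₀
  have hinnerD : autInducedBy S Q' ≤ D.autGroup Q' := autInducedBy_le_autGroup hQ'S
  -- elements of `M` are in `D`
  have hMD : M ≤ D.autGroup Q' := by
    intro m hm
    have hmem : (⟨m, hm⟩ : M) ∈ pResidual p M ⊔ (hsylM.toSylow : Subgroup M) := by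
      rw [Transfer.pResidual_sup_sylow]; exact Subgroup.mem_top _
    have h2 := Subgroup.mem_map_of_mem M.subtype hmem
    rw [Subgroup.map_sup, IsSylowIn.coe_toSylow, Subgroup.subgroupOf_map_subtype] at h2
    refine (sup_le ?_ (inf_le_left.trans (inf_le_left.trans hinnerD))) h2
    rintro _ ⟨⟨c, hcM⟩, hcr, rfl⟩
    refine (Subgroup.closure_le ((D.autGroup Q').comap M.subtype)).2 ?_ hcr
    intro d hd
    obtain ⟨hdF, hds, a, ha, hax⟩ := d.2
    have hdco : (orderOf (d : MulAut Q')).Coprime p := by rw [Subgroup.orderOf_coe]; exact hd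
    have hpow : ∀ (k : ℕ) (v : V), (((d : MulAut Q') ^ k) (Subgroup.inclusion hVQ v) : Ω) =
        ((a ^ k) v : Ω) := by
      intro k
      induction k with
      | zero => intro v; rfl
      | succ k ih =>
        intro v
        rw [pow_succ', pow_succ', MulAut.mul_apply, MulAut.mul_apply,
          show ((d : MulAut Q') ^ k) (Subgroup.inclusion hVQ v) = Subgroup.inclusion hVQ ((a ^ k) v)
            from Subtype.ext (ih v)]
        exact hax _
    have haco : (orderOf a).Coprime p := by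
      refine Nat.Coprime.coprime_dvd_left (orderOf_dvd_of_pow_eq_one ?_) hdco
      refine MulEquiv.ext fun v => Subtype.ext ?_
      rw [← hpow, pow_orderOf_eq_one]
      rfl
    obtain ⟨β, hβ, hβco, hβa⟩ := exists_trivLift_pGen hS hF hTc hEF hEs hVT hVc hVn ha haco
    have hVfc := isFullyCentralized_of_isFullyNormalized hS hF hVn
    have hfix : ∀ r : Q', (r : Ω) ∈ C0 → (d : MulAut Q') r = r := by
      intro r hr
      set R := Subgroup.zpowers (r : Ω) with hR
      have hRC : R ≤ centralizerIn S V := Subgroup.zpowers_le.2 (centralizerIn_anti hVT hr.1)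
      have hRVQ : R ⊔ V ≤ Q' := sup_le (Subgroup.zpowers_le.2 r.2) hVQ
      have hβr : (β ⟨r, Subgroup.mem_sup_right (hRC (Subgroup.mem_zpowers _))⟩ : Ω) = r :=
        fixed_of_mem_centFix hVn.1 hVT hVc hVn hβ hβco (pGen_le E p V ha) hβa _ hr
      have hz : (r : Ω)⁻¹ * ((d : MulAut Q') r : Ω) ∈ V := hds r
      have h1 := agree_fixed_of_fixed hS hF hVfc hβ hβco hRC
        (restrict_mem (autGroup_hom_mem hQ'S hdF) hRVQ)
        (fun v => (hax v).trans (hβa v).symm) ⟨r, Subgroup.mem_zpowers _⟩ hβr hz (by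
          show ((d : MulAut Q') r : Ω) = _
          group)
      have h2 : (a ⟨_, hz⟩ : Ω) = (r : Ω)⁻¹ * ((d : MulAut Q') r : Ω) := (hβa ⟨_, hz⟩).symm.trans h1
      refine Fusion87.fix_of_step (p := p) _ hdco r (Subtype.ext ?_) ((hS.to_le hQ'S) _)
      refine Eq.trans ?_ h2
      rw [show (r⁻¹ * (d : MulAut Q') r) = Subgroup.inclusion hVQ ⟨_, hz⟩ from rfl]
      exact hax _
    refine (mem_autGroup hQ'S).2 ⟨autGroup_hom_mem hQ'S hdF, fun r => ⟨fun hr => ?_, fun hr => ?_⟩⟩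
    · show ((d : MulAut Q') r : Ω) ∈ C0
      rw [hfix r hr]; exact hr
    · change ((d : MulAut Q') r : Ω) ∈ C0 at hr
      have h1 := hfix _ hr
      rw [(d : MulAut Q').injective h1] at hr
      exact hr
  -- Frattini
  intro γ hγ
  obtain ⟨o, ho, hle⟩ := hsylM.exists_conj_le (L := A₀.map (MulAut.conj γ).toMonoidHom)
    (hsylM.2.1.map _) (by rintro _ ⟨x, hx, rfl⟩; exact hMn γ hγ x hx.2)
  have hoγ : o * γ ∈ F.autGroup Q' := mul_mem (hMA ho) hγ
  -- an element of `T` normalizing `Q'` outside it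
  obtain ⟨n', hn'T, hn'N, hn'Q⟩ :
      ∃ n ∈ T, n ∈ Subgroup.normalizer (Q' : Set Ω) ∧ n ∉ Q' := by
    refine ⟨ρ (Subgroup.inclusion hQN ⟨n, hTS hnT, hnN⟩), stronglyClosed_map hTc hρ _ hnT,
      (apply_mem_normalizerIn hρ _ hnN).2, fun h => hnQ ?_⟩
    exact (apply_mem_imgSub_iff (F.injective_of_mem hρ) _).1 h
  have hn'V : n' ∈ Subgroup.normalizer (V : Set Ω) := conjSub_eq_self_iff.1 (by
    rw [← hVeq, conjSub_inf, conjSub_eq_self_iff.2 hn'N,
      conjSub_eq_self_iff.2 (stronglyClosed_le_normalizer hTc (hTS hn'T))])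
  have hcn : conjAut Q' n' hn'N ∈ A₀ := by
    refine ⟨mem_autInducedBy.2 ⟨n', hTS hn'T, fun _ => rfl⟩,
      autInducedBy_le_autGroup hQ'S (mem_autInducedBy.2 ⟨n', hTS hn'T, fun _ => rfl⟩),
      fun q => hVeq.le ⟨Subgroup.mul_mem _ (Subgroup.inv_mem _ q.2) (conjAut Q' n' hn'N q).2, ?_⟩,
      conjAut V n' hn'V, Subgroup.subset_closure ⟨?_, ?_⟩, fun v => rfl⟩
    · have e : (q : Ω)⁻¹ * (conjAut Q' n' hn'N q : Ω) = ((q : Ω)⁻¹ * n' * (q : Ω)) * n'⁻¹ := by
        rw [conjAut_apply]; group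
      rw [e]
      refine Subgroup.mul_mem _ ?_ (Subgroup.inv_mem _ hn'T)
      have h1 := stronglyClosed_conj hTc (S.inv_mem (hQ'S q.2)) hn'T
      rwa [inv_inv] at h1
    · exact autInducedBy_le_autGroup hVT (mem_autInducedBy.2 ⟨n', hn'T, fun _ => rfl⟩)
    · obtain ⟨k, hk⟩ := (isPGroup_autInducedBy hTp : IsPGroup p (autInducedBy T V))
        ⟨conjAut V n' hn'V, mem_autInducedBy.2 ⟨n', hn'T, fun _ => rfl⟩⟩
      exact ⟨k, congrArg Subtype.val hk⟩
  have hext : n' ∈ extender S Q' (autHom (o * γ)) := by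
    refine mem_extender_of_conj_mem (hTS hn'T) hn'N ?_
    have h1 := hle ⟨_, ⟨_, hcn, rfl⟩, rfl⟩
    have e : (o * γ) * conjAut Q' n' hn'N * (o * γ)⁻¹ =
        o * (γ * conjAut Q' n' hn'N * γ⁻¹) * o⁻¹ := by group
    rw [e]
    exact h1.1
  have h1 := Fusion87.mem_of_lt_extender hS hF
    (isFullyCentralized_of_isFullyNormalized hS hF hQ'n) hoγ hext hn'Q
    (fun R hR => hbig R (hcard ▸ hR))
  have h2 := mul_mem (inv_mem (hMD ho)) h1
  rwa [inv_mul_cancel_left] at h2

end Cfsg.Agent.Lib.Fusion
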