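/-
The centralizer system of a normal subsystem.
-/
import Cfsg.Agent.Lib.Fusion.CentralizerClosed
import Cfsg.Agent.Lib.Fusion.PPowerNormal

set_option autoImplicit false

namespace Cfsg.Agent.Lib.Fusion

open Cfsg Cfsg.FusionSystem

universe u

variable {Ω : Type u} [Group Ω] {S T : Subgroup Ω} {F : FusionSystem S}
  {p : ℕ}

/-- A saturated subsystem of `p`-power index is stable under an automorphism of `T` transporting
the automorphisms of order prime to `p` of `F` inside `T`. -/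
theorem exists_act_of_transport [Fact p.Prime] [Finite T] {E : FusionSystem T} (hTp : IsPGroup p T)
    (hE : E.IsSaturated p) (hEi : E.HasPPowerIndexIn F p) {a : MulAut T}
    (htr : ∀ (Q : Subgroup Ω) (hQ : Q ≤ T), ∀ b ∈ F.autGroup Q, ∀ (R : Subgroup Ω) (e : Q ≃* R),
      (∀ x : Q, (e x : Ω) = a (Subgroup.inclusion hQ x)) → MulAut.congr e b ∈ F.autGroup R)
    {P : Subgroup Ω} {φ : P →* Ω} (hφ : φ ∈ E.Hom P) :
    ∃ χ ∈ E.Hom (imgSub (autHom a) P), ∀ x : P,
      χ ⟨_, imgSub_act_mem (src_le hφ) x⟩ = (a ⟨φ x, val_mem hφ x⟩ : Ω) := by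
  have hle : E ≤ transportAct E E a := by
    refine le_of_pResidual_le hTp hE fun Q hQ => ?_
    rintro _ ⟨⟨β, hβ⟩, hβr, rfl⟩
    refine (Subgroup.closure_le
      (((transportAct E E a).autGroup Q).comap (E.autGroup Q).subtype)).2 ?_ hβr
    intro b hb
    set θ := (autHom a).comp (Subgroup.inclusion hQ) with hθ
    have hθi : Function.Injective θ := fun x y h =>
      Subgroup.inclusion_injective hQ (a.injective (Subtype.ext h))
    set e := isoOnto θ hθi rfl with he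
    have hR : θ.range ≤ T := by
      rintro _ ⟨x, rfl⟩
      exact SetLike.coe_mem _
    have hbF : (b : MulAut Q) ∈ F.autGroup Q := autGroup_mono hEi.1 Q b.2
    have hco : (orderOf (MulAut.congr e (b : MulAut Q))).Coprime p := by
      rw [MulEquiv.orderOf_eq, Subgroup.orderOf_coe]
      exact hb
    have h1 : MulAut.congr e (b : MulAut Q) ∈ E.autGroup θ.range :=
      hEi.2.2 _ hR (Transfer.mem_map_pResidual_of_coprime
        (htr Q hQ _ hbF _ e fun x => rfl) hco)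
    refine (mem_autGroup hQ).2
      ⟨autGroup_hom_mem hQ b.2, _, _, autGroup_hom_mem hR h1, fun x => ⟨⟨x, rfl⟩, ?_⟩⟩
    have h2 : MulAut.congr e (b : MulAut Q) (e x) = e ((b : MulAut Q) x) := by
      show e ((b : MulAut Q) (e.symm (e x))) = _
      rw [e.symm_apply_apply]
    exact congrArg Subtype.val h2
  obtain ⟨hφ', R, χ, hχ, hx⟩ := hle P hφ
  obtain ⟨χ', hχ', hχx⟩ := exists_restrict_act (src_le hφ) hχ fun x => (hx x).1
  exact ⟨χ', hχ', fun x => (hχx x).trans (hx x).2⟩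

/-- A map with fully centralized image extends over a strongly closed subgroup centralizing its
source. -/
theorem exists_extend_sup [Fact p.Prime] [Finite S] (hS : IsPGroup p S) (hF : F.IsSaturated p)
    (hTc : F.StronglyClosed T) {P Q : Subgroup Ω} {φ : P →* Ω} (hφ : φ ∈ F.Hom P)
    (hr : φ.range = Q) (hQ : F.IsFullyCentralized Q) (hTP : T ≤ centralizerIn S P) :
    ∃ ψ ∈ F.Hom (P ⊔ T), (∀ x : P, ψ (Subgroup.inclusion le_sup_left x) = φ x) ∧
      ∀ t : T, ψ (Subgroup.inclusion le_sup_right t) ∈ T := by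
  obtain ⟨ψ, hψ, hag⟩ := (isReceptive_of_isFullyCentralized hS hF hQ).2 P φ hφ hr
  have hsub : P ⊔ T ≤ extender S P φ :=
    (sup_le_sup_left hTP P).trans (sup_centralizerIn_le_extender hφ)
  exact ⟨_, restrict_mem hψ hsub, fun x => hag x x.2 _,
    fun t => stronglyClosed_map hTc (restrict_mem hψ hsub) _ t.2⟩

/-- Every map into a strongly closed subgroup centralizing the strongly closed `T` extends over
`T`. -/
theorem exists_extend_sup_of_map [Fact p.Prime] [Finite S] (hS : IsPGroup p S)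
    (hF : F.IsSaturated p) (hTc : F.StronglyClosed T) {P : Subgroup Ω} {φ : P →* Ω}
    (hφ : φ ∈ F.Hom P) (hTP : T ≤ centralizerIn S P) (hTR : T ≤ centralizerIn S φ.range) :
    ∃ ψ ∈ F.Hom (P ⊔ T), (∀ x : P, ψ (Subgroup.inclusion le_sup_left x) = φ x) ∧
      ∀ t : T, ψ (Subgroup.inclusion le_sup_right t) ∈ T := by
  haveI : Finite T := finite_of_le hTc.1
  obtain ⟨R', ⟨ρ, hρ, hρr⟩, hR'⟩ := exists_isFullyCentralized_conj F (range_le hφ)
  obtain ⟨μ, hμ, hμx⟩ := exists_comp hφ hρ fun x => ⟨x, rfl⟩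
  have hμr : μ.range = R' := by
    rw [← hρr]
    ext y
    constructor
    · rintro ⟨x, rfl⟩
      exact ⟨_, (hμx x).symm⟩
    · rintro ⟨⟨_, x, rfl⟩, rfl⟩
      exact ⟨x, hμx x⟩
  obtain ⟨μ', hμ', hμ'P, hμ'T⟩ := exists_extend_sup hS hF hTc hμ hμr hR' hTP
  obtain ⟨ρ', hρ', hρ'R, hρ'T⟩ := exists_extend_sup hS hF hTc hρ hρr hR' hTR
  have hTimg : ∀ t ∈ T, ∃ t' : T, ρ' (Subgroup.inclusion le_sup_right t') = t := fun t ht =>
    (range_eq_self (restrict_mem hρ' (le_sup_right : T ≤ φ.range ⊔ T)) hρ'T).ge ht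
  obtain ⟨τ, hτ, -, hτx, -⟩ := exists_inverse hρ' rfl
  have hm : ∀ y, μ' y ∈ ρ'.range := hom_sup_mem _
    (fun x => ⟨Subgroup.inclusion le_sup_left (⟨φ x, x, rfl⟩ : φ.range),
      by rw [hμ'P, hμx, hρ'R]⟩)
    (fun t => by
      obtain ⟨t', ht'⟩ := hTimg _ (hμ'T t)
      exact ⟨_, ht'⟩)
  obtain ⟨ψ, hψ, hψx⟩ := exists_comp hμ' hτ hm
  refine ⟨ψ, hψ, fun x => ?_, fun t => ?_⟩
  · rw [hψx]
    have e : μ' (Subgroup.inclusion le_sup_left x) =
        ρ' (Subgroup.inclusion le_sup_left (⟨φ x, x, rfl⟩ : φ.range)) := by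
      rw [hμ'P, hμx, hρ'R]
    refine (congrArg τ (Subtype.ext e : (⟨_, hm _⟩ : ρ'.range) = ⟨_, _, rfl⟩)).trans ?_
    exact hτx _ _
  · rw [hψx]
    obtain ⟨t', ht'⟩ := hTimg _ (hμ'T t)
    rw [(congrArg τ (Subtype.ext ht'.symm : (⟨_, hm _⟩ : ρ'.range) = ⟨_, _, rfl⟩)).trans
      (hτx _ _)]
    exact t'.2

/-- An automorphism of order prime to `p` in the centralizer system of `T` of a strongly closed
subgroup `Y` containing the displacements of that system satisfies the extension condition. -/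
theorem mem_extendableAut_of_centralizerHom [Fact p.Prime] [Finite S] (hS : IsPGroup p S)
    (hF : F.IsSaturated p) (hTc : F.StronglyClosed T) {Y : Subgroup Ω} (hYc : F.StronglyClosed Y)
    (hYT : Y ≤ centralizerIn S T)
    (hfoc : ∀ (R : Subgroup Ω) (θ : R →* Ω), θ ∈ F.centralizerHom T R →
      ∀ r : R, (r : Ω)⁻¹ * θ r ∈ Y)
    {α : MulAut Y} (hα : autHom α ∈ F.centralizerHom T Y) (hco : (orderOf α).Coprime p) :
    α ∈ extendableAut F Y := by
  classical
  haveI : Finite T := finite_of_le hTc.1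
  haveI : Finite Y := finite_of_le hYc.1
  have hYTcomm : ∀ y ∈ Y, ∀ t ∈ T, t * y = y * t := fun y hy t ht => (hYT hy).2 t ht
  have hTY : T ≤ centralizerIn S Y := fun t ht => ⟨hTc.1 ht, fun y hy => (hYTcomm y hy t ht).symm⟩
  obtain ⟨-, -, -, hα'⟩ := hα
  set U₀ := Y ⊔ T with hU₀
  obtain ⟨ψ₀, hψ₀, hψ₀Y, hψ₀T⟩ := hα'
  haveI : Finite U₀ := finite_of_le (sup_le hYc.1 hTc.1)
  have hr₀ : ψ₀.range = U₀ := range_eq_self hψ₀ (hom_sup_mem _
    (fun y => Subgroup.mem_sup_left (by rw [hψ₀Y]; exact (α y).2))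
    (fun t => Subgroup.mem_sup_right (by rw [hψ₀T]; exact t.2)))
  have hfc : F.IsFullyCentralized U₀ := by
    refine ⟨sup_le hYc.1 hTc.1, fun R hR => ?_⟩
    obtain ⟨φ, hφ, rfl⟩ := hR
    rw [range_eq_self hφ (hom_sup_mem _
      (fun y => Subgroup.mem_sup_left (stronglyClosed_map hYc hφ _ y.2))
      (fun t => Subgroup.mem_sup_right (stronglyClosed_map hTc hφ _ t.2)))]
  obtain ⟨ψ, hψ, hag⟩ := (isReceptive_of_isFullyCentralized hS hF hfc).2 U₀ ψ₀ hψ₀ hr₀
  have hsub : Y ⊔ centralizerIn S Y ≤ extender S U₀ ψ₀ := by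
    refine sup_le (le_sup_left.trans (le_extender hψ₀)) fun g hg => ?_
    have hgT := stronglyClosed_le_normalizer hTc hg.1
    have hgY := stronglyClosed_le_normalizer hYc hg.1
    have hgN : g ∈ Subgroup.normalizer (U₀ : Set Ω) := by
      refine conjSub_eq_self_iff.1 ?_
      show (Y ⊔ T).map _ = _
      rw [Subgroup.map_sup]
      exact congrArg₂ (· ⊔ ·) (conjSub_eq_self_iff.2 hgY) (conjSub_eq_self_iff.2 hgT)
    refine mem_extender_of hg.1 hgN hg.1 fun x hx => ?_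
    obtain ⟨q, hq, t, ht, hqt⟩ := (mem_sup_stronglyClosed hTc hYc.1).1 x.2
    have hval : ∀ (q : Y) (t : T) (h : (q : Ω) * t ∈ U₀), ψ₀ ⟨_, h⟩ = (α q : Ω) * t := by
      intro q t h
      rw [show (⟨_, h⟩ : U₀) = Subgroup.inclusion le_sup_left q * Subgroup.inclusion le_sup_right t
        from rfl, map_mul, hψ₀Y, hψ₀T]
      rfl
    have ht' : g * t * g⁻¹ ∈ T := (Subgroup.mem_normalizer_iff.1 hgT t).1 ht
    have hgq : g * q * g⁻¹ = q := by rw [← hg.2 q hq]; group
    have hga : g * (α ⟨q, hq⟩ : Ω) * g⁻¹ = α ⟨q, hq⟩ := by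
      rw [← hg.2 _ (α ⟨q, hq⟩).2]; group
    have e : g * (x : Ω) * g⁻¹ = q * (g * t * g⁻¹) := by
      calc g * (x : Ω) * g⁻¹ = (g * q * g⁻¹) * (g * t * g⁻¹) := by rw [← hqt]; group
        _ = _ := by rw [hgq]
    have h1 : (⟨g * x * g⁻¹, hx⟩ : U₀) = ⟨q * (g * t * g⁻¹), e ▸ hx⟩ := Subtype.ext e
    have h2 : x = (⟨q * t, hqt.symm ▸ x.2⟩ : U₀) := Subtype.ext hqt.symm
    rw [h1, hval ⟨q, hq⟩ ⟨_, ht'⟩, h2, hval ⟨q, hq⟩ ⟨t, ht⟩]
    calc (α ⟨q, hq⟩ : Ω) * (g * t * g⁻¹)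
        = (g * (α ⟨q, hq⟩ : Ω) * g⁻¹) * (g * t * g⁻¹) := by rw [hga]
      _ = g * ((α ⟨q, hq⟩ : Ω) * t) * g⁻¹ := by group
  set U := Y ⊔ centralizerIn S Y with hU
  have hUS : U ≤ S := sup_le hYc.1 (centralizerIn_le Y)
  haveI : Finite U := finite_of_le hUS
  haveI := finite_mulAut (S := S) hUS
  have hψU := restrict_mem hψ hsub
  have hUY : ∀ y : Y, ψ.comp (Subgroup.inclusion hsub) (Subgroup.inclusion le_sup_left y) =
      (α y : Ω) := fun y => (hag y (Subgroup.mem_sup_left y.2) _).trans (hψ₀Y y)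
  have hmem : ∀ y, ψ.comp (Subgroup.inclusion hsub) y ∈ U := by
    refine hom_sup_mem _ (fun y => Subgroup.mem_sup_left ((hUY y).symm ▸ (α y).2)) fun c => ?_
    refine Subgroup.mem_sup_right ⟨val_mem hψU _, fun z hz => ?_⟩
    obtain ⟨w, hw⟩ := α.surjective ⟨z, hz⟩
    have h : (Subgroup.inclusion le_sup_left w : U) * Subgroup.inclusion le_sup_right c =
        Subgroup.inclusion le_sup_right c * Subgroup.inclusion le_sup_left w :=
      Subtype.ext (c.2.2 w w.2)
    have h2 := congrArg (ψ.comp (Subgroup.inclusion hsub)) h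
    rw [map_mul, map_mul, hUY, hw] at h2
    exact h2
  obtain ⟨β₀, hβ₀, hβ₀x⟩ := exists_aut_of_hom hψU hmem
  have hres : ∀ (n : ℕ) (y : Y), ((β₀ ^ n) (Subgroup.inclusion le_sup_left y) : Ω) =
      ((α ^ n) y : Ω) := by
    intro n
    induction n with
    | zero => intro y; rfl
    | succ n ih =>
      intro y
      rw [pow_succ', pow_succ', MulAut.mul_apply, MulAut.mul_apply, hβ₀x,
        show (β₀ ^ n) (Subgroup.inclusion le_sup_left y) =
          Subgroup.inclusion le_sup_left ((α ^ n) y) from Subtype.ext (ih y), hUY]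
  have hresT : ∀ (n : ℕ) (t : Ω) (ht : t ∈ T),
      (β₀ ^ n) ⟨t, Subgroup.mem_sup_right (hTY ht)⟩ = ⟨t, Subgroup.mem_sup_right (hTY ht)⟩ := by
    intro n
    induction n with
    | zero => intro t ht; rfl
    | succ n ih =>
      intro t ht
      rw [pow_succ', MulAut.mul_apply, ih t ht]
      exact Subtype.ext ((hβ₀x _).trans
        ((hag t (Subgroup.mem_sup_right ht) _).trans (hψ₀T ⟨t, ht⟩)))
  obtain ⟨k, hk⟩ := Transfer.exists_pow_coprime (p := p) β₀
  obtain ⟨m, hm⟩ := exists_pow_eq_self_of_coprime (Nat.Coprime.pow_right k hco).symm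
  set β := (β₀ ^ p ^ k) ^ m with hβdef
  have hβco : (orderOf β).Coprime p := Nat.Coprime.coprime_dvd_left (orderOf_pow_dvd m) hk
  have hβF : β ∈ F.autGroup U := Subgroup.pow_mem _ (Subgroup.pow_mem _ hβ₀ _) _
  have hβY : ∀ y : Y, (β (Subgroup.inclusion le_sup_left y) : Ω) = (α y : Ω) := fun y => by
    rw [hβdef, ← pow_mul, hres, pow_mul, hm]
  have hβT : ∀ (t : Ω) (ht : t ∈ T), β ⟨t, Subgroup.mem_sup_right (hTY ht)⟩ =
      ⟨t, Subgroup.mem_sup_right (hTY ht)⟩ := fun t ht => by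
    rw [hβdef, ← pow_mul]
    exact hresT _ t ht
  refine ⟨β, hβF, hβY, fun c hc => ?_⟩
  have hcN := stronglyClosed_le_normalizer hTc hc.1
  have hβiff : ∀ x : U, (β x : Ω) ∈ Y ↔ (x : Ω) ∈ Y := by
    intro x
    constructor
    · intro h
      obtain ⟨w, hw⟩ := α.surjective ⟨_, h⟩
      have h1 : β x = β (Subgroup.inclusion le_sup_left w) :=
        Subtype.ext ((congrArg Subtype.val hw).symm.trans (hβY w).symm)
      rw [β.injective h1]
      exact w.2
    · intro h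
      rw [show x = Subgroup.inclusion le_sup_left (⟨x, h⟩ : Y) from Subtype.ext rfl, hβY]
      exact (α _).2
  set d := (c : Ω)⁻¹ * (β c : Ω) with hd
  have hdY : d ∈ centralizerIn S Y :=
    mul_mem (inv_mem hc) (apply_mem_centralizerIn_of_iff hYc.1 hβiff c hc)
  have hdT : ∀ t ∈ T, t * d = d * t := by
    intro t ht
    have ht' : (c : Ω) * t * (c : Ω)⁻¹ ∈ T := (Subgroup.mem_normalizer_iff.1 hcN t).1 ht
    have h1 : β (c * ⟨t, Subgroup.mem_sup_right (hTY ht)⟩ * c⁻¹) =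
        ⟨_, Subgroup.mem_sup_right (hTY ht')⟩ := by
      rw [show c * (⟨t, Subgroup.mem_sup_right (hTY ht)⟩ : U) * c⁻¹ =
        ⟨_, Subgroup.mem_sup_right (hTY ht')⟩ from Subtype.ext rfl]
      exact hβT _ ht'
    rw [map_mul, map_mul, map_inv, hβT t ht] at h1
    have h2 : (β c : Ω) * t * (β c : Ω)⁻¹ = (c : Ω) * t * (c : Ω)⁻¹ := congrArg Subtype.val h1
    rw [hd]
    calc t * ((c : Ω)⁻¹ * (β c : Ω))
        = (c : Ω)⁻¹ * ((c : Ω) * t * (c : Ω)⁻¹) * (β c : Ω) := by group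
      _ = (c : Ω)⁻¹ * ((β c : Ω) * t * (β c : Ω)⁻¹) * (β c : Ω) := by rw [h2]
      _ = _ := by group
  have hdC : d ∈ centralizerIn S T := ⟨hdY.1, hdT⟩
  -- displacements inside `C_S(T)`
  have hshift : ∀ u : U, (u : Ω) ∈ centralizerIn S T → (u : Ω)⁻¹ * (β u : Ω) ∈ Y := by
    intro u hu
    set R := Subgroup.zpowers (u : Ω) with hR
    have hRU : R ≤ U := Subgroup.zpowers_le.2 u.2
    have hRC : R ≤ centralizerIn S T := Subgroup.zpowers_le.2 hu
    have hθ : (autHom β).comp (Subgroup.inclusion hRU) ∈ F.centralizerHom T R := by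
      refine ⟨restrict_mem (autGroup_hom_mem hUS hβF) hRU, hRC, fun r => ⟨hUS (β _).2, ?_⟩,
        _, restrict_mem (autGroup_hom_mem hUS hβF)
          (sup_le hRU (hTY.trans le_sup_right) : R ⊔ T ≤ U), fun r => rfl,
        fun t => congrArg Subtype.val (hβT t t.2)⟩
      intro t ht
      have h : (⟨t, Subgroup.mem_sup_right (hTY ht)⟩ : U) * Subgroup.inclusion hRU r =
          Subgroup.inclusion hRU r * ⟨t, Subgroup.mem_sup_right (hTY ht)⟩ :=
        Subtype.ext ((hRC r.2).2 t ht)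
      have h2 := congrArg β h
      rw [map_mul, map_mul, hβT t ht] at h2
      exact congrArg Subtype.val h2
    exact hfoc R _ hθ ⟨u, Subgroup.mem_zpowers _⟩
  have hdU : d ∈ U := Subgroup.mem_sup_right hdY
  have hiter : ∀ n : ℕ, ((c : Ω) * d ^ n)⁻¹ * ((β ^ n) c : Ω) ∈ Y := by
    intro n
    induction n with
    | zero =>
      show ((c : Ω) * d ^ 0)⁻¹ * (c : Ω) ∈ Y
      rw [pow_zero, mul_one, inv_mul_cancel]
      exact one_mem _
    | succ n ih =>
      set z := ((c : Ω) * d ^ n)⁻¹ * ((β ^ n) c : Ω) with hz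
      have hn : (β ^ n) c = c * (⟨d, hdU⟩ : U) ^ n * ⟨z, Subgroup.mem_sup_left ih⟩ := by
        refine Subtype.ext ?_
        show ((β ^ n) c : Ω) = (c : Ω) * d ^ n * z
        rw [hz]
        group
      have hw : (d ^ n)⁻¹ * (β ((⟨d, hdU⟩ : U) ^ n) : Ω) ∈ Y := by
        have := hshift ((⟨d, hdU⟩ : U) ^ n) (Subgroup.pow_mem _ hdC n)
        simpa using this
      have hz' : (β ⟨z, Subgroup.mem_sup_left ih⟩ : Ω) ∈ Y := (hβiff _).2 ih
      rw [pow_succ' β, MulAut.mul_apply, hn, map_mul, map_mul, Subgroup.coe_mul,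
        Subgroup.coe_mul]
      have e : ((c : Ω) * d ^ (n + 1))⁻¹ * ((β c : Ω) * (β ((⟨d, hdU⟩ : U) ^ n) : Ω) *
          (β ⟨z, Subgroup.mem_sup_left ih⟩ : Ω)) =
          ((d ^ n)⁻¹ * (β ((⟨d, hdU⟩ : U) ^ n) : Ω)) * (β ⟨z, Subgroup.mem_sup_left ih⟩ : Ω) := by
        rw [show (β c : Ω) = (c : Ω) * d by rw [hd]; group, pow_succ']
        group
      rw [e]
      exact mul_mem hw hz'
  have hdn : d ^ orderOf β ∈ Y := by
    have h := hiter (orderOf β)
    rw [pow_orderOf_eq_one, MulAut.one_apply, mul_inv_rev, mul_assoc, inv_mul_cancel, mul_one]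
      at h
    simpa using inv_mem h
  refine ⟨?_, hdY.2⟩
  obtain ⟨j, hj⟩ := hS ⟨d, hdY.1⟩
  have hdj : d ^ p ^ j = 1 := congrArg Subtype.val hj
  have hco' : (orderOf β).Coprime (orderOf d) :=
    Nat.Coprime.coprime_dvd_right (orderOf_dvd_of_pow_eq_one hdj) (Nat.Coprime.pow_right j hβco)
  obtain ⟨i, hi⟩ := exists_pow_eq_self_of_coprime hco'
  rw [← hi]
  exact pow_mem hdn i

/-- The centralizer system of a normal subsystem, as a normal subsystem over `C_S(E)`. -/
theorem exists_centralizerSubsystem [Fact p.Prime] [Finite S] (hS : IsPGroup p S)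
    {E : FusionSystem T} (hE : E.IsNormalIn F p) (hTS : T ≤ S) :
    ∃ D : FusionSystem (centFix F E p hTS), D.IsNormalIn F p ∧
      ∀ P, D.Hom P ⊆ F.centralizerHom T P := by
  classical
  obtain ⟨-, hF, hinv⟩ := hE.1
  have hTc := hinv.2.1
  haveI : Finite T := finite_of_le hTS
  have hTfc : F.IsFullyCentralized T := by
    refine ⟨hTS, fun R hR => ?_⟩
    obtain ⟨φ, hφ, rfl⟩ := hR
    rw [range_eq_self hφ fun x => hTc.2 T le_rfl φ hφ x]
  set Y := centFix F E p hTS with hY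
  have hYT : Y ≤ centralizerIn S T := centFix_le_centralizerIn
  have hYc : F.StronglyClosed Y := stronglyClosed_centFix hS hE
  haveI : Finite Y := finite_of_le hYc.1
  have hYTcomm : ∀ y ∈ Y, ∀ t ∈ T, t * y = y * t := fun y hy t ht => (hYT hy).2 t ht
  have hTY : T ≤ centralizerIn S Y := fun t ht => ⟨hTS ht, fun y hy => (hYTcomm y hy t ht).symm⟩
  obtain ⟨EC, hEC⟩ := exists_centralizerSystem F hTS
  have hECs := isSaturated_centralizerSystem hS hF hTfc hEC
  haveI : Finite (centralizerIn S T) := finite_centralizerIn T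
  have hCp : IsPGroup p (centralizerIn S T) := hS.to_le (centralizerIn_le T)
  have hfoc : ∀ (R : Subgroup Ω) (θ : R →* Ω), θ ∈ F.centralizerHom T R →
      ∀ r : R, (r : Ω)⁻¹ * θ r ∈ Y := fun R θ hθ r => inv_mul_mem_centFix hS hE hθ r
  have hhyp : EC.hyperfocalSubgroup p ≤ Y := by
    refine (Subgroup.closure_le _).2 ?_
    rintro _ ⟨P, ⟨α, hα⟩, x, hP, -, rfl⟩
    have h := autGroup_hom_mem hP hα
    rw [hEC] at h
    exact hfoc _ _ h x
  obtain ⟨D, hDs, hDi, hdec⟩ := exists_pPowerIndex hCp hECs hYT hhyp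
  have hDC : ∀ P, D.Hom P ⊆ F.centralizerHom T P := fun P φ hφ => (hEC P) ▸ hDi.1 P hφ
  have hYp : IsPGroup p Y := hS.to_le hYc.1
  have hYfc : F.IsFullyCentralized Y := by
    refine ⟨hYc.1, fun R hR => ?_⟩
    obtain ⟨φ, hφ, rfl⟩ := hR
    rw [range_eq_self hφ fun x => hYc.2 Y le_rfl φ hφ x]
  refine ⟨D, ⟨⟨hDs, hF, fun P φ hφ => (hDC P hφ).1, hYc, fun P hP φ hφ α hα => ?_,
    fun P hP φ hφ => ?_⟩, fun α hα => ?_⟩, hDC⟩
  · -- invariance
    obtain ⟨ψ, hψ, hψY, hψT⟩ := exists_extend_sup hS hF hTc (autGroup_hom_mem hYc.1 hα)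
      (range_autHom α) hYfc hTY
    haveI : Finite (Y ⊔ T : Subgroup Ω) := finite_of_le (sup_le hYc.1 hTS)
    obtain ⟨a, ha, hax⟩ := exists_aut_of_hom hψ (hom_sup_mem _
      (fun y => Subgroup.mem_sup_left (by rw [hψY]; exact (α y).2))
      (fun t => Subgroup.mem_sup_right (hψT t)))
    have haS : (Y ⊔ T : Subgroup Ω) ≤ S := sup_le hYc.1 hTS
    have haY : ∀ y : Y, (a (Subgroup.inclusion le_sup_left y) : Ω) = (α y : Ω) :=
      fun y => (hax _).trans (hψY y)
    have haT : ∀ x : (Y ⊔ T : Subgroup Ω), (x : Ω) ∈ T → (a⁻¹ x : Ω) ∈ T := fun x hx =>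
      stronglyClosed_map hTc (autGroup_hom_mem haS (inv_mem ha)) x hx
    suffices htr : ∀ (Q : Subgroup Ω) (hQ : Q ≤ Y), ∀ b ∈ EC.autGroup Q, ∀ (R : Subgroup Ω)
        (e : Q ≃* R), (∀ x : Q, (e x : Ω) = α (Subgroup.inclusion hQ x)) →
        MulAut.congr e b ∈ EC.autGroup R by
      obtain ⟨χ, hχ, hχx⟩ := exists_act_of_transport (a := α) hYp hDs hDi htr hφ
      exact ⟨χ, hχ, fun x hφx hαx => hχx x⟩
    intro Q hQ b hb R e he
    have hQC : Q ≤ centralizerIn S T := hQ.trans hYT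
    have hRY : R ≤ Y := fun z hz => by
      obtain ⟨x, hx⟩ := e.surjective ⟨z, hz⟩
      rw [← show (e x : Ω) = z from congrArg Subtype.val hx, he]
      exact SetLike.coe_mem _
    have hRC : R ≤ centralizerIn S T := hRY.trans hYT
    have hb' := autGroup_hom_mem hQC hb
    rw [hEC] at hb'
    obtain ⟨hbF, -, -, b', hb'F, hb'Q, hb'T⟩ := hb'
    refine (mem_autGroup hRC).2 ?_
    rw [hEC]
    have hQS : Q ≤ S := hQ.trans hYc.1
    have heF : R.subtype.comp e.toMonoidHom ∈ F.Hom Q :=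
      mem_congr (restrict_mem (autGroup_hom_mem hYc.1 hα) hQ) fun x => he x
    have hRW : R ⊔ T ≤ Y ⊔ T := sup_le_sup_right hRY T
    have hae : ∀ x : Q, a (Subgroup.inclusion le_sup_left (Subgroup.inclusion hQ x)) =
        Subgroup.inclusion hRW (Subgroup.inclusion le_sup_left (e x)) := fun x =>
      Subtype.ext ((haY _).trans (he x).symm)
    have hm1 : ∀ w, (autHom a⁻¹).comp (Subgroup.inclusion hRW) w ∈ Q ⊔ T := hom_sup_mem _
      (fun r => Subgroup.mem_sup_left (by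
        obtain ⟨x, rfl⟩ := e.surjective r
        show (a⁻¹ (Subgroup.inclusion hRW (Subgroup.inclusion le_sup_left (e x))) : Ω) ∈ Q
        rw [← hae, MulAut.inv_apply_self]
        exact x.2))
      (fun t => Subgroup.mem_sup_right (haT _ t.2))
    obtain ⟨η₁, hη₁, hη₁x⟩ := exists_comp
      (restrict_mem (autGroup_hom_mem haS (inv_mem ha)) hRW) hb'F hm1
    have hm2 : ∀ w, η₁ w ∈ Y ⊔ T := fun w => by
      rw [hη₁x]
      exact hom_sup_mem _
        (fun q => Subgroup.mem_sup_left (by rw [hb'Q]; exact hQ (SetLike.coe_mem _)))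
        (fun t => Subgroup.mem_sup_right (by rw [hb'T]; exact t.2)) _
    obtain ⟨η, hη, hηx⟩ := exists_comp hη₁ (autGroup_hom_mem haS ha) hm2
    refine ⟨autGroup_hom_mem (hRY.trans hYc.1) (congr_mem_autGroup e heF
        ((mem_autGroup hQS).2 hbF)), hRC, fun r => hRC (SetLike.coe_mem _),
      η, hη, fun r => ?_, fun t => ?_⟩
    · obtain ⟨x, rfl⟩ := e.surjective r
      rw [hηx]
      have h1 : η₁ (Subgroup.inclusion le_sup_left (e x)) = (b x : Ω) := by
        rw [hη₁x]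
        refine Eq.trans ?_ (hb'Q x)
        refine congrArg b' (Subtype.ext ?_)
        show (a⁻¹ (Subgroup.inclusion hRW (Subgroup.inclusion le_sup_left (e x))) : Ω) = x
        rw [← hae, MulAut.inv_apply_self]
        rfl
      rw [autHom_apply, autHom_apply,
        show (⟨_, hm2 (Subgroup.inclusion le_sup_left (e x))⟩ : (Y ⊔ T : Subgroup Ω)) =
          Subgroup.inclusion le_sup_left (Subgroup.inclusion hQ (b x)) from Subtype.ext h1, hae]
      show (e (b x) : Ω) = (e (b (e.symm (e x))) : Ω)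
      rw [e.symm_apply_apply]
    · rw [hηx]
      have h1 : η₁ (Subgroup.inclusion le_sup_right t) =
          (a⁻¹ (Subgroup.inclusion hRW (Subgroup.inclusion le_sup_right t)) : Ω) := by
        rw [hη₁x]
        exact (congrArg b' (Subtype.ext rfl : (⟨_, hm1 _⟩ : (Q ⊔ T : Subgroup Ω)) =
          Subgroup.inclusion le_sup_right (⟨_, haT _ t.2⟩ : T))).trans (hb'T _)
      rw [autHom_apply, show (⟨_, hm2 (Subgroup.inclusion le_sup_right t)⟩ : (Y ⊔ T : Subgroup Ω)) =
        a⁻¹ (Subgroup.inclusion hRW (Subgroup.inclusion le_sup_right t)) from Subtype.ext h1,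
        MulAut.apply_inv_self]
      rfl
  · -- Frattini
    have hPC : P ≤ centralizerIn S T := hP.trans hYT
    have hφY : ∀ x, φ x ∈ Y := hYc.2 P hP φ hφ
    have hTP : T ≤ centralizerIn S P := hTY.trans (centralizerIn_anti hP)
    have hTR : T ≤ centralizerIn S φ.range := hTY.trans
      (centralizerIn_anti (by rintro _ ⟨x, rfl⟩; exact hφY x))
    obtain ⟨φ', hφ', hφ'P, hφ'T⟩ := exists_extend_sup_of_map hS hF hTc hφ hTP hTR
    obtain ⟨b, hb, hbx⟩ := exists_aut_of_hom (restrict_mem hφ' le_sup_right) hφ'T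
    obtain ⟨a, ha, hai, haag⟩ := exists_lift_aut hS hF hTfc hb
    have hW : cenSup S T ≤ S := cenSup_le hTS
    have hai' : ∀ y, (a⁻¹ y : Ω) ∈ T ↔ (y : Ω) ∈ T := fun y => by
      have h := hai (a⁻¹ y)
      rw [MulAut.apply_inv_self] at h
      exact h.symm
    have hm : ∀ y, φ' y ∈ cenSup S T := hom_sup_mem _
      (fun x => Subgroup.mem_sup_right (by rw [hφ'P]; exact hYT (hφY x)))
      (fun t => Subgroup.mem_sup_left (hφ'T t))
    obtain ⟨θ', hθ', hθ'x⟩ := exists_comp hφ' (autGroup_hom_mem hW (inv_mem ha)) hm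
    have hθY : ∀ x : P, θ'.comp (Subgroup.inclusion le_sup_left) x ∈ Y := fun x => by
      show θ' (Subgroup.inclusion le_sup_left x) ∈ Y
      rw [hθ'x]
      exact apply_mem_centFix (inv_mem ha) hai' _
        (show φ' (Subgroup.inclusion le_sup_left x) ∈ Y from (hφ'P x).symm ▸ hφY x)
    have hθ : θ'.comp (Subgroup.inclusion le_sup_left) ∈ F.centralizerHom T P := by
      refine ⟨restrict_mem hθ' le_sup_left, hPC, fun x => hYT (hθY x), θ', hθ',
        fun x => rfl, fun t => ?_⟩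
      rw [hθ'x, autHom_apply, show (⟨_, hm (Subgroup.inclusion le_sup_right t)⟩ : cenSup S T) =
        a (Subgroup.inclusion le_sup_left t) from
          Subtype.ext ((hbx t).symm.trans (haag t).symm), MulAut.inv_apply_self]
      rfl
    obtain ⟨s, hs, φ₀, hφ₀, hsx⟩ := hdec P hP _ ((hEC P).symm ▸ hθ)
    have hsY : ∀ y : Y, s * (y : Ω) * s⁻¹ ∈ Y := fun y => conj_mem_centFix hTc hs.1 y.2
    obtain ⟨g, hg, hgx⟩ := exists_comp (F.conj_mem hYc.1 hs.1) (autGroup_hom_mem hW ha)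
      fun y => Subgroup.mem_sup_right (hYT (hsY y))
    obtain ⟨α, hα, hαx⟩ := exists_aut_of_hom hg fun y => by
      rw [hgx]
      exact apply_mem_centFix ha hai _ (hsY y)
    refine ⟨α, hα, φ₀, hφ₀, fun x hx => ?_⟩
    rw [hαx, hgx, autHom_apply]
    have h1 : (⟨_, Subgroup.mem_sup_right (hYT (hsY ⟨φ₀ x, hx⟩))⟩ : cenSup S T) =
        a⁻¹ ⟨_, hm (Subgroup.inclusion le_sup_left x)⟩ := by
      refine Subtype.ext ?_
      show s * φ₀ x * s⁻¹ = _
      rw [← hsx x]
      exact hθ'x _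
    rw [show (⟨conjHom Y s ⟨φ₀ x, hx⟩, _⟩ : cenSup S T) =
        ⟨_, Subgroup.mem_sup_right (hYT (hsY ⟨φ₀ x, hx⟩))⟩ from rfl, h1, MulAut.apply_inv_self]
    exact (hφ'P x).symm
  · -- extension condition
    haveI := finite_mulAut (S := Y) (le_refl Y)
    let K : Submonoid (MulAut Y) :=
      { carrier := extendableAut F Y
        one_mem' := ⟨1, one_mem _, fun x => rfl, fun c _ => by
          show (c : Ω)⁻¹ * (c : Ω) ∈ _
          rw [inv_mul_cancel]; exact one_mem _⟩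
        mul_mem' := extendableAut_mul hYc.1 }
    let H : Subgroup (MulAut Y) :=
      { K with
        inv_mem' := fun {a} ha => by
          obtain ⟨n, hn⟩ : a⁻¹ ∈ Submonoid.powers a :=
            mem_powers_iff_mem_zpowers.2 (inv_mem (Subgroup.mem_zpowers a))
          exact hn ▸ Submonoid.pow_mem K ha n }
    refine (?_ : D.autGroup Y ≤ H) hα
    refine (autGroup_le_pResidual_sup hYp hDs (isFullyNormalized_top D)).trans (sup_le ?_ ?_)
    · rintro _ ⟨⟨a, ha⟩, har, rfl⟩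
      refine (Subgroup.closure_le (H.comap (D.autGroup Y).subtype)).2 ?_ har
      intro b hb
      refine mem_extendableAut_of_centralizerHom hS hF hTc hYc hYT hfoc
        (hDC Y (autGroup_hom_mem le_rfl b.2)) ?_
      show (orderOf (b : MulAut Y)).Coprime p
      rw [Subgroup.orderOf_coe]
      exact hb
    · intro a ha
      obtain ⟨y, hy, hya⟩ := mem_autInducedBy.1 ha
      have hU : Y ⊔ centralizerIn S Y ≤ S := sup_le hYc.1 (centralizerIn_le Y)
      have hyN : y ∈ Subgroup.normalizer ((Y ⊔ centralizerIn S Y : Subgroup Ω) : Set Ω) :=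
        Subgroup.le_normalizer (Subgroup.mem_sup_left hy)
      refine ⟨conjAut _ y hyN,
        autInducedBy_le_autGroup hU (mem_autInducedBy.2 ⟨y, hYc.1 hy, fun _ => rfl⟩),
        fun x => (hya x).symm, fun c hc => ?_⟩
      rw [conjAut_apply]
      have e : (c : Ω)⁻¹ * (y * (c : Ω) * y⁻¹) = 1 := by
        rw [hc.2 y hy]; group
      rw [e]
      exact one_mem _

end Cfsg.Agent.Lib.Fusion
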