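/-
The largest normal subgroup of an invariant subsystem is normal in the whole system.
-/
import Cfsg.Agent.Lib.Fusion.Normal
import Cfsg.Agent.Lib.Fusion.NormExt
import Cfsg.Agent.Lib.Fusion87.Normal

set_option autoImplicit false

namespace Cfsg.Agent.Lib.Fusion

open Cfsg Cfsg.FusionSystem

variable {Ω : Type*} [Group Ω] {S T : Subgroup Ω} {F : FusionSystem S} {E : FusionSystem T}
  {p : ℕ}

/-- An automorphism of `T` in the system keeps the largest normal subgroup of an invariant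
subsystem over `T`. -/
theorem map_core_of_isInvariantIn [Finite T] (hE : E.IsInvariantIn F) {α : MulAut T}
    (hα : α ∈ F.autGroup T) : (E.core.subgroupOf T).map (autHom α) = E.core := by
  set R := E.core with hR
  set R' := (R.subgroupOf T).map (autHom α) with hR'
  have hRn : E.IsNormal R := isNormal_core
  have hRT : R ≤ T := hRn.1
  have hR'T : R' ≤ T := by
    rintro _ ⟨x, -, rfl⟩
    exact (α x).2
  have : Finite R := Finite.of_injective _ (Subgroup.inclusion_injective hRT)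
  have hcard : Nat.card R' = Nat.card R := by
    rw [hR', Subgroup.card_map_of_injective
      (fun x y h => α.injective (Subtype.ext h) : Function.Injective (autHom α))]
    exact Nat.card_congr (Subgroup.subgroupOfEquivOfLe hRT).toEquiv
  have : Finite R' := Finite.of_injective _ (Subgroup.inclusion_injective hR'T)
  have hnorm : E.IsNormal R' := by
    refine ⟨hR'T, fun P φ hφ => ?_⟩
    have hPT : P ≤ T := src_le hφ
    set P₁ := (P.subgroupOf T).map (T.subtype.comp (α⁻¹ : MulAut T).toMonoidHom) with hP₁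
    obtain ⟨χ, hχ, hχx⟩ := hE.2.2.1 P hPT φ hφ α⁻¹ (inv_mem hα)
    obtain ⟨ψ, hψ, hψP, hψR⟩ := hRn.2 P₁ χ hχ
    have hP₂T : P₁ ⊔ R ≤ T := src_le hψ
    set P₃ := ((P₁ ⊔ R).subgroupOf T).map (T.subtype.comp α.toMonoidHom) with hP₃
    obtain ⟨χ₂, hχ₂, hχ₂x⟩ := hE.2.2.1 (P₁ ⊔ R) hP₂T ψ hψ α hα
    have hinvmem : ∀ (x : Ω) (hx : x ∈ P), ((α⁻¹ ⟨x, hPT hx⟩ : T) : Ω) ∈ P₁ := fun x hx =>
      ⟨⟨x, hPT hx⟩, hx, rfl⟩
    have hPle : P ≤ P₃ := fun x hx =>
      ⟨α⁻¹ ⟨x, hPT hx⟩, Subgroup.mem_sup_left (hinvmem x hx),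
        congrArg Subtype.val (α.apply_symm_apply ⟨x, hPT hx⟩)⟩
    have hR'le : R' ≤ P₃ := by
      rintro _ ⟨y, hy, rfl⟩
      exact ⟨y, Subgroup.mem_sup_right hy, rfl⟩
    have hle : P ⊔ R' ≤ P₃ := sup_le hPle hR'le
    have hval : ∀ (y : T) (hy : (y : Ω) ∈ P₁ ⊔ R) (hy' : ((α y : T) : Ω) ∈ P₃),
        χ₂ ⟨(α y : T), hy'⟩ = (α ⟨ψ ⟨y, hy⟩, val_mem hψ _⟩ : Ω) := fun y hy hy' =>
      hχ₂x ⟨y, hy⟩ (val_mem hψ _) hy'
    refine ⟨_, restrict_mem hχ₂ hle, fun x => ?_,
      imgSub_eq_of_le_of_card (restrict_mem hχ₂ hle) le_sup_right ?_ le_rfl⟩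
    · set y := α⁻¹ ⟨(x : Ω), hPT x.2⟩ with hy
      have h1 := hval y (Subgroup.mem_sup_left (hinvmem _ x.2))
        ⟨y, Subgroup.mem_sup_left (hinvmem _ x.2), rfl⟩
      have e1 : (α y : Ω) = (x : Ω) := congrArg Subtype.val (α.apply_symm_apply ⟨x, hPT x.2⟩)
      have h2 : ψ ⟨(y : Ω), Subgroup.mem_sup_left (hinvmem _ x.2)⟩ =
          ((α⁻¹ ⟨φ x, val_mem hφ x⟩ : T) : Ω) := by
        refine Eq.trans ?_ (hχx x (val_mem hφ x) (hinvmem _ x.2))
        exact hψP ⟨_, hinvmem _ x.2⟩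
      show χ₂ _ = φ x
      refine (congrArg χ₂ (Subtype.ext e1.symm)).trans (h1.trans ?_)
      rw [show (⟨ψ ⟨(y : Ω), Subgroup.mem_sup_left (hinvmem _ x.2)⟩, val_mem hψ _⟩ : T) =
        α⁻¹ ⟨φ x, val_mem hφ x⟩ from Subtype.ext h2]
      exact congrArg Subtype.val (α.apply_symm_apply ⟨φ x, val_mem hφ x⟩)
    · intro z hz
      obtain ⟨x, hx, rfl⟩ := mem_imgSub.1 hz
      obtain ⟨y, hy, hyx⟩ := hx
      refine ⟨⟨ψ ⟨y, Subgroup.mem_sup_right hy⟩, val_mem hψ _⟩,
        hψR.le (apply_mem_imgSub ψ _ hy), ?_⟩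
      show ((α _ : T) : Ω) = χ₂ _
      refine (hval y (Subgroup.mem_sup_right hy) ⟨y, Subgroup.mem_sup_right hy, rfl⟩).symm.trans ?_
      exact congrArg χ₂ (Subtype.ext hyx)
  have : Finite R := Finite.of_injective _ (Subgroup.inclusion_injective hRT)
  exact Subgroup.eq_of_le_of_card_ge (le_core hnorm) hcard.ge

/-- The largest normal subgroup of an invariant subsystem is normal in the system. -/
theorem isNormal_core_of_isInvariantIn [Fact p.Prime] [Finite S] (hS : IsPGroup p S)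
    (hF : F.IsSaturated p) (hE : E.IsInvariantIn F) : F.IsNormal E.core := by
  have : Finite T := finite_of_le hE.2.1.1
  set R := E.core with hR
  have hRn : E.IsNormal R := isNormal_core
  have hRT : R ≤ T := hRn.1
  have : Finite R := Finite.of_injective _ (Subgroup.inclusion_injective hRT)
  have hRp : IsPGroup p R := hS.to_le (hRT.trans hE.2.1.1)
  have := hRp.isNilpotent
  let c : ℕ → Subgroup Ω := fun i => (Subgroup.upperCentralSeries R i).map R.subtype
  have hc1 : c (Group.nilpotencyClass R) = R := by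
    show (Subgroup.upperCentralSeries R _).map R.subtype = R
    rw [Subgroup.upperCentralSeries_nilpotencyClass, ← MonoidHom.range_eq_map, Subgroup.range_subtype]
  refine Fusion87.isNormal_of_series hS hF c ?_ hc1 (fun i _ => ?_) fun i _ => ?_
  · show (Subgroup.upperCentralSeries R 0).map R.subtype = ⊥
    rw [Subgroup.upperCentralSeries_zero, Subgroup.map_bot]
  · -- the terms are strongly closed
    have hcR : c i ≤ R := Subgroup.map_subtype_le _
    have hcsub : (c i).subgroupOf R = Subgroup.upperCentralSeries R i :=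
      Subgroup.comap_map_eq_self_of_injective R.subtype_injective _
    have hchar : ((c i).subgroupOf R).Characteristic := by
      rw [hcsub]; infer_instance
    have hcn : E.IsNormal (c i) := isNormal_of_characteristic hRn hcR hchar
    have hcsc := stronglyClosed_of_isNormal hcn
    refine ⟨hcR.trans (hRT.trans hE.2.1.1), fun U hU φ hφ x => ?_⟩
    obtain ⟨α, hα, φ₀, hφ₀, hx⟩ := hE.2.2.2 U (hU.trans (hcR.trans hRT)) φ hφ
    rw [hx x (val_mem hφ₀ x)]
    have hy : φ₀ x ∈ c i := hcsc.2 U hU φ₀ hφ₀ x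
    obtain ⟨k, hk⟩ := (map_subgroupOf_eq_iff hRT
      (fun a b h => α.injective (Subtype.ext h) : Function.Injective (autHom α))).1
      (map_core_of_isInvariantIn hE hα)
    have h1 := hk ⟨φ₀ x, hcR hy⟩
    have h2 : autHom α (Subgroup.inclusion hRT ⟨φ₀ x, hcR hy⟩) =
        ((α ⟨φ₀ x, val_mem hφ₀ x⟩ : T) : Ω) := rfl
    rw [← h2, h1]
    exact (SetLike.ext_iff.1 (Subgroup.characteristic_iff_comap_eq.1 hchar k) _).2 hy
  · rintro _ ⟨x, hx, rfl⟩ q hq
    have h1 := (Subgroup.mem_upperCentralSeries_succ_iff (G := R)).1 hx ⟨q, hq⟩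
    refine ⟨(x * ⟨q, hq⟩ * x⁻¹ * (⟨q, hq⟩ : R)⁻¹)⁻¹, Subgroup.inv_mem _ h1, ?_⟩
    simp [mul_assoc]

end Cfsg.Agent.Lib.Fusion
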