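import Cfsg.Agent.Lib.Fusion.Solvable
import Cfsg.Agent.Lib.Fusion.GroupFusion
import Cfsg.Agent.Lib.Fusion.AutGroup

/-!
A quasisimple fusion system lives on a nonabelian group.
-/

set_option autoImplicit false

namespace Cfsg.Agent.Lib.Fusion

open Cfsg Cfsg.FusionSystem
open Cfsg.Agent.Lib.FusionFactor (isCentral_center exists_factorSystem)

variable {Ω : Type*} [Group Ω] {S : Subgroup Ω} {F : FusionSystem S} {p : ℕ}

theorem stronglyClosed_of_isCentral' {Q : Subgroup Ω} (hQ : F.IsCentral Q) :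
    F.StronglyClosed Q := by
  refine ⟨hQ.1, fun R hR φ hφ x => ?_⟩
  obtain ⟨ψ, -, ha, hb⟩ := hQ.2 R φ hφ
  rw [← ha x]
  exact ((congrArg ψ (Subtype.ext rfl)).trans (hb ⟨x, hR x.2⟩)).symm ▸ hR x.2

theorem apply_eq_of_isSimple_of_commute {G : Type*} [Group G] [Finite G] [Fact p.Prime]
    (hG : IsPGroup p G) (hc : ∀ x y : G, x * y = y * x) {E : FusionSystem (⊤ : Subgroup G)}
    (hE : E.IsSimple p) {P : Subgroup G} {φ : P →* G} (hφ : φ ∈ E.Hom P) (x : P) :
    φ x = (x : G) := by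
  obtain ⟨hsat, hne, hsimp⟩ := hE
  set E₀ := fusionSystemOfSubgroup (⊤ : Subgroup G) ⊤ le_rfl
  have hfix : ∀ {g y : G}, g * y * g⁻¹ = y := fun {g y} => by rw [hc g y, mul_inv_cancel_right]
  have hsub : E₀.IsSubsystemOf E := fun Q ψ hψ => by
    obtain ⟨hQ, -, g, -, hg⟩ := hψ
    exact mem_congr (subtype_mem hQ) fun y => (hg y).trans hfix
  have hp : IsPGroup p (⊤ : Subgroup G) := hG.to_subgroup _
  have hsat₀ : E₀.IsSaturated p := isSaturated_fusionOfSubgroup
    ⟨le_rfl, hp, by rw [Subgroup.relIndex_self]; exact (Fact.out : p.Prime).not_dvd_one⟩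
  have hscT : E.StronglyClosed ⊤ := stronglyClosed_self E
  have hTn : E.IsNormal ⊤ := isNormal_of_isMulCommutative hp hsat hscT
    ⟨⟨fun a b => Subtype.ext (hc a b)⟩⟩
  have hinv : E₀.IsInvariantIn E := by
    refine ⟨hsub, hscT, fun Q hQ ψ hψ α hα => ?_, fun Q hQ ψ hψ => ?_⟩
    · obtain ⟨-, -, g, -, hg⟩ := hψ
      refine ⟨Subgroup.subtype _, subtype_mem le_top, fun y hy hαy => ?_⟩
      exact congrArg (fun t => ((α t : (⊤ : Subgroup G)) : G)) (Subtype.ext ((hg y).trans hfix).symm)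
    · obtain ⟨ψ', hψ', ha, -⟩ := hTn.2 Q ψ hψ
      obtain ⟨α, hα, hαeq⟩ := exists_aut_of_hom (restrict_mem hψ' le_sup_right) fun y => Subgroup.mem_top _
      refine ⟨α, hα, Q.subtype, subtype_mem hQ, fun y hy => ?_⟩
      rw [hαeq, ← ha y]
      exact congrArg ψ' (Subtype.ext rfl)
  have hnorm : E₀.IsNormalIn E p := by
    refine ⟨⟨hsat₀, hsat, hinv⟩, fun α hα => ⟨1, one_mem _, fun y => ?_, fun c _ => ?_⟩⟩
    · rw [autGroup_fusionOfSubgroup le_rfl, mem_autInducedBy] at hα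
      obtain ⟨g, -, hg⟩ := hα
      exact ((hg y).trans hfix).symm
    · rw [MulAut.one_apply, inv_mul_cancel]
      exact one_mem _
  obtain h | ⟨-, h⟩ := hsimp ⊤ E₀ hnorm
  · exact absurd h hne
  · obtain ⟨-, -, g, -, hg⟩ := (h P).symm ▸ hφ
    exact (hg x).trans hfix

theorem not_isMulCommutative_of_quasisimple [Finite S] [Fact p.Prime] (hS : IsPGroup p S)
    (hq : F.Quasisimple p) : ¬ IsMulCommutative S := by
  intro hab
  obtain ⟨hF, hhyp, hsimple⟩ := hq
  have hcS : ∀ x y : S, x * y = y * x := hab.1.1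
  have hfix : ∀ {g : Ω}, g ∈ S → ∀ {y : Ω}, y ∈ S → g * y * g⁻¹ = y := fun {g} hg {y} hy => by
    rw [show g * y = y * g from congrArg Subtype.val (hcS ⟨g, hg⟩ ⟨y, hy⟩), mul_inv_cancel_right]
  set Z := F.center with hZdef
  have hZ : F.IsCentral Z := isCentral_center F
  have hZsc := stronglyClosed_of_isCentral' hZ
  set θ := QuotientGroup.mk' (Z.subgroupOf S) with hθ
  obtain ⟨E, hE⟩ := exists_factorSystem θ F hZsc
    (S' := (⊤ : Subgroup (S ⧸ Z.subgroupOf S))) (fun s => QuotientGroup.eq_one_iff s)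
    (MonoidHom.range_eq_top.2 (QuotientGroup.mk'_surjective _))
  have hEs := hsimple E hE
  have hp' : IsPGroup p (S ⧸ Z.subgroupOf S) := hS.to_quotient _
  have hc' : ∀ a b : S ⧸ Z.subgroupOf S, a * b = b * a := fun a b => by
    obtain ⟨x, rfl⟩ := QuotientGroup.mk'_surjective _ a
    obtain ⟨y, rfl⟩ := QuotientGroup.mk'_surjective _ b
    rw [← map_mul, ← map_mul, hcS]
  -- automorphisms of `S` act trivially modulo the centre and on the centre
  have hAutp : IsPGroup p (F.autGroup S) := by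
    rintro ⟨α, hα⟩
    have hαh := autGroup_hom_mem le_rfl hα
    obtain ⟨φ', hφ', hPS, hφS, hmem, hind⟩ :=
      (isSurjectiveMorphism_of_isFactorSystem hS hF hZsc hE).1.2 S _ hαh
    have hd : ∀ x : S, x⁻¹ * α x ∈ Z.subgroupOf S := fun x => by
      rw [Subgroup.mem_subgroupOf, ← hE.2.1, map_mul, map_inv, inv_mul_eq_one]
      exact (apply_eq_of_isSimple_of_commute hp' hc' hEs hφ' _).symm.trans (hind x)
    have hz : ∀ z : S, (z : Ω) ∈ Z → α z = z := fun z hz => by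
      obtain ⟨ψ, -, ha, hb⟩ := hZ.2 S _ hαh
      refine Subtype.ext ((ha z).symm.trans ?_)
      exact (congrArg ψ (Subtype.ext rfl)).trans (hb ⟨z, hz⟩)
    have hiter : ∀ (n : ℕ) (x : S), (α ^ n) x = x * (x⁻¹ * α x) ^ n := by
      intro n
      induction n with
      | zero => intro x; simp
      | succ n ih =>
        intro x
        rw [pow_succ' α, MulAut.mul_apply, ih, map_mul, map_pow, hz _ (Subgroup.mem_subgroupOf.1 (hd x)), pow_succ' _ n,
          ← mul_assoc, mul_inv_cancel_left]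
    obtain ⟨k, hk⟩ := IsPGroup.iff_card.1 hS
    refine ⟨k, Subtype.ext (MulEquiv.ext fun x => ?_)⟩
    show (α ^ p ^ k) x = x
    rw [hiter, ← hk, pow_card_eq_one', mul_one]
  have hAut1 : ∀ α ∈ F.autGroup S, ∀ x : S, (α x : Ω) = x := by
    obtain ⟨Q, hQ, hQa, -⟩ := hF S le_rfl
    have hQS : Q = S := by
      obtain ⟨φ, hφ, rfl⟩ := hQ
      exact range_eq_self hφ (val_mem hφ)
    rw [hQS] at hQa
    obtain ⟨-, R, hR⟩ := hQa
    intro α hα x
    have htop : (R : Subgroup (F.autGroup S)) = ⊤ :=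
      (R.3 (hAutp.to_subgroup ⊤) le_top).symm
    have hmem : (⟨α, hα⟩ : F.autGroup S) ∈ (autInducedBy S S).subgroupOf (F.autGroup S) := by
      rw [← hR, htop]
      exact Subgroup.mem_top _
    obtain ⟨g, hg, hgx⟩ := mem_autInducedBy.1 (Subgroup.mem_subgroupOf.1 hmem)
    exact (hgx x).trans (hfix hg x.2)
  have hSn : F.IsNormal S := isNormal_of_isMulCommutative hS hF (stronglyClosed_self F) hab
  have hall : ∀ (P : Subgroup Ω) (φ : P →* Ω), φ ∈ F.Hom P → ∀ x : P, φ x = x := fun P φ hφ x => by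
    obtain ⟨ψ, hψ, ha, hb⟩ := hSn.2 P φ hφ
    obtain ⟨α, hα, hαeq⟩ := exists_aut_of_hom (restrict_mem hψ le_sup_right) fun y =>
      val_mem hψ _
    rw [← ha x]
    refine (congrArg ψ (Subtype.ext rfl)).trans ((hαeq ⟨x, src_le hφ x.2⟩).symm.trans ?_)
    exact hAut1 α hα _
  have hbot : S ≤ ⊥ := hhyp.ge.trans <| (Subgroup.closure_le _).2 <| by
    rintro _ ⟨P, α, x, hP, -, rfl⟩
    have : ((α : MulAut P) x : Ω) = x := hall P _ (autGroup_hom_mem hP α.2) x
    rw [SetLike.mem_coe, Subgroup.mem_bot, this, inv_mul_cancel]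
  refine hEs.2.1 (Subgroup.eq_bot_iff_forall _ |>.2 fun a _ => ?_)
  obtain ⟨x, rfl⟩ := QuotientGroup.mk'_surjective _ a
  rw [show x = 1 from Subtype.ext (Subgroup.mem_bot.1 (hbot x.2)), map_one]

end Cfsg.Agent.Lib.Fusion
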