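/-
Systems with self-centralizing largest normal subgroup and `p`-soluble automorphism group on it:
inheritance up and down, and a criterion through models.
-/
import Cfsg.Agent.Lib.Fusion.CoreInvariant
import Cfsg.Agent.Lib.Fusion.ConstrainedSub
import Cfsg.Agent.Lib.Fusion.Hyperfocal
import Cfsg.Agent.Lib.Fusion.PPrimeResidual
import Cfsg.Agent.Lib.Fusion.WeaklyNormalResidual
import Cfsg.Agent.Lib.Fusion.PPowerNormal
import Cfsg.Agent.Lib.Fusion.Solvable
import Cfsg.Agent.Lib.PSolvable.PSolv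
import Cfsg.Agent.Lib.Transfer.PResidual

set_option autoImplicit false

namespace Cfsg.Agent.Lib.Fusion

open Cfsg Cfsg.FusionSystem

universe u v

variable {Ω : Type u} [Group Ω] {S T : Subgroup Ω} {F : FusionSystem S} {p : ℕ}

/-- An automorphism of order prime to `p` fixing a normal subgroup `R` and its centralizer fixes
everything. -/
theorem aut_eq_one_of_fix [Finite S] [Fact p.Prime] (hS : IsPGroup p S) {Q R : Subgroup Ω}
    (hQS : Q ≤ S) (hRQ : R ≤ Q) (hn : ∀ q ∈ Q, ∀ r ∈ R, q * r * q⁻¹ ∈ R) {a : MulAut Q}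
    (hco : (orderOf a).Coprime p) (hR : ∀ x : Q, (x : Ω) ∈ R → a x = x)
    (hC : ∀ x : Q, (x : Ω) ∈ centralizerIn S R → a x = x) : a = 1 := by
  refine MulEquiv.ext fun q => ?_
  set z := q⁻¹ * a q with hz
  have hzc : (z : Ω) ∈ centralizerIn S R := by
    refine ⟨hQS z.2, fun r hr => ?_⟩
    set y : Q := q * ⟨r, hRQ hr⟩ * q⁻¹ with hy
    have h1 : a y = y := hR y (hn q q.2 r hr)
    rw [hy, map_mul, map_mul, map_inv, hR ⟨r, hRQ hr⟩ hr] at h1
    have h2 : (⟨r, hRQ hr⟩ : Q) * z = z * ⟨r, hRQ hr⟩ := by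
      rw [hz]
      calc (⟨r, hRQ hr⟩ : Q) * (q⁻¹ * a q) = q⁻¹ * (q * ⟨r, hRQ hr⟩ * q⁻¹) * a q := by group
        _ = q⁻¹ * (a q * ⟨r, hRQ hr⟩ * (a q)⁻¹) * a q := by rw [h1]
        _ = q⁻¹ * a q * ⟨r, hRQ hr⟩ := by group
    exact congrArg Subtype.val h2
  have haz : a z = z := hC z hzc
  have hit : ∀ i : ℕ, (a ^ i) q = q * z ^ i := by
    intro i
    induction i with
    | zero => simp
    | succ i ih =>
      rw [pow_succ', MulAut.mul_apply, ih, map_mul, map_pow, haz, pow_succ', ← mul_assoc,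
        show q * z = a q by rw [hz, mul_inv_cancel_left]]
  have h1 := hit (orderOf a)
  rw [pow_orderOf_eq_one, MulAut.one_apply, left_eq_mul] at h1
  obtain ⟨k, hk⟩ := hS.to_le hQS z
  have h2 : z = 1 := orderOf_eq_one_iff.1 (Nat.eq_one_of_dvd_coprimes (hco.pow_right k)
    (orderOf_dvd_of_pow_eq_one h1) (orderOf_dvd_of_pow_eq_one hk))
  show a q = q
  rw [hz, inv_mul_eq_one] at h2
  exact h2.symm

section Model

variable {G : Type v} [Group G] {ι : S →* G}

/-- A model maps onto the automorphism group of every normal subgroup. -/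
theorem exists_autHom_of_isModel [Fact p.Prime] [Finite S] (hM : F.IsModel p G ι)
    {Q : Subgroup Ω} (hQ : F.IsNormal Q) :
    ∃ f : G →* F.autGroup Q, Function.Surjective f ∧
      ∀ (g : G) (x : Q), ι ⟨((f g : MulAut Q) x : Ω), hQ.1 ((f g : MulAut Q) x).2⟩ =
        g * ι ⟨x, hQ.1 x.2⟩ * g⁻¹ := by
  classical
  have hQm := le_modelCore_of_isNormal hM hQ
  obtain ⟨hfin, h, hT, -⟩ := hM
  have : Finite Q := finite_of_le hQ.1
  have hpn := pCore_normal (p := p) (G := G)
  let P : G → MulAut Q → Prop := fun g a => ∀ x : Q,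
    ι ⟨(a x : Ω), hQ.1 (a x).2⟩ = g * ι ⟨x, hQ.1 x.2⟩ * g⁻¹
  have hex : ∀ g : G, ∃ a : F.autGroup Q, P g a := by
    intro g
    obtain ⟨φ, hφ, hφS, hφv⟩ := exists_hom_of_conj h hQ.1 (g := g) fun x =>
      pCore_le_range hT (hpn.conj_mem _ ((mem_modelCore _).1 (hQm x.2)) g)
    obtain ⟨a, ha, hax⟩ := exists_aut_of_hom hφ fun x =>
      (stronglyClosed_of_isNormal hQ).2 Q le_rfl φ hφ x
    refine ⟨⟨a, ha⟩, fun x => ?_⟩
    rw [← hφv x]
    exact congrArg ι (Subtype.ext (hax x))
  choose a ha using hex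
  have huniq : ∀ (g : G) (b : F.autGroup Q), P g b → a g = b := fun g b hb =>
    Subtype.ext (MulEquiv.ext fun x => Subtype.ext
      (congrArg (fun y : S => (y : Ω)) (h.1 ((ha g x).trans (hb x).symm))))
  refine ⟨MonoidHom.mk' a fun g g' => huniq _ _ fun x => ?_, fun b => ?_, ha⟩
  · show ι ⟨(((a g : MulAut Q) ((a g' : MulAut Q) x)) : Ω), _⟩ = _
    rw [ha g, ha g']
    group
  · obtain ⟨g, hg⟩ := exists_conj_of_hom h (autGroup_hom_mem hQ.1 b.2)
    exact ⟨g, huniq g b fun x => hg x⟩

/-- The kernel of the action of a model on a normal subgroup is a `p`-group as soon as no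
nontrivial automorphism of order prime to `p` of the largest normal subgroup fixes it. -/
theorem isPGroup_ker_autHom [Fact p.Prime] [Finite S] (hS : IsPGroup p S)
    (hM : F.IsModel p G ι) {R : Subgroup Ω} (hR : F.IsNormal R)
    (hfix : ∀ a ∈ F.autGroup F.core, (orderOf a).Coprime p →
      ∀ x : F.core, (x : Ω) ∈ centralizerIn S R → (∀ y : F.core, (y : Ω) ∈ R → a y = y) → a x = x)
    (f : G →* F.autGroup R)
    (hf : ∀ (g : G) (x : R), ι ⟨((f g : MulAut R) x : Ω), hR.1 ((f g : MulAut R) x).2⟩ =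
        g * ι ⟨x, hR.1 x.2⟩ * g⁻¹) : IsPGroup p f.ker := by
  have hK : F.IsNormal F.core := isNormal_core
  obtain ⟨f₀, -, hf₀⟩ := exists_autHom_of_isModel hM hK
  have hcore : modelCore p ι ≤ F.core := le_core (isNormal_modelCore hM)
  obtain ⟨hfin, h, hT, hC⟩ := hM
  intro g
  obtain ⟨k, hk⟩ := Transfer.exists_pow_coprime (p := p) (g : G)
  set g' := (g : G) ^ p ^ k with hg'
  have hg'K : f g' = 1 := by
    rw [hg', map_pow, show f (g : G) = 1 from g.2, one_pow]
  have hco : (orderOf (f₀ g' : MulAut F.core)).Coprime p := by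
    rw [Subgroup.orderOf_coe]
    exact hk.coprime_dvd_left (orderOf_map_dvd f₀ g')
  have hfixR : ∀ y : F.core, (y : Ω) ∈ R → (f₀ g' : MulAut F.core) y = y := by
    intro y hy
    suffices he : ι ⟨((f₀ g' : MulAut F.core) y : Ω), hK.1 ((f₀ g' : MulAut F.core) y).2⟩ =
        ι ⟨(y : Ω), hK.1 y.2⟩ from Subtype.ext (congrArg (fun y : S => (y : Ω)) (h.1 he) :)
    refine (hf₀ g' y).trans ?_
    refine (hf g' ⟨y, hy⟩).symm.trans ?_
    refine congrArg ι (Subtype.ext ?_)
    rw [hg'K]
    rfl
  have hone : (f₀ g' : MulAut F.core) = 1 := aut_eq_one_of_fix hS hK.1 (le_core hR)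
    (fun q hq r hr =>
      (Subgroup.mem_normalizer_iff.1 (le_normalizer_of_isNormal hR (hK.1 hq)) r).1 hr)
    hco hfixR fun x hx => hfix _ (f₀ g').2 hco x hx hfixR
  have hg'c : g' ∈ Subgroup.centralizer (pCore p G : Set G) := by
    intro n hn
    obtain ⟨z, rfl⟩ := pCore_le_range hT hn
    have hz : (z : Ω) ∈ F.core := hcore ((mem_modelCore z.2).2 hn)
    have h1 := hf₀ g' ⟨z, hz⟩
    have h2 : ι ⟨((f₀ g' : MulAut F.core) ⟨z, hz⟩ : Ω), hK.1 ((f₀ g' : MulAut F.core) ⟨z, hz⟩).2⟩ = ι z :=
      congrArg ι (Subtype.ext (by rw [hone]; rfl))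
    rw [h2] at h1
    exact eq_mul_inv_iff_mul_eq.1 h1
  obtain ⟨j, hj⟩ := (PSolvable.pCore_isPGroup (p := p) (G := G)) ⟨g', hC hg'c⟩
  refine ⟨k, Subtype.ext ?_⟩
  show g' = 1
  exact orderOf_eq_one_iff.1 (Nat.eq_one_of_dvd_coprimes (hk.pow_right j) dvd_rfl
    (orderOf_dvd_of_pow_eq_one (congrArg Subtype.val hj)))

/-- `p`-solubility of the automorphisms on a normal subgroup gives that of the model. -/
theorem isPSolvable_of_autGroup [Fact p.Prime] [Finite S] (hS : IsPGroup p S)
    (hM : F.IsModel p G ι) {R : Subgroup Ω} (hR : F.IsNormal R)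
    (hfix : ∀ a ∈ F.autGroup F.core, (orderOf a).Coprime p →
      ∀ x : F.core, (x : Ω) ∈ centralizerIn S R → (∀ y : F.core, (y : Ω) ∈ R → a y = y) → a x = x)
    (hsol : IsPSolvable p (F.autGroup R)) : IsPSolvable p G := by
  obtain ⟨f, hfs, hf⟩ := exists_autHom_of_isModel hM hR
  have := hM.1
  refine PSolvable.isPSolvable_of_quotient f.ker
    (Or.inl (IsPGroup.iff_card.1 (isPGroup_ker_autHom hS hM hR hfix f hf))) ?_
  exact PSolvable.isPSolvable_equiv hsol (QuotientGroup.quotientKerEquivOfSurjective f hfs).symm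

end Model

/-- The largest normal subgroup is self-centralizing and has `p`-soluble automorphism group. -/
def HasPSolvableCore (F : FusionSystem S) (p : ℕ) : Prop :=
  F.IsSaturated p ∧ centralizerIn S F.core ≤ F.core ∧ IsPSolvable p (F.autGroup F.core)

theorem isConstrained_of_centralizerIn_core [Finite S] (hF : F.IsSaturated p)
    (h : centralizerIn S F.core ≤ F.core) : F.IsConstrained p := by
  refine ⟨hF, F.core, isNormal_core, core_le F, fun P hP => ?_⟩
  obtain ⟨φ, hφ, rfl⟩ := hP
  have := finite_of_le (core_le F)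
  rw [range_eq_self hφ ((stronglyClosed_of_isNormal isNormal_core).2 _ le_rfl φ hφ)]
  exact h

theorem centralizerIn_core_of_isConstrained [Finite S] (hF : F.IsConstrained p) :
    centralizerIn S F.core ≤ F.core := by
  obtain ⟨-, Q, hQ, hQc⟩ := hF
  exact centralizerIn_le_of_isCentric (isCentric_mono hQc (le_core hQ) (core_le F))

/-- The property means: constrained with `p`-soluble models. -/
theorem hasPSolvableCore_iff [Fact p.Prime] [Finite S] (hS : IsPGroup p S) :
    HasPSolvableCore F p ↔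
      F.IsConstrained p ∧ ∀ (G : Type u) [Group G] (ι : S →* G), F.IsModel p G ι → IsPSolvable p G := by
  constructor
  · rintro ⟨hF, hC, hsol⟩
    refine ⟨isConstrained_of_centralizerIn_core hF hC, fun G _ ι hM => ?_⟩
    exact isPSolvable_of_autGroup hS hM isNormal_core
      (fun a _ _ x _ hfix => hfix x x.2) hsol
  · rintro ⟨hc, hsol⟩
    obtain ⟨G, _, _, ι, hM⟩ := exists_model_of_isConstrained hS hc
    obtain ⟨f, hfs, -⟩ := exists_autHom_of_isModel hM (isNormal_core (F := F))
    exact ⟨hc.1, centralizerIn_core_of_isConstrained hc,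
      PSolvable.isPSolvable_map (hsol G ι hM) f hfs⟩

/-- The property passes to invariant saturated subsystems. -/
theorem hasPSolvableCore_of_isInvariantIn [Fact p.Prime] [Finite S] (hS : IsPGroup p S)
    {E : FusionSystem T} (hEs : E.IsSaturated p) (hE : E.IsInvariantIn F)
    (h : HasPSolvableCore F p) : HasPSolvableCore E p := by
  obtain ⟨hc, hsol⟩ := (hasPSolvableCore_iff hS).1 h
  have : Finite T := finite_of_le hE.2.1.1
  obtain ⟨G, _, _, ι, hM⟩ := exists_model_of_isConstrained hS hc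
  have hR := isNormal_core_of_isInvariantIn hS hc.1 hE
  obtain ⟨f, hfs, -⟩ := exists_autHom_of_isModel hM hR
  have hA : IsPSolvable p (F.autGroup E.core) := PSolvable.isPSolvable_map (hsol G ι hM) f hfs
  exact ⟨hEs, centralizerIn_core_of_isConstrained
      (isConstrained_of_stronglyClosed hS hc hE.2.1 E hEs hE.1),
    PSolvable.isPSolvable_of_injective hA (Subgroup.inclusion (autGroup_mono hE.1 _))
      (Subgroup.inclusion_injective _)⟩

/-- The property passes up from an invariant subsystem of index prime to `p`. -/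
theorem hasPSolvableCore_of_hasPrimeToPIndexIn [Fact p.Prime] [Finite S] (hS : IsPGroup p S)
    (hF : F.IsSaturated p) {E : FusionSystem S} (hE : E.IsInvariantIn F)
    (hEi : E.HasPrimeToPIndexIn F p) (h : HasPSolvableCore E p) : HasPSolvableCore F p := by
  obtain ⟨-, hC, hsol⟩ := h
  have hR := isNormal_core_of_isInvariantIn hS hF hE
  have hRF : E.core ≤ F.core := le_core hR
  have hCF : centralizerIn S F.core ≤ F.core :=
    (inf_le_inf_left S (Subgroup.centralizer_le hRF)).trans (hC.trans hRF)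
  obtain ⟨G, _, _, ι, hM⟩ :=
    exists_model_of_isConstrained hS (isConstrained_of_centralizerIn_core hF hCF)
  have := finite_mulAut (S := S) hR.1
  set A := F.autGroup E.core
  set N := Subgroup.closure {α : A | ∃ k : ℕ, orderOf α = p ^ k} with hN
  have : N.Normal := by
    refine ⟨fun n hn g => ?_⟩
    have hle : N ≤ N.comap (MulAut.conj g).toMonoidHom := by
      refine (Subgroup.closure_le _).2 fun a ⟨k, hk⟩ => Subgroup.subset_closure ⟨k, ?_⟩
      rw [MulEquiv.coe_toMonoidHom, MulEquiv.orderOf_eq, hk]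
    exact hle hn
  have hNsol : IsPSolvable p N := by
    have hle : N.map A.subtype ≤ E.autGroup E.core := hEi.2 _ hR.1
    refine PSolvable.isPSolvable_of_injective hsol
      ((Subgroup.inclusion hle).comp (N.equivMapOfInjective _ A.subtype_injective).toMonoidHom) ?_
    exact (Subgroup.inclusion_injective hle).comp (MulEquiv.injective _)
  have hq : IsPSolvable p (A ⧸ N) := by
    refine PSolvable.isPSolvable_of_coprime ?_
    rw [← Subgroup.index_eq_card]
    let P : Sylow p A := default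
    have hPN : (P : Subgroup A) ≤ N := fun a ha => by
      obtain ⟨k, hk⟩ := P.isPGroup' ⟨a, ha⟩
      obtain ⟨i, -, hi⟩ := (Nat.dvd_prime_pow (Fact.out : p.Prime)).1
        (orderOf_dvd_of_pow_eq_one (congrArg Subtype.val hk : a ^ p ^ k = 1))
      exact Subgroup.subset_closure ⟨i, hi⟩
    exact Nat.Coprime.coprime_dvd_left (Subgroup.index_dvd_of_le hPN)
      (Nat.Coprime.symm ((Fact.out : p.Prime).coprime_iff_not_dvd.2 P.not_dvd_index))
  have hA : IsPSolvable p A := PSolvable.isPSolvable_of_normal N hNsol hq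
  have hG : IsPSolvable p G := isPSolvable_of_autGroup hS hM hR
    (fun a _ _ x hx hfix => hfix x (hC hx)) hA
  obtain ⟨f, hfs, -⟩ := exists_autHom_of_isModel hM (isNormal_core (F := F))
  exact ⟨hF, hCF, PSolvable.isPSolvable_map hG f hfs⟩

/-- The property passes up from the `p`-residual subsystem. -/
theorem hasPSolvableCore_of_hasPPowerIndexIn [Fact p.Prime] [Finite S] (hS : IsPGroup p S)
    (hF : F.IsSaturated p) (hTS : T ≤ S) (hTn : (T.subgroupOf S).Normal) {D : FusionSystem T}
    (hDs : D.IsSaturated p) (hDi : D.HasPPowerIndexIn F p) (h : HasPSolvableCore D p) :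
    HasPSolvableCore F p := by
  obtain ⟨-, hC, hsol⟩ := h
  have : Finite T := finite_of_le hTS
  have hD := (isNormalIn_of_hasPPowerIndexIn hS hF hTS hTn hDs hDi).1.2.2
  have hR := isNormal_core_of_isInvariantIn hS hF hD
  set R := D.core with hRdef
  have hRF : R ≤ F.core := le_core hR
  set C := centralizerIn S R with hCdef
  have hCT : C ⊓ T ≤ R := fun x hx => hC ⟨hx.2, hx.1.2⟩
  -- `C_S(R)` is normal
  have hCn : F.IsNormal C := by
    have := hS.isNilpotent
    have := hTn
    let V : ℕ → Subgroup Ω := fun i =>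
      ((Subgroup.upperCentralSeries (S ⧸ T.subgroupOf S) i).comap
        (QuotientGroup.mk' (T.subgroupOf S))).map S.subtype
    let c : ℕ → Subgroup Ω := fun i => if i = 0 then ⊥ else C ⊓ V (i - 1)
    set n := Group.nilpotencyClass (S ⧸ T.subgroupOf S)
    have hVn : V n = S := by
      show ((Subgroup.upperCentralSeries _ _).comap _).map _ = S
      rw [Subgroup.upperCentralSeries_nilpotencyClass, Subgroup.comap_top, ← MonoidHom.range_eq_map,
        Subgroup.range_subtype]
    have hTV : ∀ i, T ≤ V i := fun i x hx => ⟨⟨x, hTS hx⟩, by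
      show (QuotientGroup.mk' (T.subgroupOf S)) ⟨x, hTS hx⟩ ∈ Subgroup.upperCentralSeries _ i
      rw [QuotientGroup.mk'_apply, (QuotientGroup.eq_one_iff (⟨x, hTS hx⟩ : S)).2 (Subgroup.mem_subgroupOf.2 hx)]
      exact one_mem _, rfl⟩
    have hVsc : ∀ i, F.StronglyClosed (V i) := by
      intro i
      refine ⟨Subgroup.map_subtype_le _, fun U hU φ hφ x => ?_⟩
      obtain ⟨s, hs, hx⟩ := exists_conj_mod_hyperfocal hS hF hφ
      obtain ⟨y, hy, hyx⟩ := hU x.2
      have e : φ x = (s * (x : Ω) * s⁻¹) * ((s * (x : Ω) * s⁻¹)⁻¹ * φ x) := by group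
      rw [e]
      refine mul_mem ?_ (hTV i (hDi.2.1 (hx x)))
      rw [← hyx]
      exact ⟨⟨s, hs⟩ * y * ⟨s, hs⟩⁻¹,
        Subgroup.Normal.conj_mem inferInstance y hy ⟨s, hs⟩, rfl⟩
    have hCsc : F.StronglyClosed C := stronglyClosed_centralizerIn hR
    refine Fusion87.isNormal_of_series hS hF c (n := n + 1) rfl ?_ (fun i _ => ?_) fun i _ x hx q hq => ?_
    · show C ⊓ V n = C
      rw [hVn]
      exact inf_eq_left.2 inf_le_left
    · show F.StronglyClosed (if i = 0 then ⊥ else C ⊓ V (i - 1))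
      split_ifs
      · exact stronglyClosed_bot
      · exact stronglyClosed_inf_of hCsc (hVsc _)
    · change x ∈ C ⊓ V i at hx
      show q * x * q⁻¹ * x⁻¹ ∈ (if i = 0 then ⊥ else C ⊓ V (i - 1))
      have hcomm : q * x * q⁻¹ * x⁻¹ ∈ C :=
        mul_mem (mul_mem (mul_mem hq hx.1) (Subgroup.inv_mem _ hq)) (Subgroup.inv_mem _ hx.1)
      obtain ⟨y, hy, hyx⟩ := hx.2
      rcases i with _ | j
      · rw [if_pos rfl, Subgroup.mem_bot]
        have hxT : x ∈ T := by
          rw [← hyx]
          refine Subgroup.mem_subgroupOf.1 ((QuotientGroup.eq_one_iff y).1 ?_)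
          have h1 : (QuotientGroup.mk' (T.subgroupOf S)) y ∈ Subgroup.upperCentralSeries _ 0 := hy
          rw [Subgroup.upperCentralSeries_zero] at h1
          exact Subgroup.mem_bot.1 h1
        have h2 : x * q = q * x := hq.2 x (hCT ⟨hx.1, hxT⟩)
        rw [← h2]
        group
      · rw [if_neg (by omega)]
        refine ⟨hcomm, ⟨⟨q, hq.1⟩ * y * ⟨q, hq.1⟩⁻¹ * y⁻¹, ?_, ?_⟩⟩
        · show (QuotientGroup.mk' (T.subgroupOf S)) _ ∈ Subgroup.upperCentralSeries _ j
          have h1 := (Subgroup.mem_upperCentralSeries_succ_iff).1 hy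
            ((QuotientGroup.mk' (T.subgroupOf S)) ⟨q, hq.1⟩)
          rw [map_mul, map_mul, map_mul, map_inv, map_inv]
          have h2 := Subgroup.inv_mem _ h1
          simpa [mul_assoc, commutatorElement_def] using h2
        · simp [← hyx]
  have hCF : centralizerIn S F.core ≤ F.core :=
    (inf_le_inf_left S (Subgroup.centralizer_le hRF)).trans (le_core hCn)
  obtain ⟨G, _, _, ι, hM⟩ :=
    exists_model_of_isConstrained hS (isConstrained_of_centralizerIn_core hF hCF)
  have := finite_mulAut (S := S) hR.1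
  set A := F.autGroup R
  have : (pResidual p A).Normal := Transfer.pResidual_normal
  have hA : IsPSolvable p A := by
    refine PSolvable.isPSolvable_of_normal (pResidual p A) ?_
      (PSolvable.isPSolvable_of_isPGroup Transfer.isPGroup_quotient_pResidual)
    have hle : (pResidual p A).map A.subtype ≤ D.autGroup R := hDi.2.2 _ (core_le D)
    refine PSolvable.isPSolvable_of_injective hsol
      ((Subgroup.inclusion hle).comp ((pResidual p A).equivMapOfInjective _ A.subtype_injective).toMonoidHom) ?_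
    exact (Subgroup.inclusion_injective hle).comp (MulEquiv.injective _)
  have hG : IsPSolvable p G := by
    refine isPSolvable_of_autGroup hS hM hR (fun a ha hco x hx hfix => ?_) hA
    have hd : (x : Ω)⁻¹ * (a x : Ω) ∈ F.hyperfocalSubgroup p := by
      refine Subgroup.subset_closure ⟨F.core, ⟨a, ha⟩, x, core_le F, ?_, rfl⟩
      refine Subgroup.subset_closure ?_
      show (orderOf (⟨a, ha⟩ : F.autGroup F.core)).Coprime p
      rwa [← Subgroup.orderOf_coe]
    have hax : (a x : Ω) ∈ C :=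
      (stronglyClosed_of_isNormal hCn).2 (F.core ⊓ C) inf_le_right _
        (restrict_mem (autGroup_hom_mem (core_le F) ha) inf_le_left) ⟨x, x.2, hx⟩
    have hr : (x : Ω)⁻¹ * (a x : Ω) ∈ R :=
      hCT ⟨mul_mem (Subgroup.inv_mem _ hx) hax, hDi.2.1 hd⟩
    set r : F.core := x⁻¹ * a x with hrdef
    have har : a r = r := hfix r hr
    have hit : ∀ i : ℕ, (a ^ i) x = x * r ^ i := by
      intro i
      induction i with
      | zero => simp
      | succ i ih =>
        rw [pow_succ', MulAut.mul_apply, ih, map_mul, map_pow, har, pow_succ', ← mul_assoc,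
          show x * r = a x by rw [hrdef, mul_inv_cancel_left]]
    have h1 := hit (orderOf a)
    rw [pow_orderOf_eq_one, MulAut.one_apply, left_eq_mul] at h1
    obtain ⟨k, hk⟩ := hS.to_le (core_le F) r
    have h2 : r = 1 := orderOf_eq_one_iff.1 (Nat.eq_one_of_dvd_coprimes (hco.pow_right k)
      (orderOf_dvd_of_pow_eq_one h1) (orderOf_dvd_of_pow_eq_one hk))
    rw [hrdef, inv_mul_eq_one] at h2
    exact h2.symm
  obtain ⟨f, hfs, -⟩ := exists_autHom_of_isModel hM (isNormal_core (F := F))
  exact ⟨hF, hCF, PSolvable.isPSolvable_map hG f hfs⟩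

end Cfsg.Agent.Lib.Fusion
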