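/-
Systems with a terminating alternating residual series are the constrained ones with `p`-soluble
models.
-/
import Cfsg.Agent.Lib.Fusion.PSolvableCore
import Cfsg.Agent.Lib.Fusion.PPowerExists

set_option autoImplicit false

namespace Cfsg.Agent.Lib.Fusion

open Cfsg Cfsg.FusionSystem

universe u

variable {Ω : Type u} [Group Ω] {S : Subgroup Ω} {p : ℕ}

theorem isWeaklyNormalIn_self [Finite S] {F : FusionSystem S} (hF : F.IsSaturated p) :
    F.IsWeaklyNormalIn F p := by
  refine ⟨hF, hF, fun _ _ h => h, stronglyClosed_self F, fun P hPS φ hφ α hα => ?_, fun P hP φ hφ =>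
    ⟨1, one_mem _, φ, hφ, fun x hx => rfl⟩⟩
  set P₁ := (P.subgroupOf S).map (S.subtype.comp α.toMonoidHom) with hP₁
  have hP₁S : P₁ ≤ S := by
    rintro _ ⟨y, -, rfl⟩
    exact (α y).2
  have hai := autGroup_hom_mem (F := F) le_rfl (inv_mem hα)
  have hmem : ∀ y : P₁, autHom α⁻¹ (Subgroup.inclusion hP₁S y) ∈ P := by
    rintro ⟨_, z, hz, rfl⟩
    show ((α⁻¹ (α z) : S) : Ω) ∈ P
    rw [show α⁻¹ (α z) = z from α.symm_apply_apply z]
    exact hz
  obtain ⟨χ₁, hχ₁, hχ₁x⟩ := exists_comp (restrict_mem hai hP₁S) hφ hmem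
  obtain ⟨χ, hχ, hχx⟩ := exists_comp hχ₁ (autGroup_hom_mem (F := F) le_rfl hα) (val_mem hχ₁)
  refine ⟨χ, hχ, fun x hφx hαx => ?_⟩
  rw [hχx]
  show ((α ⟨χ₁ ⟨_, hαx⟩, _⟩ : S) : Ω) = (α ⟨φ x, hφx⟩ : Ω)
  refine congrArg (fun z : S => ((α z : S) : Ω)) (Subtype.ext ?_)
  show χ₁ ⟨_, hαx⟩ = φ x
  rw [hχ₁x]
  refine congrArg φ (Subtype.ext ?_)
  show ((α⁻¹ ⟨(α ⟨(x : Ω), hPS x.2⟩ : Ω), hP₁S hαx⟩ : S) : Ω) = (x : Ω)
  rw [show (⟨(α ⟨(x : Ω), hPS x.2⟩ : Ω), hP₁S hαx⟩ : S) = α ⟨(x : Ω), hPS x.2⟩ from rfl]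
  exact congrArg (fun z : S => (z : Ω)) (α.symm_apply_apply ⟨(x : Ω), hPS x.2⟩)

/-- A `p`-soluble group generated by its `p`-elements and by its elements of order prime to `p` is
trivial. -/
theorem eq_bot_of_isPSolvable_of_residual [Fact p.Prime] {G : Type*} [Group G] [Finite G]
    (h : IsPSolvable p G) (h₁ : pResidual p G = ⊤)
    (h₂ : Subgroup.closure {g : G | ∃ k : ℕ, g ^ p ^ k = 1} = ⊤) : (⊥ : Subgroup G) = ⊤ := by
  obtain ⟨n, H, h0, hl, hm, hn, hs⟩ := h
  rw [← h0]
  suffices hall : ∀ i, H i = ⊤ from hall 0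
  intro i
  induction i using Fin.reverseInduction with
  | last => exact hl
  | cast i ih =>
    have := hn i.castSucc
    rcases hs i with ⟨m, hm'⟩ | hco
    · rw [ih, Subgroup.relIndex_top_right] at hm'
      rw [eq_top_iff, ← h₁]
      exact Transfer.pResidual_le_of_isPGroup_quotient _ (IsPGroup.of_card hm')
    · rw [ih, Subgroup.relIndex_top_right] at hco
      rw [eq_top_iff, ← h₂, Subgroup.closure_le]
      rintro g ⟨k, hk⟩
      refine (QuotientGroup.eq_one_iff g).1 (orderOf_eq_one_iff.1 ?_)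
      refine Nat.eq_one_of_dvd_coprimes (hco.pow_right k) ?_ ?_
      · rw [Subgroup.index_eq_card]
        exact orderOf_dvd_natCard _
      · exact orderOf_dvd_of_pow_eq_one (by rw [← QuotientGroup.mk_pow, hk, QuotientGroup.mk_one])

/-- In a nontrivial constrained system with `p`-soluble models which is its own `p'`-residual, the
hyperfocal subgroup is proper. -/
theorem hyperfocalSubgroup_ne_of_hasPSolvableCore [Fact p.Prime] [Finite S] (hS : IsPGroup p S)
    {E : FusionSystem S} (h : HasPSolvableCore E p)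
    (hmin : ∀ D : FusionSystem S, D.IsSaturated p → D.HasPrimeToPIndexIn E p → E.IsSubsystemOf D)
    (hne : S ≠ ⊥) : E.hyperfocalSubgroup p ≠ S := by
  obtain ⟨hc, hsol⟩ := (hasPSolvableCore_iff hS).1 h
  obtain ⟨H, _, _, ι, hM⟩ := exists_model_of_isConstrained hS hc
  have hH := hsol H ι hM
  obtain ⟨f, hfs, hf⟩ := exists_autHom_of_isModel hM (isNormal_core (F := E))
  have hker : IsPGroup p f.ker := isPGroup_ker_autHom hS hM isNormal_core
    (fun a _ _ x _ hfix => hfix x x.2) f hf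
  obtain ⟨-, hreal, ⟨T, hT⟩, -⟩ := id hM
  set N := Subgroup.closure {g : H | ∃ k : ℕ, g ^ p ^ k = 1} with hN
  have hrange : IsPGroup p ι.range := hT ▸ T.2
  have hιN : ∀ s : S, ι s ∈ N := fun s => by
    obtain ⟨k, hk⟩ := hrange ⟨ι s, s, rfl⟩
    exact Subgroup.subset_closure ⟨k, congrArg Subtype.val hk⟩
  -- the maps induced by `N`
  let Rel : ∀ P : Subgroup Ω, (P →* Ω) → Prop := fun P φ => ∃ g ∈ N,
    ∀ (x : P) (h₁ : φ x ∈ S) (h₂ : (x : Ω) ∈ S), ι ⟨φ x, h₁⟩ = g * ι ⟨x, h₂⟩ * g⁻¹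
  let D : FusionSystem S :=
    { Hom := fun P => {φ | φ ∈ E.Hom P ∧ Rel P φ}
      le_of_mem := fun h => E.le_of_mem h.1
      injective_of_mem := fun h => E.injective_of_mem h.1
      conj_mem := fun {P g} hP hg => ⟨E.conj_mem hP hg, ι ⟨g, hg⟩, hιN _, fun x h₁ h₂ => by
        rw [← map_inv, ← map_mul, ← map_mul]
        exact congrArg ι (Subtype.ext rfl)⟩
      comp_mem := fun {P₁ Q₁ φ₁ ψ₁} h₁ h₂ h => by
        obtain ⟨a, haN, ha⟩ := h₁.2
        obtain ⟨b, hbN, hb⟩ := h₂.2
        refine ⟨E.comp_mem h₁.1 h₂.1 h, b * a, mul_mem hbN haN, fun x hx₁ hx₂ => ?_⟩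
        have e1 := hb ⟨φ₁ x, h x⟩ hx₁ (val_mem h₁.1 x)
        refine e1.trans ?_
        rw [ha x (val_mem h₁.1 x) hx₂]
        group
      inv_mem := fun {P₁ φ₁} h => by
        obtain ⟨a, haN, ha⟩ := h.2
        obtain ⟨ψ, hψ, hψe⟩ := E.inv_mem h.1
        refine ⟨ψ, ⟨hψ, a⁻¹, inv_mem haN, fun y hy₁ hy₂ => ?_⟩, hψe⟩
        obtain ⟨_, x, rfl⟩ := y
        have e1 := ha x hy₂ (src_le h.1 x.2)
        simp only [hψe, e1]
        group }
  have hDs : D.IsSaturated p := by
    refine isSaturated_of_isRealizedBy (ι := ι.codRestrict N hιN) ⟨fun x y hxy => hreal.1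
      (congrArg Subtype.val hxy), fun P hP φ hφ => ⟨?_, ?_⟩⟩ ⟨T.subtype (by
        rw [hT]
        rintro _ ⟨s, rfl⟩
        exact hιN s), ?_⟩
    · rintro ⟨-, g, hg, hgx⟩
      exact ⟨⟨g, hg⟩, fun x => Subtype.ext (hgx x (hφ x) (hP x.2))⟩
    · rintro ⟨g, hg⟩
      exact ⟨(hreal.2 P hP φ hφ).2 ⟨g, fun x => congrArg Subtype.val (hg x)⟩, g, g.2,
        fun x _ _ => congrArg Subtype.val (hg x)⟩
    · ext x
      rw [Sylow.coe_subtype, Subgroup.mem_subgroupOf, hT]
      exact ⟨fun ⟨s, hs⟩ => ⟨s, Subtype.ext hs⟩, fun ⟨s, hs⟩ => ⟨s, congrArg Subtype.val hs⟩⟩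
  have hDi : D.HasPrimeToPIndexIn E p := by
    refine ⟨fun P φ hφ => hφ.1, fun P hP => ?_⟩
    rw [Subgroup.map_le_iff_le_comap, Subgroup.closure_le]
    rintro α ⟨k, hk⟩
    show (α : MulAut P) ∈ D.autGroup P
    refine (mem_autGroup hP).2 ⟨autGroup_hom_mem hP α.2, ?_⟩
    obtain ⟨g, hg⟩ := exists_conj_of_hom hreal (autGroup_hom_mem hP α.2)
    have hpow : ∀ j : ℕ, ∀ x : P, ι ⟨(((α : MulAut P) ^ j) x : Ω), hP (((α : MulAut P) ^ j) x).2⟩ =
        g ^ j * ι ⟨x, hP x.2⟩ * (g ^ j)⁻¹ := by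
      intro j
      induction j with
      | zero => simp
      | succ j ih =>
        intro x
        have h1 := hg (((α : MulAut P) ^ j) x)
        rw [ih] at h1
        simp only [autHom_apply] at h1
        rw [pow_succ' g, mul_inv_rev]
        simp only [pow_succ' (α : MulAut P), MulAut.mul_apply]
        rw [h1]
        group
    obtain ⟨a, m, hm, he⟩ := Nat.exists_eq_pow_mul_and_not_dvd (orderOf_pos g).ne' p
      (Fact.out : p.Prime).ne_one
    obtain ⟨t, ht⟩ := exists_pow_eq_self_of_coprime (x := α) (n := m)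
      (hk ▸ Nat.Coprime.pow_right k
        (Nat.Coprime.symm ((Fact.out : p.Prime).coprime_iff_not_dvd.2 hm)))
    refine ⟨g ^ (m * t), Subgroup.subset_closure ⟨a, ?_⟩, fun x h₁ h₂ => ?_⟩
    · rw [← pow_mul, show m * t * p ^ a = orderOf g * t by rw [he]; ring, pow_mul,
        pow_orderOf_eq_one, one_pow]
    · refine Eq.trans (congrArg ι (Subtype.ext ?_)) (hpow (m * t) x)
      show ((α : MulAut P) x : Ω) = _
      rw [pow_mul]
      exact congrArg (fun β : MulAut P => (β x : Ω)) (congrArg Subtype.val ht).symm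
  have hED := hmin D hDs hDi
  have hNtop : N = ⊤ := by
    refine eq_top_iff.2 fun g _ => ?_
    have hK : E.core ≤ S := core_le E
    obtain ⟨-, h', hh', hhx⟩ := hED _ (autGroup_hom_mem hK (f g).2)
    have hk : g⁻¹ * h' ∈ f.ker := by
      rw [MonoidHom.mem_ker, map_mul, map_inv, inv_mul_eq_one]
      refine Subtype.ext (MulEquiv.ext fun x => Subtype.ext ?_)
      exact congrArg (fun y : S => (y : Ω))
        (hreal.1 ((hhx x (hK ((f g : MulAut E.core) x).2) (hK x.2)).trans (hf h' x).symm) :)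
    obtain ⟨k, hk'⟩ := hker ⟨_, hk⟩
    have h2 : g⁻¹ * h' ∈ N := Subgroup.subset_closure ⟨k, congrArg Subtype.val hk'⟩
    have h3 := mul_mem hh' (inv_mem h2)
    rwa [mul_inv_rev, inv_inv, mul_inv_cancel_left] at h3
  -- the hyperfocal subgroup goes into the `p`-residual
  intro heq
  set R := pResidual p H with hR
  have hRn : R.Normal := Transfer.pResidual_normal
  have hle : E.hyperfocalSubgroup p ≤ (R.comap ι).map S.subtype := by
    refine (Subgroup.closure_le _).2 ?_
    rintro _ ⟨P, α, x, hP, hα, rfl⟩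
    have key : ∀ β ∈ pResidual p (E.autGroup P), ∃ g ∈ R, ∀ x : P,
        ι ⟨((β : MulAut P) x : Ω), hP ((β : MulAut P) x).2⟩ = g * ι ⟨x, hP x.2⟩ * g⁻¹ := by
      intro β hβ
      induction hβ using Subgroup.closure_induction with
      | mem β hβ =>
        obtain ⟨g, hg⟩ := exists_conj_of_hom hreal (autGroup_hom_mem hP β.2)
        obtain ⟨k, hk⟩ := Transfer.exists_pow_mem_pResidual (p := p) g
        have hpow : ∀ j : ℕ, ∀ x : P,
            ι ⟨(((β : MulAut P) ^ j) x : Ω), hP (((β : MulAut P) ^ j) x).2⟩ =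
              g ^ j * ι ⟨x, hP x.2⟩ * (g ^ j)⁻¹ := by
          intro j
          induction j with
          | zero => simp
          | succ j ih =>
            intro x
            have h1 := hg (((β : MulAut P) ^ j) x)
            rw [ih] at h1
            simp only [autHom_apply] at h1
            rw [pow_succ' g, mul_inv_rev]
            simp only [pow_succ' (β : MulAut P), MulAut.mul_apply]
            rw [h1]
            group
        obtain ⟨t, ht⟩ := exists_pow_eq_self_of_coprime (x := β) (n := p ^ k)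
          (Nat.Coprime.pow_left k (Nat.Coprime.symm hβ))
        refine ⟨g ^ (p ^ k * t), by rw [pow_mul]; exact pow_mem hk t, fun x => ?_⟩
        refine Eq.trans (congrArg ι (Subtype.ext ?_)) (hpow (p ^ k * t) x)
        show ((β : MulAut P) x : Ω) = _
        rw [pow_mul]
        exact congrArg (fun γ : MulAut P => (γ x : Ω)) (congrArg Subtype.val ht).symm
      | one => exact ⟨1, one_mem _, fun x => by simp⟩
      | mul a b _ _ ha hb =>
        obtain ⟨g, hg, hgx⟩ := ha
        obtain ⟨g', hg', hg'x⟩ := hb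
        refine ⟨g * g', mul_mem hg hg', fun x => ?_⟩
        refine (hgx ((b : MulAut P) x)).trans ?_
        rw [hg'x]
        group
      | inv a _ ha =>
        obtain ⟨g, hg, hgx⟩ := ha
        refine ⟨g⁻¹, inv_mem hg, fun x => ?_⟩
        have h1 := hgx (((a⁻¹ : E.autGroup P) : MulAut P) x)
        simp only [InvMemClass.coe_inv, MulAut.apply_inv_self] at h1 ⊢
        rw [h1]
        group
    obtain ⟨g, hg, hgx⟩ := key α hα
    refine ⟨⟨_, mul_mem (inv_mem (hP x.2)) (hP ((α : MulAut P) x).2)⟩, ?_, rfl⟩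
    show ι ((⟨x, hP x.2⟩ : S)⁻¹ * ⟨((α : MulAut P) x : Ω), hP ((α : MulAut P) x).2⟩) ∈ R
    rw [map_mul, map_inv, hgx, ← mul_assoc, ← mul_assoc]
    refine mul_mem ?_ (inv_mem hg)
    have h4 := hRn.conj_mem g hg (ι ⟨x, hP x.2⟩)⁻¹
    rwa [inv_inv] at h4
  have hrR : ι.range ≤ R := by
    rintro _ ⟨s, rfl⟩
    obtain ⟨y, hy, hys⟩ := hle (heq.symm ▸ s.2 : (s : Ω) ∈ E.hyperfocalSubgroup p)
    rw [← show y = s from Subtype.ext hys]
    exact hy
  have hRtop : R = ⊤ := by
    have h1 := Transfer.pResidual_sup_sylow (p := p) T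
    rwa [hT, sup_eq_left.2 hrR] at h1
  have hbot := eq_bot_of_isPSolvable_of_residual hH hRtop hNtop
  apply hne
  rw [Subgroup.eq_bot_iff_forall]
  intro x hx
  have h1 : ι ⟨x, hx⟩ ∈ (⊥ : Subgroup H) := hbot.symm ▸ Subgroup.mem_top _
  exact congrArg Subtype.val (hreal.1 ((Subgroup.mem_bot.1 h1).trans (map_one ι).symm))

/-- Terminating residual series and the property. -/
theorem hasPSolvableCore_of_terminating [Finite S] {F : FusionSystem S}
    (h : F.HasTerminatingResidualSeries p) [Fact p.Prime] (hS : IsPGroup p S)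
    (hF : F.IsSaturated p) : HasPSolvableCore F p := by
  rename_i hfin hp
  revert hfin hp hS hF
  induction h with
  | @trivial S F p hS0 =>
    intro _ _ hS hF
    refine ⟨hF, fun x hx => ?_, ?_⟩
    · have h1 : x ∈ (⊥ : Subgroup Ω) := hS0 ▸ hx.1
      rw [Subgroup.mem_bot.1 h1]
      exact one_mem _
    · refine PSolvable.isPSolvable_of_coprime ?_
      have hc : F.core ≤ ⊥ := hS0 ▸ core_le F
      have : Subsingleton (F.autGroup F.core) := ⟨fun a b => Subtype.ext (MulEquiv.ext fun x =>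
        Subtype.ext ((Subgroup.mem_bot.1 (hc ((a : MulAut F.core) x).2)).trans
          (Subgroup.mem_bot.1 (hc ((b : MulAut F.core) x).2)).symm))⟩
      rw [Nat.card_eq_one_iff_unique.2 ⟨this, ⟨1⟩⟩]
      exact Nat.coprime_one_left p
  | @step S F E p D hE hD _ ih =>
    intro _ _ hS hF
    have hTS := hyperfocalSubgroup_le_self E p
    have := finite_of_le hTS
    have hDc := ih (hS.to_le hTS) hD.1
    have hTn := hyperfocal_normal E p
    have hEc := hasPSolvableCore_of_hasPPowerIndexIn hS hE.1 hTS hTn hD.1 hD.2 hDc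
    have hEe : ∀ P, E.Hom P = (pPrimeResidualSystem F p).Hom P :=
      isPPrimeResidual_unique hE (isPPrimeResidual_pPrimeResidualSystem hS hF)
    have heq : E = pPrimeResidualSystem F p :=
      fusionSystem_eq_of_le (fun P => (hEe P).le) (fun P => (hEe P).ge)
    subst heq
    exact hasPSolvableCore_of_hasPrimeToPIndexIn hS hF
      (isNormalIn_pPrimeResidualSystem hS (isWeaklyNormalIn_self hF)).1.2.2 hE.2.1 hEc

/-- The converse. -/
theorem terminating_of_hasPSolvableCore [Fact p.Prime] [Finite S] (hS : IsPGroup p S)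
    {F : FusionSystem S} (h : HasPSolvableCore F p) : F.HasTerminatingResidualSeries p := by
  suffices key : ∀ (n : ℕ) (S : Subgroup Ω) (F : FusionSystem S), Finite S → IsPGroup p S →
      HasPSolvableCore F p → Nat.card S ≤ n → F.HasTerminatingResidualSeries p from
    key _ S F inferInstance hS h le_rfl
  intro n
  induction n with
  | zero =>
    intro S F _ _ _ hn
    exact absurd Nat.card_pos (not_lt.2 hn)
  | succ n ih =>
    intro S F _ hS h hn
    by_cases hS0 : S = ⊥
    · exact HasTerminatingResidualSeries.trivial F p hS0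
    have hres := isPPrimeResidual_pPrimeResidualSystem hS h.1
    set E := pPrimeResidualSystem F p with hEdef
    have hEinv := (isNormalIn_pPrimeResidualSystem hS (isWeaklyNormalIn_self h.1)).1.2.2
    have hEc := hasPSolvableCore_of_isInvariantIn hS hres.1 hEinv h
    have hne := hyperfocalSubgroup_ne_of_hasPSolvableCore hS hEc (fun D hD hDi => by
      refine hres.2.2 D hD ⟨fun P φ hφ => hres.2.1.1 P (hDi.1 P hφ), fun P hP => ?_⟩
      rw [Subgroup.map_le_iff_le_comap, Subgroup.closure_le]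
      rintro α ⟨k, hk⟩
      show (α : MulAut P) ∈ D.autGroup P
      have hαE : (α : MulAut P) ∈ E.autGroup P :=
        hres.2.1.2 P hP ⟨α, Subgroup.subset_closure ⟨k, hk⟩, rfl⟩
      refine hDi.2 P hP ⟨⟨α, hαE⟩, Subgroup.subset_closure ⟨k, ?_⟩, rfl⟩
      rw [← Subgroup.orderOf_coe] at hk ⊢
      exact hk) hS0
    have hTS := hyperfocalSubgroup_le_self E p
    have := finite_of_le hTS
    obtain ⟨D, hDs, hDi, -⟩ := exists_pPowerIndex hS hres.1 hTS le_rfl
    have hDinv := (isNormalIn_of_hasPPowerIndexIn hS hres.1 hTS (hyperfocal_normal E p) hDs hDi).1.2.2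
    have hlt : Nat.card (E.hyperfocalSubgroup p) < Nat.card S :=
      lt_of_le_of_ne (Subgroup.card_le_of_le hTS) fun hcard =>
        hne (Subgroup.eq_of_le_of_card_ge hTS hcard.ge)
    exact HasTerminatingResidualSeries.step F E p D hres ⟨hDs, hDi⟩
      (ih _ D this (hS.to_le hTS) (hasPSolvableCore_of_isInvariantIn hS hDs hDinv hEc) (by omega))

end Cfsg.Agent.Lib.Fusion
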