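/-
A saturated fusion system is constrained exactly when it has no component.
-/
import Cfsg.Agent.Lib.Fusion.CentralLift
import Cfsg.Agent.Lib.Fusion.CoreInvariant
import Cfsg.Agent.Lib.Fusion.Terminating
import Cfsg.Agent.Lib.Fusion.CentralizerSystemNormal
import Cfsg.Agent.Lib.Fusion.QuasisimpleBasic
import Cfsg.Agent.Lib.Fusion87.Inner

set_option autoImplicit false

namespace Cfsg.Agent.Lib.Fusion.Components

open Cfsg Cfsg.FusionSystem
open Cfsg.Agent.Lib.FusionFactor (mem_preimageAlong mem_imageAlong preimageAlong_le exists_preimage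
  exists_factorSystem isCentral_center)

universe u

variable {Ω : Type u} [Group Ω] {S : Subgroup Ω} {p : ℕ}

theorem isConstrained_of_subnormal [Fact p.Prime] {T S : Subgroup Ω} {C : FusionSystem T}
    {F : FusionSystem S} (h : C.IsSubnormalIn F p) :
    IsPGroup p S → Finite S → F.IsConstrained p → C.IsConstrained p := by
  rename_i hp
  revert hp
  induction h with
  | refl F p => exact fun _ _ h => h
  | @step U S E D F p _ hD ih =>
    intro _ hS hfin hF
    have hUS : U ≤ S := hD.1.2.2.2.1.1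
    exact ih (hS.to_le hUS) (finite_of_le hUS)
      (isConstrained_of_stronglyClosed hS hF hD.1.2.2.2.1 D hD.1.1 hD.1.2.2.1)

theorem isNormal_of_isCentral [Finite S] {F : FusionSystem S} {Q : Subgroup Ω}
    (hQ : F.IsCentral Q) : F.IsNormal Q := by
  refine ⟨hQ.1, fun P φ hφ => ?_⟩
  obtain ⟨ψ, hψ, ha, hb⟩ := hQ.2 P φ hφ
  refine ⟨ψ, hψ, ha, le_antisymm ?_ fun x hx => ?_⟩
  · rintro _ ⟨x, hx, rfl⟩
    exact (congrArg (· ∈ Q) (hb ⟨x, hx⟩)).mpr hx
  · exact ⟨Subgroup.inclusion le_sup_right ⟨x, hx⟩, hx, hb ⟨x, hx⟩⟩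

theorem center_le_core [Finite S] (F : FusionSystem S) : F.center ≤ F.core :=
  le_core (isNormal_of_isCentral (isCentral_center F))

theorem le_center {F : FusionSystem S} {Q : Subgroup Ω} (h : F.IsCentral Q) : Q ≤ F.center :=
  le_sSup h

theorem not_isConstrained_of_quasisimple [Fact p.Prime] [Finite S] (hS : IsPGroup p S)
    {C : FusionSystem S} (hq : C.Quasisimple p) : ¬ C.IsConstrained p := by
  intro hc
  obtain ⟨hC, hhyp, hsimple⟩ := hq
  set Z := C.center with hZdef
  have hZ : C.IsCentral Z := isCentral_center C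
  have hZsc := stronglyClosed_of_isCentral' hZ
  set θ := QuotientGroup.mk' (Z.subgroupOf S) with hθ
  obtain ⟨E, hE⟩ := exists_factorSystem θ C hZsc
    (S' := (⊤ : Subgroup (S ⧸ Z.subgroupOf S))) (fun s => QuotientGroup.eq_one_iff s)
    (MonoidHom.range_eq_top.2 (QuotientGroup.mk'_surjective _))
  have hEs := hsimple E hE
  have hp' : IsPGroup p (⊤ : Subgroup (S ⧸ Z.subgroupOf S)) := (hS.to_quotient _).to_subgroup _
  have hnle : ¬ S ≤ Z := fun h => hEs.2.1 (Subgroup.eq_bot_iff_forall _ |>.2 fun a _ => by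
    obtain ⟨x, rfl⟩ := QuotientGroup.mk'_surjective _ a
    exact (hE.2.1 x).2 (h x.2))
  set W := C.core with hW
  have hWn : C.IsNormal W := isNormal_core
  by_cases hWZ : W ≤ Z
  · -- the core is central
    refine hnle fun x hx => hWZ (centralizerIn_core_of_isConstrained hc ⟨hx, fun w hw => ?_⟩)
    exact (C.center_le_centralizer (hWZ hw) x hx).symm
  -- the image of the core
  set W' := imageAlong θ W with hW'
  have hsurj := isSurjectiveMorphism_of_isFactorSystem hS hC hZsc hE
  have hW'n : E.IsNormal W' := by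
    refine ⟨le_top, fun P' φ' hφ' => ?_⟩
    obtain ⟨φ, hφ, h1, h2, h3, hi⟩ := hsurj.2.2 P' le_top φ' hφ'
    obtain ⟨ψ, hψ, hψP, hψW⟩ := hWn.2 _ φ hφ
    obtain ⟨ψ', hψ', k1, k2, k3, hj⟩ := hsurj.1.2 _ ψ hψ
    have hle : P' ⊔ W' ≤ imageAlong θ (preimageAlong θ P' ⊔ W) := by
      refine sup_le (fun y hy => ?_) ?_
      · obtain ⟨x, hx⟩ := exists_preimage θ
          (fun z _ => hE.2.2.1.ge (Subgroup.mem_top z))
          ⟨y, hy⟩
        exact ⟨⟨x, preimageAlong_le θ P' x.2⟩, Subgroup.mem_sup_left (T := W) x.2, hx⟩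
      · rintro _ ⟨x, hx, rfl⟩
        exact ⟨x, Subgroup.mem_sup_right hx, rfl⟩
    refine ⟨_, restrict_mem hψ' hle, fun y => ?_, ?_⟩
    · obtain ⟨x, hx⟩ := exists_preimage θ
        (fun z _ => hE.2.2.1.ge (Subgroup.mem_top z))
        (⟨y, y.2⟩ : P')
      have h4 := hj (Subgroup.inclusion le_sup_left x)
      have h5 := hi x
      rw [show (⟨θ ⟨x, h1 x.2⟩, h3 x⟩ : P') = y from Subtype.ext hx] at h5
      rw [h5]
      refine Eq.trans ?_ (h4.trans ?_)
      · exact congrArg ψ' (Subtype.ext hx.symm)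
      · exact congrArg θ (Subtype.ext (hψP x))
    · refine le_antisymm ?_ ?_
      · rintro _ ⟨⟨w, hw⟩, hw', rfl⟩
        obtain ⟨x, hx, hxw⟩ := hw'
        have hxW : (x : Ω) ∈ preimageAlong θ P' ⊔ W := Subgroup.mem_sup_right hx
        refine (congrArg (· ∈ W') ((congrArg ψ' (Subtype.ext hxw.symm)).trans (hj ⟨x, hxW⟩))).mpr ?_
        exact ⟨⟨ψ ⟨x, hxW⟩, _⟩, hψW.le ⟨⟨x, hxW⟩, hx, rfl⟩, rfl⟩
      · rintro _ ⟨z, hz, rfl⟩
        obtain ⟨⟨x, hxsup⟩, hxW, hxz⟩ := hψW.ge hz
        have hθW : θ ⟨x, k1 hxsup⟩ ∈ W' := ⟨⟨x, k1 hxsup⟩, hxW, rfl⟩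
        refine ⟨⟨θ ⟨x, k1 hxsup⟩, Subgroup.mem_sup_right hθW⟩, hθW, ?_⟩
        refine Eq.trans ?_ ((hj ⟨x, hxsup⟩).trans (congrArg θ (Subtype.ext hxz)))
        exact congrArg ψ' (Subtype.ext rfl)
  haveI : Finite (⊤ : Subgroup (S ⧸ Z.subgroupOf S)) := inferInstance
  obtain h | ⟨hWtop, hall⟩ := hEs.2.2 W' (innerFusionSystem W')
    (Fusion87.inner_isNormalIn hp' hEs.1 hW'n)
  · refine hWZ fun x hx => ?_
    exact (hE.2.1 ⟨x, hWn.1 hx⟩).1 (Subgroup.mem_bot.1 (h.le ⟨⟨x, hWn.1 hx⟩, hx, rfl⟩))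
  -- every map is inner modulo the centre
  refine hnle (hhyp.ge.trans ((Subgroup.closure_le _).2 ?_))
  rintro _ ⟨P, α, x, hP, hα, rfl⟩
  have key : ∀ β ∈ pResidual p (C.autGroup P), ∀ y : P,
      (y : Ω)⁻¹ * ((β : MulAut P) y : Ω) ∈ Z := by
    intro β hβ
    induction hβ using Subgroup.closure_induction with
    | mem β hβ =>
      intro y
      obtain ⟨φ', hφ', h1, h2, h3, hi⟩ := hsurj.1.2 P _ (autGroup_hom_mem hP β.2)
      rw [← hall] at hφ'
      obtain ⟨-, g, -, hg⟩ := hφ'
      have hit : ∀ j : ℕ, ∀ z : P, θ ⟨((((β : MulAut P) ^ j) z : P) : Ω), hP (SetLike.coe_mem _)⟩ =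
          g ^ j * θ ⟨z, hP z.2⟩ * (g ^ j)⁻¹ := by
        intro j
        induction j with
        | zero => intro z; simp
        | succ j ih =>
          intro z
          simp only [pow_succ' (β : MulAut P), MulAut.mul_apply]
          refine ((hi _).symm.trans (hg _)).trans ?_
          show g * θ ⟨_, _⟩ * g⁻¹ = _
          rw [ih z, pow_succ']
          group
      have hn : ((g ^ orderOf β) : S ⧸ Z.subgroupOf S) * θ ⟨y, hP y.2⟩ *
          (g ^ orderOf β)⁻¹ = θ ⟨y, hP y.2⟩ := by
        rw [← hit (orderOf β) y]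
        refine congrArg θ (Subtype.ext ?_)
        show ((((β : MulAut P) ^ orderOf β) y : P) : Ω) = y
        rw [← SubmonoidClass.coe_pow, pow_orderOf_eq_one]
        rfl
      obtain ⟨k, hk⟩ := hS.to_quotient (Z.subgroupOf S) g
      obtain ⟨m, hm⟩ := exists_pow_eq_self_of_coprime (x := g) (n := orderOf β)
        (Nat.Coprime.coprime_dvd_right (orderOf_dvd_of_pow_eq_one hk) (hβ.pow_right k))
      have hg' : g * θ ⟨y, hP y.2⟩ * g⁻¹ = θ ⟨y, hP y.2⟩ := by
        have hc' : Commute (g ^ orderOf β) (θ ⟨y, hP y.2⟩) := mul_inv_eq_iff_eq_mul.1 hn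
        have := hc'.pow_left m
        rw [hm] at this
        rw [this.eq, mul_inv_cancel_right]
      refine (hE.2.1 (⟨y, hP y.2⟩⁻¹ * ⟨((β : MulAut P) y : Ω), hP (SetLike.coe_mem _)⟩)).1 ?_
      rw [map_mul, map_inv, inv_mul_eq_one]
      refine (hg'.symm.trans ?_)
      exact ((hg ⟨_, h3 y⟩).symm.trans (hi y))
    | one => intro y; simp
    | mul a b _ _ ha hb =>
      intro y
      have := Z.mul_mem (hb y) (ha ((b : MulAut P) y))
      rwa [mul_assoc, mul_inv_cancel_left] at this
    | inv a _ ha =>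
      intro y
      have := Z.inv_mem (ha (((a : MulAut P))⁻¹ y))
      rwa [MulAut.apply_inv_self, mul_inv_rev, inv_inv] at this
  exact key α hα x

/-- The argument lifting constrainedness through a subsystem of `p`-power index. -/
theorem isConstrained_of_hasPPowerIndexIn [Fact p.Prime] [Finite S] (hS : IsPGroup p S)
    {F : FusionSystem S} {T : Subgroup Ω}
    (hF : F.IsSaturated p) (hTS : T ≤ S) (hTn : (T.subgroupOf S).Normal) {D : FusionSystem T}
    (hDs : D.IsSaturated p) (hDi : D.HasPPowerIndexIn F p) (h : D.IsConstrained p) :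
    F.IsConstrained p := by
  have : Finite T := finite_of_le hTS
  have hD := (isNormalIn_of_hasPPowerIndexIn hS hF hTS hTn hDs hDi).1.2.2
  have hR := isNormal_core_of_isInvariantIn hS hF hD
  have hC := centralizerIn_core_of_isConstrained h
  set R := D.core with hRdef
  have hRF : R ≤ F.core := le_core hR
  set C := centralizerIn S R with hCdef
  have hCT : C ⊓ T ≤ R := fun x hx => hC ⟨hx.2, hx.1.2⟩
  -- `C_S(R)` is normal
  have hCn : F.IsNormal C := by
    have := hS.isNilpotent
    have := hTn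
    let V : ℕ → Subgroup Ω := fun i =>
      ((Subgroup.upperCentralSeries (S ⧸ T.subgroupOf S) i).comap
        (QuotientGroup.mk' (T.subgroupOf S))).map S.subtype
    let c : ℕ → Subgroup Ω := fun i => if i = 0 then ⊥ else C ⊓ V (i - 1)
    set n := Group.nilpotencyClass (S ⧸ T.subgroupOf S)
    have hVn : V n = S := by
      show ((Subgroup.upperCentralSeries _ _).comap _).map _ = S
      rw [Subgroup.upperCentralSeries_nilpotencyClass, Subgroup.comap_top, ← MonoidHom.range_eq_map,
        Subgroup.range_subtype]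
    have hTV : ∀ i, T ≤ V i := fun i x hx => ⟨⟨x, hTS hx⟩, by
      show (QuotientGroup.mk' (T.subgroupOf S)) ⟨x, hTS hx⟩ ∈ Subgroup.upperCentralSeries _ i
      rw [QuotientGroup.mk'_apply,
        (QuotientGroup.eq_one_iff (⟨x, hTS hx⟩ : S)).2 (Subgroup.mem_subgroupOf.2 hx)]
      exact one_mem _, rfl⟩
    have hVsc : ∀ i, F.StronglyClosed (V i) := by
      intro i
      refine ⟨Subgroup.map_subtype_le _, fun U hU φ hφ x => ?_⟩
      obtain ⟨s, hs, hx⟩ := exists_conj_mod_hyperfocal hS hF hφ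
      obtain ⟨y, hy, hyx⟩ := hU x.2
      have e : φ x = (s * (x : Ω) * s⁻¹) * ((s * (x : Ω) * s⁻¹)⁻¹ * φ x) := by group
      rw [e]
      refine mul_mem ?_ (hTV i (hDi.2.1 (hx x)))
      rw [← hyx]
      exact ⟨⟨s, hs⟩ * y * ⟨s, hs⟩⁻¹,
        Subgroup.Normal.conj_mem inferInstance y hy ⟨s, hs⟩, rfl⟩
    have hCsc : F.StronglyClosed C := stronglyClosed_centralizerIn hR
    refine Fusion87.isNormal_of_series hS hF c (n := n + 1) rfl ?_ (fun i _ => ?_)
      fun i _ x hx q hq => ?_
    · show C ⊓ V n = C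
      rw [hVn]
      exact inf_eq_left.2 inf_le_left
    · show F.StronglyClosed (if i = 0 then ⊥ else C ⊓ V (i - 1))
      split_ifs
      · exact stronglyClosed_bot
      · exact stronglyClosed_inf_of hCsc (hVsc _)
    · change x ∈ C ⊓ V i at hx
      show q * x * q⁻¹ * x⁻¹ ∈ (if i = 0 then ⊥ else C ⊓ V (i - 1))
      have hcomm : q * x * q⁻¹ * x⁻¹ ∈ C :=
        mul_mem (mul_mem (mul_mem hq hx.1) (Subgroup.inv_mem _ hq)) (Subgroup.inv_mem _ hx.1)
      obtain ⟨y, hy, hyx⟩ := hx.2
      rcases i with _ | j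
      · rw [if_pos rfl, Subgroup.mem_bot]
        have hxT : x ∈ T := by
          rw [← hyx]
          refine Subgroup.mem_subgroupOf.1 ((QuotientGroup.eq_one_iff y).1 ?_)
          have h1 : (QuotientGroup.mk' (T.subgroupOf S)) y ∈ Subgroup.upperCentralSeries _ 0 := hy
          rw [Subgroup.upperCentralSeries_zero] at h1
          exact Subgroup.mem_bot.1 h1
        have h2 : x * q = q * x := hq.2 x (hCT ⟨hx.1, hxT⟩)
        rw [← h2]
        group
      · rw [if_neg (by omega)]
        refine ⟨hcomm, ⟨⟨q, hq.1⟩ * y * ⟨q, hq.1⟩⁻¹ * y⁻¹, ?_, ?_⟩⟩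
        · show (QuotientGroup.mk' (T.subgroupOf S)) _ ∈ Subgroup.upperCentralSeries _ j
          have h1 := (Subgroup.mem_upperCentralSeries_succ_iff).1 hy
            ((QuotientGroup.mk' (T.subgroupOf S)) ⟨q, hq.1⟩)
          rw [map_mul, map_mul, map_mul, map_inv, map_inv]
          have h2 := Subgroup.inv_mem _ h1
          simpa [mul_assoc, commutatorElement_def] using h2
        · simp [← hyx]
  exact isConstrained_of_centralizerIn_core hF
    ((inf_le_inf_left S (Subgroup.centralizer_le hRF)).trans (le_core hCn))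

/-- A weakly normal subsystem over the whole group contains a system equal to its
`p'`-residual. -/
theorem le_of_isWeaklyNormalIn_top [Fact p.Prime] [Finite S] (hS : IsPGroup p S)
    {F : FusionSystem S} (hres : F.IsPPrimeResidual p F) {T : Subgroup Ω} (hT : T = S)
    {D : FusionSystem T} (hD : D.IsWeaklyNormalIn F p) : F.IsSubsystemOf D := by
  subst hT
  exact pPrimeResidual_subsystem hS (isWeaklyNormalIn_self hres.1) hres hD

/-- A system that is its own `p'`-residual, is not constrained, and has only constrained normal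
subsystems over proper subgroups is quasisimple. -/
theorem quasisimple_of_minimal [Fact p.Prime] [Finite S] (hS : IsPGroup p S) {F : FusionSystem S}
    (hres : F.IsPPrimeResidual p F) (hnc : ¬ F.IsConstrained p)
    (hA : ∀ (T : Subgroup Ω) (D : FusionSystem T), D.IsNormalIn F p → T ≠ S → D.IsConstrained p) :
    F.Quasisimple p := by
  have hF := hres.1
  -- the hyperfocal subgroup
  have hhyp : F.hyperfocalSubgroup p = S := by
    by_contra hne
    have hTS := hyperfocalSubgroup_le_self F p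
    have hTn := hyperfocal_normal F p
    obtain ⟨D, hDs, hDi, -⟩ := exists_pPowerIndex hS hF hTS le_rfl
    exact hnc (isConstrained_of_hasPPowerIndexIn hS hF hTS hTn hDs hDi
      (hA _ D (isNormalIn_of_hasPPowerIndexIn hS hF hTS hTn hDs hDi) hne))
  -- the core is central
  set R := F.core with hR
  have hRn : F.IsNormal R := isNormal_core
  have hRS := hRn.1
  have hEn := Fusion87.inner_isNormalIn hS hF hRn
  set Y := centFix F (innerFusionSystem R) p hRS with hY
  obtain ⟨D, hD, hDC⟩ := exists_centralizerSubsystem hS hEn hRS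
  have hCY : centralizerIn S R ≤ Y := by
    refine le_centFix hS hEn le_rfl ?_
    rintro P φ ⟨hP, g, hg, hx⟩
    have hPC : ∀ y ∈ R, y ∈ centralizerIn S (centralizerIn S R) := fun y hy =>
      ⟨hRS hy, fun c hc => (hc.2 y hy).symm⟩
    have hle : P ⊔ centralizerIn S R ≤ S := sup_le (hP.trans hRS) inf_le_left
    refine ⟨mem_of_conj (hP.trans hRS) (hRS hg) hx, fun x hx' => hPC x (hP hx'), fun x => ?_,
      conjHom _ g, F.conj_mem hle (hRS hg), fun x => (hx x).symm, fun c => ?_⟩
    · rw [hx]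
      exact hPC _ (R.mul_mem (R.mul_mem hg (hP x.2)) (R.inv_mem hg))
    · rw [conjHom_apply, Subgroup.coe_inclusion, c.2.2 g hg, mul_inv_cancel_right]
  have hYle : Y ≤ centralizerIn S R := centFix_le_centralizerIn
  have hYS : Y = S := by
    by_contra hne
    have hDc := hA Y D hD hne
    haveI : Finite Y := finite_of_le (hYle.trans inf_le_left)
    have hW := le_core (isNormal_core_of_isInvariantIn hS hF hD.1.2.2)
    refine hnc (isConstrained_of_centralizerIn_core hF fun x hx => hW ?_)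
    exact centralizerIn_core_of_isConstrained hDc ⟨hCY hx, fun w hw => hx.2 w (hW hw)⟩
  have hRc : F.IsCentral R := by
    have hFD := le_of_isWeaklyNormalIn_top hS hres hYS hD.1
    refine ⟨hRS, fun P φ hφ => ?_⟩
    obtain ⟨-, -, -, ψ, hψ, ha, hb⟩ := hDC P (hFD P hφ)
    exact ⟨ψ, hψ, ha, hb⟩
  -- the quotient
  set Z := F.center with hZdef
  have hRZ : R ≤ Z := le_center hRc
  have hnle : ¬ S ≤ Z := fun h => hnc (isConstrained_of_centralizerIn_core hF
    (inf_le_left.trans (h.trans (center_le_core F))))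
  refine ⟨hF, hhyp, fun Fb hFb => ?_⟩
  set θ := QuotientGroup.mk' (Z.subgroupOf S) with hθ
  have hFbs := isSaturated_of_isFactorSystem hS hF
    (stronglyClosed_of_isCentral' (isCentral_center F)) hFb
  refine ⟨hFbs, fun h => hnle fun x hx => ?_, fun T' E hE => ?_⟩
  · have h1 : θ ⟨x, hx⟩ ∈ (⊤ : Subgroup (S ⧸ Z.subgroupOf S)) := Subgroup.mem_top _
    rw [h, Subgroup.mem_bot] at h1
    exact (hFb.2.1 ⟨x, hx⟩).1 h1
  set d : CentralLift.Data p F Z θ Fb E := ⟨hS, hF, isCentral_center F, hFb, hE⟩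
  set T := CentralLift.top θ T' with hT
  have hw := CentralLift.isWeaklyNormalIn_liftD d
  have hrange : ∀ P' : Subgroup (S ⧸ Z.subgroupOf S), P' ≤ θ.range := fun P' =>
    hFb.2.2.1 ▸ le_top
  by_cases hTS : T = S
  · -- everything lifts
    right
    have hT' : T' = ⊤ := eq_top_iff.2 fun y _ => by
      obtain ⟨x, rfl⟩ := QuotientGroup.mk'_surjective _ y
      exact (CentralLift.mem_top.1 (hTS.ge x.2)).2
    refine ⟨hT', fun P' => Set.Subset.antisymm (hE.1.2.2.1 P') fun φ' hφ' => ?_⟩
    obtain ⟨-, φ, hφ, h1, h2, h3, hi⟩ := (hFb.2.2.2 P' φ').1 hφ'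
    obtain ⟨-, hP, hφT, ψ', hψ', k1, k2, k3, hj⟩ :=
      ((le_of_isWeaklyNormalIn_top hS hres hTS hw) _ hφ).1
    have himg := CentralLift.image_preimage (θ := θ) (hrange P')
    refine mem_congr (restrict_mem hψ' himg.ge) fun y => ?_
    obtain ⟨x, hx⟩ := exists_preimage θ (hrange P') y
    have e1 : y = (⟨θ ⟨x, h1 x.2⟩, h3 x⟩ : P') := Subtype.ext hx.symm
    rw [e1, hi x]
    exact (hj x).symm
  · left
    have hnorm := isNormalIn_pPrimeResidualSystem hS hw
    have hc := hA T _ hnorm hTS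
    haveI : Finite T := finite_of_le CentralLift.top_le
    have hW := le_core (isNormal_core_of_isInvariantIn hS hF hnorm.1.2.2)
    have hTZ : T ≤ Z := fun x hx => hRZ (hW (centralizerIn_core_of_isConstrained hc
      ⟨hx, fun w hw' => (F.center_le_centralizer (hRZ (hW hw')) x (CentralLift.top_le hx)).symm⟩))
    refine (Subgroup.eq_bot_iff_forall T').2 fun y hy => ?_
    obtain ⟨x, rfl⟩ := QuotientGroup.mk'_surjective _ y
    exact (hFb.2.1 x).2 (hTZ (CentralLift.mem_top.2 ⟨x.2, hy⟩))

/-- An unconstrained saturated system has a component. -/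
theorem exists_component [Fact p.Prime] [Finite S] (hS : IsPGroup p S) {F : FusionSystem S}
    (hF : F.IsSaturated p) (hnc : ¬ F.IsConstrained p) :
    ∃ (T : Subgroup Ω) (C : FusionSystem T), C.IsComponentIn F p := by
  suffices key : ∀ (n : ℕ) (S : Subgroup Ω) (F : FusionSystem S), Finite S → IsPGroup p S →
      F.IsSaturated p → ¬ F.IsConstrained p → Nat.card S ≤ n →
      ∃ (T : Subgroup Ω) (C : FusionSystem T), C.IsComponentIn F p from
    key _ S F inferInstance hS hF hnc le_rfl
  clear hnc hF hS F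
  intro n
  induction n with
  | zero =>
    intro S F _ _ _ _ hn
    exact absurd Nat.card_pos (not_lt.2 hn)
  | succ n ih =>
    intro S F _ hS hF hnc hn
    set D := pPrimeResidualSystem F p with hD
    have hDres := isPPrimeResidual_pPrimeResidualSystem hS hF
    have hDn := isNormalIn_pPrimeResidualSystem hS (isWeaklyNormalIn_self hF)
    have hDnc : ¬ D.IsConstrained p := fun hDc => hnc (by
      have hc := le_core (isNormal_core_of_isInvariantIn hS hF hDn.1.2.2)
      exact isConstrained_of_centralizerIn_core hF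
        (((inf_le_inf_left S (Subgroup.centralizer_le hc)).trans
          (centralizerIn_core_of_isConstrained hDc)).trans hc))
    have hDD : D.IsPPrimeResidual p D := by
      refine ⟨hDres.1, hasPrimeToPIndexIn_of_hasPAut hS hDres.1 (fun _ _ h => h)
        (fun P hP α hα _ => autGroup_hom_mem hP.1 hα), fun D' hD' hD'i => hDres.2.2 D' hD'
          ⟨fun P φ hφ => hDres.2.1.1 P (hD'i.1 P hφ), fun P hP => ?_⟩⟩
      rw [Subgroup.map_le_iff_le_comap, Subgroup.closure_le]
      rintro α ⟨k, hk⟩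
      show (α : MulAut P) ∈ D'.autGroup P
      have hαE : (α : MulAut P) ∈ D.autGroup P :=
        hDres.2.1.2 P hP ⟨α, Subgroup.subset_closure ⟨k, hk⟩, rfl⟩
      refine hD'i.2 P hP ⟨⟨α, hαE⟩, Subgroup.subset_closure ⟨k, ?_⟩, rfl⟩
      rw [← Subgroup.orderOf_coe] at hk ⊢
      exact hk
    suffices h : ∃ (T : Subgroup Ω) (C : FusionSystem T), C.IsComponentIn D p by
      obtain ⟨T, C, hC, hCq⟩ := h
      exact ⟨T, C, IsSubnormalIn.step hC hDn, hCq⟩
    by_cases hex : ∀ (T : Subgroup Ω) (X : FusionSystem T), X.IsNormalIn D p → T ≠ S →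
        X.IsConstrained p
    · exact ⟨S, D, IsSubnormalIn.refl D p, quasisimple_of_minimal hS hDD hDnc hex⟩
    · push_neg at hex
      obtain ⟨T, X, hX, hTne, hXnc⟩ := hex
      have hTS : T ≤ S := hX.1.2.2.2.1.1
      have hlt : Nat.card T < Nat.card S := lt_of_le_of_ne (Subgroup.card_le_of_le hTS)
        fun e => hTne (Subgroup.eq_of_le_of_card_ge hTS e.ge)
      obtain ⟨U, C, hC, hCq⟩ := ih T X (finite_of_le hTS) (hS.to_le hTS) hX.1.1 hXnc (by omega)
      exact ⟨U, C, IsSubnormalIn.step hC hX, hCq⟩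

theorem le_of_subnormal {T S : Subgroup Ω} {C : FusionSystem T} {F : FusionSystem S}
    (h : C.IsSubnormalIn F p) : T ≤ S := by
  induction h with
  | refl F p => exact le_rfl
  | step _ hD ih => exact ih.trans hD.1.2.2.2.1.1

/-- **Constrained means no component.** -/
theorem isConstrained_iff_no_component [Fact p.Prime] [Finite S] (hS : IsPGroup p S)
    {F : FusionSystem S} (hF : F.IsSaturated p) :
    F.IsConstrained p ↔ ¬ ∃ (T : Subgroup Ω) (C : FusionSystem T), C.IsComponentIn F p := by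
  refine ⟨fun hc ⟨T, C, hC, hCq⟩ => ?_, fun h => by_contra fun hnc => h (exists_component hS hF hnc)⟩
  have hTS := le_of_subnormal hC
  haveI : Finite T := finite_of_le hTS
  exact not_isConstrained_of_quasisimple (hS.to_le hTS) hCq
    (isConstrained_of_subnormal hC hS inferInstance hc)

end Cfsg.Agent.Lib.Fusion.Components
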