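import Cfsg.Agent.Lib.Fusion.SimpleSylow
import Cfsg.Agent.Lib.Compute.Perm
import Cfsg.Agent.Lib.Compute.Simple
import Cfsg.Agent.Lib.PGroup.Frattini

/-!
Kernel certificates for the simplicity of the 2-fusion system of a permutation group.

The certificate gives a Sylow 2-subgroup `P`, its only central involution `z`, conjugation steps that
fuse `z` to a generating set of `P`, the subgroup `Φ` generated by squares and representatives of its
cosets together with a conjugation invariant of each coset which takes every value at most twice; so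
elements of odd order normalizing `P` centralize `P`.
-/

set_option autoImplicit false

namespace Cfsg.Agent.Lib.Fusion

open Cfsg.Agent.Lib.Compute

/-- Membership in a list of codes. -/
noncomputable def memCode (c : ℕ) (l : List ℕ) : Bool := l.any fun d => Nat.beq c d

/-- Lists of numbers agree. -/
def natsEq : List ℕ → List ℕ → Bool
  | [], [] => true
  | [], _ :: _ => false
  | _ :: _, [] => false
  | a :: as, b :: bs => Nat.beq a b && natsEq as bs

/-- Number of fixed points of a code. -/
noncomputable def fixCode (w n h : ℕ) : ℕ :=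
  (List.range n).countP fun i => Nat.beq (getP w h i) i

/-- Weight of an element in the invariant. -/
noncomputable def keyCode (w n h : ℕ) : ℕ :=
  forceNat (mulP w n h h) fun h2 => forceNat (mulP w n h2 h2) fun h4 =>
    (fixCode w n h + 25 * fixCode w n h2 + 625 * fixCode w n h4) ^ 2

/-- Number of images of a point under a list of codes. -/
noncomputable def imgCount (w n : ℕ) (l : List ℕ) (i : ℕ) : ℕ :=
  (List.range n).countP fun j => l.any fun h => Nat.beq (getP w h i) j

/-- Combination of the two parts of the invariant. -/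
def sigMix (a b : ℕ) : ℕ := a * 1048576 + b

/-- The invariant of a coset. -/
noncomputable def sigCode (w n : ℕ) (l m : List ℕ) : ℕ :=
  sigMix (l.map (keyCode w n)).sum ((List.range n).map fun i => imgCount w n (l ++ m) i ^ 3).sum

/-- The list of images of `z` under the fusion steps. -/
noncomputable def stepList (O : Ops) (L : List Lvl) :
    List (List ℕ × List ℕ) → List (ℕ × ℕ) → List (ℕ × ℕ)
  | [], acc => acc
  | st :: rest, acc =>
    stepList O L rest (acc ++ [conjPair O (pathEval O L st.1)
      (st.2.foldr (fun i q => (O.mul (acc.getD i (O.one, O.one)).1 q.1,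
        O.mul q.2 (acc.getD i (O.one, O.one)).2)) (O.one, O.one))])

/-- Certificate for a Sylow 2-subgroup. -/
structure FusCert where
  a : ℕ
  PS : List (ℕ × ℕ)
  LP : List Lvl
  z : ℕ × ℕ
  steps : List (List ℕ × List ℕ)
  T : List (ℕ × ℕ)
  LT : List Lvl
  Phi : List ℕ
  PhiW : List ((ℕ × ℕ) × (ℕ × ℕ))
  reps : List (ℕ × ℕ)
  cosets : List (List ℕ)
  sigs : List ℕ

/-- The Sylow subgroup and its central involution. -/
noncomputable def sylowCheck (w n : ℕ) (L : List Lvl) (f : FusCert) : Bool :=
  f.PS.all (pairCheck w n L) &&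
  chainCheck (permOps w n) f.PS f.LP &&
  Nat.beq (chainSize f.LP) (2 ^ f.a) &&
  Nat.blt 0 f.a &&
  Nat.beq (chainSize L % 2 ^ f.a) 0 &&
  Nat.beq (chainSize L / 2 ^ f.a % 2) 1 &&
  sift (permOps w n) f.LP f.z.1 &&
  pairCheck w n L f.z &&
  (elems (permOps w n) f.LP).all (fun c => forceNat c fun c =>
    Nat.beq c f.z.1 || Nat.beq c (permOps w n).one ||
    !Nat.beq (mulP w n c c) (permOps w n).one ||
    !(f.PS.all fun s => Nat.beq (mulP w n c s.1) (mulP w n s.1 c)))

/-- The fusion of the central involution. -/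
noncomputable def fusionCheck (w n : ℕ) (L : List Lvl) (f : FusCert) : Bool :=
  pairsEq (stepList (permOps w n) L f.steps [f.z]) f.T &&
  f.T.all (fun p => sift (permOps w n) f.LP p.1) &&
  chainCheck (permOps w n) f.T f.LT &&
  Nat.beq (chainSize f.LT) (2 ^ f.a)

/-- The cosets of the subgroup of squares. -/
noncomputable def cosetCheck (w n : ℕ) (f : FusCert) : Bool :=
  Nat.beq f.PhiW.length f.Phi.length &&
  natsEq (f.PhiW.map fun ab => mulP w n (mulP w n ab.1.1 ab.1.1) (mulP w n ab.2.1 ab.2.1)) f.Phi &&
  f.PhiW.all (fun ab => pairCheck w n f.LP ab.1 && pairCheck w n f.LP ab.2) &&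
  increasing f.Phi &&
  memCode (permOps w n).one f.Phi &&
  f.Phi.all (fun a => f.Phi.all fun b => forceNat (mulP w n a b) fun c => memCode c f.Phi) &&
  (elems (permOps w n) f.LP).all (fun c => forceNat c fun c => forceNat (mulP w n c c) fun d => memCode d f.Phi) &&
  f.reps.all (fun r => pairCheck w n f.LP r) &&
  Nat.beq f.cosets.length f.reps.length &&
  (f.reps.zip f.cosets).all (fun rc => natsEq (f.Phi.map fun c => mulP w n rc.1.1 c) rc.2) &&
  f.reps.any (fun r => memCode r.1 f.Phi) &&
  f.PS.all (fun s => f.reps.all fun r => forceNat (mulP w n s.1 r.1) fun c => f.cosets.any fun l => memCode c l) &&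
  natsEq (f.cosets.map fun l => sigCode w n l f.Phi) f.sigs &&
  f.sigs.all (fun s => Nat.ble (f.sigs.countP fun t => Nat.beq s t) 2)

/-- The whole check. -/
noncomputable def fusCheck (w n : ℕ) (L : List Lvl) (f : FusCert) : Bool :=
  sylowCheck w n L f && fusionCheck w n L f && cosetCheck w n f

theorem natsEq_eq : ∀ {l m : List ℕ}, natsEq l m = true → l = m := by
  intro l
  induction l with
  | nil => intro m h; cases m <;> simp_all [natsEq]
  | cons a as ih =>
    intro m h
    cases m with
    | nil => simp [natsEq] at h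
    | cons b bs =>
      simp only [natsEq, Bool.and_eq_true] at h
      rw [ih h.2, Nat.eq_of_beq_eq_true h.1]

theorem memCode_iff {c : ℕ} {l : List ℕ} : memCode c l = true ↔ c ∈ l := by
  simp [memCode, List.any_eq_true, Nat.beq_eq]

theorem nodup_of_increasing : ∀ {l : List ℕ}, increasing l = true → l.Nodup := by
  intro l h
  have : l.Pairwise (· < ·) := by
    rw [← List.isChain_iff_pairwise]
    induction l with
    | nil => simp
    | cons a xs ih =>
      cases xs with
      | nil => simp
      | cons b xs =>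
        simp only [increasing, Bool.and_eq_true] at h
        exact List.isChain_cons_cons.2 ⟨by simpa [Nat.blt_eq] using h.1, ih h.2⟩
  exact this.nodup

section Invariant

variable {α : Type*} [Fintype α] [DecidableEq α]

/-- Weight of a permutation in the invariant. -/
def keyPerm (h : Equiv.Perm α) : ℕ :=
  ((Finset.univ.filter fun i => h i = i).card + 25 * (Finset.univ.filter fun i => (h * h) i = i).card +
    625 * (Finset.univ.filter fun i => (h * h * (h * h)) i = i).card) ^ 2

/-- The invariant of a pair of lists of permutations. -/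
def sigPerm (l m : List (Equiv.Perm α)) : ℕ :=
  sigMix (l.map keyPerm).sum
    (∑ i, (Finset.univ.filter fun j => ∃ h ∈ l ++ m, h i = j).card ^ 3)

theorem card_fix_conj (g h : Equiv.Perm α) :
    (Finset.univ.filter fun i => (g * h * g⁻¹) i = i).card =
      (Finset.univ.filter fun i => h i = i).card := by
  refine Finset.card_bij' (fun i _ => g⁻¹ i) (fun i _ => g i) ?_ ?_ ?_ ?_
  · intro i hi
    simp only [Finset.mem_filter, Finset.mem_univ, true_and] at hi ⊢
    conv_rhs => rw [← hi]
    simp
  · intro i hi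
    simp only [Finset.mem_filter, Finset.mem_univ, true_and] at hi ⊢
    simp [hi]
  · simp
  · simp

theorem keyPerm_conj (g h : Equiv.Perm α) : keyPerm (g * h * g⁻¹) = keyPerm h := by
  unfold keyPerm
  rw [conj_mul, conj_mul, card_fix_conj, card_fix_conj, card_fix_conj]

theorem sigPerm_conj (g : Equiv.Perm α) (l m : List (Equiv.Perm α)) :
    sigPerm (l.map fun h => g * h * g⁻¹) (m.map fun h => g * h * g⁻¹) = sigPerm l m := by
  unfold sigPerm
  congr 1
  · rw [List.map_map, show keyPerm ∘ (fun h => g * h * g⁻¹) = keyPerm from funext (keyPerm_conj g)]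
  · refine (Fintype.sum_equiv g _ _ fun i => ?_).symm
    congr 1
    refine Finset.card_bij' (fun j _ => g j) (fun j _ => g⁻¹ j) ?_ ?_ ?_ ?_
    · intro j hj
      simp only [Finset.mem_filter, Finset.mem_univ, true_and, ← List.map_append, List.mem_map] at hj ⊢
      obtain ⟨h, hh, rfl⟩ := hj
      exact ⟨_, ⟨h, hh, rfl⟩, by simp⟩
    · intro j hj
      simp only [Finset.mem_filter, Finset.mem_univ, true_and, ← List.map_append, List.mem_map] at hj ⊢
      obtain ⟨_, ⟨h, hh, rfl⟩, rfl⟩ := hj
      exact ⟨h, hh, by simp⟩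
    · simp
    · simp

theorem sigPerm_perm {l l' m m' : List (Equiv.Perm α)} (hl : l.Perm l') (hm : m.Perm m') :
    sigPerm l m = sigPerm l' m' := by
  unfold sigPerm
  congr 1
  · rw [(hl.map keyPerm).sum_eq]
  · refine Finset.sum_congr rfl fun i _ => ?_
    congr 2
    refine Finset.filter_congr fun j _ => ?_
    simp only [(hl.append hm).mem_iff]

variable {n : ℕ}

theorem countP_range (e : α ≃ Fin n) (q : ℕ → Bool) :
    (List.range n).countP q = (Finset.univ.filter fun a : α => q (e a) = true).card := by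
  have h1 : (List.range n).countP q = ((Finset.range n).filter fun i => q i = true).card := by
    rw [List.countP_eq_length_filter, ← List.toFinset_card_of_nodup (List.nodup_range.filter _)]
    congr 1
    ext i
    simp
  rw [h1]
  refine Finset.card_bij' (fun i hi => e.symm ⟨i, Finset.mem_range.mp (Finset.mem_filter.mp hi).1⟩)
    (fun a _ => (e a : ℕ)) ?_ ?_ ?_ ?_
  · intro i hi
    simpa using (Finset.mem_filter.mp hi).2
  · intro a ha
    exact Finset.mem_filter.mpr ⟨Finset.mem_range.mpr (e a).isLt, (Finset.mem_filter.mp ha).2⟩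
  · intro i hi
    simp
  · intro a ha
    simp

theorem sum_map_range (e : α ≃ Fin n) (f : ℕ → ℕ) :
    ((List.range n).map f).sum = ∑ a : α, f (e a) := by
  rw [Equiv.sum_comp e (fun i : Fin n => f i), Fin.sum_univ_eq_sum_range]
  rfl

theorem getP_enc_eq_iff {w : ℕ} (hw : n ≤ 2 ^ w) (e : α ≃ Fin n) (h : Equiv.Perm α) (a b : α) :
    Nat.beq (getP w (encP w e h) (e a)) (e b) = true ↔ h a = b := by
  rw [getP_encP hw e h (e a).isLt, Nat.beq_eq]
  simp [imgP, Fin.val_inj, e.injective.eq_iff]

theorem sigCode_eq {w : ℕ} (hw : n ≤ 2 ^ w) (e : α ≃ Fin n) (l m : List (Equiv.Perm α)) :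
    sigCode w n (l.map (encP w e)) (m.map (encP w e)) = sigPerm l m := by
  have hfix : ∀ h : Equiv.Perm α, fixCode w n (encP w e h) =
      (Finset.univ.filter fun i => h i = i).card := by
    intro h
    rw [fixCode, countP_range e]
    refine congrArg Finset.card (Finset.filter_congr fun a _ => ?_)
    exact getP_enc_eq_iff hw e h a a
  have hkey : ∀ h : Equiv.Perm α, keyCode w n (encP w e h) = keyPerm h := by
    intro h
    have h2 : mulP w n (encP w e h) (encP w e h) = encP w e (h * h) :=
      (permCoding w e hw).mul_enc h h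
    have h4 : mulP w n (encP w e (h * h)) (encP w e (h * h)) = encP w e (h * h * (h * h)) :=
      (permCoding w e hw).mul_enc _ _
    simp only [keyCode, forceNat_eq, h2, h4, hfix, keyPerm]
  unfold sigCode sigPerm
  congr 1
  · rw [List.map_map, show keyCode w n ∘ encP w e = keyPerm from funext hkey]
  · rw [sum_map_range e]
    refine Finset.sum_congr rfl fun a _ => ?_
    rw [imgCount, countP_range e]
    congr 2
    refine Finset.filter_congr fun b _ => ?_
    rw [← List.map_append, List.any_map, List.any_eq_true]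
    simp only [Function.comp_apply, getP_enc_eq_iff hw e]

end Invariant

section Group

variable {G : Type*} [Group G]

/-- An element of odd order fixing setwise a partition in classes of at most two parts fixes every
part. -/
theorem rel_of_pairs (R : G → G → Prop) (hsymm : ∀ {x y}, R x y → R y x)
    (htrans : ∀ {x y z}, R x y → R y z → R x z) (σ : G → G) (hσ : ∀ {x y}, R x y → R (σ x) (σ y))
    (hinj : ∀ {x y}, R (σ x) (σ y) → R x y) {x : G} {k : ℕ} (hx : R x x)
    (hper : σ^[2 * k + 1] x = x) (hcases : R (σ x) x ∨ R (σ (σ x)) (σ x) ∨ R (σ (σ x)) x) :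
    R (σ x) x := by
  rcases hcases with h | h | h
  · exact h
  · exact hinj h
  · have heven : ∀ j : ℕ, R (σ^[2 * j] x) x := by
      intro j
      induction j with
      | zero => exact hx
      | succ j ih =>
        rw [show 2 * (j + 1) = 2 * j + 2 by omega, Function.iterate_succ_apply',
          Function.iterate_succ_apply']
        exact htrans (hσ (hσ ih)) h
    have h2 := hσ (heven k)
    rw [← Function.iterate_succ_apply' (f := σ), hper] at h2
    exact hsymm h2

end Group

section Main

variable {α : Type*} [Fintype α] [DecidableEq α] {n w : ℕ}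

theorem stepList_ok {H : Subgroup (Equiv.Perm α)} (e : α ≃ Fin n) (hw : n ≤ 2 ^ w) {L : List Lvl}
    {GS : List (ℕ × ℕ)} (hGS : GensOK (permCoding w e hw) GS)
    (hL : chainCheck (permOps w n) GS L = true) (hH : H = genGroup (permCoding w e hw) GS)
    (A : Subgroup (Equiv.Perm α)) (T : Subgroup (Equiv.Perm α))
    (hconj : ∀ g ∈ H, ∀ t ∈ T, g * t * g⁻¹ ∈ A → g * t * g⁻¹ ∈ T) :
    ∀ (steps : List (List ℕ × List ℕ)) (acc : List (ℕ × ℕ)),
      (∀ p ∈ stepList (permOps w n) L steps acc, Good (permCoding w e hw) A p.1) →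
      (∀ p ∈ acc, PairOK (permCoding w e hw) T p) →
      ∀ p ∈ stepList (permOps w n) L steps acc, PairOK (permCoding w e hw) T p := by
  intro steps
  induction steps with
  | nil => exact fun acc _ h => h
  | cons st rest ih =>
    intro acc hA hacc
    refine ih _ hA fun p hp => ?_
    rcases List.mem_append.mp hp with hp | hp
    · exact hacc p hp
    rw [List.mem_singleton] at hp
    have hmem : p ∈ stepList (permOps w n) L (st :: rest) acc := by
      have key : ∀ (rest : List (List ℕ × List ℕ)) (acc : List (ℕ × ℕ)),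
          ∀ q ∈ acc, q ∈ stepList (permOps w n) L rest acc := by
        intro rest
        induction rest with
        | nil => exact fun acc q hq => hq
        | cons s r ih' => exact fun acc q hq => ih' _ q (List.mem_append_left _ hq)
      exact key rest _ p (List.mem_append_right _ (List.mem_singleton.mpr hp))
    obtain ⟨a, haA, hae⟩ := hA p hmem
    have hword : ∀ l : List ℕ, PairOK (permCoding w e hw) T
        (l.foldr (fun i q => ((permOps w n).mul (acc.getD i ((permOps w n).one, (permOps w n).one)).1 q.1,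
          (permOps w n).mul q.2 (acc.getD i ((permOps w n).one, (permOps w n).one)).2))
          ((permOps w n).one, (permOps w n).one)) := by
      intro l
      induction l with
      | nil => exact PairOK.one _ T
      | cons i l ih' =>
        refine PairOK.mul _ ?_ ih'
        by_cases hi : i < acc.length
        · rw [List.getD_eq_getElem acc _ hi]
          exact hacc _ (List.getElem_mem hi)
        · rw [List.getD_eq_default acc _ (Nat.le_of_not_lt hi)]
          exact PairOK.one _ T
    obtain ⟨g, hg, g1, g2⟩ := pairOK_pathEval (permCoding w e hw) hGS hL st.1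
    obtain ⟨t, ht, t1, t2⟩ := hword st.2
    have e1 : (permCoding w e hw).enc (g * t * g⁻¹) = p.1 := by
      rw [hp]
      simp only [conjPair, ← g1, ← g2, ← t1, Coding.mul_enc]
    have e2 : (permCoding w e hw).enc (g * t * g⁻¹)⁻¹ = p.2 := by
      rw [hp]
      simp only [conjPair, ← g1, ← g2, ← t2, Coding.mul_enc, mul_inv_rev, inv_inv, mul_assoc]
    have : a = g * t * g⁻¹ := (permCoding w e hw).inj (hae.trans e1.symm)
    exact ⟨_, hconj g (hH ▸ hg) t ht (this ▸ haA), e1, e2⟩

theorem exists_of_pairCheck (e : α ≃ Fin n) (hw : n ≤ 2 ^ w) {S : List (ℕ × ℕ)} {L : List Lvl}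
    (hS : GensOK (permCoding w e hw) S) (hL : chainCheck (permOps w n) S L = true) {q : ℕ × ℕ}
    (hc : pairCheck w n L q = true) :
    ∃ g ∈ genGroup (permCoding w e hw) S, (permCoding w e hw).enc g = q.1 := by
  obtain ⟨hok, hle⟩ := gensOK_of_pairCheck e hw hS hL (T := [q]) (by simp [hc])
  obtain ⟨g, -, hg, -⟩ := hok q (List.mem_singleton_self q)
  exact ⟨g, hle (mem_genGroup_of_enc _ (List.mem_singleton_self q) hg), hg⟩

theorem three_le_countP {β : Type*} (p : β → Bool) (l : List β) {i j k : ℕ} (hi : i < l.length)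
    (hj : j < l.length) (hk : k < l.length) (hij : i ≠ j) (hjk : j ≠ k) (hik : i ≠ k)
    (pi : p l[i] = true) (pj : p l[j] = true) (pk : p l[k] = true) : 3 ≤ l.countP p := by
  have h : l.countP p = (Finset.univ.filter fun m : Fin l.length => p l[m.1] = true).card := by
    conv_lhs => rw [show l = List.ofFn fun m : Fin l.length => l[m.1] from (List.ofFn_getElem).symm]
    rw [List.countP_eq_length_filter, List.ofFn_eq_map, List.filter_map, List.length_map,
      ← List.toFinset_card_of_nodup ((List.nodup_finRange _).filter _)]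
    congr 1
    ext m
    simp
  rw [h]
  refine le_trans (le_of_eq ?_) (Finset.card_le_card (s := {⟨i, hi⟩, ⟨j, hj⟩, ⟨k, hk⟩}) ?_)
  · rw [Finset.card_insert_of_notMem, Finset.card_pair] <;> simp [Fin.ext_iff, *]
  · intro m hm
    simp only [Finset.mem_insert, Finset.mem_singleton] at hm
    rcases hm with rfl | rfl | rfl <;> simp [pi, pj, pk]

theorem stepList_good (e : α ≃ Fin n) (hw : n ≤ 2 ^ w) {L : List Lvl} {GS : List (ℕ × ℕ)}
    (hGS : GensOK (permCoding w e hw) GS) (hL : chainCheck (permOps w n) GS L = true) :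
    ∀ (steps : List (List ℕ × List ℕ)) (acc : List (ℕ × ℕ)),
      (∀ p ∈ acc, PairOK (permCoding w e hw) ⊤ p) →
      ∀ p ∈ stepList (permOps w n) L steps acc, PairOK (permCoding w e hw) ⊤ p := by
  intro steps
  induction steps with
  | nil => exact fun acc h => h
  | cons st rest ih =>
    intro acc hacc
    refine ih _ fun p hp => ?_
    rcases List.mem_append.mp hp with hp | hp
    · exact hacc p hp
    rw [List.mem_singleton] at hp
    have hword : ∀ l : List ℕ, PairOK (permCoding w e hw) ⊤
        (l.foldr (fun i q => ((permOps w n).mul (acc.getD i ((permOps w n).one, (permOps w n).one)).1 q.1,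
          (permOps w n).mul q.2 (acc.getD i ((permOps w n).one, (permOps w n).one)).2))
          ((permOps w n).one, (permOps w n).one)) := by
      intro l
      induction l with
      | nil => exact PairOK.one _ ⊤
      | cons i l ih' =>
        refine PairOK.mul _ ?_ ih'
        by_cases hi : i < acc.length
        · rw [List.getD_eq_getElem acc _ hi]
          exact hacc _ (List.getElem_mem hi)
        · rw [List.getD_eq_default acc _ (Nat.le_of_not_lt hi)]
          exact PairOK.one _ ⊤
    obtain ⟨g, -, g1, g2⟩ := pairOK_pathEval (permCoding w e hw) hGS hL st.1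
    obtain ⟨t, -, t1, t2⟩ := hword st.2
    refine ⟨g * t * g⁻¹, trivial, ?_, ?_⟩
    · rw [hp]
      simp only [conjPair, ← g1, ← g2, ← t1, Coding.mul_enc]
    · rw [hp]
      simp only [conjPair, ← g1, ← g2, ← t2, Coding.mul_enc, mul_inv_rev, inv_inv, mul_assoc]

/-- The certificate proves simplicity of the 2-fusion system. -/
theorem isSimple_of_fusCheck (e : α ≃ Fin n) (hw : n ≤ 2 ^ w) {GS : List (ℕ × ℕ)} {L : List Lvl}
    {f : FusCert} (hGS : GensOK (permCoding w e hw) GS)
    (hL : chainCheck (permOps w n) GS L = true) (hf : fusCheck w n L f = true)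
    (H : Subgroup (Equiv.Perm α)) (hH : H = genGroup (permCoding w e hw) GS) (S : Sylow 2 H) :
    (Cfsg.groupFusionSystem (S : Subgroup H)).IsSimple 2 := by
  haveI : Fact (Nat.Prime 2) := ⟨Nat.prime_two⟩
  set C := permCoding w e hw
  simp only [fusCheck, sylowCheck, fusionCheck, cosetCheck, Bool.and_eq_true] at hf
  obtain ⟨⟨⟨⟨⟨⟨⟨⟨⟨⟨hPS, hLP⟩, hsz⟩, ha⟩, hmod⟩, hodd⟩, hzP⟩, hzpc⟩, hcen⟩,
    ⟨⟨⟨hst, hTP⟩, hLT⟩, hszT⟩⟩,
    ⟨⟨⟨⟨⟨⟨⟨⟨⟨⟨⟨⟨⟨hlenW, hW⟩, hWP⟩, hinc⟩, hone⟩, hclosed⟩, hsq⟩, hreps⟩, hlenC⟩, hcos⟩, hrep1⟩, hgen⟩,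
      hsig⟩, hclass⟩⟩ := hf
  obtain ⟨hPSok, hPH'⟩ := gensOK_of_pairCheck e hw hGS hL hPS
  set P := genGroup C f.PS
  have hPH : P ≤ H := hH ▸ hPH'
  have hcardP : Nat.card P = 2 ^ f.a := by
    rw [card_genGroup C hPSok hLP, Nat.eq_of_beq_eq_true hsz]
  have hcardH : Nat.card H = chainSize L := by rw [hH, card_genGroup C hGS hL]
  have hPmem : ∀ c, sift (permOps w n) f.LP c = true → ∀ g, C.enc g = c → g ∈ P :=
    fun c hc g hg => good_of_sift C hPSok hLP (hg.symm ▸ hc)
  -- the Sylow subgroup
  have hcardS : Nat.card (P.subgroupOf H) = 2 ^ (Nat.card H).factorization 2 := by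
    rw [Nat.card_congr (Subgroup.subgroupOfEquivOfLe hPH).toEquiv, hcardP, hcardH]
    have h1 := Nat.div_add_mod (chainSize L) (2 ^ f.a)
    rw [Nat.eq_of_beq_eq_true hmod, add_zero] at h1
    have hm : (chainSize L / 2 ^ f.a) % 2 = 1 := Nat.eq_of_beq_eq_true hodd
    rw [← h1, Nat.factorization_mul (pow_ne_zero _ two_ne_zero) (by omega),
      Nat.Prime.factorization_pow Nat.prime_two]
    simp [Nat.factorization_eq_zero_of_not_dvd (show ¬ 2 ∣ chainSize L / 2 ^ f.a by omega)]
  let S₀ : Sylow 2 H := Sylow.ofCard (P.subgroupOf H) hcardS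
  have hS₀ : ∀ x : H, x ∈ (S₀ : Subgroup H) ↔ (x : Equiv.Perm α) ∈ P := fun x => Iff.rfl
  refine isSimple_groupFusion_of_sylow S S₀ ?_ ?_ ?_
  · intro h
    have : Nat.card (S₀ : Subgroup H) = 1 := by rw [h]; exact Subgroup.card_bot
    rw [show Nat.card (S₀ : Subgroup H) = 2 ^ f.a from
      (Nat.card_congr (Subgroup.subgroupOfEquivOfLe hPH).toEquiv).trans hcardP] at this
    have hpos : 0 < f.a := by simpa [Nat.blt_eq] using ha
    exact absurd this (Nat.one_lt_two_pow hpos.ne').ne'
  · -- fusion of the central involution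
    intro z hz hzo hzc T hzT hTS hTconj
    have hz' : C.enc (z : Equiv.Perm α) = f.z.1 := by
      have hzm := List.all_eq_true.1 hcen _ (enc_mem_elems C hPSok hLP ((hS₀ z).1 hz))
      rw [forceNat_eq] at hzm
      simp only [Bool.or_eq_true, Bool.not_eq_true'] at hzm
      rcases hzm with ((h | h) | h) | h
      · exact Nat.eq_of_beq_eq_true h
      · exfalso
        have : (z : Equiv.Perm α) = 1 := C.inj ((Nat.eq_of_beq_eq_true h).trans C.one_enc.symm)
        rw [show z = 1 from Subtype.ext this, orderOf_one] at hzo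
        exact absurd hzo (by norm_num)
      · exfalso
        have h2 : (z : Equiv.Perm α) * z = 1 := by
          rw [← Subgroup.coe_mul, ← sq, ← hzo, pow_orderOf_eq_one]; rfl
        have := C.mul_enc (z : Equiv.Perm α) z
        rw [h2, C.one_enc] at this
        change Nat.beq (mulP w n _ _) _ = false at h
        rw [show mulP w n (C.enc ↑z) (C.enc ↑z) = (permOps w n).one from this] at h
        simp at h
      · exfalso
        rw [List.all_eq_false] at h
        obtain ⟨s, hs, hs'⟩ := h
        obtain ⟨g, -, hg, -⟩ := hPSok s hs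
        have hgP : g ∈ P := mem_genGroup_of_enc C hs hg
        have := congrArg Subtype.val (hzc ⟨g, hPH hgP⟩ hgP)
        apply hs'
        rw [← hg, Nat.beq_eq]
        show (permOps w n).mul _ _ = (permOps w n).mul _ _
        rw [C.mul_enc, C.mul_enc]
        exact congrArg C.enc this.symm
    set T' := T.map H.subtype
    have hT := pairsEq_eq hst
    have hz2 : (z : Equiv.Perm α)⁻¹ = z := by
      apply inv_eq_of_mul_eq_one_right
      rw [← Subgroup.coe_mul, ← sq, ← hzo, pow_orderOf_eq_one]; rfl
    have hzpair : PairOK C T' f.z := by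
      obtain ⟨g, -, g1, g2⟩ : PairOK C ⊤ f.z := by
        have h' : [f.z].all (pairCheck w n L) = true := by
          simp only [List.all_cons, List.all_nil, Bool.and_true]
          exact hzpc
        exact (gensOK_of_pairCheck e hw hGS hL h').1 f.z (List.mem_singleton_self _)
      have hgz : g = z := C.inj (g1.trans hz'.symm)
      exact ⟨z, ⟨z, hzT, rfl⟩, hgz ▸ g1, hgz ▸ g2⟩
    have hall := stepList_ok e hw hGS hL hH P T' (fun g hg t ht htA => by
        obtain ⟨t₀, ht₀, rfl⟩ := ht
        exact ⟨⟨g, hg⟩ * t₀ * ⟨g, hg⟩⁻¹, hTconj _ _ ht₀ htA, rfl⟩) f.steps [f.z]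
      (by
        rw [hT]
        intro p hp
        obtain ⟨g, -, g1, -⟩ : PairOK C ⊤ p := by
          have hmem : p ∈ stepList (permOps w n) L f.steps [f.z] := hT.symm ▸ hp
          exact stepList_good e hw hGS hL f.steps [f.z]
            (fun q hq => by rw [List.mem_singleton.1 hq]; exact PairOK.mono C le_top hzpair) p hmem
        exact ⟨g, hPmem _ (List.all_eq_true.1 hTP p hp) g g1, g1⟩)
      (fun q hq => (List.mem_singleton.1 hq) ▸ hzpair)
    rw [hT] at hall
    obtain ⟨hTok, hTle⟩ := gensOK_of_pairs C hall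
    have hTP' : genGroup C f.T ≤ P := by
      refine (Subgroup.closure_le _).2 ?_
      rintro g ⟨p, hp, hg⟩
      exact hPmem _ (List.all_eq_true.1 hTP p hp) g hg
    have heq : genGroup C f.T = P := by
      refine Subgroup.eq_of_le_of_card_ge hTP' ?_
      rw [hcardP, card_genGroup C hTok hLT, Nat.eq_of_beq_eq_true hszT]
    intro x hx
    obtain ⟨y, hy, hyx⟩ := hTle (heq.ge ((hS₀ x).1 hx))
    rwa [← Subtype.ext hyx]
  · -- elements of odd order in the normalizer
    intro g hg hgo
    set σ : Equiv.Perm α → Equiv.Perm α := fun x => (g : Equiv.Perm α) * x * (g : Equiv.Perm α)⁻¹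
    have hσP : ∀ {x}, x ∈ P ↔ σ x ∈ P := by
      intro x
      constructor
      · intro hx
        exact (hS₀ _).1 ((Subgroup.mem_normalizer_iff.1 hg ⟨x, hPH hx⟩).1 hx)
      · intro hx
        have hxH : x ∈ H := by
          have := mul_mem (mul_mem (inv_mem g.2) (hPH hx)) g.2
          simpa [σ, mul_assoc] using this
        exact (hS₀ ⟨x, hxH⟩).1 ((Subgroup.mem_normalizer_iff.1 hg ⟨x, hxH⟩).2 hx)
    have hW' := natsEq_eq hW
    -- decoding
    let dec : ℕ → Equiv.Perm α := Function.invFun C.enc
    have hdec : ∀ x, dec (C.enc x) = x := Function.leftInverse_invFun C.inj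
    set Φ := Subgroup.closure {y : Equiv.Perm α | ∃ x ∈ P, x * x = y}
    have helem : ∀ c ∈ elems (permOps w n) f.LP, ∃ x ∈ P, C.enc x = c :=
      fun c hc => exists_of_mem_elems C hPSok hLP hc
    have hΦP : Φ ≤ P := (Subgroup.closure_le _).2 (by rintro _ ⟨x, hx, rfl⟩; exact mul_mem hx hx)
    have hphimem : ∀ c ∈ f.Phi, ∃ x ∈ Φ, C.enc x = c := by
      intro c hc
      rw [← hW'] at hc
      obtain ⟨ab, hab, rfl⟩ := List.mem_map.1 hc
      have h2 := List.all_eq_true.1 hWP ab hab
      simp only [Bool.and_eq_true] at h2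
      obtain ⟨a, ha', hae⟩ := exists_of_pairCheck e hw hPSok hLP h2.1
      obtain ⟨b, hb', hbe⟩ := exists_of_pairCheck e hw hPSok hLP h2.2
      refine ⟨a * a * (b * b), mul_mem (Subgroup.subset_closure ⟨a, ha', rfl⟩)
        (Subgroup.subset_closure ⟨b, hb', rfl⟩), ?_⟩
      show C.enc _ = (permOps w n).mul ((permOps w n).mul _ _) ((permOps w n).mul _ _)
      rw [← hae, ← hbe, C.mul_enc, C.mul_enc, C.mul_enc]
    have hΦcode : ∀ x ∈ Φ, C.enc x ∈ f.Phi := by
      intro x hx
      rw [← Subgroup.mem_toSubmonoid, Subgroup.closure_toSubmonoid_of_finite] at hx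
      induction hx using Submonoid.closure_induction with
      | mem y hy =>
        obtain ⟨x, hxP, rfl⟩ := hy
        have h := List.all_eq_true.1 hsq _ (enc_mem_elems C hPSok hLP hxP)
        rw [forceNat_eq, forceNat_eq, memCode_iff] at h
        rw [← C.mul_enc]
        exact h
      | one =>
        rw [C.one_enc]
        exact memCode_iff.1 hone
      | mul x y _ _ hx hy =>
        have h := List.all_eq_true.1 (List.all_eq_true.1 hclosed _ hx) _ hy
        rw [forceNat_eq, memCode_iff] at h
        rw [← C.mul_enc]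
        exact h
    set phis := f.Phi.map dec with hphis
    have hphisenc : phis.map C.enc = f.Phi := by
      rw [hphis, List.map_map]
      conv_rhs => rw [← List.map_id f.Phi]
      refine List.map_congr_left fun c hc => ?_
      obtain ⟨x, -, rfl⟩ := hphimem c hc
      simp [hdec]
    have hphis_mem : ∀ x, x ∈ phis ↔ x ∈ Φ := by
      intro x
      constructor
      · intro hx
        obtain ⟨c, hc, rfl⟩ := List.mem_map.1 hx
        obtain ⟨y, hy, rfl⟩ := hphimem c hc
        rwa [hdec]
      · intro hx
        exact List.mem_map.2 ⟨_, hΦcode x hx, hdec x⟩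
    have hphis_nodup : phis.Nodup := by
      refine List.Nodup.of_map C.enc ?_
      rw [hphisenc]
      exact nodup_of_increasing hinc
    have hσΦ : ∀ {x}, x ∈ Φ ↔ σ x ∈ Φ := by
      intro x
      have key : ∀ k : Equiv.Perm α, (∀ y ∈ P, k * y * k⁻¹ ∈ P) → ∀ y ∈ Φ, k * y * k⁻¹ ∈ Φ := by
        intro k hk y hy
        induction hy using Subgroup.closure_induction with
        | mem y hy =>
          obtain ⟨u, hu, rfl⟩ := hy
          exact Subgroup.subset_closure ⟨k * u * k⁻¹, hk u hu, by group⟩
        | one => simp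
        | mul a b _ _ ha hb => rw [← conj_mul]; exact mul_mem ha hb
        | inv a _ ha => rw [← conj_inv]; exact inv_mem ha
      constructor
      · exact key _ (fun y hy => hσP.1 hy) x
      · intro h
        have := key (g : Equiv.Perm α)⁻¹ (fun y hy => hσP.2 (by simpa [σ, mul_assoc] using hy)) _ h
        simpa [σ, mul_assoc] using this
    -- representatives
    have hrsP : ∀ c ∈ f.reps, C.enc (dec c.1) = c.1 ∧ dec c.1 ∈ P := by
      intro c hc
      obtain ⟨x, hx, hxe⟩ := exists_of_pairCheck e hw hPSok hLP (List.all_eq_true.1 hreps c hc)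
      rw [← hxe, hdec]
      exact ⟨rfl, hx⟩
    let R : Equiv.Perm α → Equiv.Perm α → Prop := fun x y => x⁻¹ * y ∈ Φ
    have Rsymm : ∀ {x y}, R x y → R y x := fun {x y} h => by
      show y⁻¹ * x ∈ Φ
      simpa using inv_mem h
    have Rtrans : ∀ {x y z}, R x y → R y z → R x z := fun {x y z} h h' => by
      show x⁻¹ * z ∈ Φ
      simpa [mul_assoc] using mul_mem h h'
    have Rσ : ∀ {x y}, R x y ↔ R (σ x) (σ y) := fun {x y} => by
      show x⁻¹ * y ∈ Φ ↔ _
      rw [hσΦ]
      simp [R, σ, mul_assoc]
    have hlenC' := Nat.eq_of_beq_eq_true hlenC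
    have hcos' : ∀ i (hi : i < f.reps.length),
        f.cosets[i]'(hlenC'.symm ▸ hi) = (phis.map (dec f.reps[i].1 * ·)).map C.enc := by
      intro i hi
      have hmem : (f.reps[i], f.cosets[i]'(hlenC'.symm ▸ hi)) ∈ f.reps.zip f.cosets := by
        rw [List.mem_iff_getElem]
        exact ⟨i, by simp [hlenC', hi], by simp⟩
      have hcm := natsEq_eq (List.all_eq_true.1 hcos _ hmem)
      simp only at hcm
      rw [← hcm, hphis, List.map_map, List.map_map]
      refine List.map_congr_left fun c hc => ?_
      obtain ⟨x, -, rfl⟩ := hphimem c hc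
      show (permOps w n).mul f.reps[i].1 (C.enc x) = C.enc (dec f.reps[i].1 * dec (C.enc x))
      rw [hdec, ← C.mul_enc, (hrsP _ (List.getElem_mem hi)).1]
    have hcover : ∀ x ∈ P, ∃ c ∈ f.reps, R (dec c.1) x := by
      intro x hx
      change x ∈ Subgroup.closure _ at hx
      rw [← Subgroup.mem_toSubmonoid, Subgroup.closure_toSubmonoid_of_finite] at hx
      induction hx using Submonoid.closure_induction_left with
      | one =>
        obtain ⟨c, hc, hc'⟩ := List.any_eq_true.1 hrep1
        refine ⟨c, hc, ?_⟩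
        show (dec c.1)⁻¹ * 1 ∈ Φ
        obtain ⟨y, hy, hye⟩ := hphimem c.1 (memCode_iff.1 hc')
        rw [← hye, hdec, mul_one]
        exact inv_mem hy
      | mul_left s hs y _ ih =>
        obtain ⟨p, hp, hsp⟩ := hs
        obtain ⟨c, hc, hcy⟩ := ih
        have h := List.all_eq_true.1 (List.all_eq_true.1 hgen p hp) c hc
        rw [forceNat_eq, List.any_eq_true] at h
        obtain ⟨l, hl, hl'⟩ := h
        obtain ⟨i, hi, rfl⟩ := List.getElem_of_mem hl
        rw [memCode_iff, hcos' i (hlenC' ▸ hi)] at hl'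
        simp only [List.map_map, List.mem_map, Function.comp_apply] at hl'
        obtain ⟨u, hu, hu'⟩ := hl'
        have hsc : s * dec c.1 = dec f.reps[i].1 * u := by
          apply C.inj
          rw [hu', ← C.mul_enc, hsp, (hrsP c hc).1]
          rfl
        refine ⟨_, List.getElem_mem (hlenC' ▸ hi), ?_⟩
        show (dec f.reps[i].1)⁻¹ * (s * y) ∈ Φ
        rw [show (dec f.reps[i].1)⁻¹ * (s * y) = (dec f.reps[i].1)⁻¹ * (s * dec c.1) * ((dec c.1)⁻¹ * y) by group,
          hsc, inv_mul_cancel_left]
        exact mul_mem ((hphis_mem u).1 hu) hcy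
    -- the invariant
    let inv' : Equiv.Perm α → ℕ := fun x => sigPerm (phis.map (x * ·)) phis
    have hRinv : ∀ {x y}, R x y → inv' x = inv' y := by
      intro x y h
      refine sigPerm_perm ?_ (List.Perm.refl _)
      refine (List.perm_ext_iff_of_nodup (hphis_nodup.map (mul_right_injective x))
        (hphis_nodup.map (mul_right_injective y))).2 fun u => ?_
      simp only [List.mem_map, hphis_mem]
      constructor
      · rintro ⟨v, hv, rfl⟩
        refine ⟨y⁻¹ * (x * v), ?_, mul_inv_cancel_left _ _⟩
        rw [show y⁻¹ * (x * v) = (x⁻¹ * y)⁻¹ * v by group]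
        exact mul_mem (inv_mem h) hv
      · rintro ⟨v, hv, rfl⟩
        refine ⟨x⁻¹ * (y * v), ?_, mul_inv_cancel_left _ _⟩
        rw [← mul_assoc]
        exact mul_mem h hv
    have hσinv : ∀ x, inv' (σ x) = inv' x := by
      intro x
      show sigPerm _ _ = sigPerm _ _
      rw [← sigPerm_conj (g : Equiv.Perm α) (phis.map (x * ·)) phis]
      have hperm : phis.Perm (phis.map σ) := by
        refine (List.perm_ext_iff_of_nodup hphis_nodup (hphis_nodup.map ?_)).2 fun u => ?_
        · exact fun a b h => mul_left_cancel (mul_right_cancel h)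
        · simp only [List.mem_map, hphis_mem]
          constructor
          · intro hu
            refine ⟨(g : Equiv.Perm α)⁻¹ * u * g, hσΦ.2 ?_, ?_⟩
            · simpa [σ, mul_assoc] using hu
            · simp [σ, mul_assoc]
          · rintro ⟨v, hv, rfl⟩
            exact hσΦ.1 hv
      refine sigPerm_perm ?_ hperm
      refine (hperm.map (σ x * ·)).trans ?_
      rw [List.map_map, List.map_map]
      rw [hphis, List.map_map, List.map_map]
      refine List.Perm.of_eq (List.map_congr_left fun u _ => ?_)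
      simp [σ, Function.comp, mul_assoc]
    have hsigs : ∀ i (hi : i < f.reps.length), ∃ hi' : i < f.sigs.length,
        f.sigs[i] = inv' (dec f.reps[i].1) := by
      intro i hi
      have hs := natsEq_eq hsig
      have hlen : f.sigs.length = f.reps.length := by rw [← hs, List.length_map, hlenC']
      refine ⟨hlen ▸ hi, ?_⟩
      simp only [← hs, List.getElem_map]
      rw [hcos' i hi]
      conv_lhs => arg 4; rw [← hphisenc]
      exact sigCode_eq hw e _ _
    have hthree : ∀ x ∈ P, R (σ x) x ∨ R (σ (σ x)) (σ x) ∨ R (σ (σ x)) x := by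
      intro x hx
      obtain ⟨c₀, hc₀, r₀⟩ := hcover x hx
      obtain ⟨c₁, hc₁, r₁⟩ := hcover _ (hσP.1 hx)
      obtain ⟨c₂, hc₂, r₂⟩ := hcover _ (hσP.1 (hσP.1 hx))
      obtain ⟨i₀, hi₀, rfl⟩ := List.getElem_of_mem hc₀
      obtain ⟨i₁, hi₁, rfl⟩ := List.getElem_of_mem hc₁
      obtain ⟨i₂, hi₂, rfl⟩ := List.getElem_of_mem hc₂
      obtain ⟨k₀, s₀⟩ := hsigs i₀ hi₀
      obtain ⟨k₁, s₁⟩ := hsigs i₁ hi₁
      obtain ⟨k₂, s₂⟩ := hsigs i₂ hi₂
      by_cases h01 : i₀ = i₁
      · subst h01
        exact Or.inl (Rtrans (Rsymm r₁) r₀)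
      by_cases h12 : i₁ = i₂
      · subst h12
        exact Or.inr (Or.inl (Rtrans (Rsymm r₂) r₁))
      by_cases h02 : i₀ = i₂
      · subst h02
        exact Or.inr (Or.inr (Rtrans (Rsymm r₂) r₀))
      exfalso
      have e0 : f.sigs[i₁] = f.sigs[i₀] := by
        rw [s₀, s₁, hRinv r₀, hRinv r₁, hσinv]
      have e1 : f.sigs[i₂] = f.sigs[i₀] := by
        rw [s₀, s₂, hRinv r₀, hRinv r₂, hσinv, hσinv]
      have hle : f.sigs.countP (fun t => Nat.beq f.sigs[i₀] t) ≤ 2 := by
        simpa [Nat.ble_eq] using List.all_eq_true.1 hclass _ (List.getElem_mem k₀)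
      have h3 : 3 ≤ f.sigs.countP (fun t => Nat.beq f.sigs[i₀] t) :=
        three_le_countP _ _ k₀ k₁ k₂ h01 h12 h02 (by simp) (by simp [e0]) (by simp [e1])
      omega
    obtain ⟨k, hk⟩ : ∃ k, orderOf g = 2 * k + 1 :=
      ⟨orderOf g / 2, by have := Nat.coprime_two_right.1 hgo; rw [Nat.odd_iff] at this; omega⟩
    have hpow : ∀ (m : ℕ) x, σ^[m] x = (g : Equiv.Perm α) ^ m * x * ((g : Equiv.Perm α) ^ m)⁻¹ := by
      intro m
      induction m with
      | zero => simp
      | succ m ih => intro x; rw [Function.iterate_succ_apply', ih, pow_succ']; simp [σ, mul_assoc]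
    have hfix : ∀ x ∈ P, R (σ x) x := by
      intro x hx
      refine rel_of_pairs R Rsymm Rtrans σ (fun {a b} h => Rσ.1 h) (fun {a b} h => Rσ.2 h) (k := k)
        ?_ ?_ (hthree x hx)
      · show x⁻¹ * x ∈ Φ
        simp
      · rw [hpow, ← hk, ← Subgroup.orderOf_coe g, pow_orderOf_eq_one]
        simp
    have hPnorm : ∀ u ∈ P, ∀ y ∈ Φ, u * y * u⁻¹ ∈ Φ := by
      intro u hu y hy
      induction hy using Subgroup.closure_induction with
      | mem y hy =>
        obtain ⟨v, hv, rfl⟩ := hy
        exact Subgroup.subset_closure ⟨u * v * u⁻¹, mul_mem (mul_mem hu hv) (inv_mem hu), by group⟩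
      | one => simp
      | mul a b _ _ ha hb => rw [← conj_mul]; exact mul_mem ha hb
      | inv a _ ha => rw [← conj_inv]; exact inv_mem ha
    have hpowfix : ∀ (m : ℕ), ∀ x ∈ P, R (σ^[m] x) x ∧ σ^[m] x ∈ P := by
      intro m
      induction m with
      | zero =>
        intro x hx
        exact ⟨show x⁻¹ * x ∈ Φ by simp, hx⟩
      | succ m ih =>
        intro x hx
        obtain ⟨h1, h2⟩ := ih x hx
        rw [Function.iterate_succ_apply']
        exact ⟨Rtrans (hfix _ h2) h1, hσP.1 h2⟩
    -- coprime action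
    have hP2 : IsPGroup 2 P := IsPGroup.of_card hcardP
    set A := Subgroup.zpowers (g : Equiv.Perm α)
    have hAcard : Nat.card A = orderOf g := by rw [Nat.card_zpowers, Subgroup.orderOf_coe]
    have hAP : A ≤ Subgroup.normalizer (P : Set (Equiv.Perm α)) :=
      Subgroup.zpowers_le.mpr (Subgroup.mem_normalizer_iff.2 fun x => hσP)
    have hcen' : A ≤ Subgroup.centralizer (P : Set (Equiv.Perm α)) := by
      refine Coprime.le_centralizer_of_frattini hAP ?_ ?_
      · rw [hAcard]
        obtain ⟨j, hj⟩ := IsPGroup.iff_card.mp (hP2.to_subgroup (frattini P))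
        rw [hj]
        exact hgo.pow_right j
      · intro a ha x hx
        obtain ⟨m, rfl⟩ := (mem_powers_iff_mem_zpowers.2 ha)
        show _ ∈ (frattini P).map P.subtype
        have hΦle : Φ ≤ (frattini P).map P.subtype := by
          refine (Subgroup.closure_le _).2 ?_
          rintro _ ⟨v, hv, rfl⟩
          refine ⟨(⟨v, hv⟩ : P) ^ 2, PFrattini.pow_mem_frattini hP2 _, ?_⟩
          rw [sq]
          rfl
        refine hΦle ?_
        obtain ⟨h1, h2⟩ := hpowfix m x hx
        have h3 := hPnorm _ h2 _ h1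
        have h4 := inv_mem h3
        rw [hpow] at h4
        simpa [R, mul_assoc] using h4
    intro y hy
    exact Subtype.ext (hcen' (Subgroup.mem_zpowers _) (y : Equiv.Perm α) ((hS₀ y).1 hy))

end Main

end Cfsg.Agent.Lib.Fusion
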