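import Cfsg.Agent.Lib.Fusion.ExtraspecialMove

/-!
The normal subgroup in the presence of `Z(S) ≰ Q`.
-/

set_option autoImplicit false

namespace Cfsg.Agent.Lib.Fusion.CentralCommutator

open Cfsg Cfsg.FusionSystem

variable {Ω : Type*} [Group Ω] {S : Subgroup Ω} {F : FusionSystem S} {p : ℕ} {Q : Subgroup Ω}
  [Finite S] [Fact p.Prime]

theorem map_eq_of_mapsTo {W P : Subgroup Ω} [Finite P] {α : MulAut P}
    (h : ∀ x : P, (x : Ω) ∈ W → (α x : Ω) ∈ W) :
    (W.subgroupOf P).map α.toMonoidHom = W.subgroupOf P :=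
  Subgroup.eq_of_le_of_card_ge (by rintro _ ⟨x, hx, rfl⟩; exact h x hx)
    (Subgroup.card_map_of_injective α.injective).ge

theorem mapsTo_inv {W P : Subgroup Ω} [Finite P] {α : MulAut P}
    (h : ∀ x : P, (x : Ω) ∈ W → (α x : Ω) ∈ W) : ∀ x : P, (x : Ω) ∈ W → (α⁻¹ x : Ω) ∈ W := by
  intro x hx
  obtain ⟨y, hy, rfl⟩ := (map_eq_of_mapsTo h).ge hx
  show (α.symm (α y) : Ω) ∈ W
  rw [α.symm_apply_apply]
  exact hy

namespace Setting

variable (s : Setting p S Q)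

include s in
theorem exists_normal (hF : F.IsSaturated p) (hp : Odd p) : ∃ W, F.IsNormal W ∧ W ≠ ⊥ := by
  set Z := Q ⊓ Subgroup.centralizer (Q : Set Ω) with hZ
  have hZc : Nat.card Z = p := card_inf_centralizer s.extra
  by_cases hall : ∀ E, F.IsEssential p E → ∀ α ∈ F.autGroup E, ∀ x : E, (x : Ω) ∈ Z → (α x : Ω) ∈ Z
  · refine ⟨Z, isNormal_of_aut s.pgroup hF ?_, fun hb => ?_⟩
    · intro P hP
      rcases hP with rfl | hP
      · exact ⟨inf_le_left.trans s.le, fun α _ => map_eq_of_mapsTo fun x hx => s.invariant_top hx⟩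
      · have := finite_of_le hP.1.1
        exact ⟨(s.pair hP).leE, fun α hα => map_eq_of_mapsTo (hall P hP α hα)⟩
    · rw [hb, Subgroup.card_bot] at hZc
      exact (Fact.out : p.Prime).ne_one hZc.symm
  push Not at hall
  obtain ⟨E, hE, α, hα, z, hz, hmove⟩ := hall
  have := finite_of_le hE.1.1
  rcases s.abelian_or_eq hE with hab | rfl
  swap
  · exact absurd (s.invariant_top hz) hmove
  -- the order of `Q`
  have := finite_of_le s.le
  have hc : Nat.card Q = p ^ 3 := by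
    refine le_antisymm ?_ (Lib.Extraspecial.card_gt_sq s.extra)
    refine card_le_cube s.extra (inf_le_left : Q ⊓ E ≤ Q) (fun a ha b hb => hab a ha.2 b hb.2) ?_
    have h1 : Nat.card S ≤ Nat.card E * p := card_le_of_commute s.pgroup hE (s.pair hE) le_rfl
    rw [card_eq_mul_of_index s.le s.index] at h1
    have h2 : Nat.card E = Nat.card (Q ⊓ E : Subgroup Ω) * Q.relIndex E := by
      rw [← Subgroup.inf_relIndex_right, Subgroup.relIndex,
        ← Nat.card_congr (Subgroup.subgroupOfEquivOfLe (inf_le_right : Q ⊓ E ≤ E)).toEquiv,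
        Subgroup.card_mul_index]
    have h3 : Q.relIndex E ≤ p := by
      have h : Q.relIndex S = p := s.index
      exact h ▸ Subgroup.relIndex_le_of_le_right hE.1.1 (h ▸ (Fact.out : p.Prime).ne_zero)
    refine (Nat.le_of_mul_le_mul_right h1 (Fact.out : p.Prime).pos).trans ?_
    rw [h2]
    exact Nat.mul_le_mul_left _ h3
  obtain ⟨β₀, hβ₀, -⟩ := s.exists_good hF hp hE hab hc hα hz hmove
  let W : Subgroup Ω :=
    { carrier := {x | ∃ hx : x ∈ S, x ∈ S ⊓ Subgroup.centralizer (S : Set Ω) ∧ β₀ ⟨x, hx⟩ = ⟨x, hx⟩}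
      one_mem' := ⟨one_mem _, one_mem _, map_one β₀⟩
      mul_mem' := fun {a b} ⟨ha, ha', ha''⟩ ⟨hb, hb', hb''⟩ => ⟨mul_mem ha hb, mul_mem ha' hb', by
        have := map_mul β₀ ⟨a, ha⟩ ⟨b, hb⟩
        rwa [ha'', hb''] at this⟩
      inv_mem' := fun {a} ⟨ha, ha', ha''⟩ => ⟨inv_mem ha, inv_mem ha', by
        have := map_inv β₀ ⟨a, ha⟩
        rwa [ha''] at this⟩ }
  obtain ⟨-, -, w, hwC, hwZ, hwf⟩ := id hβ₀
  refine ⟨W, isNormal_of_aut s.pgroup hF ?_, fun hb => hwZ ?_⟩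
  swap
  · have : (w : Ω) ∈ W := ⟨w.2, hwC, hwf⟩
    rw [hb, Subgroup.mem_bot] at this
    rw [this]
    exact one_mem _
  have htop : ∀ γ ∈ F.autGroup S, ∀ x : S, (x : Ω) ∈ W → (γ x : Ω) ∈ W := by
    intro γ hγ x ⟨_, hxC, hxf⟩
    have hgood : Good F Q (γ * β₀ * γ⁻¹) := by
      refine ⟨mul_mem (mul_mem hγ hβ₀.1) (inv_mem hγ), fun u hu => ?_,
        γ w, s.invariant_centre hwC, fun h => hwZ ?_, ?_⟩
      · show γ (β₀ (γ⁻¹ u)) = u⁻¹
        rw [hβ₀.2.1 _ (s.invariant_top hu), map_inv, MulAut.apply_inv_self]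
      · have := s.invariant_top (γ := γ⁻¹) h
        rwa [MulAut.inv_apply_self] at this
      · show γ (β₀ (γ⁻¹ (γ w))) = γ w
        rw [MulAut.inv_apply_self, hwf]
    refine ⟨(γ x).2, s.invariant_centre hxC, s.good_fix hF hp hgood hβ₀ (s.invariant_centre hxC) ?_⟩
    show γ (β₀ (γ⁻¹ (γ x))) = γ x
    rw [MulAut.inv_apply_self, hxf]
  intro P hP
  refine ⟨?_, fun δ hδ => ?_⟩
  · rintro x ⟨hx, hxC, -⟩
    rcases hP with rfl | hP
    exacts [hx, s.centre_le_essential hP hxC]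
  rcases hP with rfl | hP
  · exact map_eq_of_mapsTo (htop δ hδ)
  have := finite_of_le hP.1.1
  refine map_eq_of_mapsTo ?_
  rcases s.abelian_or_eq hP with hab' | rfl
  swap
  · exact htop δ hδ
  intro x ⟨hxS, hxC, hxf⟩
  by_cases hinv : ∀ y : P, (y : Ω) ∈ Z → (δ y : Ω) ∈ Z
  · obtain ⟨γ, hγ, hγx⟩ := s.exists_extension_of_invariant hF hP hδ hinv (mapsTo_inv hinv)
    rw [← hγx x hxS]
    exact htop γ hγ _ ⟨hxS, hxC, hxf⟩
  · obtain ⟨y, hy, hy'⟩ : ∃ y : P, (y : Ω) ∈ Z ∧ (δ⁻¹ y : Ω) ∉ Z := by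
      by_contra hne
      push Not at hne
      refine hinv fun y hy => ?_
      have := mapsTo_inv hne y hy
      rwa [inv_inv] at this
    push Not at hinv
    obtain ⟨u, hu, hu'⟩ := hinv
    obtain ⟨β₁, hβ₁, h1⟩ := s.exists_good hF hp hP hab' hc (inv_mem hδ) hy hy'
    have hδx : (δ x : Ω) ∈ S ⊓ Subgroup.centralizer (S : Set Ω) := by
      have := (h1 x hxS hxC).1 (s.good_fix hF hp hβ₀ hβ₁ hxC hxf)
      rwa [inv_inv] at this
    obtain ⟨β₂, hβ₂, h2⟩ := s.exists_good hF hp hP hab' hc hδ hu hu'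
    have hfix := (h2 (δ x) hδx.1 hδx).2 (by rw [MulAut.inv_apply_self]; exact hxC)
    exact ⟨hδx.1, hδx, s.good_fix hF hp hβ₂ hβ₀ hδx hfix⟩

end Setting

end Cfsg.Agent.Lib.Fusion.CentralCommutator
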