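import Cfsg.Agent.Lib.Classical.UnitaryEichler
import Cfsg.Agent.Lib.Classical.Isometry

/-!
The Sylow subgroup in the defining characteristic of a unitary group in split coordinates: inductive
description by unipotent radicals, centre, normalizer, strong closure of a central element.
-/

set_option autoImplicit false

namespace Cfsg.Agent.Lib.Fusion.SUData

open Cfsg.Agent.Lib.Classical

variable {F : Type*} [Field F] {σ : F →+* F} {V : Type*} [AddCommGroup V] [Module F V] {B : V → V → F}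

/-- The automorphisms of a finite vector space form a finite group. -/
theorem finite_equiv [Finite V] : Finite (V ≃ₗ[F] V) :=
  Finite.of_injective (fun g : V ≃ₗ[F] V => (g : V → V)) DFunLike.coe_injective

/-! ### The radical -/

theorem uT_congr (h : HermSpace σ B) {w w' : V} {c c' : F} {hc : c + σ c + B w w = 0}
    {hc' : c' + σ c' + B w' w' = 0} (e : w = w') (e' : c = c') : uT h w c hc = uT h w' c' hc' := by
  subst e e'; rfl

theorem uT_mul (h : HermSpace σ B) (w w' : V) (c c' : F) (hc : c + σ c + B w w = 0)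
    (hc' : c' + σ c' + B w' w' = 0) :
    ∃ hc'' : (c + c' - B w' w) + σ (c + c' - B w' w) + B (w + w') (w + w') = 0,
      uT h w c hc * uT h w' c' hc' = uT h (w + w') (c + c' - B w' w) hc'' := by
  refine ⟨by rw [map_sub, map_add, h.symm]; simp only [h.add_left, h.add_right]; linear_combination hc + hc', ?_⟩
  rw [uT, uT, uEich_mul]
  exact uEich_congr h.ext rfl (by simp) (by simp [uExt])

theorem uT_zero (h : HermSpace σ B) (hc : (0 : F) + σ 0 + B (0 : V) 0 = 0) : uT h 0 0 hc = 1 :=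
  uEich_zero h.ext _ (by simp [uExt, h.zero_left])

theorem uT_inv (h : HermSpace σ B) (w : V) (c : F) (hc : c + σ c + B w w = 0) :
    ∃ hc' : σ c + σ (σ c) + B (-w) (-w) = 0, (uT h w c hc)⁻¹ = uT h (-w) (σ c) hc' := by
  refine ⟨by rw [h.invol, h.neg_left, h.neg_right, neg_neg]; linear_combination hc, ?_⟩
  obtain ⟨hc'', e⟩ := uT_mul h w (-w) c (σ c) hc
    (by rw [h.invol, h.neg_left, h.neg_right, neg_neg]; linear_combination hc)
  refine inv_eq_of_mul_eq_one_right (e.trans ?_)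
  rw [← uT_zero h (by rw [map_zero, h.zero_left]; ring)]
  exact uT_congr h (add_neg_cancel w) (by rw [h.neg_left]; linear_combination hc)

theorem uT_conj_uT (h : HermSpace σ B) (a v : V) (c₀ c : F) (hc₀ : c₀ + σ c₀ + B a a = 0)
    (hc : c + σ c + B v v = 0) :
    ∃ hc' : (c + B a v - B v a) + σ (c + B a v - B v a) + B v v = 0,
      uT h a c₀ hc₀ * uT h v c hc * (uT h a c₀ hc₀)⁻¹ = uT h v (c + B a v - B v a) hc' := by
  refine ⟨by simp only [map_sub, map_add, h.symm]; linear_combination hc, ?_⟩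
  obtain ⟨_, e1⟩ := uT_inv h a c₀ hc₀
  obtain ⟨_, e2⟩ := uT_mul h a v c₀ c hc₀ hc
  rw [e1, e2]
  obtain ⟨_, e3⟩ := uT_mul h (a + v) (-a) _ (σ c₀) (by assumption)
    (by rw [h.invol, h.neg_left, h.neg_right, neg_neg]; linear_combination hc₀)
  rw [e3]
  refine uT_congr h (by abel) ?_
  rw [h.neg_left, h.add_right]
  linear_combination hc₀

/-- `uInd` as a homomorphism. -/
def uIndHom : (V ≃ₗ[F] V) →* ((F × F × V) ≃ₗ[F] (F × F × V)) where
  toFun := uInd
  map_one' := LinearEquiv.ext fun _ => rfl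
  map_mul' _ _ := LinearEquiv.ext fun _ => rfl

theorem uInd_mul (k k' : V ≃ₗ[F] V) : uInd (k * k') = uInd k * uInd k' := map_mul uIndHom k k'

theorem uInd_one : uInd (1 : V ≃ₗ[F] V) = 1 := map_one uIndHom

theorem uInd_inv (k : V ≃ₗ[F] V) : uInd k⁻¹ = (uInd k)⁻¹ := map_inv uIndHom k

theorem uInd_injective : Function.Injective (uInd : (V ≃ₗ[F] V) → _) := fun _ _ e =>
  LinearEquiv.ext fun z =>
    congrArg (fun g : (F × F × V) ≃ₗ[F] (F × F × V) => (g (0, 0, z)).2.2) e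

theorem uInd_conj_uT (h : HermSpace σ B) {k : V ≃ₗ[F] V} (hk : k ∈ biIsoGroup B) (w : V) (c : F)
    (hc : c + σ c + B w w = 0) :
    uInd k * uT h w c hc * (uInd k)⁻¹ = uT h (k w) c (by rw [hk, hc]) := by
  rw [uT, uEich_conj h.ext _ _ _ _ _ _ (uInd_mem hk)]
  exact uEich_congr h.ext (by simp [uInd_apply]) rfl rfl

theorem uT_uInd_inj (h : HermSpace σ B) {w w' : V} {c c' : F} {hc : c + σ c + B w w = 0}
    {hc' : c' + σ c' + B w' w' = 0} {k k' : V ≃ₗ[F] V}
    (e : uT h w c hc * uInd k = uT h w' c' hc' * uInd k') : w = w' ∧ c = c' ∧ k = k' := by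
  have e2 := congrArg (fun g : (F × F × V) ≃ₗ[F] (F × F × V) => g (0, 1, 0)) e
  simp [LinearEquiv.mul_apply, uInd_apply, uT_apply, h.zero_left] at e2
  obtain ⟨rfl, rfl⟩ := And.symm e2
  exact ⟨rfl, rfl, uInd_injective (mul_left_cancel e)⟩

/-- The subgroup `T(W) ⋊ U`. -/
def uUni (h : HermSpace σ B) (U : Subgroup (V ≃ₗ[F] V)) :
    Subgroup ((F × F × V) ≃ₗ[F] (F × F × V)) where
  carrier := {g | ∃ (w : V) (c : F) (hc : c + σ c + B w w = 0),
    ∃ k ∈ U ⊓ biIsoGroup B, g = uT h w c hc * uInd k}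
  one_mem' := ⟨0, 0, by rw [map_zero, h.zero_left]; ring, 1, one_mem _, by
    rw [uT_zero, uInd_one, one_mul]⟩
  mul_mem' := by
    rintro _ _ ⟨w, c, hc, k, hk, rfl⟩ ⟨w', c', hc', k', hk', rfl⟩
    obtain ⟨hc'', e⟩ := uT_mul h w (k w') c c' hc (by rw [hk.2, hc'])
    refine ⟨_, _, hc'', k * k', mul_mem hk hk', ?_⟩
    rw [← e, ← uInd_conj_uT h hk.2 w' c' hc', uInd_mul]
    group
  inv_mem' := by
    rintro _ ⟨w, c, hc, k, hk, rfl⟩
    obtain ⟨hc', e⟩ := uT_inv h w c hc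
    refine ⟨k⁻¹ (-w), σ c, by rw [(inv_mem hk.2 : k⁻¹ ∈ biIsoGroup B)]; exact hc', k⁻¹, inv_mem hk, ?_⟩
    rw [← uInd_conj_uT h (inv_mem hk.2) (-w) (σ c) hc', ← e, uInd_inv]
    group

/-- The unipotent radical of the stabilizer of the first vector. -/
abbrev uRad (h : HermSpace σ B) : Subgroup ((F × F × V) ≃ₗ[F] (F × F × V)) := uUni h ⊥

theorem uT_mem_uUni (h : HermSpace σ B) (U : Subgroup (V ≃ₗ[F] V)) (w : V) (c : F)
    (hc : c + σ c + B w w = 0) : uT h w c hc ∈ uUni h U :=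
  ⟨w, c, hc, 1, one_mem _, by rw [uInd_one, mul_one]⟩

theorem uInd_mem_uUni (h : HermSpace σ B) {U : Subgroup (V ≃ₗ[F] V)} {k : V ≃ₗ[F] V}
    (hk : k ∈ U) (hk' : k ∈ biIsoGroup B) : uInd k ∈ uUni h U :=
  ⟨0, 0, by rw [map_zero, h.zero_left]; ring, k, ⟨hk, hk'⟩, by rw [uT_zero, one_mul]⟩

theorem uUni_mono (h : HermSpace σ B) {U U' : Subgroup (V ≃ₗ[F] V)} (hU : U ≤ U') :
    uUni h U ≤ uUni h U' := fun _ ⟨w, c, hc, k, hk, e⟩ => ⟨w, c, hc, k, ⟨hU hk.1, hk.2⟩, e⟩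

theorem mem_uRad (h : HermSpace σ B) {g : (F × F × V) ≃ₗ[F] (F × F × V)} :
    g ∈ uRad h ↔ ∃ (w : V) (c : F) (hc : c + σ c + B w w = 0), g = uT h w c hc := by
  refine ⟨fun ⟨w, c, hc, k, hk, e⟩ => ⟨w, c, hc, ?_⟩, ?_⟩
  · rw [e, show k = 1 from Subgroup.mem_bot.1 hk.1, uInd_one, mul_one]
  · rintro ⟨w, c, hc, rfl⟩; exact uT_mem_uUni h _ w c hc

theorem uUni_le_uGroup (h : HermSpace σ B) {U : Subgroup (V ≃ₗ[F] V)} (hU : U ≤ uGroup h) :
    uUni h U ≤ uGroup h.ext := by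
  rintro _ ⟨w, c, hc, k, hk, rfl⟩
  exact mul_mem (uT_mem h w c hc) (uInd_uGroup h (hU hk.1))

theorem uUni_fix (h : HermSpace σ B) (U : Subgroup (V ≃ₗ[F] V))
    {g : (F × F × V) ≃ₗ[F] (F × F × V)} (hg : g ∈ uUni h U) : g (1, 0, 0) = (1, 0, 0) := by
  obtain ⟨w, c, hc, k, -, rfl⟩ := hg
  simp [LinearEquiv.mul_apply, uInd_apply, uT_apply, h.zero_left]

theorem uInd_mem_normalizer_uRad (h : HermSpace σ B) [Finite F] [Finite V] {k : V ≃ₗ[F] V}
    (hk : k ∈ biIsoGroup B) :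
    uInd k ∈ Subgroup.normalizer (uRad h : Set ((F × F × V) ≃ₗ[F] (F × F × V))) := by
  rw [Subgroup.mem_normalizer_iff]
  have key : ∀ l ∈ biIsoGroup B, ∀ x ∈ uRad h, uInd l * x * (uInd l)⁻¹ ∈ uRad h := by
    intro l hl x hx
    obtain ⟨w, c, hc, rfl⟩ := (mem_uRad h).1 hx
    rw [uInd_conj_uT h hl]
    exact uT_mem_uUni h _ _ _ _
  refine fun x => ⟨key k hk x, fun hx => ?_⟩
  have := key k⁻¹ (inv_mem hk) _ hx
  rwa [uInd_inv, inv_inv, show (uInd k)⁻¹ * (uInd k * x * (uInd k)⁻¹) * uInd k = x by group] at this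

/-! ### `p`-elements -/

theorem uEich_pow_eq_one (p : ℕ) [CharP F p] (h : HermSpace σ B) (u w : V) (c : F) (hu : B u u = 0)
    (hwu : B w u = 0) (hc : c + σ c + B w w = 0) : uEich h u w c hu hwu hc ^ p ^ 2 = 1 := by
  obtain ⟨c', hc', e, -⟩ := uEich_pow h u w c hu hwu hc p
  have hz : (p : F) • w = 0 := by rw [CharP.cast_eq_zero, zero_smul]
  obtain ⟨c'', hc'', e', e0⟩ := uEich_pow h u ((p : F) • w) c' hu (by rw [h.smul_left, hwu, mul_zero]) hc' p
  rw [pow_two, pow_mul, e, e', ← uEich_zero h u hu]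
  exact uEich_congr h rfl (by rw [hz, smul_zero]) (by rw [e0 hz, CharP.cast_eq_zero, zero_mul])

theorem eq_one_of_pow_prime_pow [Finite F] (p : ℕ) [Fact p.Prime] [CharP F p] {k : F} {a : ℕ}
    (hk : k ^ p ^ a = 1) : k = 1 :=
  iterateFrobenius_inj F p a (by simpa [iterateFrobenius_def] using hk)

theorem pow_uT_uInd (h : HermSpace σ B) {k : V ≃ₗ[F] V} (hk : k ∈ biIsoGroup B) (w : V) (c : F)
    (hc : c + σ c + B w w = 0) (n : ℕ) :
    ∃ (w' : V) (c' : F) (hc' : c' + σ c' + B w' w' = 0),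
      (uT h w c hc * uInd k) ^ n = uT h w' c' hc' * uInd (k ^ n) := by
  induction n with
  | zero => exact ⟨0, 0, by rw [map_zero, h.zero_left]; ring, by rw [uT_zero, pow_zero, pow_zero, uInd_one, one_mul]⟩
  | succ n ih =>
    obtain ⟨w', c', hc', e⟩ := ih
    obtain ⟨hc'', e'⟩ := uT_mul h w' ((k ^ n) w) c' c hc' (by rw [(pow_mem hk n : k ^ n ∈ biIsoGroup B), hc])
    refine ⟨_, _, hc'', ?_⟩
    rw [pow_succ, e, ← e', ← uInd_conj_uT h (pow_mem hk n) w c hc, pow_succ, uInd_mul]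
    group

theorem isPGroup_uUni (p : ℕ) [Fact p.Prime] [CharP F p] (h : HermSpace σ B)
    {U : Subgroup (V ≃ₗ[F] V)} (hU : IsPGroup p U) : IsPGroup p (uUni h U) := by
  rintro ⟨g, w, c, hc, k, hk, rfl⟩
  obtain ⟨a, ha⟩ := hU ⟨k, hk.1⟩
  have ha' : k ^ p ^ a = 1 := congrArg Subtype.val ha
  obtain ⟨w', c', hc', e⟩ := pow_uT_uInd h hk.2 w c hc (p ^ a)
  rw [ha', uInd_one, mul_one] at e
  refine ⟨a + 2, Subtype.ext ?_⟩
  show (uT h w c hc * uInd k) ^ p ^ (a + 2) = 1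
  rw [pow_add, pow_mul, e, uT]
  exact uEich_pow_eq_one p h.ext _ _ _ _ _ _

/-- A subgroup containing every `p`-element that normalizes it. -/
def PSaturated (p : ℕ) (U : Subgroup (V ≃ₗ[F] V)) (B : V → V → F) : Prop :=
  ∀ g ∈ biIsoGroup B, (∀ x ∈ U, g * x * g⁻¹ ∈ U) → (∃ a : ℕ, g ^ p ^ a = 1) → g ∈ U

/-! ### Transvections and centralizers -/

theorem trans_line (h : HermSpace σ B) {v v' : V} {d d' : F} {hv : B v v = 0} {hv' : B v' v' = 0}
    {hd : d + σ d + B (0 : V) 0 = 0} {hd' : d' + σ d' + B (0 : V) 0 = 0} (hd0 : d ≠ 0) (hv0 : v ≠ 0)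
    (e : uEich h v 0 d hv (h.zero_left v) hd = uEich h v' 0 d' hv' (h.zero_left v') hd') :
    ∃ μ : F, v = μ • v' ∧ d * (μ * σ μ) = d' := by
  obtain ⟨x, hx⟩ : ∃ x, B x v ≠ 0 := by
    by_contra hne
    push Not at hne
    exact hv0 (h.nondeg v fun x => by rw [← h.symm, hne, map_zero])
  have he : ∀ y, (d * B y v) • v = (d' * B y v') • v' := fun y => by
    have := congrArg (fun g : V ≃ₗ[F] V => g y) e
    simpa [uEich_apply, h.zero_right] using this
  refine ⟨(d * B x v)⁻¹ * (d' * B x v'), ?_, ?_⟩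
  · rw [← smul_smul, ← he, inv_smul_smul₀ (mul_ne_zero hd0 hx)]
  · set μ := (d * B x v)⁻¹ * (d' * B x v') with hμ
    have hv1 : v = μ • v' := by
      rw [hμ, ← smul_smul, ← he, inv_smul_smul₀ (mul_ne_zero hd0 hx)]
    have hμ0 : μ ≠ 0 := fun h0 => hv0 (by rw [hv1, h0, zero_smul])
    have hv'0 : v' ≠ 0 := fun h0 => hv0 (by rw [hv1, h0, smul_zero])
    have h2 := he x
    rw [hv1, h.smul_right, smul_smul] at h2
    have h3 := smul_left_injective F hv'0 h2
    have hx' : B x v' ≠ 0 := fun h0 => hx (by rw [hv1, h.smul_right, h0, mul_zero])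
    exact mul_right_cancel₀ hx' (by linear_combination h3)

/-- An element commuting with a transvection scales its centre. -/
theorem scale_of_commute (h : HermSpace σ B) {v : V} {d : F} {hv : B v v = 0}
    {hd : d + σ d + B (0 : V) 0 = 0} (hd0 : d ≠ 0) (hv0 : v ≠ 0) {g : V ≃ₗ[F] V}
    (hg : g ∈ biIsoGroup B)
    (hc : uEich h v 0 d hv (h.zero_left v) hd * g = g * uEich h v 0 d hv (h.zero_left v) hd) :
    ∃ μ : F, g v = μ • v ∧ μ * σ μ = 1 := by
  have e : uEich h (g v) 0 d (by rw [hg, hv]) (h.zero_left _) hd =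
      uEich h v 0 d hv (h.zero_left v) hd := by
    have h1 := uEich_conj h v 0 d hv (h.zero_left v) hd hg
    rw [← hc, mul_inv_cancel_right] at h1
    rw [h1]
    exact uEich_congr h rfl (map_zero g).symm rfl
  obtain ⟨μ, hμ, hμ'⟩ := trans_line h hd0 (g.map_ne_zero_iff.2 hv0) e
  exact ⟨μ, hμ, mul_left_cancel₀ hd0 (hμ'.trans (mul_one d).symm)⟩

/-- A central element of the radical extension is a transvection at the first vector. -/
theorem eq_transvection_of_commute (h : HermSpace σ B) {U : Subgroup (V ≃ₗ[F] V)}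
    {z : (F × F × V) ≃ₗ[F] (F × F × V)} (hz : z ∈ uUni h U) (hc : ∀ x ∈ uRad h, x * z = z * x) :
    ∃ (d : F) (hd : d + σ d + B (0 : V) 0 = 0), z = uT h 0 d hd := by
  obtain ⟨a, c₀, hc₀, k, hk, rfl⟩ := hz
  have key : ∀ (v : V), k v = v ∧ B a (k v) = B (k v) a := by
    intro v
    obtain ⟨c, hcv⟩ := h.exists_fill v
    obtain ⟨hc', e⟩ := uT_conj_uT h a (k v) c₀ c hc₀ (by rw [hk.2, hcv])
    have h1 : uT h a c₀ hc₀ * uInd k * uT h v c hcv * (uT h a c₀ hc₀ * uInd k)⁻¹ = uT h v c hcv := by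
      rw [← hc _ (uT_mem_uUni h _ v c hcv), mul_inv_cancel_right]
    have h2 : uT h (k v) (c + B a (k v) - B (k v) a) hc' * uInd 1 = uT h v c hcv * uInd 1 := by
      rw [uInd_one, mul_one, mul_one, ← e, ← uInd_conj_uT h hk.2 v c hcv]
      refine Eq.trans ?_ h1
      group
    obtain ⟨e1, e2, -⟩ := uT_uInd_inj h h2
    exact ⟨e1, by linear_combination e2⟩
  have hk1 : k = 1 := LinearEquiv.ext fun v => (key v).1
  have ha : a = 0 := by
    refine h.nondeg a fun w => ?_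
    obtain ⟨t, ht⟩ : ∃ t, σ t ≠ t := by
      by_contra hne; push Not at hne; exact h.nontriv (RingHom.ext hne)
    obtain ⟨h1, h2⟩ := key w
    obtain ⟨h3, h4⟩ := key (t • w)
    rw [h1] at h2
    rw [h3, h.smul_left, h.smul_right, ← h2] at h4
    by_contra hne
    exact ht (mul_right_cancel₀ hne h4)
  subst ha hk1
  exact ⟨c₀, hc₀, by rw [uInd_one, mul_one]⟩

theorem center_uUni (h : HermSpace σ B) (U : Subgroup (V ≃ₗ[F] V)) {d : F}
    (hd : d + σ d + B (0 : V) 0 = 0) {x : (F × F × V) ≃ₗ[F] (F × F × V)} (hx : x ∈ uUni h U) :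
    x * uT h 0 d hd = uT h 0 d hd * x := by
  obtain ⟨a, c₀, hc₀, k, hk, rfl⟩ := hx
  obtain ⟨hc', e⟩ := uT_conj_uT h a 0 c₀ d hc₀ hd
  have h1 : uT h a c₀ hc₀ * uT h 0 d hd = uT h 0 d hd * uT h a c₀ hc₀ := by
    rw [← mul_inv_eq_iff_eq_mul, e]
    exact uT_congr h rfl (by rw [h.zero_left, h.zero_right]; ring)
  have h2 : uInd k * uT h 0 d hd = uT h 0 d hd * uInd k := by
    rw [← mul_inv_eq_iff_eq_mul, uInd_conj_uT h hk.2]
    exact uT_congr h (map_zero k) rfl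
  rw [mul_assoc, h2, ← mul_assoc, h1, mul_assoc]

theorem exists_scale_of_normalize (h : HermSpace σ B) {U : Subgroup (V ≃ₗ[F] V)}
    {g : (F × F × V) ≃ₗ[F] (F × F × V)} (hg : g ∈ biIsoGroup (uExt σ B))
    (hn : ∀ x ∈ uUni h U, g * x * g⁻¹ ∈ uUni h U) [Finite F] [Finite V] :
    ∃ k : F, k ≠ 0 ∧ g (1, 0, 0) = (k, 0, 0) := by
  obtain ⟨d, hd0, hd⟩ := h.exists_skew
  have hd' := skew_fill h hd
  have hfin : (uUni h U).map (MulAut.conj g).toMonoidHom = uUni h U := by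
    have := finite_equiv (F := F) (V := F × F × V)
    exact Subgroup.eq_of_le_of_card_ge (by rintro _ ⟨u, hu, rfl⟩; exact hn u hu)
      (Subgroup.card_map_of_injective (MulEquiv.injective _)).ge
  obtain ⟨d', hd'', e⟩ := eq_transvection_of_commute h (hn _ (uT_mem_uUni h U 0 d hd')) (by
    intro x hx
    obtain ⟨y, hy, rfl⟩ := hfin.ge (uUni_mono h bot_le hx)
    show g * y * g⁻¹ * _ = _ * (g * y * g⁻¹)
    calc g * y * g⁻¹ * (g * uT h 0 d hd' * g⁻¹) = g * (y * uT h 0 d hd') * g⁻¹ := by group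
      _ = g * (uT h 0 d hd' * y) * g⁻¹ := by rw [center_uUni h U hd' hy]
      _ = _ := by group)
  rw [uT, uEich_conj h.ext _ _ _ _ _ _ hg] at e
  have hne : g ((1 : F), (0 : F), (0 : V)) ≠ 0 :=
    g.map_ne_zero_iff.2 fun h0 => one_ne_zero (congrArg Prod.fst h0)
  obtain ⟨μ, hμ, -⟩ := trans_line h.ext (v := g (1, 0, 0)) (v' := ((1 : F), (0 : F), (0 : V)))
    (hv := by rw [hg]; simp [uExt, h.zero_left]) (hv' := by simp [uExt, h.zero_left])
    (hd := by simpa [uExt] using hd') (hd' := by simpa [uExt] using hd'') hd0 hne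
    (((uEich_congr h.ext rfl (map_zero g).symm rfl).trans e).trans (uEich_congr h.ext rfl rfl rfl))
  exact ⟨μ, fun h0 => hne (by rw [hμ, h0, zero_smul]), by rw [hμ]; simp⟩

theorem pSaturated_uUni (p : ℕ) [Fact p.Prime] [CharP F p] [Finite F] [Finite V] (h : HermSpace σ B)
    {U : Subgroup (V ≃ₗ[F] V)} (hUB : U ≤ biIsoGroup B) (hU : PSaturated p U B) :
    PSaturated p (uUni h U) (uExt σ B) := by
  intro g hg hn ⟨a, ha⟩
  obtain ⟨k, -, hk⟩ := exists_scale_of_normalize h hg hn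
  have hit : ∀ n : ℕ, (g ^ n) (1, 0, 0) = (k ^ n, (0 : F), (0 : V)) := by
    intro n
    induction n with
    | zero => simp
    | succ n ih =>
      rw [pow_succ', LinearEquiv.mul_apply, ih,
        show ((k ^ n, 0, 0) : F × F × V) = k ^ n • ((1 : F), (0 : F), (0 : V)) by simp, map_smul, hk]
      simp [pow_succ]
  have hk1 : k = 1 := eq_one_of_pow_prime_pow p (a := a) (by
    have := congrArg Prod.fst (hit (p ^ a))
    rw [ha] at this
    exact this.symm)
  obtain ⟨w, c, hc, l, hl, rfl⟩ := eq_uT_uInd h hg (by rw [hk, hk1])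
  have hn' : ∀ x ∈ uUni h U, uInd l * x * (uInd l)⁻¹ ∈ uUni h U := fun x hx => by
    have h1 := hn x hx
    have hT := uT_mem_uUni h U w c hc
    have := mul_mem (mul_mem (inv_mem hT) h1) hT
    rwa [show (uT h w c hc)⁻¹ * (uT h w c hc * uInd l * x * (uT h w c hc * uInd l)⁻¹) * uT h w c hc =
      uInd l * x * (uInd l)⁻¹ by group] at this
  refine mul_mem (uT_mem_uUni h U w c hc) (uInd_mem_uUni h (hU l hl (fun x hx => ?_) ?_) hl)
  · obtain ⟨w', c', hc', m, hm, e⟩ := hn' _ (uInd_mem_uUni h hx (hUB hx))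
    rw [← uInd_inv, ← uInd_mul, ← uInd_mul] at e
    have e' : uT h 0 0 (by rw [map_zero, h.zero_left]; ring) * uInd (l * x * l⁻¹) =
        uT h w' c' hc' * uInd m := by rw [uT_zero, one_mul, e]
    rw [(uT_uInd_inj h e').2.2]
    exact hm.1
  · refine ⟨a, ?_⟩
    obtain ⟨w', c', hc', e⟩ := pow_uT_uInd h hl w c hc (p ^ a)
    have e' : uT h w' c' hc' * uInd (l ^ p ^ a) =
        uT h 0 0 (by rw [map_zero, h.zero_left]; ring) * uInd 1 := by
      rw [← e, ha, uT_zero, uInd_one, mul_one]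
    exact (uT_uInd_inj h e').2.2

end Cfsg.Agent.Lib.Fusion.SUData
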