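/-
Saturated fusion systems on a 2-group in which every element is conjugate to a central element:
the 2-group is abelian.  The proof is by induction on the exponent: the elements killed by
`2 ^ (k + 1)` commute, so form an abelian strongly closed (hence normal) subgroup, hence central.
-/
import Cfsg.Agent.Lib.Fusion.Normal

set_option autoImplicit false

namespace Cfsg.Agent.Lib.Fusion.AllFusedCentral

open Cfsg Cfsg.FusionSystem

variable {Ω : Type*} [Group Ω] {S : Subgroup Ω} {F : FusionSystem S}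

/-- A subgroup centralized by `S` is fully centralized. -/
theorem isFullyCentralized_of_central [Finite S] {Q : Subgroup Ω} (hQ : Q ≤ S)
    (hc : ∀ q ∈ Q, q ∈ Subgroup.centralizer (S : Set Ω)) : F.IsFullyCentralized Q := by
  have e : centralizerIn S Q = S :=
    le_antisymm inf_le_left fun g hg => ⟨hg, fun q hq => (hc q hq g hg).symm⟩
  refine ⟨hQ, fun R _ => ?_⟩
  rw [e]
  exact Subgroup.card_le_of_le inf_le_left

/-- An automorphism of `S` in the system squaring to the identity on a central element fixes it. -/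
theorem aut_fix_of_swap [Finite S] (hS : IsPGroup 2 S) (hF : F.IsSaturated 2) {w : S}
    (hwc : (w : Ω) ∈ Subgroup.centralizer (S : Set Ω)) {α : MulAut S} (hα : α ∈ F.autGroup S)
    (h2 : α (α w) = w) : α w = w := by
  have hsyl : IsSylowIn 2 (autInducedBy S S) (F.autGroup S) :=
    (isFullyAutomized_iff.1
      (isFullyAutomized_of_isFullyNormalized hS hF (isFullyNormalized_top F))).2
  have hn : ((autInducedBy S S).subgroupOf (F.autGroup S)).Normal := ⟨fun a ha b => by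
    rw [Subgroup.mem_subgroupOf] at ha ⊢
    obtain ⟨g, hg, hga⟩ := mem_autInducedBy.1 ha
    refine mem_autInducedBy.2 ⟨((b : MulAut S) ⟨g, hg⟩ : Ω), SetLike.coe_mem _, fun x => ?_⟩
    have e : (a : MulAut S) ((b : MulAut S).symm x)
        = ⟨g, hg⟩ * (b : MulAut S).symm x * (⟨g, hg⟩ : S)⁻¹ := Subtype.ext (hga _)
    show (((b : MulAut S) ((a : MulAut S) ((b : MulAut S).symm x)) : S) : Ω) = _
    rw [e, map_mul, map_mul, map_inv, MulEquiv.apply_symm_apply]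
    rfl⟩
  set m := (autInducedBy S S).relIndex (F.autGroup S) with hm
  have hmem : α ^ m ∈ autInducedBy S S := by
    have := Subgroup.pow_index_mem ((autInducedBy S S).subgroupOf (F.autGroup S)) ⟨α, hα⟩
    rw [Subgroup.mem_subgroupOf] at this
    simpa [hm, Subgroup.relIndex] using this
  obtain ⟨g, hg, hgx⟩ := mem_autInducedBy.1 hmem
  have hfix : (α ^ m) w = w := by
    apply Subtype.ext
    rw [hgx w, hwc g hg, mul_inv_cancel_right]
  obtain ⟨j, hj⟩ := Nat.odd_iff.2 (Nat.two_dvd_ne_zero.1 hsyl.2.2)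
  have hsq : ∀ i : ℕ, (α ^ (2 * i)) w = w := by
    intro i
    induction i with
    | zero => rfl
    | succ i ih =>
      rw [Nat.mul_succ, pow_add, MulAut.mul_apply, pow_two, MulAut.mul_apply, h2, ih]
  rw [show m = 2 * j + 1 from hm.trans hj, pow_succ', MulAut.mul_apply, hsq] at hfix
  exact hfix

/-- Every element is sent by a map defined on its centralizer to a central element. -/
theorem exists_map_to_central [Finite S] (hS : IsPGroup 2 S) (hF : F.IsSaturated 2)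
    (h : ∀ x ∈ S, ∃ z ∈ S ⊓ Subgroup.centralizer (S : Set Ω), F.IsConjElt x z)
    {u : Ω} (hu : u ∈ S) :
    ∃ (P : Subgroup Ω) (ψ : P →* Ω), ψ ∈ F.Hom P ∧ centralizerIn S (Subgroup.zpowers u) ≤ P ∧
      ∀ huP : u ∈ P, ψ ⟨u, huP⟩ ∈ Subgroup.centralizer (S : Set Ω) := by
  obtain ⟨z, ⟨-, hzc⟩, φ, hφ, hφu⟩ := h u hu
  have hc : ∀ q ∈ φ.range, q ∈ Subgroup.centralizer (S : Set Ω) := by
    rintro _ ⟨⟨a, n, rfl⟩, rfl⟩
    have e : (⟨u ^ n, n, rfl⟩ : Subgroup.zpowers u) = ⟨u, Subgroup.mem_zpowers u⟩ ^ n :=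
      Subtype.ext (by simp)
    rw [e, map_zpow, hφu]
    exact Subgroup.zpow_mem _ hzc n
  obtain ⟨ψ, hψ, hag⟩ := (isReceptive_of_isFullyCentralized hS hF
    (isFullyCentralized_of_central (range_le hφ) hc)).2 _ φ hφ rfl
  refine ⟨_, ψ, hψ, centralizerIn_le_extender φ, fun huP => ?_⟩
  rw [hag u (Subgroup.mem_zpowers u) huP, hφu]
  exact hzc

/-- A map between central subgroups extends to an automorphism of `S` in the system. -/
theorem exists_aut_of_central_map [Finite S] (hS : IsPGroup 2 S) (hF : F.IsSaturated 2)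
    {R : Subgroup Ω} {β : R →* Ω} (hβ : β ∈ F.Hom R)
    (hR : ∀ x ∈ R, x ∈ Subgroup.centralizer (S : Set Ω))
    (hv : ∀ x : R, β x ∈ Subgroup.centralizer (S : Set Ω)) :
    ∃ α ∈ F.autGroup S, ∀ (x : R) (hx : (x : Ω) ∈ S), (α ⟨x, hx⟩ : Ω) = β x := by
  have hc : ∀ q ∈ β.range, q ∈ Subgroup.centralizer (S : Set Ω) := by
    rintro _ ⟨x, rfl⟩
    exact hv x
  obtain ⟨ψ, hψ, hag⟩ := (isReceptive_of_isFullyCentralized hS hF
    (isFullyCentralized_of_central (range_le hβ) hc)).2 _ β hβ rfl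
  have hle : S ≤ extender S R β := fun g hg =>
    centralizerIn_le_extender β ⟨hg, fun x hx => (hR x hx g hg).symm⟩
  obtain ⟨α, hα, hαx⟩ := exists_aut_of_hom (restrict_mem hψ hle) (fun x => val_mem hψ _)
  refine ⟨α, hα, fun x hx => ?_⟩
  rw [hαx]
  exact hag x x.2 (hle hx)

section Step

variable [Finite S] {k : ℕ}

/-- The inductive step, first half: elements killed by `2 ^ (k + 1)` commute. -/
theorem commute_of_pow (hS : IsPGroup 2 S) (hF : F.IsSaturated 2)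
    (h : ∀ x ∈ S, ∃ z ∈ S ⊓ Subgroup.centralizer (S : Set Ω), F.IsConjElt x z)
    (ih : ∀ x ∈ S, x ^ (2 ^ k) = 1 → x ∈ Subgroup.centralizer (S : Set Ω))
    {x y : Ω} (hx : x ∈ S) (hy : y ∈ S) (hxe : x ^ (2 ^ (k + 1)) = 1)
    (hye : y ^ (2 ^ (k + 1)) = 1) : Commute x y := by
  have hsq : ∀ a ∈ S, a ^ (2 ^ (k + 1)) = 1 →
      a ^ 2 ∈ Subgroup.centralizer (S : Set Ω) ∧ (a ^ 2) ^ (2 ^ k) = 1 := by
    intro a ha hae
    have e : (a ^ 2) ^ (2 ^ k) = 1 := by rw [← pow_mul, ← pow_succ', hae]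
    exact ⟨ih _ (S.pow_mem ha 2) e, e⟩
  obtain ⟨hx2, hx2e⟩ := hsq x hx hxe
  obtain ⟨hy2, hy2e⟩ := hsq y hy hye
  have hzS : x ^ 2 * y ^ 2 ∈ S := S.mul_mem (S.pow_mem hx 2) (S.pow_mem hy 2)
  have hze : (x ^ 2 * y ^ 2) ^ (2 ^ k) = 1 := by
    rw [(show Commute (x ^ 2) (y ^ 2) from (hx2 _ (S.pow_mem hy 2)).symm).mul_pow, hx2e, hy2e,
      one_mul]
  have huS : x * y ∈ S := S.mul_mem hx hy
  have hzc := ih _ hzS hze
  obtain ⟨P, ψ, hψ, hCP, hwc⟩ := exists_map_to_central hS hF h huS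
  set u := x * y with hu
  set z := x ^ 2 * y ^ 2 with hz
  -- `x⁻¹ u x = u⁻¹ z`
  have hyx : x⁻¹ * u * x = u⁻¹ * z := by
    rw [eq_inv_mul_iff_mul_eq, hu, hz]
    calc x * y * (x⁻¹ * (x * y) * x) = x * (y ^ 2 * x) := by
          rw [pow_two]; simp only [mul_assoc, inv_mul_cancel_left]
      _ = x * (x * y ^ 2) := by rw [hy2 x hx]
      _ = x ^ 2 * y ^ 2 := by rw [pow_two x, mul_assoc]
  have huC : u ∈ centralizerIn S (Subgroup.zpowers u) :=
    ⟨huS, fun a ha => by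
      obtain ⟨n, rfl⟩ := Subgroup.mem_zpowers_iff.1 ha
      exact (Commute.refl u).zpow_left n⟩
  have hzC : z ∈ centralizerIn S (Subgroup.zpowers u) :=
    ⟨hzS, fun a ha => hzc a (Subgroup.zpowers_le.2 huS ha)⟩
  set Q := Subgroup.closure ({u, z} : Set Ω) with hQdef
  have huQ : u ∈ Q := Subgroup.subset_closure (Set.mem_insert _ _)
  have hzQ : z ∈ Q := Subgroup.subset_closure (Set.mem_insert_of_mem _ rfl)
  have hQC : Q ≤ centralizerIn S (Subgroup.zpowers u) := by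
    refine (Subgroup.closure_le _).2 ?_
    rintro a (rfl | rfl)
    · exact huC
    · exact hzC
  have hQS : Q ≤ S := hQC.trans inf_le_left
  set χ := ψ.comp (Subgroup.inclusion (hQC.trans hCP)) with hχdef
  have hχ : χ ∈ F.Hom Q := restrict_mem hψ _
  have hχz : χ ⟨z, hzQ⟩ ∈ Subgroup.centralizer (S : Set Ω) := by
    refine ih _ (val_mem hχ _) ?_
    rw [← map_pow, show (⟨z, hzQ⟩ : Q) ^ (2 ^ k) = 1 from Subtype.ext (by simpa using hze), map_one]
  have hχu : χ ⟨u, huQ⟩ ∈ Subgroup.centralizer (S : Set Ω) := hwc (hCP huC)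
  have hχc : ∀ (a : Ω) (ha : a ∈ Q), χ ⟨a, ha⟩ ∈ Subgroup.centralizer (S : Set Ω) := by
    intro a ha
    refine Subgroup.closure_induction
      (p := fun a ha => χ ⟨a, ha⟩ ∈ Subgroup.centralizer (S : Set Ω)) ?_ ?_ ?_ ?_ ha
    · rintro a (rfl | rfl)
      · exact hχu
      · exact hχz
    · rw [show (⟨1, Subgroup.one_mem _⟩ : Q) = 1 from rfl, map_one]
      exact Subgroup.one_mem _
    · intro a b ha hb h1 h2
      rw [show (⟨a * b, Subgroup.mul_mem _ ha hb⟩ : Q) = ⟨a, ha⟩ * ⟨b, hb⟩ from rfl, map_mul]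
      exact Subgroup.mul_mem _ h1 h2
    · intro a ha h1
      rw [show (⟨a⁻¹, Subgroup.inv_mem _ ha⟩ : Q) = (⟨a, ha⟩ : Q)⁻¹ from rfl, map_inv]
      exact Subgroup.inv_mem _ h1
  -- conjugation by `x⁻¹` on `Q`
  have hconj : ∀ a : Q, conjHom Q x⁻¹ a ∈ Q := by
    have hle : Q ≤ Q.comap (MulAut.conj x⁻¹).toMonoidHom := by
      refine (Subgroup.closure_le _).2 ?_
      rintro a (rfl | rfl)
      · show x⁻¹ * u * x⁻¹⁻¹ ∈ Q
        rw [inv_inv, hyx]
        exact Q.mul_mem (Q.inv_mem huQ) hzQ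
      · show x⁻¹ * z * x⁻¹⁻¹ ∈ Q
        rw [inv_inv, mul_assoc, ← hzc x hx, inv_mul_cancel_left]
        exact hzQ
    exact fun a => hle a.2
  obtain ⟨ι, hι, hιr, hι1, -⟩ := exists_inverse hχ rfl
  have hιQ : ∀ r : χ.range, ι r ∈ Q := fun r => hιr.le ⟨r, rfl⟩
  obtain ⟨γ, hγ, hγa⟩ := exists_comp hι (F.conj_mem (g := x⁻¹) hQS (S.inv_mem hx)) hιQ
  obtain ⟨β, hβ, hβa⟩ := exists_comp hγ hχ fun r => by rw [hγa r]; exact hconj _
  obtain ⟨α, hα, hαx⟩ := exists_aut_of_central_map hS hF hβ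
    (by rintro _ ⟨a, rfl⟩; exact hχc a a.2) (fun r => by rw [hβa r]; exact hχc _ _)
  have hβu : β ⟨χ ⟨u, huQ⟩, ⟨_, rfl⟩⟩ = (χ ⟨u, huQ⟩)⁻¹ * χ ⟨z, hzQ⟩ := by
    rw [hβa, ← map_inv, ← map_mul]
    congr 1
    apply Subtype.ext
    show γ _ = u⁻¹ * z
    rw [hγa, conjHom_apply, inv_inv]
    show x⁻¹ * ι _ * x = _
    rw [hι1 ⟨u, huQ⟩ ⟨_, rfl⟩]
    exact hyx
  have hβz : β ⟨χ ⟨z, hzQ⟩, ⟨_, rfl⟩⟩ = χ ⟨z, hzQ⟩ := by
    rw [hβa]
    congr 1
    apply Subtype.ext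
    show γ _ = z
    rw [hγa, conjHom_apply, inv_inv]
    show x⁻¹ * ι _ * x = _
    rw [hι1 ⟨z, hzQ⟩ ⟨_, rfl⟩]
    show x⁻¹ * z * x = z
    rw [mul_assoc, ← hzc x hx, inv_mul_cancel_left]
  let w : S := ⟨χ ⟨u, huQ⟩, val_mem hχ _⟩
  let z' : S := ⟨χ ⟨z, hzQ⟩, val_mem hχ _⟩
  have hαw : α w = w⁻¹ * z' := Subtype.ext ((hαx ⟨_, ⟨_, rfl⟩⟩ w.2).trans hβu)
  have hαz : α z' = z' := Subtype.ext ((hαx ⟨_, ⟨_, rfl⟩⟩ z'.2).trans hβz)
  have hwz : Commute w z' := Subtype.ext (hχz _ w.2)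
  have h2 : α (α w) = w := by
    rw [hαw, map_mul, map_inv, hαw, hαz, mul_inv_rev, inv_inv, mul_assoc, hwz.eq,
      inv_mul_cancel_left]
  have hfix := aut_fix_of_swap hS hF (w := w) hχu hα h2
  rw [hαw, inv_mul_eq_iff_eq_mul] at hfix
  have huu : χ (⟨u, huQ⟩ * ⟨u, huQ⟩) = χ ⟨z, hzQ⟩ := by
    rw [map_mul]
    exact (congrArg Subtype.val hfix).symm
  have huz : u * u = z := congrArg Subtype.val (F.injective_of_mem hχ huu)
  rw [hu, hz, pow_two, pow_two] at huz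
  have h3 : x * (y * x) * y = x * (x * y) * y := by simpa only [mul_assoc] using huz
  exact (mul_left_cancel (mul_right_cancel h3)).symm

/-- The inductive step, second half: elements killed by `2 ^ (k + 1)` are central. -/
theorem mem_centralizer_of_pow_succ (hS : IsPGroup 2 S) (hF : F.IsSaturated 2)
    (h : ∀ x ∈ S, ∃ z ∈ S ⊓ Subgroup.centralizer (S : Set Ω), F.IsConjElt x z)
    (ih : ∀ x ∈ S, x ^ (2 ^ k) = 1 → x ∈ Subgroup.centralizer (S : Set Ω))
    {e : Ω} (heS : e ∈ S) (he : e ^ (2 ^ (k + 1)) = 1) :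
    e ∈ Subgroup.centralizer (S : Set Ω) := by
  let E : Subgroup Ω :=
    { carrier := {a | a ∈ S ∧ a ^ (2 ^ (k + 1)) = 1}
      one_mem' := ⟨S.one_mem, one_pow _⟩
      mul_mem' := fun {a b} ha hb => ⟨S.mul_mem ha.1 hb.1, by
        rw [(commute_of_pow hS hF h ih ha.1 hb.1 ha.2 hb.2).mul_pow, ha.2, hb.2, one_mul]⟩
      inv_mem' := fun {a} ha => ⟨S.inv_mem ha.1, by rw [inv_pow, ha.2, inv_one]⟩ }
  have hEmem : ∀ a : Ω, a ∈ E ↔ a ∈ S ∧ a ^ (2 ^ (k + 1)) = 1 := fun a => Iff.rfl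
  have hsc : F.StronglyClosed E := by
    refine ⟨fun a ha => ha.1, fun R hR φ hφ a => (hEmem _).2 ⟨val_mem hφ a, ?_⟩⟩
    rw [← map_pow, show a ^ (2 ^ (k + 1)) = 1 from Subtype.ext (by simpa using (hR a.2).2), map_one]
  have hab : IsMulCommutative E := ⟨⟨fun a b =>
    Subtype.ext (commute_of_pow hS hF h ih a.2.1 b.2.1 a.2.2 b.2.2)⟩⟩
  have hN := isNormal_of_isMulCommutative hS hF hsc hab
  intro y hy
  obtain ⟨z, ⟨-, hzc⟩, φ, hφ, hφy⟩ := h y hy
  obtain ⟨ψ, hψ, hag, -⟩ := hN.2 _ φ hφ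
  have hy' : y * e * y⁻¹ ∈ E :=
    ⟨S.mul_mem (S.mul_mem hy heS) (S.inv_mem hy), by rw [conj_pow, he, mul_one, mul_inv_cancel]⟩
  have hle : E ≤ Subgroup.zpowers y ⊔ E := le_sup_right
  let Y : ↥(Subgroup.zpowers y ⊔ E) := Subgroup.inclusion le_sup_left ⟨y, Subgroup.mem_zpowers y⟩
  let d : ↥(Subgroup.zpowers y ⊔ E) := ⟨e, hle ⟨heS, he⟩⟩
  have hY : ψ Y = z := (hag _).trans hφy
  have hd : ψ d * z = z * ψ d := hzc _ (val_mem hψ d)
  have h1 : ψ (Y * d) = ψ (d * Y) := by rw [map_mul, map_mul, hY, hd]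
  exact congrArg Subtype.val (F.injective_of_mem hψ h1)

end Step

/-- Elements of a 2-group all of whose elements are fused into the centre commute. -/
theorem mul_comm_of_all_fused_central [Finite S] (hS : IsPGroup 2 S) (hF : F.IsSaturated 2)
    (h : ∀ x ∈ S, ∃ z ∈ S ⊓ Subgroup.centralizer (S : Set Ω), F.IsConjElt x z) :
    IsMulCommutative S := by
  have key : ∀ k : ℕ, ∀ x ∈ S, x ^ (2 ^ k) = 1 → x ∈ Subgroup.centralizer (S : Set Ω) := by
    intro k
    induction k with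
    | zero =>
      intro x _ hx
      rw [pow_zero, pow_one] at hx
      rw [hx]
      exact Subgroup.one_mem _
    | succ k ih => exact fun x hx hxe => mem_centralizer_of_pow_succ hS hF h ih hx hxe
  refine ⟨⟨fun a b => Subtype.ext ?_⟩⟩
  obtain ⟨k, hk⟩ := hS b
  exact key k b b.2 (by simpa using congrArg Subtype.val hk) a a.2

end Cfsg.Agent.Lib.Fusion.AllFusedCentral
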