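import Mathlib

/-!
Permutations of `(ι × ZMod p) ⊕ ρ` respecting the blocks: translations `tr`, lifts `la` of
permutations of `ι`, block multiplications `mu`, and the Sylow subgroup `blockSylow`.
-/

set_option autoImplicit false

namespace Cfsg.Agent.Lib.Fusion.AltBlocks

variable {ι ρ : Type*} {p : ℕ}

/-- The underlying set: blocks of size `p` and some further points. -/
abbrev Pts (ι : Type*) (p : ℕ) (ρ : Type*) := (ι × ZMod p) ⊕ ρ

/-- Translation in each block. -/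
def tr (t : ι → ZMod p) : Equiv.Perm (Pts ι p ρ) :=
  Equiv.sumCongr (Equiv.prodCongrRight fun i => Equiv.addRight (t i)) (Equiv.refl ρ)

/-- A permutation of the blocks. -/
def la (σ : Equiv.Perm ι) : Equiv.Perm (Pts ι p ρ) :=
  Equiv.sumCongr (Equiv.prodCongrLeft fun _ => σ) (Equiv.refl ρ)

/-- Multiplication in each block. -/
def mu (e : ι → (ZMod p)ˣ) : Equiv.Perm (Pts ι p ρ) :=
  Equiv.sumCongr (Equiv.prodCongrRight fun i => Units.mulLeft (e i)) (Equiv.refl ρ)

@[simp] theorem tr_inl (t : ι → ZMod p) (i : ι) (x : ZMod p) :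
    (tr t : Equiv.Perm (Pts ι p ρ)) (Sum.inl (i, x)) = Sum.inl (i, x + t i) := rfl

@[simp] theorem tr_inr (t : ι → ZMod p) (r : ρ) :
    (tr t : Equiv.Perm (Pts ι p ρ)) (Sum.inr r) = Sum.inr r := rfl

@[simp] theorem la_inl (σ : Equiv.Perm ι) (i : ι) (x : ZMod p) :
    (la σ : Equiv.Perm (Pts ι p ρ)) (Sum.inl (i, x)) = Sum.inl (σ i, x) := rfl

@[simp] theorem la_inr (σ : Equiv.Perm ι) (r : ρ) :
    (la σ : Equiv.Perm (Pts ι p ρ)) (Sum.inr r) = Sum.inr r := rfl

@[simp] theorem mu_inl (e : ι → (ZMod p)ˣ) (i : ι) (x : ZMod p) :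
    (mu e : Equiv.Perm (Pts ι p ρ)) (Sum.inl (i, x)) = Sum.inl (i, (e i : ZMod p) * x) := rfl

@[simp] theorem mu_inr (e : ι → (ZMod p)ˣ) (r : ρ) :
    (mu e : Equiv.Perm (Pts ι p ρ)) (Sum.inr r) = Sum.inr r := rfl

theorem perm_ext {g h : Equiv.Perm (Pts ι p ρ)} (h1 : ∀ i x, g (Sum.inl (i, x)) = h (Sum.inl (i, x)))
    (h2 : ∀ r, g (Sum.inr r) = h (Sum.inr r)) : g = h := by
  refine Equiv.ext fun a => ?_
  rcases a with ⟨i, x⟩ | r
  · exact h1 i x
  · exact h2 r

theorem tr_mul (s t : ι → ZMod p) : (tr s * tr t : Equiv.Perm (Pts ι p ρ)) = tr (t + s) :=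
  perm_ext (fun i x => by simp [add_assoc]) fun r => by simp

theorem tr_zero : (tr (0 : ι → ZMod p) : Equiv.Perm (Pts ι p ρ)) = 1 :=
  perm_ext (fun i x => by simp) fun r => by simp

theorem tr_inv (t : ι → ZMod p) : (tr t : Equiv.Perm (Pts ι p ρ))⁻¹ = tr (-t) :=
  inv_eq_of_mul_eq_one_right (by rw [tr_mul, neg_add_cancel, tr_zero])

theorem tr_pow (t : ι → ZMod p) (k : ℕ) :
    (tr t : Equiv.Perm (Pts ι p ρ)) ^ k = tr (k • t) := by
  induction k with
  | zero => rw [pow_zero, zero_smul, tr_zero]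
  | succ k ih => rw [pow_succ', ih, tr_mul, add_smul, one_smul]

theorem tr_pow_prime (t : ι → ZMod p) : (tr t : Equiv.Perm (Pts ι p ρ)) ^ p = 1 := by
  rw [tr_pow]
  convert tr_zero (ι := ι) (ρ := ρ) (p := p) using 2
  funext i
  simp

theorem tr_injective : Function.Injective (tr : (ι → ZMod p) → Equiv.Perm (Pts ι p ρ)) := by
  intro s t h
  funext i
  have := DFunLike.congr_fun h (Sum.inl (i, 0))
  simpa using this

theorem la_mul (σ τ : Equiv.Perm ι) : (la σ * la τ : Equiv.Perm (Pts ι p ρ)) = la (σ * τ) :=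
  perm_ext (fun i x => by simp) fun r => by simp

/-- `la` as a homomorphism. -/
def laHom : Equiv.Perm ι →* Equiv.Perm (Pts ι p ρ) :=
  MonoidHom.mk' la fun σ τ => (la_mul σ τ).symm

theorem la_one : (la 1 : Equiv.Perm (Pts ι p ρ)) = 1 :=
  perm_ext (fun i x => by simp) fun r => by simp

theorem la_inv (σ : Equiv.Perm ι) : (la σ : Equiv.Perm (Pts ι p ρ))⁻¹ = la σ⁻¹ :=
  (map_inv laHom σ).symm

theorem la_pow (σ : Equiv.Perm ι) (k : ℕ) : (la σ : Equiv.Perm (Pts ι p ρ)) ^ k = la (σ ^ k) :=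
  (map_pow laHom σ k).symm

theorem mu_mul (e f : ι → (ZMod p)ˣ) : (mu e * mu f : Equiv.Perm (Pts ι p ρ)) = mu (e * f) :=
  perm_ext (fun i x => by simp [mul_assoc]) fun r => by simp

theorem mu_one : (mu (1 : ι → (ZMod p)ˣ) : Equiv.Perm (Pts ι p ρ)) = 1 :=
  perm_ext (fun i x => by simp) fun r => by simp

theorem mu_inv (e : ι → (ZMod p)ˣ) : (mu e : Equiv.Perm (Pts ι p ρ))⁻¹ = mu e⁻¹ :=
  inv_eq_of_mul_eq_one_right (by rw [mu_mul, mul_inv_cancel, mu_one])

theorem la_conj_tr (σ : Equiv.Perm ι) (t : ι → ZMod p) :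
    (la σ * tr t * (la σ)⁻¹ : Equiv.Perm (Pts ι p ρ)) = tr fun i => t (σ⁻¹ i) := by
  rw [la_inv]
  exact perm_ext (fun i x => by simp) fun r => by simp

theorem mu_conj_tr (e : ι → (ZMod p)ˣ) (t : ι → ZMod p) :
    (mu e * tr t * (mu e)⁻¹ : Equiv.Perm (Pts ι p ρ)) = tr fun i => (e i : ZMod p) * t i := by
  rw [mu_inv]
  exact perm_ext (fun i x => by simp [mul_add]) fun r => by simp

theorem la_conj_mu (σ : Equiv.Perm ι) (e : ι → (ZMod p)ˣ) :
    (la σ * mu e * (la σ)⁻¹ : Equiv.Perm (Pts ι p ρ)) = mu fun i => e (σ⁻¹ i) := by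
  rw [la_inv]
  exact perm_ext (fun i x => by simp) fun r => by simp

theorem la_injective [NeZero p] : Function.Injective (la : Equiv.Perm ι → Equiv.Perm (Pts ι p ρ)) := by
  intro σ τ h
  ext i
  have := DFunLike.congr_fun h (Sum.inl (i, 0))
  simpa using this

/-- The subgroup of translations. -/
def trGroup (ι : Type*) (p : ℕ) (ρ : Type*) : Subgroup (Equiv.Perm (Pts ι p ρ)) where
  carrier := Set.range tr
  one_mem' := ⟨0, tr_zero⟩
  mul_mem' := by rintro _ _ ⟨s, rfl⟩ ⟨t, rfl⟩; exact ⟨t + s, (tr_mul s t).symm⟩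
  inv_mem' := by rintro _ ⟨t, rfl⟩; exact ⟨-t, (tr_inv t).symm⟩

theorem tr_mem (t : ι → ZMod p) : tr t ∈ trGroup ι p ρ := ⟨t, rfl⟩

/-- Translations and lifts of a group of permutations of the blocks. -/
def blockSylow (p : ℕ) (ρ : Type*) (Q : Subgroup (Equiv.Perm ι)) :
    Subgroup (Equiv.Perm (Pts ι p ρ)) where
  carrier := {g | ∃ t, ∃ q ∈ Q, g = tr t * la q}
  one_mem' := ⟨0, 1, Q.one_mem, by rw [tr_zero, la_one, mul_one]⟩
  mul_mem' := by
    rintro _ _ ⟨s, q, hq, rfl⟩ ⟨t, r, hr, rfl⟩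
    refine ⟨(fun i => t (q⁻¹ i)) + s, q * r, Q.mul_mem hq hr, ?_⟩
    rw [← tr_mul, ← la_mul, ← la_conj_tr]
    group
  inv_mem' := by
    rintro _ ⟨s, q, hq, rfl⟩
    refine ⟨fun i => (-s) (q i), q⁻¹, Q.inv_mem hq, ?_⟩
    have h := la_conj_tr (p := p) (ρ := ρ) q⁻¹ (-s)
    rw [inv_inv, la_inv, inv_inv] at h
    rw [← h, mul_inv_rev, tr_inv, la_inv, mul_assoc, la_mul, mul_inv_cancel, la_one, mul_one]

theorem mem_blockSylow {Q : Subgroup (Equiv.Perm ι)} {g : Equiv.Perm (Pts ι p ρ)} :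
    g ∈ blockSylow p ρ Q ↔ ∃ t, ∃ q ∈ Q, g = tr t * la q := Iff.rfl

theorem tr_mem_blockSylow (Q : Subgroup (Equiv.Perm ι)) (t : ι → ZMod p) :
    (tr t : Equiv.Perm (Pts ι p ρ)) ∈ blockSylow p ρ Q :=
  ⟨t, 1, Q.one_mem, by rw [la_one, mul_one]⟩

theorem la_mem_blockSylow {Q : Subgroup (Equiv.Perm ι)} {q : Equiv.Perm ι} (hq : q ∈ Q) :
    (la q : Equiv.Perm (Pts ι p ρ)) ∈ blockSylow p ρ Q :=
  ⟨0, q, hq, by rw [tr_zero, one_mul]⟩

theorem card_blockSylow [NeZero p] [Fintype ι] [Finite ρ] (Q : Subgroup (Equiv.Perm ι)) :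
    Nat.card (blockSylow p ρ Q) = p ^ Fintype.card ι * Nat.card Q := by
  let f : (ι → ZMod p) × Q → blockSylow p ρ Q := fun z =>
    ⟨tr z.1 * la (z.2 : Equiv.Perm ι), z.1, z.2, z.2.2, rfl⟩
  have hf : Function.Bijective f := by
    constructor
    · rintro ⟨t, q⟩ ⟨s, r⟩ h
      have h' : (tr t * la (q : Equiv.Perm ι) : Equiv.Perm (Pts ι p ρ)) = tr s * la (r : Equiv.Perm ι) :=
        congrArg Subtype.val h
      have hqr : (q : Equiv.Perm ι) = r := by
        ext i
        have := DFunLike.congr_fun h' (Sum.inl (i, 0))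
        simp at this
        exact this.1
      rw [hqr, mul_left_inj] at h'
      exact Prod.ext (tr_injective h') (Subtype.ext hqr)
    · rintro ⟨_, t, q, hq, rfl⟩
      exact ⟨(t, ⟨q, hq⟩), rfl⟩
  rw [← Nat.card_congr (Equiv.ofBijective f hf), Nat.card_prod, Nat.card_fun, Nat.card_zmod,
    Nat.card_eq_fintype_card]

theorem card_pts [NeZero p] [Fintype ι] [Fintype ρ] :
    Nat.card (Pts ι p ρ) = p * Fintype.card ι + Fintype.card ρ := by
  rw [Nat.card_sum, Nat.card_prod, Nat.card_zmod, Nat.card_eq_fintype_card, Nat.card_eq_fintype_card,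
    mul_comm]

variable [Fact p.Prime]

theorem isPGroup_blockSylow [Fintype ι] [Finite ρ] {Q : Subgroup (Equiv.Perm ι)} (hQ : IsPGroup p Q) :
    IsPGroup p (blockSylow p ρ Q) := by
  obtain ⟨k, hk⟩ := IsPGroup.iff_card.1 hQ
  exact IsPGroup.of_card (n := Fintype.card ι + k) (by rw [card_blockSylow, hk, pow_add])

theorem factorization_factorial_block (k r : ℕ) (hr : r < p) :
    (p * k + r).factorial.factorization p = k.factorial.factorization p + k := by
  have h := padicValNat_factorial_mul_add (p := p) (n := r) k hr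
  rw [padicValNat_factorial_mul] at h
  simpa [Nat.factorization_def _ (Fact.out : p.Prime)] using h

/-- Over a Sylow subgroup, `blockSylow` is a Sylow subgroup. -/
theorem not_dvd_index_blockSylow [Fintype ι] [Fintype ρ] (hρ : Fintype.card ρ < p)
    (Q : Sylow p (Equiv.Perm ι)) : ¬ p ∣ (blockSylow p ρ (Q : Subgroup (Equiv.Perm ι))).index := by
  have hp := (Fact.out : p.Prime)
  have h1 := (blockSylow p ρ (Q : Subgroup (Equiv.Perm ι))).card_mul_index
  rw [card_blockSylow, Q.card_eq_multiplicity, ← pow_add, Nat.card_perm, Nat.card_perm, card_pts,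
    Nat.card_eq_fintype_card] at h1
  intro hdvd
  obtain ⟨c, hc⟩ := hdvd
  have h2 : p ^ (Fintype.card ι + (Fintype.card ι).factorial.factorization p + 1) ∣
      (p * Fintype.card ι + Fintype.card ρ).factorial := ⟨c, by rw [← h1, hc, pow_succ]; ring⟩
  have h3 := (hp.pow_dvd_iff_le_factorization (Nat.factorial_ne_zero _)).1 h2
  rw [factorization_factorial_block _ _ hρ] at h3
  omega

theorem sign_eq_one_of_pow {α : Type*} [Fintype α] [DecidableEq α] (hp2 : p ≠ 2) {g : Equiv.Perm α}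
    {k : ℕ} (h : g ^ p ^ k = 1) : Equiv.Perm.sign g = 1 := by
  have ho : Odd (p ^ k) := ((Fact.out : p.Prime).odd_of_ne_two hp2).pow
  have h1 := congrArg Equiv.Perm.sign h
  rw [map_pow, map_one] at h1
  rcases Int.units_eq_one_or (Equiv.Perm.sign g) with h2 | h2
  · exact h2
  · rw [h2, ho.neg_one_pow] at h1
    exact absurd h1 (by decide)

theorem isConj_of_pow_prime {α : Type*} [Fintype α] [DecidableEq α] {x y : Equiv.Perm α}
    (hx : x ^ p = 1) (hy : y ^ p = 1) (hc : x.support.card = y.support.card) : IsConj x y := by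
  have hp := (Fact.out : p.Prime)
  rw [Equiv.Perm.isConj_iff_cycleType_eq, Equiv.Perm.cycleType_of_pow_prime_eq_one hx,
    Equiv.Perm.cycleType_of_pow_prime_eq_one hy]
  congr 1
  have h1 := x.sum_cycleType
  have h2 := y.sum_cycleType
  rw [Equiv.Perm.cycleType_of_pow_prime_eq_one hx, Multiset.sum_replicate, smul_eq_mul] at h1
  rw [Equiv.Perm.cycleType_of_pow_prime_eq_one hy, Multiset.sum_replicate, smul_eq_mul] at h2
  exact Nat.eq_of_mul_eq_mul_right hp.pos (by rw [h1, h2, hc])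

section Sign

variable [Fintype ι] [DecidableEq ι] [Fintype ρ] [DecidableEq ρ]

theorem sign_la (σ : Equiv.Perm ι) :
    Equiv.Perm.sign (la σ : Equiv.Perm (Pts ι p ρ)) = Equiv.Perm.sign σ ^ p := by
  rw [la, Equiv.Perm.sign_sumCongr, Equiv.Perm.sign_prodCongrLeft, Equiv.Perm.sign_refl, mul_one,
    Finset.prod_const, Finset.card_univ, ZMod.card]

/-- Sign of a multiplication of `ZMod p`. -/
def mulSign (p : ℕ) [Fact p.Prime] : (ZMod p)ˣ →* ℤˣ where
  toFun u := Equiv.Perm.sign (Units.mulLeft u)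
  map_one' := by
    rw [show Units.mulLeft (1 : (ZMod p)ˣ) = 1 from Equiv.ext fun x => by simp, map_one]
  map_mul' u v := by
    rw [← map_mul]
    exact congrArg _ (Equiv.ext fun x => by simp [mul_assoc])

theorem sign_mu (e : ι → (ZMod p)ˣ) :
    Equiv.Perm.sign (mu e : Equiv.Perm (Pts ι p ρ)) = mulSign p (∏ i, e i) := by
  rw [mu, Equiv.Perm.sign_sumCongr, Equiv.Perm.sign_prodCongrRight, Equiv.Perm.sign_refl, mul_one,
    map_prod]
  rfl

theorem sign_tr_of_odd (hp2 : p ≠ 2) (t : ι → ZMod p) :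
    Equiv.Perm.sign (tr t : Equiv.Perm (Pts ι p ρ)) = 1 :=
  sign_eq_one_of_pow hp2 (k := 1) (by rw [pow_one]; exact tr_pow_prime t)

theorem support_tr (t : ι → ZMod p) :
    (tr t : Equiv.Perm (Pts ι p ρ)).support =
      ((Finset.univ.filter fun i => t i ≠ 0) ×ˢ Finset.univ).map Function.Embedding.inl := by
  ext a
  rcases a with ⟨i, x⟩ | r <;> simp

theorem card_support_tr (t : ι → ZMod p) :
    (tr t : Equiv.Perm (Pts ι p ρ)).support.card =
      (Finset.univ.filter fun i => t i ≠ 0).card * p := by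
  rw [support_tr, Finset.card_map, Finset.card_product, Finset.card_univ, ZMod.card]

end Sign

end Cfsg.Agent.Lib.Fusion.AltBlocks
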