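import Cfsg.Agent.Lib.Fusion.AltSylow

/-!
A subgroup of the block Sylow subgroup, closed under fusion in the alternating group and containing
a nontrivial translation, contains every even element of that Sylow subgroup.
-/

set_option autoImplicit false

namespace Cfsg.Agent.Lib.Fusion.AltBlocks

theorem zmod2_eq_one : ∀ x : ZMod 2, x ≠ 0 → x = 1 := by decide

theorem zmod2_one_add_one : (1 : ZMod 2) + 1 = 0 := by decide

variable {ι ρ : Type*} [Fintype ι] [DecidableEq ι] [Fintype ρ] [DecidableEq ρ]
variable {p : ℕ} [Fact p.Prime]

/-- Translation by `1` on a set of blocks. -/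
def onSet (p : ℕ) (A : Finset ι) : ι → ZMod p := fun i => if i ∈ A then 1 else 0

theorem card_support_onSet (A : Finset ι) :
    (tr (onSet p A) : Equiv.Perm (Pts ι p ρ)).support.card = A.card * p := by
  rw [card_support_tr]
  congr 2
  ext i
  simp [onSet]

theorem sign_addRight_two : ∀ x : ZMod 2,
    Equiv.Perm.sign (Equiv.addRight x) = if x = 0 then 1 else -1 := by decide

theorem sign_tr_two (t : ι → ZMod 2) :
    Equiv.Perm.sign (tr t : Equiv.Perm (Pts ι 2 ρ)) =
      (-1) ^ (Finset.univ.filter fun i => t i ≠ 0).card := by
  rw [tr, Equiv.Perm.sign_sumCongr, Equiv.Perm.sign_prodCongrRight, Equiv.Perm.sign_refl, mul_one]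
  simp only [sign_addRight_two]
  rw [Finset.prod_ite, Finset.prod_const_one, one_mul, Finset.prod_const]

theorem sign_tr_single_pair (hp : p = 2) {i j : ι} (h : i ≠ j) :
    Equiv.Perm.sign (tr (Pi.single i 1 + Pi.single j 1) : Equiv.Perm (Pts ι p ρ)) = 1 := by
  subst hp
  rw [← tr_mul, map_mul]
  have : ∀ i : ι, Equiv.Perm.sign (tr (Pi.single i (1 : ZMod 2)) : Equiv.Perm (Pts ι 2 ρ)) = -1 := by
    intro i
    rw [sign_tr_two, show (Finset.univ.filter fun j => (Pi.single i (1 : ZMod 2) : ι → ZMod 2) j ≠ 0) =
      {i} by ext j; simp [Pi.single_apply]]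
    simp
  rw [this, this]
  rfl

/-- A fusion-closed subgroup with a nontrivial translation is everything even. -/
theorem le_of_closed (hk : 3 ≤ Fintype.card ι) {Q : Subgroup (Equiv.Perm ι)} (hQ : GenPrime p Q)
    (hswap : p = 2 → ∃ a b, a ≠ b ∧ Equiv.swap a b ∈ Q)
    (T : Subgroup (Equiv.Perm (Pts ι p ρ))) (hTP : T ≤ blockSylow p ρ Q ⊓ alternatingGroup (Pts ι p ρ))
    (hclosed : ∀ g : Equiv.Perm (Pts ι p ρ), Equiv.Perm.sign g = 1 → ∀ t ∈ T,
      g * t * g⁻¹ ∈ blockSylow p ρ Q → g * t * g⁻¹ ∈ T)
    {t₀ : ι → ZMod p} (h0 : t₀ ≠ 0) (ht₀ : tr t₀ ∈ T) :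
    blockSylow p ρ Q ⊓ alternatingGroup (Pts ι p ρ) ≤ T := by
  have hp := (Fact.out : p.Prime)
  have hto : ∀ x ∈ T, x ^ p = 1 → ∀ t : ι → ZMod p,
      x.support.card = (tr t : Equiv.Perm (Pts ι p ρ)).support.card → tr t ∈ T := by
    intro x hx hxp t hc
    obtain ⟨g, hg, hgx⟩ := exists_even_conj hk hxp hc
    exact hgx ▸ hclosed g hg x hx (hgx.symm ▸ tr_mem_blockSylow Q t)
  have hfrom : ∀ y ∈ blockSylow p ρ Q, y ^ p = 1 → ∀ t : ι → ZMod p, tr t ∈ T →
      y.support.card = (tr t : Equiv.Perm (Pts ι p ρ)).support.card → y ∈ T := by
    intro y hy hyp t ht hc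
    obtain ⟨g, hg, hgy⟩ := exists_even_conj hk hyp hc
    have he : g⁻¹ * tr t * (g⁻¹)⁻¹ = y := by rw [← hgy]; group
    exact he ▸ hclosed g⁻¹ (by rw [map_inv, hg, inv_one]) _ ht (he.symm ▸ hy)
  set m := (Finset.univ.filter fun i => t₀ i ≠ 0).card with hm
  have hm0 : m ≠ 0 := by
    intro h
    refine h0 (funext fun i => ?_)
    rw [hm, Finset.card_eq_zero, Finset.filter_eq_empty_iff] at h
    simpa using h (Finset.mem_univ i)
  have hW : ∀ t : ι → ZMod p, (Finset.univ.filter fun i => t i ≠ 0).card = m → tr t ∈ T := fun t ht =>
    hto _ ht₀ (tr_pow_prime t₀) t (by rw [card_support_tr, card_support_tr, ht])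
  have hadd : ∀ s t : ι → ZMod p, tr s ∈ T → tr t ∈ T → tr (s + t) ∈ T := fun s t hs ht => by
    rw [← tr_mul]; exact mul_mem ht hs
  have hmain : ∀ A : Finset ι, (p = 2 → Even A.card) → tr (onSet p A) ∈ T := by
    by_cases hp2 : p = 2
    · subst hp2
      have hmev : Even m := by
        have h1 : Equiv.Perm.sign (tr t₀ : Equiv.Perm (Pts ι 2 ρ)) = 1 :=
          Equiv.Perm.mem_alternatingGroup.1 (hTP ht₀).2
        rw [sign_tr_two] at h1
        exact neg_one_pow_eq_one_iff_even (by decide) |>.1 h1
      have hpair : ∀ a b : ι, a ≠ b → tr (Pi.single a 1 + Pi.single b 1) ∈ T := by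
        have hsupp : ∀ a b : ι, a ≠ b →
            (tr (Pi.single a (1 : ZMod 2) + Pi.single b 1) : Equiv.Perm (Pts ι 2 ρ)).support.card = 4 := by
          intro a b hab
          rw [card_support_tr, show (Finset.univ.filter fun i =>
            (Pi.single a (1 : ZMod 2) + Pi.single b 1 : ι → ZMod 2) i ≠ 0) = {a, b} by
              ext i; by_cases ha : i = a <;> by_cases hb : i = b <;>
                simp_all [Pi.single_apply]]
          rw [Finset.card_pair hab]
        obtain ⟨x, hxT, hxp, hxc⟩ : ∃ x ∈ T, x ^ 2 = 1 ∧ x.support.card = 4 := by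
          by_cases hmk : m < Fintype.card ι
          · obtain ⟨i, hi⟩ : ∃ i, t₀ i ≠ 0 := by
              by_contra h
              push Not at h
              exact h0 (funext h)
            obtain ⟨j, hj⟩ : ∃ j, t₀ j = 0 := by
              by_contra h
              push Not at h
              rw [hm, Finset.filter_true_of_mem (fun x _ => h x), Finset.card_univ] at hmk
              exact lt_irrefl _ hmk
            have hij : i ≠ j := fun h => hi (h ▸ hj)
            have hi1 : t₀ i = 1 := by
              exact zmod2_eq_one _ hi
            set t₁ : ι → ZMod 2 := fun l => t₀ (Equiv.swap i j l) with ht₁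
            have h1 : tr t₁ ∈ T := by
              refine hW t₁ ?_
              rw [hm]
              refine Finset.card_equiv (Equiv.swap i j) fun l => ?_
              simp [ht₁]
            refine ⟨_, hadd _ _ ht₀ h1, tr_pow_prime _, ?_⟩
            rw [show t₀ + t₁ = Pi.single i 1 + Pi.single j 1 from ?_, hsupp i j hij]
            funext l
            simp only [Pi.add_apply, ht₁]
            by_cases hli : l = i
            · subst hli; simp [hij, hi1, hj]
            · by_cases hlj : l = j
              · subst hlj; simp [hli, hi1, hj]
              · rw [Equiv.swap_apply_of_ne_of_ne hli hlj, CharTwo.add_self_eq_zero]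
                simp [hli, hlj]
          · obtain ⟨a, b, hab, hQab⟩ := hswap rfl
            have hall : tr (onSet 2 (Finset.univ : Finset ι)) ∈ T := hW _ (by
              rw [hm] at hmk ⊢
              have h1 : (Finset.univ.filter fun i => t₀ i ≠ 0).card ≤ Fintype.card ι :=
                Finset.card_le_univ _
              have h2 : (Finset.univ.filter fun i => onSet 2 (Finset.univ : Finset ι) i ≠ 0) =
                  Finset.univ := Finset.filter_true_of_mem fun i _ => by simp [onSet]
              rw [h2, Finset.card_univ]
              omega)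
            set s : ι → ZMod 2 := fun i => if i = a ∨ i = b then 0 else 1 with hs
            set y : Equiv.Perm (Pts ι 2 ρ) := tr s * la (Equiv.swap a b) with hy
            have hyP : y ∈ blockSylow 2 ρ Q := ⟨s, _, hQab, rfl⟩
            have hyp : y ^ 2 = 1 := by
              rw [sq]
              refine perm_ext (fun i x => ?_) fun r => ?_
              · simp only [hy, Equiv.Perm.coe_mul, Function.comp_apply, la_inl, tr_inl,
                  Equiv.swap_apply_self, Equiv.Perm.one_apply, Sum.inl.injEq, Prod.mk.injEq, true_and]
                have : s (Equiv.swap a b i) = s i := by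
                  by_cases ha : i = a
                  · subst ha; simp [hs]
                  · by_cases hb : i = b
                    · subst hb; simp [hs]
                    · rw [Equiv.swap_apply_of_ne_of_ne ha hb]
                rw [this, add_assoc, CharTwo.add_self_eq_zero, add_zero]
              · simp [hy]
            have hyT : y ∈ T := hfrom y hyP hyp _ hall (by
              rw [card_support_blocks hyP, card_support_onSet]
              congr 2
              refine Finset.filter_true_of_mem fun i _ => ?_
              simp only [hy, Equiv.Perm.coe_mul, Function.comp_apply, la_inl, tr_inl, zero_add, Ne,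
                Sum.inl.injEq, Prod.mk.injEq, hs]
              by_cases ha : i = a
              · subst ha; simp [hab.symm]
              · by_cases hb : i = b
                · subst hb; simp [hab]
                · simp [Equiv.swap_apply_of_ne_of_ne ha hb, ha, hb])
            set z : Equiv.Perm (Pts ι 2 ρ) := tr (onSet 2 ({a, b} : Finset ι)) * la (Equiv.swap a b)
              with hz
            have hzy : tr (onSet 2 (Finset.univ : Finset ι)) * y = z := by
              rw [hy, hz, ← mul_assoc, tr_mul]
              congr 2
              funext i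
              by_cases h : i = a ∨ i = b
              · simp [hs, onSet, h]
              · simp [hs, onSet, h, zmod2_one_add_one]
            have hzT : z ∈ T := hzy ▸ mul_mem hall hyT
            refine ⟨z, hzT, ?_, ?_⟩
            · rw [sq]
              refine perm_ext (fun i x => ?_) fun r => ?_
              · simp only [hz, Equiv.Perm.coe_mul, Function.comp_apply, la_inl, tr_inl,
                  Equiv.swap_apply_self, Equiv.Perm.one_apply, Sum.inl.injEq, Prod.mk.injEq, true_and]
                have : onSet 2 ({a, b} : Finset ι) (Equiv.swap a b i) =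
                    onSet 2 ({a, b} : Finset ι) i := by
                  by_cases ha : i = a
                  · subst ha; simp [onSet]
                  · by_cases hb : i = b
                    · subst hb; simp [onSet]
                    · rw [Equiv.swap_apply_of_ne_of_ne ha hb]
                rw [this, add_assoc, CharTwo.add_self_eq_zero, add_zero]
              · simp [hz]
            · rw [card_support_blocks (Q := Q) ⟨_, _, hQab, rfl⟩,
                show blockSupp z = {a, b} from ?_, Finset.card_pair hab]
              ext i
              simp only [blockSupp, hz, Finset.mem_filter, Finset.mem_univ, true_and,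
                Equiv.Perm.coe_mul, Function.comp_apply, la_inl, tr_inl, zero_add, Ne, Sum.inl.injEq,
                Prod.mk.injEq, Finset.mem_insert, Finset.mem_singleton]
              by_cases ha : i = a
              · subst ha; simp [onSet]
              · by_cases hb : i = b
                · subst hb; simp [onSet]
                · simp [Equiv.swap_apply_of_ne_of_ne ha hb, ha, hb, onSet]
        exact fun a b hab => hto x hxT hxp _ (by rw [hxc, hsupp a b hab])
      intro A
      induction hA : A.card using Nat.strong_induction_on generalizing A with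
      | _ n ih =>
        intro hev
        subst hA
        rcases A.eq_empty_or_nonempty with rfl | ⟨a, ha⟩
        · convert T.one_mem
          rw [← tr_zero]
          congr 1
        · obtain ⟨b, hb⟩ : (A.erase a).Nonempty := by
            rw [← Finset.card_pos, Finset.card_erase_of_mem ha]
            have h1 := Finset.card_pos.2 ⟨a, ha⟩
            obtain ⟨c, hc⟩ := hev rfl
            omega
          obtain ⟨hba, hbA⟩ := Finset.mem_erase.1 hb
          have hcard : ((A.erase a).erase b).card = A.card - 2 := by
            rw [Finset.card_erase_of_mem hb, Finset.card_erase_of_mem ha]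
            omega
          have h2 := ih _ (by
            rw [hcard]; have := Finset.card_pos.2 ⟨a, ha⟩; omega) ((A.erase a).erase b) rfl
            (fun _ => by
              rw [hcard]
              obtain ⟨c, hc⟩ := hev rfl
              exact ⟨c - 1, by omega⟩)
          have h3 := hadd _ _ h2 (hpair a b (Ne.symm hba))
          convert h3 using 2
          funext i
          by_cases hia : i = a
          · subst hia; simp [onSet, ha, Ne.symm hba]
          · by_cases hib : i = b
            · subst hib; simp [onSet, hbA, hba]
            · simp [onSet, hia, hib]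
    · obtain ⟨A, hA⟩ : ∃ A : Finset ι, A = Finset.univ.filter fun i => t₀ i ≠ 0 := ⟨_, rfl⟩
      obtain ⟨i, hi⟩ : A.Nonempty := Finset.card_pos.1 (by rw [hA, ← hm]; omega)
      have h1 : tr (onSet p A) ∈ T := hW _ (by rw [hm, ← hA]; congr 1; ext l; simp [onSet])
      have h2 : tr (Function.update (onSet p A) i (-1)) ∈ T := hW _ (by
        rw [hm, ← hA]
        congr 1
        ext l
        by_cases hl : l = i
        · subst hl; simp [hi]
        · simp [Function.update_of_ne hl, onSet])
      have h3 : tr (Pi.single i (2 : ZMod p)) ∈ T := by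
        have hneg : tr (-(Function.update (onSet p A) i (-1))) ∈ T := tr_inv _ ▸ T.inv_mem h2
        convert hadd _ _ h1 hneg using 2
        funext l
        by_cases hl : l = i
        · subst hl
          simp [onSet, hi]
          norm_num
        · simp [Function.update_of_ne hl, hl]
      have h2ne : (2 : ZMod p) ≠ 0 := by
        intro h
        exact hp2 ((Nat.prime_dvd_prime_iff_eq hp Nat.prime_two).1
          ((CharP.cast_eq_zero_iff (ZMod p) p 2).1 (by exact_mod_cast h)))
      intro B _
      induction B using Finset.induction_on with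
      | empty =>
        convert T.one_mem
        rw [← tr_zero]
        congr 1
      | insert b B hb ih =>
        have h4 : tr (Pi.single b (1 : ZMod p)) ∈ T := hto _ h3 (tr_pow_prime _) _ (by
          rw [card_support_tr, card_support_tr]
          congr 1
          rw [show (Finset.univ.filter fun l => (Pi.single i (2 : ZMod p) : ι → ZMod p) l ≠ 0) = {i} by
              ext l; simp [Pi.single_apply, h2ne],
            show (Finset.univ.filter fun l => (Pi.single b (1 : ZMod p) : ι → ZMod p) l ≠ 0) = {b} by
              ext l; simp [Pi.single_apply]]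
          rfl)
        convert hadd _ _ h4 (ih fun h => absurd h hp2) using 2
        funext l
        by_cases hl : l = b
        · subst hl; simp [onSet, hb]
        · simp [onSet, hl]
  have hgen : ∀ y ∈ blockSylow p ρ Q, Equiv.Perm.sign y = 1 → y ^ p = 1 → y ∈ T := by
    intro y hy hys hyp
    have hc : y.support.card = (tr (onSet p (blockSupp y)) : Equiv.Perm (Pts ι p ρ)).support.card := by
      rw [card_support_blocks hy, card_support_onSet]
    refine hfrom y hy hyp _ (hmain _ fun h2 => ?_) hc
    obtain ⟨g, hg⟩ := isConj_iff.1 (isConj_of_pow_prime hyp (tr_pow_prime _) hc)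
    subst h2
    have hs := congrArg Equiv.Perm.sign hg
    rw [map_mul, map_mul, map_inv, hys, mul_one, mul_inv_cancel, sign_tr_two] at hs
    have := (neg_one_pow_eq_one_iff_even (by decide)).1 hs.symm
    rwa [show (Finset.univ.filter fun i => onSet 2 (blockSupp y) i ≠ 0) = blockSupp y by
      ext i; simp [onSet]] at this
  rintro g ⟨hg, hgs⟩
  by_cases hp2 : p = 2
  · subst hp2
    obtain ⟨t, q, hq, rfl⟩ := hg
    have hla : ∀ r : Equiv.Perm ι, Equiv.Perm.sign (la r : Equiv.Perm (Pts ι 2 ρ)) = 1 := fun r => by
      rw [sign_la, Int.units_pow_two]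
    refine mul_mem (hgen _ (tr_mem_blockSylow Q t) ?_ (tr_pow_prime t)) ?_
    · have h := Equiv.Perm.mem_alternatingGroup.1 hgs
      rwa [map_mul, hla, mul_one] at h
    · have hqm : laHom q ∈ Q.map (laHom (p := 2) (ρ := ρ)) := ⟨q, hq, rfl⟩
      refine (Subgroup.closure_le T).2 ?_ ((hQ.map laHom) hqm)
      rintro x ⟨⟨r, hr, rfl⟩, hx⟩
      exact hgen _ (la_mem_blockSylow hr) (hla r) hx
  · refine (Subgroup.closure_le T).2 ?_ (genPrime_blockSylow ρ hQ hg)
    rintro x ⟨hx, hxp⟩
    exact hgen x hx (sign_eq_one_of_pow hp2 (k := 1) (by rwa [pow_one])) hxp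

end Cfsg.Agent.Lib.Fusion.AltBlocks
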