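import Cfsg.Agent.Lib.Fusion.AltClosed

/-!
For odd `p`: the normalizer of the block Sylow subgroup in the alternating group is generated by the
Sylow subgroup and elements lying in the subgroup generated by the `p`-elements normalizing one of
two self-centralizing abelian subgroups (translations in blocks, translations in planes).
-/

set_option autoImplicit false

namespace Cfsg.Agent.Lib.Fusion.AltBlocks

open Equiv

/-- The `p`-elements normalizing `R`. -/
def normPElts (p : ℕ) {G : Type*} [Group G] (R : Subgroup G) : Set G :=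
  {x | (∀ r ∈ R, x * r * x⁻¹ ∈ R) ∧ x ^ p = 1}

/-- Elements normalizing `P` generated by `p`-elements normalizing some self-centralizing `R ≤ P`. -/
def goodSet (p : ℕ) {α : Type*} [Fintype α] [DecidableEq α] (P : Subgroup (Perm α)) : Set (Perm α) :=
  {h | Perm.sign h = 1 ∧ (∀ y ∈ P, h * y * h⁻¹ ∈ P) ∧ ∃ R : Subgroup (Perm α), R ≤ P ∧
    (∀ x : Perm α, (∀ r ∈ R, r * x = x * r) → x ∈ R) ∧ h ∈ Subgroup.closure (normPElts p R)}

variable {ι ρ : Type*} {p : ℕ} [Fact p.Prime]

theorem centralizer_trGroup [DecidableEq ι] [Subsingleton ρ] {x : Perm (Pts ι p ρ)}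
    (h : ∀ r ∈ trGroup ι p ρ, r * x = x * r) : x ∈ trGroup ι p ρ := by
  obtain ⟨t, rfl⟩ := eq_tr_of_commute (x := x) fun i z =>
    (DFunLike.congr_fun (h _ (tr_mem (Pi.single i 1))) z).symm
  exact tr_mem t

theorem la_mem_normPElts {σ : Perm ι} (hσ : σ ^ p = 1) :
    (la σ : Perm (Pts ι p ρ)) ∈ normPElts p (trGroup ι p ρ) := by
  refine ⟨?_, by rw [la_pow, hσ, la_one]⟩
  rintro _ ⟨t, rfl⟩
  exact ⟨_, (la_conj_tr σ t).symm⟩

section Block

variable [Fintype ι] [DecidableEq ι] [Fintype ρ] [DecidableEq ρ]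

/-- Even block permutations and block multiplications with product one are products of `p`-elements
normalizing the translations. -/
theorem la_mu_mem_closure (hp2 : p ≠ 2) (hk : p ≤ Fintype.card ι) {σ : Perm ι}
    (hσ : Perm.sign σ = 1) {e : ι → (ZMod p)ˣ} (he : ∏ i, e i = 1) :
    (la σ * mu e : Perm (Pts ι p ρ)) ∈ Subgroup.closure (normPElts p (trGroup ι p ρ)) := by
  have hp := (Fact.out : p.Prime)
  set C := Subgroup.closure (normPElts p (trGroup ι p ρ))
  have hla : ∀ s : Perm ι, Perm.sign s = 1 → (la s : Perm (Pts ι p ρ)) ∈ C := by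
    intro s hs
    have h1 := Subgroup.mem_map_of_mem (laHom (p := p) (ρ := ρ))
      (alternating_le_closure hp2 hk (Perm.mem_alternatingGroup.2 hs))
    rw [MonoidHom.map_closure] at h1
    refine (Subgroup.closure_le C).2 ?_ h1
    rintro _ ⟨x, hx, rfl⟩
    exact Subgroup.subset_closure (la_mem_normPElts hx)
  have hpair : ∀ (i j : ι) (u : (ZMod p)ˣ), i ≠ j →
      (mu (Pi.mulSingle i u * Pi.mulSingle j u⁻¹) : Perm (Pts ι p ρ)) ∈ C := by
    intro i j u hij
    obtain ⟨τ₀, hτ₀⟩ := exists_prime_orderOf_dvd_card' p (G := Perm ι)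
      (by rw [Nat.card_perm, Nat.card_eq_fintype_card]; exact hp.dvd_factorial.2 hk)
    obtain ⟨a, ha⟩ : ∃ a, τ₀ a ≠ a := by
      by_contra h
      push Not at h
      rw [show τ₀ = 1 from Equiv.ext h, orderOf_one] at hτ₀
      exact hp.ne_one hτ₀.symm
    set c : Perm ι := (Equiv.swap a i).trans (Equiv.swap ((Equiv.swap a i) (τ₀ a)) j) with hc
    have hca : c a = i := by
      rw [hc, Equiv.trans_apply, Equiv.swap_apply_left]
      exact Equiv.swap_apply_of_ne_of_ne
        (fun h => ha ((Equiv.swap a i).injective ((Equiv.swap_apply_left a i).trans h)).symm) hij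
    have hcb : c (τ₀ a) = j := by rw [hc, Equiv.trans_apply, Equiv.swap_apply_left]
    set τ := c * τ₀ * c⁻¹ with hτ
    have hτp : τ ^ p = 1 := by rw [hτ, conj_pow, ← hτ₀, pow_orderOf_eq_one]; simp
    have hτi : τ i = j := by rw [hτ, ← hca]; simp [hcb]
    set s : ι → (ZMod p)ˣ := Pi.mulSingle i u
    have h1 : mu s * la τ * (mu s)⁻¹ ∈ normPElts p (trGroup ι p ρ) := by
      refine ⟨?_, by rw [conj_pow, la_pow, hτp, la_one]; simp⟩
      rintro _ ⟨t, rfl⟩
      refine ⟨_, Eq.symm (Eq.trans ?_ (mu_conj_tr s (fun k => ((s⁻¹ (τ⁻¹ k) : (ZMod p)ˣ) : ZMod p) * t (τ⁻¹ k))))⟩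
      rw [← la_conj_tr τ (fun k => ((s⁻¹ k : (ZMod p)ˣ) : ZMod p) * t k), ← mu_conj_tr s⁻¹ t, ← mu_inv]
      group
    have h2 : (mu s * la τ * (mu s)⁻¹ * (la τ)⁻¹ : Perm (Pts ι p ρ)) ∈ C :=
      mul_mem (Subgroup.subset_closure h1) (inv_mem (Subgroup.subset_closure (la_mem_normPElts hτp)))
    convert h2 using 1
    rw [show (mu s * la τ * (mu s)⁻¹ * (la τ)⁻¹ : Perm (Pts ι p ρ)) =
      mu s * (la τ * (mu s)⁻¹ * (la τ)⁻¹) by group, mu_inv, la_conj_mu, mu_mul]
    congr 1
    funext k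
    simp only [Pi.mul_apply, Pi.inv_apply, s]
    congr 1
    by_cases hk' : k = j
    · subst hk'
      rw [Pi.mulSingle_eq_same, ← hτi]
      simp
    · rw [Pi.mulSingle_eq_of_ne hk', Pi.mulSingle_eq_of_ne, inv_one]
      intro h
      exact hk' (by rw [← hτi, ← h]; simp)
  obtain ⟨k⟩ : Nonempty ι := Fintype.card_pos_iff.1 (lt_of_lt_of_le hp.pos hk)
  have hmu : ∀ (A : Finset ι) (e : ι → (ZMod p)ˣ), ∏ i, e i = 1 →
      (∀ i, i ∉ A → i ≠ k → e i = 1) → (mu e : Perm (Pts ι p ρ)) ∈ C := by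
    intro A
    induction A using Finset.induction_on with
    | empty =>
      intro e he hs
      convert C.one_mem
      rw [← mu_one]
      congr 1
      funext i
      rcases eq_or_ne i k with rfl | hi
      · rwa [Finset.prod_eq_single i (fun j _ hj => hs j (by simp) hj) (by simp)] at he
      · exact hs i (by simp) hi
    | insert i A hiA ih =>
      intro e he hs
      by_cases hik : i = k
      · subst hik
        exact ih e he fun j hj hjk => hs j (by simp [hj, hjk]) hjk
      set d : ι → (ZMod p)ˣ := Pi.mulSingle i (e i) * Pi.mulSingle k (e i)⁻¹ with hd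
      have h1 := ih (e * d⁻¹) (by
        simp only [Pi.mul_apply, Pi.inv_apply, Finset.prod_mul_distrib, Finset.prod_inv_distrib, he, hd]
        simp) (fun j hj hjk => by
        rcases eq_or_ne j i with rfl | hji
        · simp [hd, hjk]
        · simp [hd, hjk, hji, hs j (by simp [hj, hji]) hjk])
      have h2 := mul_mem h1 (hpair i k (e i) hik)
      rwa [mu_mul, ← hd, inv_mul_cancel_right] at h2
  exact mul_mem (hla σ hσ) (hmu Finset.univ e he (by simp))

end Block

section Planes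

variable {ι' ρ' : Type*} [DecidableEq ι'] (O : Finset ι')

/-- Translations in the planes over `O` and in the remaining blocks. -/
def planeGroup : Subgroup (Perm (Pts (Pts ι' p ρ') p ρ)) where
  carrier := {g | ∃ (t : Pts ι' p ρ' → ZMod p) (s : ι' → ZMod p), (∀ i, i ∉ O → s i = 0) ∧
    (∀ i ∈ O, ∀ y, t (Sum.inl (i, y)) = t (Sum.inl (i, 0))) ∧ g = tr t * la (tr s)}
  one_mem' := ⟨0, 0, fun _ _ => rfl, fun _ _ _ => rfl, by rw [tr_zero, tr_zero, la_one, one_mul]⟩
  mul_mem' := by
    rintro _ _ ⟨t, s, hs, ht, rfl⟩ ⟨t', s', hs', ht', rfl⟩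
    refine ⟨t' + t, s' + s, fun i hi => by simp [hs i hi, hs' i hi],
      fun i hi y => by simp [ht i hi y, ht' i hi y], ?_⟩
    have hfix : (fun j => t' ((tr s : Perm (Pts ι' p ρ'))⁻¹ j)) = t' := by
      funext j
      rw [tr_inv]
      rcases j with ⟨i, y⟩ | r
      · by_cases hi : i ∈ O
        · rw [tr_inl, ht' i hi, ← ht' i hi y]
        · simp [hs i hi]
      · rfl
    rw [← tr_mul, ← tr_mul, ← la_mul, show tr t * la (tr s) * (tr t' * la (tr s')) =
      tr t * (la (tr s) * tr t' * (la (tr s))⁻¹) * (la (tr s) * la (tr s')) by group,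
      la_conj_tr, hfix, ← mul_assoc]
  inv_mem' := by
    rintro _ ⟨t, s, hs, ht, rfl⟩
    refine ⟨-t, -s, fun i hi => by simp [hs i hi],
      fun i hi y => by simp only [Pi.neg_apply, ht i hi y], ?_⟩
    have hfix : (fun j => (-t) ((tr s : Perm (Pts ι' p ρ'))⁻¹⁻¹ j)) = -t := by
      funext j
      rw [inv_inv]
      rcases j with ⟨i, y⟩ | r
      · by_cases hi : i ∈ O
        · simp only [tr_inl, Pi.neg_apply]
          rw [ht i hi, ← ht i hi y]
        · simp [hs i hi]
      · rfl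
    rw [← tr_inv t, ← tr_inv s, ← la_inv]
    calc (tr t * la (tr s))⁻¹
        = ((la (tr s))⁻¹ * (tr t)⁻¹ * (la (tr s))⁻¹⁻¹) * (la (tr s))⁻¹ := by group
      _ = _ := by rw [la_inv, tr_inv t, la_conj_tr, hfix]

theorem tr_mem_planeGroup {t : Pts ι' p ρ' → ZMod p}
    (ht : ∀ i ∈ O, ∀ y, t (Sum.inl (i, y)) = t (Sum.inl (i, 0))) :
    (tr t : Perm (Pts (Pts ι' p ρ') p ρ)) ∈ planeGroup O :=
  ⟨t, 0, fun _ _ => rfl, ht, by rw [tr_zero, la_one, mul_one]⟩

theorem la_mem_planeGroup {s : ι' → ZMod p} (hs : ∀ i, i ∉ O → s i = 0) :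
    (la (tr s) : Perm (Pts (Pts ι' p ρ') p ρ)) ∈ planeGroup O :=
  ⟨0, s, hs, fun _ _ _ => rfl, by rw [tr_zero, one_mul]⟩

theorem centralizer_planeGroup [Fintype ι'] [DecidableEq ρ'] [Fintype ρ'] [Fintype ρ] [Subsingleton ρ]
    {x : Perm (Pts (Pts ι' p ρ') p ρ)} (h : ∀ r ∈ planeGroup O, r * x = x * r) :
    x ∈ planeGroup O := by
  classical
  have hcomm : ∀ r ∈ planeGroup O, ∀ z, r (x z) = x (r z) := fun r hr z => DFunLike.congr_fun (h r hr) z
  let single : Pts ι' p ρ' → ZMod p → (Pts ι' p ρ' → ZMod p) := fun j c => Pi.single j c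
  -- blocks outside the planes
  have hout : ∀ j : Pts ι' p ρ', (∀ i ∈ O, ∀ y, j ≠ Sum.inl (i, y)) →
      ∃ c, x (Sum.inl (j, 0)) = Sum.inl (j, c) := by
    intro j hj
    have hm : (tr (single j 1) : Perm (Pts (Pts ι' p ρ') p ρ)) ∈ planeGroup O :=
      tr_mem_planeGroup O fun i hi y => by
        simp [single, (hj i hi y).symm, (hj i hi 0).symm]
    have h1 := hcomm _ hm (Sum.inl (j, 0))
    rcases hx : x (Sum.inl (j, 0)) with ⟨l, c⟩ | r
    · by_cases hlj : l = j
      · subst hlj; exact ⟨c, rfl⟩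
      · exfalso
        rw [hx, tr_inl, tr_inl] at h1
        simp only [single, Pi.single_eq_of_ne hlj, Pi.single_eq_same, add_zero, zero_add] at h1
        rw [← hx] at h1
        exact zero_ne_one (congrArg Prod.snd (Sum.inl_injective (x.injective h1)))
    · exfalso
      rw [hx, tr_inr, tr_inl] at h1
      simp only [single, Pi.single_eq_same, zero_add] at h1
      rw [← hx] at h1
      exact zero_ne_one (congrArg Prod.snd (Sum.inl_injective (x.injective h1)))
  -- the planes
  have hin : ∀ i ∈ O, ∃ d c, x (Sum.inl (Sum.inl (i, 0), 0)) = Sum.inl (Sum.inl (i, d), c) := by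
    intro i hi
    have hm : (la (tr (Pi.single i (1 : ZMod p))) : Perm (Pts (Pts ι' p ρ') p ρ)) ∈ planeGroup O :=
      la_mem_planeGroup O fun l hl => Pi.single_eq_of_ne (fun hh : l = i => hl (hh ▸ hi)) _
    have h1 := hcomm _ hm (Sum.inl (Sum.inl (i, 0), 0))
    have hne : x (Sum.inl (Sum.inl (i, (1 : ZMod p)), 0)) ≠ x (Sum.inl (Sum.inl (i, 0), 0)) :=
      fun hh => one_ne_zero (congrArg Prod.snd (Sum.inl_injective
        (congrArg Prod.fst (Sum.inl_injective (x.injective hh)))))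
    rcases hx : x (Sum.inl (Sum.inl (i, 0), 0)) with ⟨⟨l, d⟩ | r', c⟩ | r
    · by_cases hli : l = i
      · subst hli; exact ⟨d, c, rfl⟩
      · exfalso
        rw [hx, la_inl, la_inl, tr_inl, tr_inl, Pi.single_eq_of_ne hli, Pi.single_eq_same,
          add_zero, zero_add, ← hx] at h1
        exact hne h1.symm
    · exfalso
      rw [hx, la_inl, la_inl, tr_inr, tr_inl, Pi.single_eq_same, zero_add, ← hx] at h1
      exact hne h1.symm
    · exfalso
      rw [hx, la_inr, la_inl, tr_inl, Pi.single_eq_same, zero_add, ← hx] at h1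
      exact hne h1.symm
  choose d c hdc using hin
  choose b hb using hout
  let t : Pts ι' p ρ' → ZMod p := fun j =>
    if h : ∃ i ∈ O, ∃ y, j = Sum.inl (i, y) then c h.choose h.choose_spec.1
    else b j fun i hi y hj => h ⟨i, hi, y, hj⟩
  let s : ι' → ZMod p := fun i => if hi : i ∈ O then d i hi else 0
  have ht : ∀ i (hi : i ∈ O) y, t (Sum.inl (i, y)) = c i hi := by
    intro i hi y
    have hex : ∃ i' ∈ O, ∃ y', (Sum.inl (i, y) : Pts ι' p ρ') = Sum.inl (i', y') := ⟨i, hi, y, rfl⟩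
    simp only [t, dif_pos hex]
    obtain ⟨y', hy'⟩ := hex.choose_spec.2
    congr 1
    exact (congrArg Prod.fst (Sum.inl_injective hy')).symm
  set w : Perm (Pts (Pts ι' p ρ') p ρ) := tr t * la (tr s) with hw
  have hwR : w ∈ planeGroup O :=
    ⟨t, s, fun i hi => dif_neg hi, fun i hi y => by rw [ht i hi, ht i hi], rfl⟩
  have hfix : x = w := by
    refine perm_ext (fun j v => ?_) fun r => ?_
    · have hv : (Sum.inl (j, v) : Pts (Pts ι' p ρ') p ρ) = tr (fun _ => v) (Sum.inl (j, 0)) := by simp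
      by_cases hj : ∃ i ∈ O, ∃ y, j = Sum.inl (i, y)
      · obtain ⟨i, hi, y, rfl⟩ := hj
        have hr : (tr (fun _ : Pts ι' p ρ' => v) * la (tr (Pi.single i y)) :
            Perm (Pts (Pts ι' p ρ') p ρ)) ∈ planeGroup O :=
          mul_mem (tr_mem_planeGroup O fun _ _ _ => rfl)
            (la_mem_planeGroup O fun l hl => Pi.single_eq_of_ne (fun hh : l = i => hl (hh ▸ hi)) _)
        have h1 := hcomm _ hr (Sum.inl (Sum.inl (i, 0), 0))
        rw [hdc i hi] at h1
        simp only [Perm.coe_mul, Function.comp_apply, la_inl, tr_inl, Pi.single_eq_same,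
          zero_add] at h1
        rw [← h1]
        simp only [hw, Perm.coe_mul, Function.comp_apply, la_inl, tr_inl, ht i hi, s, dif_pos hi]
        simp [add_comm]
      · have hne : ∀ i ∈ O, ∀ y, j ≠ Sum.inl (i, y) := fun i hi y hh => hj ⟨i, hi, y, hh⟩
        have hm : (tr (single j v) : Perm (Pts (Pts ι' p ρ') p ρ)) ∈ planeGroup O :=
          tr_mem_planeGroup O fun i hi y => by simp [single, (hne i hi y).symm, (hne i hi 0).symm]
        have h1 := hcomm _ hm (Sum.inl (j, 0))
        rw [hb j hne, tr_inl, tr_inl] at h1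
        simp only [single, Pi.single_eq_same, zero_add] at h1
        rw [← h1]
        simp only [hw, Perm.coe_mul, Function.comp_apply, la_inl]
        rcases j with ⟨i, y⟩ | r'
        · have hiO : i ∉ O := fun hi => hne i hi y rfl
          simp only [tr_inl, s, dif_neg hiO, add_zero, t, dif_neg hj]
          rw [add_comm]
        · simp only [tr_inr, tr_inl, t, dif_neg hj]
          rw [add_comm]
    · rw [hw, Perm.coe_mul, Function.comp_apply, la_inr, tr_inr]
      rcases hx : x (Sum.inr r) with ⟨j, v⟩ | r'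
      · exfalso
        have hm : (tr (fun _ : Pts ι' p ρ' => (1 : ZMod p)) : Perm (Pts (Pts ι' p ρ') p ρ)) ∈
            planeGroup O := tr_mem_planeGroup O fun _ _ _ => rfl
        have h1 := hcomm _ hm (Sum.inr r)
        rw [hx, tr_inl, tr_inr, hx] at h1
        simp at h1
      · rw [Subsingleton.elim r' r]
  exact hfix ▸ hwR

/-- The shear in the second coordinate. -/
def shear (c : ZMod p) : Perm (Pts (Pts ι' p ρ') p ρ) :=
  Equiv.sumCongr (Equiv.prodCongrLeft fun x => tr fun i => if i ∈ O then c * x else 0) (Equiv.refl ρ)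

@[simp] theorem shear_inl (c : ZMod p) (j : Pts ι' p ρ') (x : ZMod p) :
    (shear O c : Perm (Pts (Pts ι' p ρ') p ρ)) (Sum.inl (j, x)) =
      Sum.inl (tr (fun i => if i ∈ O then c * x else 0) j, x) := rfl

@[simp] theorem shear_inr (c : ZMod p) (r : ρ) :
    (shear O c : Perm (Pts (Pts ι' p ρ') p ρ)) (Sum.inr r) = Sum.inr r := rfl

theorem shear_mul (c d : ZMod p) :
    (shear O c * shear O d : Perm (Pts (Pts ι' p ρ') p ρ)) = shear O (d + c) := by
  refine perm_ext (fun j x => ?_) fun r => rfl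
  simp only [Perm.coe_mul, Function.comp_apply, shear_inl]
  rw [← Perm.mul_apply, tr_mul]
  congr 3
  refine congrArg tr (funext fun i => ?_)
  by_cases hi : i ∈ O <;> simp [hi, add_mul]

theorem shear_zero : (shear O 0 : Perm (Pts (Pts ι' p ρ') p ρ)) = 1 := by
  refine perm_ext (fun j x => ?_) fun r => rfl
  rcases j with ⟨i, y⟩ | r' <;> simp

theorem shear_pow (c : ZMod p) (k : ℕ) :
    (shear O c : Perm (Pts (Pts ι' p ρ') p ρ)) ^ k = shear O (k • c) := by
  induction k with
  | zero => rw [pow_zero, zero_smul, shear_zero]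
  | succ k ih => rw [pow_succ', ih, shear_mul, add_smul, one_smul]

theorem shear_mem (c : ZMod p) :
    (shear O c : Perm (Pts (Pts ι' p ρ') p ρ)) ∈ normPElts p (planeGroup O) := by
  refine ⟨?_, by rw [shear_pow, show p • c = 0 by simp, shear_zero]⟩
  rintro _ ⟨t, s, hs, ht, rfl⟩
  refine ⟨t, fun i => s i + if i ∈ O then c * t (Sum.inl (i, 0)) else 0,
    fun i hi => by simp [hs i hi, hi], ht, ?_⟩
  rw [mul_inv_eq_iff_eq_mul]
  refine perm_ext (fun j x => ?_) fun r => rfl
  simp only [Perm.coe_mul, Function.comp_apply, shear_inl, la_inl, tr_inl]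
  rcases j with ⟨i, y⟩ | r'
  · by_cases hi : i ∈ O
    · simp only [tr_inl, if_pos hi, ht i hi, Sum.inl.injEq, Prod.mk.injEq, and_true, true_and]
      ring
    · simp [hi, hs i hi]
  · simp

/-- The shear in the first coordinate is a translation in blocks. -/
def shearTr (c : ZMod p) : Pts ι' p ρ' → ZMod p :=
  Sum.elim (fun iy => if iy.1 ∈ O then c * iy.2 else 0) fun _ => 0

theorem shearTr_mem (c : ZMod p) :
    (tr (shearTr O c) : Perm (Pts (Pts ι' p ρ') p ρ)) ∈ normPElts p (planeGroup O) := by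
  refine ⟨?_, tr_pow_prime _⟩
  rintro _ ⟨t, s, hs, ht, rfl⟩
  refine ⟨fun j => t j + Sum.elim (fun iy : ι' × ZMod p => if iy.1 ∈ O then c * s iy.1 else 0) (fun _ => 0) j,
    s, hs, fun i hi y => by simp [hi, ht i hi y], ?_⟩
  rw [mul_inv_eq_iff_eq_mul]
  refine perm_ext (fun j x => ?_) fun r => rfl
  simp only [Perm.coe_mul, Function.comp_apply, la_inl, tr_inl]
  rcases j with ⟨i, y⟩ | r'
  · by_cases hi : i ∈ O
    · simp only [tr_inl, shearTr, Sum.elim_inl, if_pos hi, Sum.inl.injEq, Prod.mk.injEq, true_and]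
      ring
    · simp [shearTr, hi, hs i hi, add_comm, add_left_comm]
  · simp [shearTr]

/-- Block multiplications used to realise a given product. -/
def planeUnits (a : (ZMod p)ˣ) : ι' → (ZMod p)ˣ := fun i => if i ∈ O then a else 1

/-- The diagonal element of the planes. -/
def planeDiag (a : (ZMod p)ˣ) : Perm (Pts (Pts ι' p ρ') p ρ) :=
  la (mu (planeUnits O a⁻¹)) * mu (Sum.elim (fun iy => planeUnits O a iy.1) fun _ => 1)

theorem planeDiag_mem (a : (ZMod p)ˣ) :
    (planeDiag O a : Perm (Pts (Pts ι' p ρ') p ρ)) ∈ Subgroup.closure (normPElts p (planeGroup O)) := by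
  have h1 : ∀ c, (tr (shearTr O c) : Perm (Pts (Pts ι' p ρ') p ρ)) ∈
      Subgroup.closure (normPElts p (planeGroup O)) := fun c => Subgroup.subset_closure (shearTr_mem O c)
  have h2 : ∀ c, (shear O c : Perm (Pts (Pts ι' p ρ') p ρ)) ∈
      Subgroup.closure (normPElts p (planeGroup O)) := fun c => Subgroup.subset_closure (shear_mem O c)
  convert mul_mem (mul_mem (mul_mem (mul_mem (mul_mem (h1 (a : ZMod p)) (h2 (-((a⁻¹ : (ZMod p)ˣ) : ZMod p))))
    (h1 (a : ZMod p))) (h1 (-1))) (h2 1)) (h1 (-1)) using 1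
  refine perm_ext (fun j x => ?_) fun r => rfl
  rcases j with ⟨i, y⟩ | r'
  · by_cases hi : i ∈ O
    · simp only [planeDiag, planeUnits, Perm.coe_mul, Function.comp_apply, la_inl, mu_inl, tr_inl,
        shear_inl, shearTr, Sum.elim_inl, if_pos hi, Sum.inl.injEq, Prod.mk.injEq, true_and]
      have ha : ((a : ZMod p) * ((a⁻¹ : (ZMod p)ˣ) : ZMod p)) = 1 := Units.mul_inv a
      constructor
      · linear_combination x * ha
      · linear_combination ((a : ZMod p) * x - y) * ha
    · simp only [planeDiag, planeUnits, Perm.coe_mul, Function.comp_apply, la_inl, mu_inl, tr_inl,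
        shear_inl, shearTr, Sum.elim_inl, if_neg hi, Units.val_one, one_mul, add_zero]
  · simp only [planeDiag, Perm.coe_mul, Function.comp_apply, la_inl, mu_inl, mu_inr, tr_inl, tr_inr,
      shear_inl, shearTr, Sum.elim_inr, Units.val_one, one_mul, add_zero]

end Planes

theorem sign_eq_one_of_mem_closure {α : Type*} [Fintype α] [DecidableEq α] (hp2 : p ≠ 2)
    {R : Subgroup (Perm α)} {x : Perm α} (hx : x ∈ Subgroup.closure (normPElts p R)) :
    Perm.sign x = 1 :=
  MonoidHom.mem_ker.1 ((Subgroup.closure_le (Perm.sign (α := α)).ker).2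
    (fun _ hy => MonoidHom.mem_ker.2 (sign_eq_one_of_pow hp2 (k := 1) (by rw [pow_one]; exact hy.2))) hx)

theorem mulLeft_conj {G : Type*} [Group G] {P : Subgroup G} {x y : G}
    (hx : ∀ z ∈ P, x * z * x⁻¹ ∈ P) (hy : ∀ z ∈ P, y * z * y⁻¹ ∈ P) :
    ∀ z ∈ P, x * y * z * (x * y)⁻¹ ∈ P := fun z hz => by
  have h := hx _ (hy z hz)
  rwa [show x * y * z * (x * y)⁻¹ = x * (y * z * y⁻¹) * x⁻¹ by group]

theorem inv_conj {G : Type*} [Group G] [Finite G] {P : Subgroup G} {x : G}
    (hx : ∀ z ∈ P, x * z * x⁻¹ ∈ P) : ∀ z ∈ P, x⁻¹ * z * (x⁻¹)⁻¹ ∈ P := by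
  intro z hz
  have hfin : P.map (MulAut.conj x).toMonoidHom = P :=
    Subgroup.eq_of_le_of_card_ge (by rintro _ ⟨y, hy, rfl⟩; exact hx y hy)
      (Subgroup.card_map_of_injective (MulEquiv.injective _)).ge
  obtain ⟨y, hy, rfl⟩ := hfin.ge hz
  simpa [mul_assoc] using hy

/-- The normalizer of the block Sylow subgroup in the alternating group, for odd `p`. -/
theorem normalizer_le_closure (hp2 : p ≠ 2) {ι' ρ' : Type*} [Fintype ι'] [DecidableEq ι'] [Fintype ρ']
    [DecidableEq ρ'] [Fintype ρ] [DecidableEq ρ] [Subsingleton ρ] (Q' : Sylow p (Perm ι')) (i₀ : ι')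
    {g : Perm (Pts (Pts ι' p ρ') p ρ)} (hgs : Perm.sign g = 1)
    (hg : ∀ y ∈ blockSylow p ρ (blockSylow p ρ' (Q' : Subgroup (Perm ι'))),
      g * y * g⁻¹ ∈ blockSylow p ρ (blockSylow p ρ' (Q' : Subgroup (Perm ι')))) :
    g ∈ Subgroup.closure ((blockSylow p ρ (blockSylow p ρ' (Q' : Subgroup (Perm ι'))) :
      Set (Perm (Pts (Pts ι' p ρ') p ρ))) ∪
        goodSet p (blockSylow p ρ (blockSylow p ρ' (Q' : Subgroup (Perm ι'))))) := by
  classical
  set Q := blockSylow p ρ' (Q' : Subgroup (Perm ι'))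
  set P := blockSylow p ρ Q
  have hp := (Fact.out : p.Prime)
  obtain ⟨π, t, e, hge⟩ := exists_affine (g := g) fun i => exists_single_of_card_support
    (hg _ (tr_mem_blockSylow Q (Pi.single i 1))) (by
      rw [Perm.card_support_conj, card_support_tr]
      simp [Pi.single_apply, Finset.filter_eq'])
  set c : (ZMod p)ˣ := ∏ i, e i with hc
  set O : Finset ι' := Finset.univ.filter fun i => i ∈ MulAction.orbit (Q' : Subgroup (Perm ι')) i₀
    with hO
  obtain ⟨j, hj⟩ := Q'.2.card_orbit i₀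
  have hOcard : O.card = p ^ j := by
    rw [← hj, Nat.card_eq_fintype_card, ← Set.toFinset_card]
    congr 1
    ext i
    simp [hO]
  have hOinv : ∀ q ∈ (Q' : Subgroup (Perm ι')), ∀ i, q i ∈ O ↔ i ∈ O := by
    intro q hq i
    simp only [hO, Finset.mem_filter, Finset.mem_univ, true_and]
    exact MulAction.orbit_eq_iff.symm.trans
      ((by rw [show q i = (⟨q, hq⟩ : (Q' : Subgroup (Perm ι'))) • i from rfl, MulAction.orbit_smul] :
        MulAction.orbit (Q' : Subgroup (Perm ι')) (q i) = MulAction.orbit _ i₀ ↔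
          MulAction.orbit (Q' : Subgroup (Perm ι')) i = MulAction.orbit _ i₀).trans MulAction.orbit_eq_iff)
  set πh : Perm (Pts ι' p ρ') := mu (planeUnits O c⁻¹) with hπh
  set eh : Pts ι' p ρ' → (ZMod p)ˣ := Sum.elim (fun iy => planeUnits O c iy.1) fun _ => 1 with heh
  set h : Perm (Pts (Pts ι' p ρ') p ρ) := planeDiag O c with hh
  have hh' : h = la πh * mu eh := rfl
  have hunits : ∀ (u : (ZMod p)ˣ) (k : ℕ), u ^ (p ^ k) = u := fun u k => Units.ext (by
    rw [Units.val_pow_eq_pow_val]; exact ZMod.pow_card_pow _)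
  have hprodO : ∀ u : (ZMod p)ˣ, ∏ i, planeUnits O u i = u := fun u => by
    simp only [planeUnits, Finset.prod_ite, Finset.prod_const_one, mul_one, Finset.prod_const]
    rw [show (Finset.univ.filter fun i => i ∈ O) = O by ext; simp, hOcard, hunits]
  have hprodh : ∏ i, eh i = c := by
    rw [heh, Fintype.prod_sum_type, Fintype.prod_prod_type]
    simp only [Sum.elim_inl, Sum.elim_inr, Finset.prod_const_one, mul_one, Finset.prod_const,
      Finset.card_univ, ZMod.card]
    rw [Finset.prod_pow, hprodO]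
    simpa using hunits c 1
  have hsπh : Perm.sign πh = mulSign p c := by
    rw [hπh, sign_mu, hprodO, map_inv, Int.units_inv_eq_self]
  have hhcl : h ∈ Subgroup.closure (normPElts p (planeGroup O)) := planeDiag_mem O c
  have hhs : Perm.sign h = 1 := sign_eq_one_of_mem_closure hp2 hhcl
  -- `h` normalizes the Sylow subgroup
  have hhP : ∀ y ∈ P, h * y * h⁻¹ ∈ P := by
    rintro _ ⟨t', _, ⟨s, q', hq', rfl⟩, rfl⟩
    have he1 : la (tr s * la q') * mu eh * (la (tr s * la q') : Perm (Pts (Pts ι' p ρ') p ρ))⁻¹ = mu eh := by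
      rw [la_conj_mu]
      congr 1
      funext k
      obtain ⟨l, rfl⟩ := (tr s * la q').surjective k
      rw [Equiv.Perm.inv_def, Equiv.symm_apply_apply]
      rcases l with ⟨i, y⟩ | r
      · simp [heh, planeUnits, hOinv q' hq' i]
      · simp [heh]
    have he2 : la q' * mu (planeUnits O c⁻¹) * (la q' : Perm (Pts ι' p ρ'))⁻¹ = mu (planeUnits O c⁻¹) := by
      rw [la_conj_mu]
      congr 1
      funext k
      obtain ⟨l, rfl⟩ := q'.surjective k
      rw [Equiv.Perm.inv_def, Equiv.symm_apply_apply]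
      simp [planeUnits, hOinv q' hq' l]
    obtain ⟨s', hs'⟩ : ∃ s', πh * (tr s * la q') * πh⁻¹ = tr s' * la q' := by
      refine ⟨fun i => (planeUnits O c⁻¹ i : ZMod p) * s i, ?_⟩
      rw [← mu_conj_tr, hπh]
      have : mu (planeUnits O c⁻¹) * la q' * (mu (planeUnits O c⁻¹))⁻¹ = (la q' : Perm (Pts ι' p ρ')) := by
        rw [mul_inv_eq_iff_eq_mul]
        exact (mul_inv_eq_iff_eq_mul.1 he2).symm
      conv_rhs => rw [← this]
      group
    have hla : h * la (tr s * la q') * h⁻¹ = la (πh * (tr s * la q') * πh⁻¹) := by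
      have hcomm : mu eh * la (tr s * la q') * (mu eh)⁻¹ =
          (la (tr s * la q') : Perm (Pts (Pts ι' p ρ') p ρ)) := by
        rw [mul_inv_eq_iff_eq_mul]
        exact (mul_inv_eq_iff_eq_mul.1 he1).symm
      rw [hh']
      calc la πh * mu eh * la (tr s * la q') * (la πh * mu eh)⁻¹
          = la πh * (mu eh * la (tr s * la q') * (mu eh)⁻¹) * (la πh)⁻¹ := by group
        _ = la πh * la (tr s * la q') * (la πh)⁻¹ := by rw [hcomm]
        _ = _ := by rw [la_inv, la_mul, la_mul]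
    have htr : h * tr t' * h⁻¹ = tr fun k => (eh (πh⁻¹ k) : ZMod p) * t' (πh⁻¹ k) := by
      rw [hh', ← la_conj_tr πh (fun k => (eh k : ZMod p) * t' k), ← mu_conj_tr]
      group
    rw [show h * (tr t' * la (tr s * la q')) * h⁻¹ =
      (h * tr t' * h⁻¹) * (h * la (tr s * la q') * h⁻¹) by group, hla, htr, hs']
    exact mul_mem (tr_mem_blockSylow Q _) (la_mem_blockSylow ⟨s', q', hq', rfl⟩)
  have hhgood : h ∈ goodSet p P := by
    refine ⟨hhs, hhP, planeGroup O, ?_, fun x hx => centralizer_planeGroup O hx, hhcl⟩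
    rintro _ ⟨t', s, -, -, rfl⟩
    exact ⟨t', tr s, tr_mem_blockSylow _ s, rfl⟩
  -- split `g`
  set u : Perm (Pts (Pts ι' p ρ') p ρ) := tr fun k => ((e k)⁻¹ : (ZMod p)ˣ) * t k with hu
  have hgu : g = la π * mu e * u := by
    have h1 := mu_conj_tr (ρ := ρ) e fun k => (((e k)⁻¹ : (ZMod p)ˣ) : ZMod p) * t k
    simp only [Units.mul_inv_cancel_left] at h1
    rw [hge, hu, ← h1]
    group
  have huP : u ∈ P := tr_mem_blockSylow Q _
  set w : Perm (Pts (Pts ι' p ρ') p ρ) := la π * mu e * h⁻¹ with hw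
  set e'' : Pts ι' p ρ' → (ZMod p)ˣ := fun k => (e * eh⁻¹) (πh⁻¹ k) with he''
  have hw' : w = la (π * πh⁻¹) * mu e'' := by
    rw [hw, hh', he'', ← la_conj_mu, ← mu_mul, ← mu_inv, ← la_mul, ← la_inv]
    group
  have he''1 : ∏ k, e'' k = 1 := by
    rw [he'']
    rw [Equiv.prod_comp (πh⁻¹ : Perm _) (e * eh⁻¹)]
    simp only [Pi.mul_apply, Pi.inv_apply, Finset.prod_mul_distrib, Finset.prod_inv_distrib, hprodh]
    rw [← hc, mul_inv_cancel]
  have hsπ : Perm.sign π = mulSign p c := by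
    have h1 := hgs
    rw [hge, map_mul, map_mul, sign_la, sign_mu, sign_tr_of_odd hp2, mul_one, ← hc] at h1
    have hpow : Perm.sign π ^ p = Perm.sign π := by
      rcases Int.units_eq_one_or (Perm.sign π) with h2 | h2
      · rw [h2, one_pow]
      · rw [h2, (hp.odd_of_ne_two hp2).neg_one_pow]
    rw [hpow] at h1
    rw [← Int.units_inv_eq_self (mulSign p c)]
    exact eq_inv_of_mul_eq_one_left h1
  have hcard : p ≤ Fintype.card (Pts ι' p ρ') := by
    rw [Fintype.card_sum, Fintype.card_prod, ZMod.card]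
    have := Nat.le_mul_of_pos_left p (Fintype.card_pos_iff.2 ⟨i₀⟩)
    omega
  have hwcl : w ∈ Subgroup.closure (normPElts p (trGroup (Pts ι' p ρ') p ρ)) := by
    rw [hw']
    refine la_mu_mem_closure hp2 hcard ?_ he''1
    rw [map_mul, map_inv, hsπ, hsπh, mul_inv_cancel]
  have hwgood : w ∈ goodSet p P := by
    refine ⟨sign_eq_one_of_mem_closure hp2 hwcl, ?_, trGroup _ p ρ, ?_,
      fun x hx => centralizer_trGroup hx, hwcl⟩
    · have he : w = g * u⁻¹ * h⁻¹ := by rw [hgu, hw]; group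
      rw [he]
      exact mulLeft_conj (mulLeft_conj hg fun z hz => mul_mem (mul_mem (inv_mem huP) hz) (inv_mem (inv_mem huP)))
        (inv_conj hhP)
    · rintro _ ⟨t', rfl⟩
      exact tr_mem_blockSylow Q t'
  rw [show g = w * h * u by rw [hgu, hw]; group]
  exact mul_mem (mul_mem (Subgroup.subset_closure (Or.inr hwgood))
    (Subgroup.subset_closure (Or.inr hhgood))) (Subgroup.subset_closure (Or.inl huP))

end Cfsg.Agent.Lib.Fusion.AltBlocks
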