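import Cfsg.Agent.Lib.Fusion.AltClosed

/-!
Elements of odd order normalizing a Sylow 2-subgroup of a symmetric or alternating group.
-/

set_option autoImplicit false

namespace Cfsg.Agent.Lib.Fusion.AltBlocks

variable {ι ρ : Type*} {p : ℕ}

/-- `g` carries the block of `i` to the block of `π i`. -/
def Mono (g : Equiv.Perm (Pts ι p ρ)) (π : Equiv.Perm ι) : Prop :=
  ∀ i x, ∃ y, g (Sum.inl (i, x)) = Sum.inl (π i, y)

theorem Mono.one : Mono (1 : Equiv.Perm (Pts ι p ρ)) 1 := fun _ x => ⟨x, rfl⟩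

theorem Mono.mul {g h : Equiv.Perm (Pts ι p ρ)} {π σ : Equiv.Perm ι} (hg : Mono g π) (hh : Mono h σ) :
    Mono (g * h) (π * σ) := fun i x => by
  obtain ⟨y, hy⟩ := hh i x
  obtain ⟨z, hz⟩ := hg (σ i) y
  exact ⟨z, by simp [hy, hz]⟩

theorem Mono.inv {g : Equiv.Perm (Pts ι p ρ)} {π : Equiv.Perm ι} [Finite ι] [NeZero p]
    (hg : Mono g π) : Mono g⁻¹ π⁻¹ := by
  intro i x
  choose f hf using hg
  have hinj : Function.Injective fun z : ι × ZMod p => (π z.1, f z.1 z.2) := by
    intro a b hab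
    have h1 : g (Sum.inl (a.1, a.2)) = g (Sum.inl (b.1, b.2)) := by
      rw [hf, hf, show (π a.1, f a.1 a.2) = (π b.1, f b.1 b.2) from hab]
    exact Sum.inl_injective (g.injective h1)
  obtain ⟨⟨j, y⟩, hj⟩ := (Finite.injective_iff_surjective.1 hinj) (i, x)
  refine ⟨y, ?_⟩
  have h2 : g (Sum.inl (j, y)) = Sum.inl (i, x) := by rw [hf]; exact congrArg Sum.inl hj
  have h3 : π j = i := (Prod.mk.injEq _ _ _ _ ▸ hj).1
  rw [← h2, ← h3]
  simp

theorem Mono.pow {g : Equiv.Perm (Pts ι p ρ)} {π : Equiv.Perm ι} (hg : Mono g π) :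
    ∀ m : ℕ, Mono (g ^ m) (π ^ m)
  | 0 => Mono.one
  | m + 1 => by
    rw [pow_succ, pow_succ]
    exact (hg.pow m).mul hg

theorem Mono.unique [NeZero p] {g : Equiv.Perm (Pts ι p ρ)} {π σ : Equiv.Perm ι} (hg : Mono g π)
    (hg' : Mono g σ) : π = σ := by
  ext i
  obtain ⟨y, hy⟩ := hg i 0
  obtain ⟨z, hz⟩ := hg' i 0
  rw [hy] at hz
  exact (Prod.mk.injEq _ _ _ _ ▸ (Sum.inl_injective hz)).1

theorem mono_affine (π : Equiv.Perm ι) (t : ι → ZMod p) (e : ι → (ZMod p)ˣ) :
    Mono (la π * tr t * mu e : Equiv.Perm (Pts ι p ρ)) π := fun i x => ⟨_, rfl⟩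

theorem mono_blockSylow (t : ι → ZMod p) (q : Equiv.Perm ι) :
    Mono (tr t * la q : Equiv.Perm (Pts ι p ρ)) q := fun i x => ⟨_, rfl⟩

variable [Fact p.Prime]

theorem mem_normalizer_of_mono [Finite ι] {Q : Subgroup (Equiv.Perm ι)}
    {g : Equiv.Perm (Pts ι p ρ)} {π : Equiv.Perm ι} (hπ : Mono g π)
    (hg : ∀ q ∈ Q, g * la q * g⁻¹ ∈ blockSylow p ρ Q) :
    π ∈ Subgroup.normalizer (Q : Set (Equiv.Perm ι)) := by
  have key : ∀ q ∈ Q, π * q * π⁻¹ ∈ Q := by
    intro q hq
    obtain ⟨t, r, hr, he⟩ := hg q hq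
    have h1 : Mono (g * la q * g⁻¹) (π * q * π⁻¹) :=
      (hπ.mul (fun i x => ⟨x, rfl⟩)).mul hπ.inv
    rw [he] at h1
    rwa [h1.unique (mono_blockSylow t r)]
  have hfin : Q.map (MulAut.conj π).toMonoidHom = Q :=
    Subgroup.eq_of_le_of_card_ge (by rintro _ ⟨q, hq, rfl⟩; exact key q hq)
      (Subgroup.card_map_of_injective (MulEquiv.injective _)).ge
  rw [Subgroup.mem_normalizer_iff]
  refine fun q => ⟨key q, fun hq => ?_⟩
  obtain ⟨r, hr, hrq⟩ := hfin.ge hq
  rwa [← (MulEquiv.injective (MulAut.conj π)) hrq]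

/-- An affine element of odd order with trivial block permutation is trivial for `p = 2`. -/
theorem eq_one_of_affine [Finite ι] [Subsingleton ρ] {g : Equiv.Perm (Pts ι 2 ρ)} {π : Equiv.Perm ι}
    (t : ι → ZMod 2) (e : ι → (ZMod 2)ˣ) (hg : g = la π * tr t * mu e) {Q : Subgroup (Equiv.Perm ι)}
    (hQ : ∀ x ∈ Subgroup.normalizer (Q : Set (Equiv.Perm ι)), Odd (orderOf x) → x = 1)
    (hn : ∀ q ∈ Q, g * la q * g⁻¹ ∈ blockSylow 2 ρ Q) (ho : Odd (orderOf g)) : g = 1 := by
  have hmono : Mono g π := hg ▸ mono_affine π t e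
  have hpow : π ^ orderOf g = 1 := by
    have h1 := hmono.pow (orderOf g)
    rw [pow_orderOf_eq_one] at h1
    exact h1.unique Mono.one
  have hπ : π = 1 := hQ π (mem_normalizer_of_mono hmono hn) (ho.of_dvd_nat (orderOf_dvd_of_pow_eq_one hpow))
  have he : e = 1 := funext fun i => Subsingleton.elim _ _
  rw [hπ, he, la_one, mu_one, one_mul, mul_one] at hg
  have h2 : g ^ 2 = 1 := hg ▸ tr_pow_prime t
  rw [← orderOf_eq_one_iff]
  rcases (Nat.dvd_prime Nat.prime_two).1 (orderOf_dvd_of_pow_eq_one h2) with h | h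
  · exact h
  · rw [h] at ho
    exact absurd ho (by decide)

theorem eq_one_of_normalizes_fin : ∀ (n : ℕ) (P : Sylow 2 (Equiv.Perm (Fin n))),
    ∀ g ∈ Subgroup.normalizer ((P : Subgroup (Equiv.Perm (Fin n))) : Set (Equiv.Perm (Fin n))),
      Odd (orderOf g) → g = 1 := by
  haveI : Fact (Nat.Prime 2) := ⟨Nat.prime_two⟩
  intro n
  induction n using Nat.strong_induction_on with
  | _ n ih =>
    intro P g hg ho
    by_cases hn : n < 2
    · haveI : Subsingleton (Fin n) := Fin.subsingleton_iff_le_one.2 (by omega)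
      exact Subsingleton.elim _ _
    · have hk : n / 2 < n := Nat.div_lt_self (by omega) (by omega)
      obtain ⟨Q⟩ := (inferInstance : Nonempty (Sylow 2 (Equiv.Perm (Fin (n / 2)))))
      have hρ : Fintype.card (Fin (n % 2)) < 2 := by simpa using Nat.mod_lt n Nat.two_pos
      haveI : Subsingleton (Fin (n % 2)) := Fin.subsingleton_iff_le_one.2 (Nat.lt_succ_iff.1 (Nat.mod_lt n Nat.two_pos))
      let B : Sylow 2 (Equiv.Perm (Pts (Fin (n / 2)) 2 (Fin (n % 2)))) :=
        (isPGroup_blockSylow Q.2).toSylow (not_dvd_index_blockSylow hρ Q)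
      have e : Pts (Fin (n / 2)) 2 (Fin (n % 2)) ≃ Fin n :=
        Fintype.equivFinOfCardEq (by
          simp only [Fintype.card_sum, Fintype.card_prod, ZMod.card, Fintype.card_fin]
          rw [mul_comm]; exact Nat.div_add_mod n 2)
      let f : Equiv.Perm (Pts (Fin (n / 2)) 2 (Fin (n % 2))) ≃* Equiv.Perm (Fin n) := e.permCongrHom
      let B' : Sylow 2 (Equiv.Perm (Fin n)) := (B.2.map f.toMonoidHom).toSylow fun h =>
        B.not_dvd_index (h.trans (Subgroup.index_map_dvd _ f.surjective))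
      obtain ⟨c, hc⟩ := MulAction.exists_smul_eq (Equiv.Perm (Fin n)) B' P
      have hmem : ∀ x, x ∈ (P : Subgroup _) ↔
          f.symm (c⁻¹ * x * c) ∈ blockSylow 2 (Fin (n % 2)) (Q : Subgroup (Equiv.Perm (Fin (n / 2)))) := by
        intro x
        rw [← hc, Sylow.coe_subgroup_smul, Subgroup.mem_pointwise_smul_iff_inv_smul_mem]
        show (MulAut.conj c)⁻¹ x ∈ Subgroup.map f.toMonoidHom _ ↔ _
        rw [MulAut.conj_inv_apply]
        constructor
        · rintro ⟨y, hy, hyx⟩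
          rw [← hyx]
          exact (f.symm_apply_apply y).symm ▸ hy
        · exact fun h => ⟨_, h, f.apply_symm_apply _⟩
      set ψ : Equiv.Perm (Fin n) ≃* Equiv.Perm (Pts (Fin (n / 2)) 2 (Fin (n % 2))) :=
        (MulAut.conj c⁻¹).trans f.symm with hψ
      have hψx : ∀ x, ψ x = f.symm (c⁻¹ * x * c) := fun x => by simp [hψ]
      set g' := ψ g with hg'
      have hgP : ∀ y ∈ blockSylow 2 (Fin (n % 2)) (Q : Subgroup (Equiv.Perm (Fin (n / 2)))),
          g' * y * g'⁻¹ ∈ blockSylow 2 (Fin (n % 2)) (Q : Subgroup (Equiv.Perm (Fin (n / 2)))) := by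
        intro y hy
        obtain ⟨x, rfl⟩ := ψ.surjective y
        rw [hg', ← map_inv, ← map_mul, ← map_mul, hψx, ← hmem]
        rw [hψx, ← hmem] at hy
        exact (Subgroup.mem_normalizer_iff.1 hg x).1 hy
      obtain ⟨π, t, u, hgu⟩ := exists_affine (g := g') fun i => exists_single_of_card_support
        (hgP _ (tr_mem_blockSylow _ _)) (by
          rw [Equiv.Perm.card_support_conj, card_support_tr]
          simp [Pi.single_apply, Finset.filter_eq'])
      have h1 : g' = 1 := eq_one_of_affine t u hgu (fun x hx hxo => ih _ hk Q x hx hxo)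
        (fun q hq => hgP _ (la_mem_blockSylow hq)) (by rwa [hg', MulEquiv.orderOf_eq])
      exact ψ.injective (h1.trans (map_one ψ).symm)

theorem eq_one_of_normalizes {ι : Type*} [Fintype ι] (P : Sylow 2 (Equiv.Perm ι)) {g : Equiv.Perm ι}
    (hg : g ∈ Subgroup.normalizer ((P : Subgroup (Equiv.Perm ι)) : Set (Equiv.Perm ι)))
    (ho : Odd (orderOf g)) : g = 1 := by
  haveI : Fact (Nat.Prime 2) := ⟨Nat.prime_two⟩
  let f : Equiv.Perm ι ≃* Equiv.Perm (Fin (Fintype.card ι)) :=
    (Fintype.equivFin ι).permCongrHom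
  let P' : Sylow 2 (Equiv.Perm (Fin (Fintype.card ι))) := (P.2.map f.toMonoidHom).toSylow fun h =>
    P.not_dvd_index (h.trans (Subgroup.index_map_dvd _ f.surjective))
  refine f.injective ((eq_one_of_normalizes_fin _ P' (f g) ?_ ?_).trans (map_one f).symm)
  · exact (P : Subgroup (Equiv.Perm ι)).le_normalizer_map f.toMonoidHom ⟨g, hg, rfl⟩
  · rwa [MulEquiv.orderOf_eq]

/-- Odd-order even elements normalizing the block Sylow subgroup of the alternating group are
trivial. -/
theorem eq_one_of_normalizes_alt [Fintype ι] [DecidableEq ι] [Fintype ρ] [DecidableEq ρ]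
    [Subsingleton ρ] (hk : 3 ≤ Fintype.card ι) (Q : Sylow 2 (Equiv.Perm ι))
    {g : Equiv.Perm (Pts ι 2 ρ)} (ho : Odd (orderOf g))
    (hg : ∀ y ∈ blockSylow 2 ρ (Q : Subgroup (Equiv.Perm ι)), Equiv.Perm.sign y = 1 →
      g * y * g⁻¹ ∈ blockSylow 2 ρ (Q : Subgroup (Equiv.Perm ι))) : g = 1 := by
  haveI : Fact (Nat.Prime 2) := ⟨Nat.prime_two⟩
  have hd : ∀ i j : ι, i ≠ j → ∃ A : Finset ι, A.card = 2 ∧
      ((({i, j} : Finset ι) ×ˢ (Finset.univ : Finset (ZMod 2))).map
        (Function.Embedding.inl : _ ↪ Pts ι 2 ρ)).map g.toEmbedding =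
        (A ×ˢ Finset.univ).map Function.Embedding.inl := by
    intro i j hij
    have hx := hg _ (tr_mem_blockSylow _ (Pi.single i 1 + Pi.single j 1)) (sign_tr_single_pair rfl hij)
    have hfil : (Finset.univ.filter fun l =>
        (Pi.single i (1 : ZMod 2) + Pi.single j 1 : ι → ZMod 2) l ≠ 0) = {i, j} := by
      ext l; by_cases ha : l = i <;> by_cases hb : l = j <;> simp_all [Pi.single_apply]
    have h1 := support_eq_blocks hx
    rw [Equiv.Perm.support_conj, support_tr, hfil] at h1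
    refine ⟨_, ?_, h1⟩
    have h2 := congrArg Finset.card h1
    simp only [Finset.card_map, Finset.card_product, Finset.card_univ, ZMod.card,
      Finset.card_pair hij] at h2
    omega
  obtain ⟨π, t, u, hgu⟩ := exists_affine (g := g) fun i => by
    obtain ⟨j, hj⟩ : ∃ j, j ≠ i := Fintype.exists_ne_of_one_lt_card (by omega) i
    obtain ⟨l, hl⟩ : ∃ l, l ∈ (Finset.univ.erase i).erase j := by
      refine Finset.card_pos.1 ?_
      rw [Finset.card_erase_of_mem (Finset.mem_erase.2 ⟨hj, Finset.mem_univ _⟩),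
        Finset.card_erase_of_mem (Finset.mem_univ _), Finset.card_univ]
      omega
    simp only [Finset.mem_erase, Finset.mem_univ, and_true] at hl
    obtain ⟨A, -, hA⟩ := hd i j hj.symm
    obtain ⟨B, -, hB⟩ := hd i l hl.2.symm
    have hint : ((({i} : Finset ι) ×ˢ (Finset.univ : Finset (ZMod 2))).map
        (Function.Embedding.inl : _ ↪ Pts ι 2 ρ)).map g.toEmbedding =
        ((A ∩ B) ×ˢ Finset.univ).map Function.Embedding.inl := by
      rw [Finset.inter_product, Finset.map_inter, ← hA, ← hB, ← Finset.map_inter, ← Finset.map_inter,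
        ← Finset.inter_product]
      congr 3
      ext k
      simp only [Finset.mem_inter, Finset.mem_insert, Finset.mem_singleton]
      constructor
      · rintro rfl; simp
      · rintro ⟨rfl | rfl, h | h⟩
        all_goals first | rfl | exact absurd h hj | exact absurd h.symm hl.1 | exact absurd h hl.1
    have hc := congrArg Finset.card hint
    simp only [Finset.card_map, Finset.card_product, Finset.card_univ, ZMod.card,
      Finset.card_singleton] at hc
    obtain ⟨κ, hκ⟩ := Finset.card_eq_one.1 (show (A ∩ B).card = 1 by omega)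
    refine ⟨κ, 1, one_ne_zero, tr_eq_of_support_single rfl ?_⟩
    rw [Equiv.Perm.support_conj, support_tr,
      show (Finset.univ.filter fun l => (Pi.single i (1 : ZMod 2) : ι → ZMod 2) l ≠ 0) = {i} by
        ext l; simp [Pi.single_apply], hint, hκ]
  refine eq_one_of_affine t u hgu (fun x hx hxo => eq_one_of_normalizes Q hx hxo)
    (fun q hq => hg _ (la_mem_blockSylow hq) ?_) ho
  rw [sign_la, Int.units_pow_two]

end Cfsg.Agent.Lib.Fusion.AltBlocks
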