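import Cfsg.Agent.Lib.Fusion.SimpleLie
import Cfsg.Agent.Lib.Fusion.AltTwo
import Cfsg.Agent.Lib.Fusion.AltOdd

/-!
Simplicity of the `p`-fusion system of the alternating group of degree `n`, `p ^ 2 ≤ n`,
`n % p ≤ 1`.
-/

set_option autoImplicit false

namespace Cfsg.Agent.Lib.Fusion.AltBlocks

open Equiv

theorem relIndex_dvd_index_of_normal_right {G : Type*} [Group G] [Finite G] (P A : Subgroup G)
    [A.Normal] : P.relIndex A ∣ P.index := by
  have h1 := Subgroup.relIndex_mul_index (inf_le_right : P ⊓ A ≤ A)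
  have h2 := Subgroup.relIndex_mul_index (inf_le_left : P ⊓ A ≤ P)
  rw [Subgroup.inf_relIndex_right] at h1
  rw [Subgroup.inf_relIndex_left] at h2
  have h3 : A.relIndex P ∣ A.index := Subgroup.relIndex_dvd_index_of_normal A P
  refine (Nat.mul_dvd_mul_iff_right (Nat.pos_of_ne_zero (Subgroup.index_ne_zero_of_finite (H := A)))).1 ?_
  rw [h1, ← h2, mul_comm P.index]
  exact Nat.mul_dvd_mul_right h3 _

variable {ι ρ : Type*} [Fintype ι] [DecidableEq ι] [Fintype ρ] [DecidableEq ρ]
variable {p : ℕ} [Fact p.Prime]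

/-- The Sylow subgroup in the alternating group. -/
def altSylow (p : ℕ) (ρ : Type*) [Fintype ρ] [DecidableEq ρ] [Fact p.Prime]
    (Q : Subgroup (Perm ι)) : Subgroup (alternatingGroup (Pts ι p ρ)) :=
  (blockSylow p ρ Q).subgroupOf (alternatingGroup (Pts ι p ρ))

theorem isSimple_of_block (n : ℕ) (hk : 3 ≤ Fintype.card ι) [Subsingleton ρ]
    (hρ : Fintype.card ρ < p) (Q : Sylow p (Perm ι))
    (hswap : p = 2 → ∃ a b, a ≠ b ∧ Equiv.swap a b ∈ (Q : Subgroup (Perm ι)))
    (hn : p * Fintype.card ι + Fintype.card ρ = n)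
    (hN : Subgroup.normalizer (altSylow p ρ (Q : Subgroup (Perm ι)) : Set (alternatingGroup (Pts ι p ρ))) ≤
      Subgroup.closure ((altSylow p ρ (Q : Subgroup (Perm ι)) : Set (alternatingGroup (Pts ι p ρ))) ∪
        (⊥ : Subgroup (alternatingGroup (Pts ι p ρ))) ∪
        radicalGenerated p (altSylow p ρ (Q : Subgroup (Perm ι))) ⊥))
    (S : Sylow p (alternatingGroup (Fin n))) :
    (Cfsg.groupFusionSystem (S : Subgroup (alternatingGroup (Fin n)))).IsSimple p := by
  classical
  have e : Pts ι p ρ ≃ Fin n := Fintype.equivFinOfCardEq (by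
    simp only [Fintype.card_sum, Fintype.card_prod, ZMod.card]
    rw [mul_comm]; exact hn)
  let f : alternatingGroup (Pts ι p ρ) ≃* alternatingGroup (Fin n) := Equiv.altCongrHom e
  set U := altSylow p ρ (Q : Subgroup (Perm ι)) with hUdef
  have hker : f.toMonoidHom.ker = ⊥ := (MonoidHom.ker_eq_bot_iff _).2 f.injective
  have hP := isPGroup_blockSylow (ρ := ρ) Q.2
  have hU : IsPGroup p U :=
    hP.comap_of_injective (alternatingGroup (Pts ι p ρ)).subtype Subtype.val_injective
  have hUi : ¬ p ∣ U.index := by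
    intro h
    haveI : (alternatingGroup (Pts ι p ρ)).Normal := inferInstance
    exact not_dvd_index_blockSylow hρ Q
      (h.trans (relIndex_dvd_index_of_normal_right _ _))
  have hne : U ≠ ⊥ := by
    obtain ⟨i, j, hij⟩ := Fintype.exists_pair_of_one_lt_card (show 1 < Fintype.card ι by omega)
    have hp := (Fact.out : p.Prime)
    have hs : Perm.sign (tr (Pi.single i 1 + Pi.single j 1) : Perm (Pts ι p ρ)) = 1 := by
      rcases eq_or_ne p 2 with h2 | h2
      · exact sign_tr_single_pair h2 hij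
      · exact sign_tr_of_odd h2 _
    intro h
    have hm : (⟨_, Perm.mem_alternatingGroup.2 hs⟩ : alternatingGroup (Pts ι p ρ)) ∈ U :=
      tr_mem_blockSylow _ _
    rw [h, Subgroup.mem_bot] at hm
    have h1 := congrFun (tr_injective ((congrArg Subtype.val hm).trans tr_zero.symm)) i
    simp [hij] at h1
  refine isSimple_groupFusion_of_cover f.toMonoidHom f.surjective (hker.le.trans bot_le)
    (by rw [hker, Subgroup.card_bot]; exact Nat.coprime_one_left p) U hU hne hUi S ?_ (hker.symm ▸ hN)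
  intro z hzU hz1 hzc T hzT hTU hT
  set T' := T.map (alternatingGroup (Pts ι p ρ)).subtype
  have hcomm : ∀ y ∈ blockSylow p ρ (Q : Subgroup (Perm ι)), Perm.sign y = 1 →
      y * (z : Perm (Pts ι p ρ)) = z * y := fun y hy hys =>
    congrArg Subtype.val (hzc ⟨y, Perm.mem_alternatingGroup.2 hys⟩ hy)
  obtain ⟨t₀, ht₀⟩ : ∃ t, (z : Perm (Pts ι p ρ)) = tr t := by
    refine eq_tr_of_commute fun i w => ?_
    rcases eq_or_ne p 2 with h2 | h2
    · subst h2
      obtain ⟨j, l, hji, hli, hjl⟩ : ∃ j l : ι, j ≠ i ∧ l ≠ i ∧ j ≠ l := by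
        obtain ⟨j, hj⟩ : ∃ j, j ≠ i := Fintype.exists_ne_of_one_lt_card (by omega) i
        obtain ⟨l, hl⟩ : ((Finset.univ.erase i).erase j).Nonempty := by
          rw [← Finset.card_pos, Finset.card_erase_of_mem (Finset.mem_erase.2 ⟨hj, Finset.mem_univ _⟩),
            Finset.card_erase_of_mem (Finset.mem_univ _), Finset.card_univ]
          omega
        simp only [Finset.mem_erase, Finset.mem_univ, and_true] at hl
        exact ⟨j, l, hj, hl.2, hl.1.symm⟩
      have hfix : ∀ a b : ι, a ≠ b →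
          ((((({a, b} : Finset ι) ×ˢ (Finset.univ : Finset (ZMod 2))).map
            (Function.Embedding.inl : _ ↪ Pts ι 2 ρ)).map (z : Perm (Pts ι 2 ρ)).toEmbedding)) =
          (({a, b} : Finset ι) ×ˢ (Finset.univ : Finset (ZMod 2))).map Function.Embedding.inl := by
        intro a b hab
        have h1 := hcomm _ (tr_mem_blockSylow _ (Pi.single a 1 + Pi.single b 1))
          (sign_tr_single_pair rfl hab)
        have h2 : (z : Perm (Pts ι 2 ρ)) * tr (Pi.single a 1 + Pi.single b 1) * (z : Perm (Pts ι 2 ρ))⁻¹ =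
            tr (Pi.single a 1 + Pi.single b 1) := by rw [← h1, mul_inv_cancel_right]
        have h3 := congrArg Perm.support h2
        rwa [Perm.support_conj, support_tr, show (Finset.univ.filter fun k =>
          (Pi.single a (1 : ZMod 2) + Pi.single b 1 : ι → ZMod 2) k ≠ 0) = {a, b} by
            ext k; by_cases ha : k = a <;> by_cases hb : k = b <;> simp_all [Pi.single_apply]] at h3
      have hi : (z : Perm (Pts ι 2 ρ)) * tr (Pi.single i 1) * (z : Perm (Pts ι 2 ρ))⁻¹ = tr (Pi.single i 1) := by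
        refine tr_eq_of_support_single rfl ?_
        rw [Perm.support_conj, support_tr, show (Finset.univ.filter fun k =>
          (Pi.single i (1 : ZMod 2) : ι → ZMod 2) k ≠ 0) = {i} by ext k; simp [Pi.single_apply],
          show ({i} : Finset ι) = {i, j} ∩ {i, l} by
            ext k
            simp only [Finset.mem_inter, Finset.mem_insert, Finset.mem_singleton]
            constructor
            · rintro rfl; simp
            · rintro ⟨rfl | rfl, h | h⟩
              all_goals first | rfl | exact absurd h hji | exact absurd h hjl,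
          Finset.inter_product, Finset.map_inter, Finset.map_inter, hfix i j hji.symm, hfix i l hli.symm]
      exact DFunLike.congr_fun (mul_inv_eq_iff_eq_mul.1 hi) w
    · exact (DFunLike.congr_fun (hcomm _ (tr_mem_blockSylow _ (Pi.single i 1))
        (sign_tr_of_odd h2 _)) w).symm
  have hle := le_of_closed (ρ := ρ) hk (genPrime_sylow Q) hswap T'
    (by rintro _ ⟨x, hx, rfl⟩; exact ⟨hTU hx, x.2⟩)
    (by
      rintro g hg _ ⟨x, hx, rfl⟩ hgx
      exact ⟨_, hT ⟨g, Perm.mem_alternatingGroup.2 hg⟩ x hx hgx, rfl⟩)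
    (t₀ := t₀) (fun h => hz1 (Subtype.ext (by rw [ht₀, h, tr_zero]; rfl)))
    (ht₀ ▸ ⟨z, hzT, rfl⟩)
  intro x hx
  obtain ⟨y, hy, hyx⟩ := hle ⟨hx, x.2⟩
  rwa [← Subtype.ext hyx]

theorem isSimple_two (n : ℕ) (hn : 6 ≤ n) [Fact (Nat.Prime 2)] (S : Sylow 2 (alternatingGroup (Fin n))) :
    (Cfsg.groupFusionSystem (S : Subgroup (alternatingGroup (Fin n)))).IsSimple 2 := by
  classical
  have hk : 3 ≤ n / 2 := by omega
  haveI : Subsingleton (Fin (n % 2)) :=
    Fin.subsingleton_iff_le_one.2 (Nat.lt_succ_iff.1 (Nat.mod_lt n Nat.two_pos))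
  have h0 : 0 < n / 2 := by omega
  have h1 : 1 < n / 2 := by omega
  set a : Fin (n / 2) := ⟨0, h0⟩
  set b : Fin (n / 2) := ⟨1, h1⟩
  have hab : a ≠ b := by simp [a, b, Fin.ext_iff]
  have hpz : IsPGroup 2 (Subgroup.zpowers (Equiv.swap a b)) := by
    refine IsPGroup.of_card (n := 1) ?_
    rw [Nat.card_zpowers, pow_one, orderOf_eq_prime_iff]
    exact ⟨by simp [sq], by simp [hab]⟩
  obtain ⟨Q, hQ⟩ := hpz.exists_le_sylow
  refine isSimple_of_block (ρ := Fin (n % 2)) n (by simpa using hk)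
    (by simpa using Nat.mod_lt n Nat.two_pos) Q
    (fun _ => ⟨a, b, hab, hQ (Subgroup.mem_zpowers _)⟩) (by simp; exact Nat.div_add_mod n 2) ?_ S
  set U := altSylow 2 (Fin (n % 2)) (Q : Subgroup (Perm (Fin (n / 2))))
  have hU : IsPGroup 2 U :=
    (isPGroup_blockSylow Q.2).comap_of_injective (alternatingGroup _).subtype Subtype.val_injective
  have hUi : ¬ 2 ∣ U.index := fun h =>
    not_dvd_index_blockSylow (by simpa using Nat.mod_lt n Nat.two_pos) Q
      (h.trans (relIndex_dvd_index_of_normal_right _ _))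
  let P : Sylow 2 (alternatingGroup (Pts (Fin (n / 2)) 2 (Fin (n % 2)))) := hU.toSylow hUi
  have hN : IsPGroup 2 (Subgroup.normalizer (U : Set (alternatingGroup (Pts (Fin (n / 2)) 2 (Fin (n % 2)))))) := by
    rintro ⟨g, hg⟩
    obtain ⟨k, m, hm, hkm⟩ := Nat.exists_eq_two_pow_mul_odd (orderOf_pos g).ne'
    refine ⟨k, Subtype.ext ?_⟩
    show g ^ 2 ^ k = 1
    have hy : g ^ 2 ^ k ∈ Subgroup.normalizer (U : Set _) := Subgroup.pow_mem _ hg _
    have ho : Odd (orderOf (g ^ 2 ^ k)) := by
      refine hm.of_dvd_nat (orderOf_dvd_of_pow_eq_one ?_)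
      rw [← pow_mul, ← hkm, pow_orderOf_eq_one]
    refine Subtype.ext (eq_one_of_normalizes_alt (by simpa using hk) Q
      (by rwa [Subgroup.orderOf_coe]) fun y hy' hys => ?_)
    exact (Subgroup.mem_normalizer_iff.1 hy ⟨y, Perm.mem_alternatingGroup.2 hys⟩).1 hy'
  have heq := P.is_maximal' hN Subgroup.le_normalizer
  intro g hg
  exact Subgroup.subset_closure (Or.inl (Or.inl (show g ∈ (P : Subgroup _) from heq ▸ hg)))

theorem isSimple_odd (n p : ℕ) [Fact p.Prime] (hp2 : p ≠ 2) (hnp : p ^ 2 ≤ n) (hb : n % p ≤ 1)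
    (S : Sylow p (alternatingGroup (Fin n))) :
    (Cfsg.groupFusionSystem (S : Subgroup (alternatingGroup (Fin n)))).IsSimple p := by
  classical
  have hp := (Fact.out : p.Prime)
  set k := n / p with hk
  have hkp : p ≤ k := by
    rw [hk, Nat.le_div_iff_mul_le hp.pos]
    rwa [← sq]
  have h0 : 0 < k / p := Nat.div_pos hkp hp.pos
  obtain ⟨Q'⟩ := (inferInstance : Nonempty (Sylow p (Perm (Fin (k / p)))))
  haveI : Subsingleton (Fin (n % p)) := Fin.subsingleton_iff_le_one.2 hb
  have hρ' : Fintype.card (Fin (k % p)) < p := by simpa using Nat.mod_lt k hp.pos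
  have hρ : Fintype.card (Fin (n % p)) < p := by simpa using Nat.mod_lt n hp.pos
  let Q : Sylow p (Perm (Pts (Fin (k / p)) p (Fin (k % p)))) :=
    (isPGroup_blockSylow Q'.2).toSylow (not_dvd_index_blockSylow hρ' Q')
  have hcard : Fintype.card (Pts (Fin (k / p)) p (Fin (k % p))) = k := by
    simp only [Fintype.card_sum, Fintype.card_prod, ZMod.card, Fintype.card_fin]
    rw [mul_comm]; exact Nat.div_add_mod k p
  have hp3 : 3 ≤ p := by have := hp.two_le; omega
  refine isSimple_of_block (ρ := Fin (n % p)) n (by rw [hcard]; omega) hρ Q (fun h => absurd h hp2)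
    (by rw [hcard, Fintype.card_fin]; exact Nat.div_add_mod n p) ?_ S
  set A := alternatingGroup (Pts (Pts (Fin (k / p)) p (Fin (k % p))) p (Fin (n % p)))
  set U := altSylow p (Fin (n % p)) (Q : Subgroup (Perm (Pts (Fin (k / p)) p (Fin (k % p)))))
  set Pb := blockSylow p (Fin (n % p)) (Q : Subgroup (Perm (Pts (Fin (k / p)) p (Fin (k % p)))))
  intro g hg
  have hPbA : Pb ≤ A := fun y hy => by
    obtain ⟨k', hk'⟩ := isPGroup_blockSylow (ρ := Fin (n % p)) Q.2 ⟨y, hy⟩
    exact Perm.mem_alternatingGroup.2 (sign_eq_one_of_pow hp2 (congrArg Subtype.val hk'))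
  have h1 := normalizer_le_closure (ρ := Fin (n % p)) hp2 Q' ⟨0, h0⟩
    (Perm.mem_alternatingGroup.1 g.2)
    (fun y hy => (Subgroup.mem_normalizer_iff.1 hg ⟨y, hPbA hy⟩).1 hy)
  have hle : Subgroup.closure ((Pb : Set _) ∪ goodSet p Pb) ≤
      (Subgroup.closure ((U : Set A) ∪ (⊥ : Subgroup A) ∪ radicalGenerated p U ⊥)).map A.subtype := by
    refine (Subgroup.closure_le _).2 ?_
    rintro x (hx | ⟨hxs, hxP, R, hRP, hRc, hxR⟩)
    · exact ⟨⟨x, hPbA hx⟩, Subgroup.subset_closure (Or.inl (Or.inl hx)), rfl⟩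
    · refine ⟨⟨x, Perm.mem_alternatingGroup.2 hxs⟩, Subgroup.subset_closure (Or.inr
        ⟨?_, R.subgroupOf A, fun y hy => hRP hy, ?_, ?_⟩), rfl⟩
      · rw [Subgroup.mem_normalizer_iff]
        refine fun y => ⟨fun hy => hxP _ hy, fun hy => ?_⟩
        have := inv_conj hxP _ hy
        show (y : Perm _) ∈ Pb
        simpa [mul_assoc] using this
      · intro y hy
        refine Subgroup.mem_sup_left (hRc _ fun r hr => ?_)
        exact congrArg Subtype.val (hy ⟨r, hPbA (hRP hr)⟩ hr)
      · have h2 : Subgroup.closure (normPElts p R) ≤ (Subgroup.closure {z : A |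
            z ∈ Subgroup.normalizer (R.subgroupOf A : Set A) ∧ ∃ j : ℕ, z ^ p ^ j = 1}).map A.subtype := by
          refine (Subgroup.closure_le _).2 ?_
          rintro z ⟨hzR, hzp⟩
          refine ⟨⟨z, Perm.mem_alternatingGroup.2 (sign_eq_one_of_pow hp2 (k := 1) (by rwa [pow_one]))⟩,
            Subgroup.subset_closure ⟨?_, 1, Subtype.ext (show z ^ p ^ 1 = 1 from (congrArg (z ^ ·) (pow_one p)).trans hzp)⟩, rfl⟩
          rw [Subgroup.mem_normalizer_iff]
          refine fun y => ⟨fun hy => hzR _ hy, fun hy => ?_⟩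
          have := inv_conj hzR _ hy
          simpa [mul_assoc, Subgroup.mem_subgroupOf] using this
        obtain ⟨y, hy, hyx⟩ := h2 hxR
        rwa [← show y = (⟨x, _⟩ : A) from Subtype.ext hyx]
  obtain ⟨y, hy, hyg⟩ := hle h1
  rwa [← Subtype.ext hyg]

/-- Simplicity of the fusion system of the alternating group. -/
theorem isSimple_alternating (n p : ℕ) (hn : 6 ≤ n) [Fact p.Prime] (hnp : p ^ 2 ≤ n) (hb : n % p ≤ 1)
    (S : Sylow p (alternatingGroup (Fin n))) :
    (Cfsg.groupFusionSystem (S : Subgroup (alternatingGroup (Fin n)))).IsSimple p := by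
  rcases eq_or_ne p 2 with rfl | h2
  · exact isSimple_two n hn S
  · exact isSimple_odd n p h2 hnp hb S

end Cfsg.Agent.Lib.Fusion.AltBlocks
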