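import Cfsg.Agent.Lib.Fusion.AltBlocks

/-!
Symmetric and alternating groups on blocks: generation of Sylow subgroups by elements of order `p`,
conjugation inside the alternating group, centralizers of translations, rigidity of the blocks.
-/

set_option autoImplicit false

namespace Cfsg.Agent.Lib.Fusion.AltBlocks

variable {p : ℕ} [Fact p.Prime]

/-- A subgroup generated by its elements with `x ^ p = 1`. -/
def GenPrime (p : ℕ) {G : Type*} [Group G] (H : Subgroup G) : Prop :=
  H ≤ Subgroup.closure {x | x ∈ H ∧ x ^ p = 1}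

omit [Fact p.Prime] in
theorem GenPrime.map {G G' : Type*} [Group G] [Group G'] {H : Subgroup G} (h : GenPrime p H)
    (f : G →* G') : GenPrime p (H.map f) := by
  refine (Subgroup.map_mono h).trans ?_
  rw [MonoidHom.map_closure]
  refine Subgroup.closure_mono ?_
  rintro _ ⟨x, ⟨hx, hxp⟩, rfl⟩
  exact ⟨⟨x, hx, rfl⟩, by rw [← map_pow, hxp, map_one]⟩

theorem genPrime_blockSylow {ι : Type*} (ρ : Type*) {Q : Subgroup (Equiv.Perm ι)} (hQ : GenPrime p Q) :
    GenPrime p (blockSylow p ρ Q) := by
  rintro g ⟨t, q, hq, rfl⟩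
  refine mul_mem (Subgroup.subset_closure ⟨tr_mem_blockSylow Q t, tr_pow_prime t⟩) ?_
  have h : laHom q ∈ (Q.map (laHom (p := p) (ρ := ρ))) := ⟨q, hq, rfl⟩
  refine (Subgroup.closure_mono ?_) ((hQ.map laHom) h)
  rintro x ⟨⟨r, hr, rfl⟩, hx⟩
  exact ⟨la_mem_blockSylow hr, hx⟩

theorem genPrime_sylow_of_exists {G : Type*} [Group G] [Finite G] {P : Sylow p G}
    (h : GenPrime p (P : Subgroup G)) (P' : Sylow p G) : GenPrime p (P' : Subgroup G) := by
  obtain ⟨c, rfl⟩ := MulAction.exists_smul_eq G P P'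
  exact h.map (MulAut.conj c).toMonoidHom

/-- Sylow subgroups of symmetric groups are generated by elements with `x ^ p = 1`. -/
theorem genPrime_sylow_fin : ∀ (n : ℕ) (P : Sylow p (Equiv.Perm (Fin n))),
    GenPrime p (P : Subgroup (Equiv.Perm (Fin n))) := by
  intro n
  induction n using Nat.strong_induction_on with
  | _ n ih =>
    intro P
    have hp := (Fact.out : p.Prime)
    by_cases hn : n < p
    · have hbot : (P : Subgroup (Equiv.Perm (Fin n))) = ⊥ := by
        rw [← Subgroup.card_eq_one, P.card_eq_multiplicity, Nat.card_perm, Nat.card_fin,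
          Nat.factorization_eq_zero_of_not_dvd (hp.dvd_factorial.not.2 (by omega)), pow_zero]
      rw [hbot]
      exact bot_le
    · have hk : n / p < n := Nat.div_lt_self (by have := hp.two_le; omega) hp.one_lt
      obtain ⟨Q⟩ := (inferInstance : Nonempty (Sylow p (Equiv.Perm (Fin (n / p)))))
      have hρ : Fintype.card (Fin (n % p)) < p := by simpa using Nat.mod_lt n hp.pos
      let B : Sylow p (Equiv.Perm (Pts (Fin (n / p)) p (Fin (n % p)))) :=
        (isPGroup_blockSylow Q.2).toSylow (not_dvd_index_blockSylow hρ Q)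
      have e : Pts (Fin (n / p)) p (Fin (n % p)) ≃ Fin n :=
        Fintype.equivFinOfCardEq (by
          simp only [Fintype.card_sum, Fintype.card_prod, ZMod.card, Fintype.card_fin]
          rw [mul_comm]; exact Nat.div_add_mod n p)
      let f : Equiv.Perm (Pts (Fin (n / p)) p (Fin (n % p))) ≃* Equiv.Perm (Fin n) := e.permCongrHom
      have hB : GenPrime p (blockSylow p (Fin (n % p)) (Q : Subgroup (Equiv.Perm (Fin (n / p))))) :=
        genPrime_blockSylow _ (ih _ hk Q)
      let B' : Sylow p (Equiv.Perm (Fin n)) := (B.2.map f.toMonoidHom).toSylow fun h =>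
        B.not_dvd_index (h.trans (Subgroup.index_map_dvd _ f.surjective))
      exact genPrime_sylow_of_exists (P := B') (hB.map f.toMonoidHom) P

theorem genPrime_sylow {ι : Type*} [Fintype ι] (P : Sylow p (Equiv.Perm ι)) :
    GenPrime p (P : Subgroup (Equiv.Perm ι)) := by
  let f : Equiv.Perm ι ≃* Equiv.Perm (Fin (Fintype.card ι)) :=
    (Fintype.equivFin ι).permCongrHom
  let P' : Sylow p (Equiv.Perm (Fin (Fintype.card ι))) := (P.2.map f.toMonoidHom).toSylow fun h =>
    P.not_dvd_index (h.trans (Subgroup.index_map_dvd _ f.surjective))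
  have := (genPrime_sylow_fin _ P').map f.symm.toMonoidHom
  rwa [show (P' : Subgroup _) = (P : Subgroup _).map f.toMonoidHom from rfl, Subgroup.map_map,
    show f.symm.toMonoidHom.comp f.toMonoidHom = MonoidHom.id _ from
      MonoidHom.ext fun x => f.symm_apply_apply x, Subgroup.map_id] at this

/-- For odd `p ≤ k`, the alternating group is generated by elements with `x ^ p = 1`. -/
theorem alternating_le_closure {ι : Type*} [Fintype ι] [DecidableEq ι] (hp2 : p ≠ 2)
    (hk : p ≤ Fintype.card ι) :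
    alternatingGroup ι ≤ Subgroup.closure {x : Equiv.Perm ι | x ^ p = 1} := by
  have hp := (Fact.out : p.Prime)
  by_cases h5 : 5 ≤ Fintype.card ι
  · haveI : (Subgroup.closure {x : Equiv.Perm ι | x ^ p = 1}).Normal := by
      refine Subgroup.Normal.mk fun x hx g => ?_
      have h := Subgroup.mem_map_of_mem (MulAut.conj g).toMonoidHom hx
      rw [MonoidHom.map_closure] at h
      refine Subgroup.closure_mono ?_ h
      rintro _ ⟨y, hy, rfl⟩
      show _ ^ p = 1
      rw [← map_pow, hy, map_one]
    refine Equiv.Perm.alternatingGroup_le_of_normal (by simpa [Nat.card_eq_fintype_card] using h5) ?_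
    obtain ⟨x, hx⟩ := exists_prime_orderOf_dvd_card' p (G := Equiv.Perm ι)
      (by rw [Nat.card_perm, Nat.card_eq_fintype_card]; exact hp.dvd_factorial.2 hk)
    refine ⟨⟨⟨x, Subgroup.subset_closure (show x ^ p = 1 by rw [← hx, pow_orderOf_eq_one])⟩, 1, ?_⟩⟩
    intro h
    rw [show x = 1 from congrArg Subtype.val h, orderOf_one] at hx
    exact hp.ne_one hx.symm
  · have hp3 : p = 3 := by
      have := hp.two_le
      rcases (show p = 2 ∨ p = 3 ∨ p = 4 by omega) with h | h | h
      · exact absurd h hp2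
      · exact h
      · subst h; norm_num at hp
    subst hp3
    rw [← Equiv.Perm.closure_three_cycles_eq_alternating]
    refine Subgroup.closure_mono fun x hx => ?_
    show x ^ 3 = 1
    rw [← Equiv.Perm.IsThreeCycle.orderOf hx, pow_orderOf_eq_one]

variable {ι ρ : Type*}

theorem tr_single_apply [DecidableEq ι] (i j : ι) (x c : ZMod p) :
    (tr (Pi.single i c) : Equiv.Perm (Pts ι p ρ)) (Sum.inl (j, x)) =
      Sum.inl (j, x + if j = i then c else 0) := by
  rw [tr_inl, Pi.single_apply]

/-- A permutation commuting with each single translation is a translation. -/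
theorem eq_tr_of_commute [DecidableEq ι] [Subsingleton ρ] {x : Equiv.Perm (Pts ι p ρ)}
    (h : ∀ i, ∀ z, x (tr (Pi.single i (1 : ZMod p)) z) = tr (Pi.single i (1 : ZMod p)) (x z)) :
    ∃ t, x = tr t := by
  have key : ∀ i, ∃ c : ZMod p, x (Sum.inl (i, 0)) = Sum.inl (i, c) := by
    intro i
    have h1 := h i (Sum.inl (i, 0))
    rcases hx : x (Sum.inl (i, 0)) with ⟨j, c⟩ | r
    · by_cases hji : j = i
      · subst hji; exact ⟨c, rfl⟩
      · exfalso
        rw [hx, tr_single_apply, tr_single_apply, if_pos rfl, if_neg hji, add_zero, zero_add,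
          ← hx] at h1
        simp at h1
    · exfalso
      rw [hx, tr_single_apply, if_pos rfl, zero_add, tr_inr, ← hx] at h1
      simp at h1
  choose c hc using key
  refine ⟨c, perm_ext (fun i y => ?_) fun r => ?_⟩
  · obtain ⟨m, rfl⟩ : ∃ m : ℕ, (m : ZMod p) = y := ⟨y.val, ZMod.natCast_zmod_val y⟩
    induction m with
    | zero => simp [hc]
    | succ m ih =>
      have h1 := h i (Sum.inl (i, (m : ZMod p)))
      rw [tr_single_apply, if_pos rfl, ih, tr_inl, tr_single_apply, if_pos rfl] at h1
      rw [Nat.cast_succ, h1, tr_inl]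
      simp only [Sum.inl.injEq, Prod.mk.injEq, true_and]
      ring
  · rcases hx : x (Sum.inr r) with ⟨j, d⟩ | r'
    · exfalso
      have h1 := x.injective (hx.trans (show Sum.inl (j, d) = x (Sum.inl (j, d - c j)) by
        obtain ⟨m, hm⟩ : ∃ m : ℕ, (m : ZMod p) = d - c j := ⟨_, ZMod.natCast_zmod_val _⟩
        have hlin : ∀ m : ℕ, x (Sum.inl (j, (m : ZMod p))) = Sum.inl (j, (m : ZMod p) + c j) := by
          intro m
          induction m with
          | zero => simp [hc]
          | succ m ih =>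
            have h1 := h j (Sum.inl (j, (m : ZMod p)))
            rw [tr_single_apply, if_pos rfl, ih, tr_single_apply, if_pos rfl] at h1
            rw [Nat.cast_succ, h1]
            simp only [Sum.inl.injEq, Prod.mk.injEq, true_and]
            ring
        rw [← hm, hlin, hm, sub_add_cancel]))
      exact absurd h1 (by simp)
    · rw [tr_inr, Subsingleton.elim r' r]

/-- Recognition of block-affine permutations. -/
theorem exists_affine [Finite ι] [DecidableEq ι] [Subsingleton ρ] {g : Equiv.Perm (Pts ι p ρ)}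
    (h : ∀ i, ∃ (j : ι) (c : ZMod p), c ≠ 0 ∧
      g * tr (Pi.single i 1) * g⁻¹ = tr (Pi.single j c)) :
    ∃ (π : Equiv.Perm ι) (t : ι → ZMod p) (e : ι → (ZMod p)ˣ), g = la π * tr t * mu e := by
  choose f c hc hg using h
  have hinj : Function.Injective f := by
    intro i j hij
    by_contra hne
    set d : ZMod p := c j * (c i)⁻¹
    have h1 : g * tr (d • Pi.single i (1 : ZMod p)) * g⁻¹ = g * tr (Pi.single j 1) * g⁻¹ := by
      obtain ⟨m, hm⟩ : ∃ m : ℕ, (m : ZMod p) = d := ⟨_, ZMod.natCast_zmod_val _⟩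
      rw [hg j, ← hm, Nat.cast_smul_eq_nsmul, ← tr_pow, ← conj_pow, hg i, tr_pow, hij,
        ← Pi.single_smul, nsmul_eq_mul, hm]
      simp [d, hc i]
    have h2 := congrFun (tr_injective (mul_left_cancel (mul_right_cancel h1))) j
    simp [hne, Ne.symm hne] at h2
  set π : Equiv.Perm ι := Equiv.ofBijective f (Finite.injective_iff_bijective.1 hinj)
  set e : ι → (ZMod p)ˣ := fun i => Units.mk0 (c i) (hc i)
  set y : Equiv.Perm (Pts ι p ρ) := (mu e)⁻¹ * (la π)⁻¹ * g with hy
  have hxcomm : ∀ i z, y (tr (Pi.single i (1 : ZMod p)) z) = tr (Pi.single i (1 : ZMod p)) (y z) := by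
    intro i z
    have h1 : (la π * mu e) * tr (Pi.single i (1 : ZMod p)) * (la π * mu e)⁻¹ =
        (tr (Pi.single (f i) (c i)) : Equiv.Perm (Pts ι p ρ)) := by
      rw [show (la π * mu e) * tr (Pi.single i (1 : ZMod p)) * (la π * mu e)⁻¹ =
        la π * (mu e * tr (Pi.single i (1 : ZMod p)) * (mu e)⁻¹) * (la π)⁻¹ by group, mu_conj_tr,
        la_conj_tr]
      congr 1
      funext j
      obtain ⟨k, rfl⟩ := π.surjective j
      simp only [Equiv.Perm.inv_def, Equiv.symm_apply_apply, Pi.single_apply]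
      by_cases hk : k = i
      · subst hk; simp [π, e]
      · rw [if_neg hk, if_neg (fun hh => hk (hinj (by simpa [π] using hh))), mul_zero]
    have h2 : y * tr (Pi.single i (1 : ZMod p)) = tr (Pi.single i (1 : ZMod p)) * y := by
      rw [hy]
      have h3 : g * tr (Pi.single i (1 : ZMod p)) * g⁻¹ =
          (la π * mu e) * tr (Pi.single i (1 : ZMod p)) * (la π * mu e)⁻¹ := (hg i).trans h1.symm
      calc ((mu e)⁻¹ * (la π)⁻¹ * g) * tr (Pi.single i (1 : ZMod p))
          = (mu e)⁻¹ * (la π)⁻¹ * (g * tr (Pi.single i (1 : ZMod p)) * g⁻¹) * g := by group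
        _ = _ := by rw [h3]; group
    exact DFunLike.congr_fun h2 z
  obtain ⟨t, ht⟩ := eq_tr_of_commute hxcomm
  refine ⟨π, fun i => (e i : ZMod p) * t i, e, ?_⟩
  have hgt : g = la π * mu e * tr t := by rw [← ht, hy]; group
  rw [hgt, ← mu_conj_tr]
  group

section Even

variable [Fintype ι] [DecidableEq ι] [Fintype ρ] [DecidableEq ρ]

theorem exists_odd_commute (hk : 3 ≤ Fintype.card ι) (t : ι → ZMod p) :
    ∃ g : Equiv.Perm (Pts ι p ρ), Equiv.Perm.sign g = -1 ∧ g * tr t = tr t * g := by
  have hp := (Fact.out : p.Prime)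
  rcases eq_or_ne p 2 with hp2 | hp2
  · obtain ⟨i⟩ : Nonempty ι := Fintype.card_pos_iff.1 (by omega)
    refine ⟨tr (Pi.single i 1), ?_, by rw [tr_mul, tr_mul, add_comm]⟩
    have hs : (tr (Pi.single i (1 : ZMod p)) : Equiv.Perm (Pts ι p ρ)).IsSwap := by
      rw [← Equiv.Perm.card_support_eq_two, card_support_tr]
      simp [Pi.single_apply, hp2, Finset.filter_eq']
    exact hs.sign_eq
  · obtain ⟨a, b, hab, htab⟩ : ∃ a b : ι, a ≠ b ∧ (t a = 0 ↔ t b = 0) := by
      obtain ⟨a, -, b, -, hab, h⟩ := Finset.exists_ne_map_eq_of_card_lt_of_maps_to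
        (s := (Finset.univ : Finset ι)) (t := (Finset.univ : Finset Bool))
        (f := fun i => decide (t i = 0)) (by simp; omega) (fun _ _ => Finset.mem_univ _)
      exact ⟨a, b, hab, decide_eq_decide.1 h⟩
    obtain ⟨r, hr⟩ : ∃ r : (ZMod p)ˣ, (r : ZMod p) * t a = t b := by
      by_cases ha : t a = 0
      · exact ⟨1, by simp [ha, htab.1 ha]⟩
      · exact ⟨Units.mk0 (t b * (t a)⁻¹) (mul_ne_zero (fun h => ha (htab.2 h)) (inv_ne_zero ha)),
          by simp [ha]⟩
    set e : ι → (ZMod p)ˣ := fun i => if i = a then r else if i = b then r⁻¹ else 1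
    refine ⟨la (Equiv.swap a b) * mu e, ?_, ?_⟩
    · rw [map_mul, sign_la, sign_mu, Equiv.Perm.sign_swap hab, (hp.odd_of_ne_two hp2).neg_one_pow]
      have : ∏ i, e i = 1 := by
        rw [← Finset.mul_prod_erase _ _ (Finset.mem_univ a),
          ← Finset.mul_prod_erase _ _ (Finset.mem_erase.2 ⟨hab.symm, Finset.mem_univ b⟩),
          Finset.prod_eq_one (fun c hc => by
            simp only [Finset.mem_erase] at hc
            simp [e, hc.1, hc.2.1])]
        simp [e, hab.symm]
      rw [this, map_one, mul_one]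
    · rw [← mul_inv_eq_iff_eq_mul, show la (Equiv.swap a b) * mu e * tr t *
        (la (Equiv.swap a b) * mu e : Equiv.Perm (Pts ι p ρ))⁻¹ =
        la (Equiv.swap a b) * (mu e * tr t * (mu e)⁻¹) * (la (Equiv.swap a b))⁻¹ by group,
        mu_conj_tr, la_conj_tr]
      congr 1
      funext i
      rw [Equiv.swap_inv]
      by_cases hia : i = a
      · subst hia
        rw [Equiv.swap_apply_left]
        simp only [e, hab.symm, if_false, if_true]
        rw [← hr, Units.inv_mul_cancel_left]
      · by_cases hib : i = b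
        · subst hib
          rw [Equiv.swap_apply_right]
          simpa [e] using hr
        · rw [Equiv.swap_apply_of_ne_of_ne hia hib]
          simp [e, hia, hib]

theorem exists_even_conj (hk : 3 ≤ Fintype.card ι) {x : Equiv.Perm (Pts ι p ρ)} {t : ι → ZMod p}
    (hx : x ^ p = 1) (hc : x.support.card = (tr t : Equiv.Perm (Pts ι p ρ)).support.card) :
    ∃ g : Equiv.Perm (Pts ι p ρ), Equiv.Perm.sign g = 1 ∧ g * x * g⁻¹ = tr t := by
  obtain ⟨g, hg⟩ := isConj_iff.1 (isConj_of_pow_prime hx (tr_pow_prime t) hc)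
  rcases Int.units_eq_one_or (Equiv.Perm.sign g) with h | h
  · exact ⟨g, h, hg⟩
  · obtain ⟨o, ho, hot⟩ := exists_odd_commute (ρ := ρ) hk t
    refine ⟨o * g, by rw [map_mul, ho, h]; rfl, ?_⟩
    rw [show o * g * x * (o * g)⁻¹ = o * (g * x * g⁻¹) * o⁻¹ by group, hg, hot, mul_inv_cancel_right]

/-- The blocks which contain moved points. -/
def blockSupp (x : Equiv.Perm (Pts ι p ρ)) : Finset ι :=
  Finset.univ.filter fun i => x (Sum.inl (i, 0)) ≠ Sum.inl (i, 0)

theorem support_eq_blocks {Q : Subgroup (Equiv.Perm ι)} {x : Equiv.Perm (Pts ι p ρ)}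
    (hx : x ∈ blockSylow p ρ Q) :
    x.support = ((blockSupp x) ×ˢ (Finset.univ : Finset (ZMod p))).map Function.Embedding.inl := by
  obtain ⟨t, q, -, rfl⟩ := hx
  ext a
  rcases a with ⟨i, y⟩ | r <;> simp [blockSupp]

theorem card_support_blocks {Q : Subgroup (Equiv.Perm ι)} {x : Equiv.Perm (Pts ι p ρ)}
    (hx : x ∈ blockSylow p ρ Q) : x.support.card = (blockSupp x).card * p := by
  rw [support_eq_blocks hx, Finset.card_map, Finset.card_product, Finset.card_univ, ZMod.card]

/-- An element of support of size `p` is a translation in one block. -/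
theorem exists_single_of_card_support {Q : Subgroup (Equiv.Perm ι)} {x : Equiv.Perm (Pts ι p ρ)}
    (hx : x ∈ blockSylow p ρ Q) (hc : x.support.card = p) :
    ∃ (j : ι) (c : ZMod p), c ≠ 0 ∧ x = tr (Pi.single j c) := by
  have h1 := card_support_blocks hx
  rw [hc] at h1
  obtain ⟨j, hj⟩ := Finset.card_eq_one.1
    (Nat.eq_of_mul_eq_mul_right (Fact.out : p.Prime).pos (h1.symm.trans (one_mul p).symm))
  obtain ⟨t, q, -, rfl⟩ := hx
  have hmem : ∀ i, (q i ≠ i ∨ t (q i) ≠ 0) ↔ i = j := by
    intro i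
    have := Finset.ext_iff.1 hj i
    simp only [blockSupp, Finset.mem_filter, Finset.mem_univ, true_and, Equiv.Perm.coe_mul,
      Function.comp_apply, la_inl, tr_inl, zero_add, Ne, Sum.inl.injEq, Prod.mk.injEq,
      Finset.mem_singleton] at this
    rw [← this]
    tauto
  have hq : q = 1 := by
    ext i
    by_contra hqi
    have h2 := (hmem i).1 (Or.inl hqi)
    have h3 := (hmem (q i)).1 (Or.inl fun h => hqi (q.injective h))
    exact hqi (h3.trans h2.symm)
  subst hq
  simp only [Equiv.Perm.one_apply, ne_eq, not_true_eq_false, false_or] at hmem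
  refine ⟨j, t j, (hmem j).2 rfl, ?_⟩
  rw [la_one, mul_one]
  congr 1
  funext i
  by_cases hi : i = j
  · subst hi; simp
  · rw [Pi.single_eq_of_ne hi]
    by_contra h
    exact hi ((hmem i).1 h)

theorem blockSupp_tr (t : ι → ZMod p) :
    blockSupp (tr t : Equiv.Perm (Pts ι p ρ)) = Finset.univ.filter fun i => t i ≠ 0 := by
  ext i; simp [blockSupp]

theorem tr_eq_of_support_single {x : Equiv.Perm (Pts ι p ρ)} (hp2 : p = 2) {k : ι}
    (hx : x.support = (({k} : Finset ι) ×ˢ (Finset.univ : Finset (ZMod p))).map Function.Embedding.inl) :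
    x = tr (Pi.single k 1) := by
  subst hp2
  have h2 : x.support.card = 2 := by
    rw [hx, Finset.card_map, Finset.card_product, Finset.card_singleton, Finset.card_univ, ZMod.card]
  obtain ⟨a, b, hab, rfl⟩ := Equiv.Perm.card_support_eq_two.1 h2
  have h2' : (tr (Pi.single k (1 : ZMod 2)) : Equiv.Perm (Pts ι 2 ρ)).support.card = 2 := by
    rw [card_support_tr]
    simp [Pi.single_apply, Finset.filter_eq']
  obtain ⟨c, d, hcd, hcd'⟩ := Equiv.Perm.card_support_eq_two.1 h2'
  have hs : ({a, b} : Finset (Pts ι 2 ρ)) = {c, d} := by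
    rw [← Equiv.Perm.support_swap hab, hx, ← Equiv.Perm.support_swap hcd, ← hcd', support_tr]
    congr 2
    ext i
    simp [Pi.single_apply]
  rw [hcd']
  have ha : a = c ∨ a = d := by
    have : a ∈ ({c, d} : Finset (Pts ι 2 ρ)) := hs ▸ Finset.mem_insert_self _ _
    simpa using this
  have hb : b = c ∨ b = d := by
    have : b ∈ ({c, d} : Finset (Pts ι 2 ρ)) := hs ▸ (by simp : b ∈ ({a, b} : Finset (Pts ι 2 ρ)))
    simpa using this
  rcases ha with rfl | rfl <;> rcases hb with rfl | rfl
  · exact absurd rfl hab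
  · rfl
  · exact Equiv.swap_comm _ _
  · exact absurd rfl hab

end Even

end Cfsg.Agent.Lib.Fusion.AltBlocks
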