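import Mathlib
import Cfsg.Agent.Lib.PSolvable.Core
import Cfsg.Agent.Lib.PSolvable.CoprimeQuot
import Cfsg.Agent.Lib.SylowAux58.Basic

/-!
Powers of central elements of a Sylow subgroup of bounded class, in constrained groups.
-/

set_option autoImplicit false

namespace Cfsg.Agent.Lib.BoundedClass

open Subgroup

universe u

variable {p : ℕ}

/-- If `f` is nilpotent of degree `m` and `1 + f` has order `p`, then `p^n f = 0` as soon as
`m ≤ n (p - 1) + 1`. -/
theorem prime_pow_mul_eq_zero {R : Type*} [Ring R] [Fact p.Prime] {f : R} {m : ℕ} (hm : f ^ m = 0)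
    (h1 : (f + 1) ^ p = 1) {n : ℕ} (hn : m ≤ n * (p - 1) + 1) : (p : R) ^ n * f = 0 := by
  suffices H : ∀ d i k, m - i ≤ d → 1 ≤ i → m ≤ i + k * (p - 1) → (p : R) ^ k * f ^ i = 0 by
    have := H m 1 n (by omega) le_rfl (by omega)
    rwa [pow_one] at this
  have hp2 := (Fact.out : p.Prime).two_le
  intro d
  induction d with
  | zero =>
    intro i k hd _ _
    rw [pow_eq_zero_of_le (by omega : m ≤ i) hm, mul_zero]
  | succ d ih =>
    intro i k hd hi hk
    by_cases him : m ≤ i
    · rw [pow_eq_zero_of_le him hm, mul_zero]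
    obtain ⟨k, rfl⟩ : ∃ k', k = k' + 1 := ⟨k - 1, by
      rcases Nat.eq_zero_or_pos k with rfl | h
      · omega
      · omega⟩
    rw [Nat.succ_mul] at hk
    obtain ⟨i, rfl⟩ : ∃ i', i = i' + 1 := ⟨i - 1, by omega⟩
    have e : ∑ j ∈ Finset.range (p + 1), (p : R) ^ k * f ^ i * (f ^ j * (p.choose j : R)) =
        (p : R) ^ k * f ^ i := by
      have h2 := (Commute.one_right f).add_pow p
      rw [h1] at h2
      simp only [one_pow, mul_one] at h2
      rw [← Finset.mul_sum, ← h2, mul_one]
    rw [← Finset.sum_erase_add _ _ (show (0 : ℕ) ∈ Finset.range (p + 1) by simp), pow_zero, one_mul,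
      Nat.choose_zero_right, Nat.cast_one, mul_one, add_eq_right] at e
    rw [Finset.sum_eq_single (1 : ℕ) (fun j hj hj1 => ?_) (fun h => absurd (Finset.mem_erase.mpr
      ⟨one_ne_zero, Finset.mem_range.mpr (by omega)⟩) h), pow_one, Nat.choose_one_right] at e
    · rw [pow_succ, pow_succ, ← e]
      simp only [mul_assoc, (Nat.cast_commute p f).eq]
      rw [← mul_assoc (p : R) (f ^ i), (Nat.cast_commute p (f ^ i)).eq, mul_assoc,
        (Nat.cast_commute p f).eq]
    · obtain ⟨hj0, hj⟩ : j ≠ 0 ∧ j < p + 1 := by simpa using hj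
      rw [show (p : R) ^ k * f ^ i * (f ^ j * (p.choose j : R)) =
        (p : R) ^ k * f ^ (i + j) * (p.choose j : R) by simp only [mul_assoc, pow_add]]
      rcases eq_or_lt_of_le (Nat.lt_succ_iff.mp hj) with rfl | hjp
      · rw [ih (i + j) k (by omega) (by omega) (by omega), zero_mul]
      · obtain ⟨c, hc⟩ := (Fact.out : p.Prime).dvd_choose_self hj0 hjp
        have h3 := ih (i + j) (k + 1) (by omega) (by omega) (by rw [Nat.succ_mul]; omega)
        rw [hc, Nat.cast_mul, ← mul_assoc]
        rw [show (p : R) ^ k * f ^ (i + j) * (p : R) = (p : R) ^ (k + 1) * f ^ (i + j) by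
          rw [mul_assoc, ← (Nat.cast_commute p (f ^ (i + j))).eq, ← mul_assoc, ← pow_succ],
          h3, zero_mul]

/-- An element of order `p` modulo the centralizer of `V` fixes the `p^n`-th powers. -/
theorem conj_pow_eq [Fact p.Prime] {L : Type*} [Group L] (V : Subgroup L) [V.Normal]
    (hVc : IsMulCommutative V) {g : L} {m n : ℕ}
    (hm : ∀ v ∈ V, (fun x => g * x * g⁻¹ * x⁻¹)^[m] v = 1) (hmn : m ≤ n * (p - 1) + 1)
    (hgp : ∀ v ∈ V, g ^ p * v = v * g ^ p) : ∀ v ∈ V, g * v ^ p ^ n * g⁻¹ = v ^ p ^ n := by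
  letI : CommGroup V := { (inferInstance : Group V) with
    mul_comm := fun a b => hVc.is_comm.comm a b }
  let φ : AddMonoid.End (Additive V) :=
    MonoidHom.toAdditive (MulAut.conjNormal (H := V) g).toMonoidHom
  set f : AddMonoid.End (Additive V) := φ - 1 with hf
  have hφ : ∀ v : Additive V, ((φ v).toMul : L) = g * (v.toMul : L) * g⁻¹ := fun v => rfl
  have hfv : ∀ v : Additive V, ((f v).toMul : L) = g * (v.toMul : L) * g⁻¹ * (v.toMul : L)⁻¹ := by
    intro v
    show ((φ v - v).toMul : L) = _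
    rw [toMul_sub, div_eq_mul_inv, Subgroup.coe_mul, Subgroup.coe_inv, hφ]
  have hfi : ∀ (k : ℕ) (v : Additive V), (((f ^ k) v).toMul : L) =
      (fun x => g * x * g⁻¹ * x⁻¹)^[k] (v.toMul : L) := by
    intro k
    induction k with
    | zero => intro v; rfl
    | succ k ih =>
      intro v
      rw [Function.iterate_succ_apply', ← ih v, pow_succ']
      exact hfv _
  have hφi : ∀ (k : ℕ) (v : Additive V), (((φ ^ k) v).toMul : L) =
      g ^ k * (v.toMul : L) * (g ^ k)⁻¹ := by
    intro k
    induction k with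
    | zero => intro v; simp
    | succ k ih =>
      intro v
      rw [show ((φ ^ (k + 1)) v) = φ ((φ ^ k) v) by rw [pow_succ']; rfl, hφ, ih]
      group
  have h0 : f ^ m = 0 := AddMonoidHom.ext fun v => Additive.toMul.injective
    (Subtype.ext ((hfi m v).trans (hm _ v.toMul.2)))
  have h1 : (f + 1) ^ p = 1 := by
    rw [hf, sub_add_cancel]
    refine DFunLike.ext (F := AddMonoid.End (Additive V)) _ _
      fun v => Additive.toMul.injective (Subtype.ext ?_)
    rw [hφi, hgp _ v.toMul.2, mul_inv_cancel_right]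
    rfl
  intro v hv
  have h2 := congrArg (fun a : AddMonoid.End (Additive V) => a (Additive.ofMul ⟨v, hv⟩))
    (prime_pow_mul_eq_zero h0 h1 hmn)
  rw [← Nat.cast_pow] at h2
  have h3 : (p ^ n) • f (Additive.ofMul (⟨v, hv⟩ : V)) = 0 := h2
  rw [← map_nsmul] at h3
  have h4 := congrArg (fun a : Additive V => (a.toMul : L)) h3
  rw [hfv] at h4
  simpa [mul_inv_eq_one] using h4

/-- `N_L(P)` controls the invariant sets of `p^n`-th powers of central elements of `P`. -/
theorem conj_mem_of_class [Fact p.Prime] {m n : ℕ} (hmn : m ≤ n * (p - 1) + 1)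
    {L : Type u} [Group L] [Finite L] (P : Sylow p L)
    (hc : centralizer (pCore p L : Set L) ≤ pCore p L)
    (hm : ∀ g ∈ (P : Subgroup L), ∀ v ∈ (P : Subgroup L),
      (fun x => g * x * g⁻¹ * x⁻¹)^[m] v = 1)
    {X : Set L} (hX : ∀ x ∈ X, ∃ y ∈ (P : Subgroup L) ⊓ centralizer ((P : Subgroup L) : Set L),
      x = y ^ p ^ n)
    (hN : ∀ g ∈ normalizer ((P : Subgroup L) : Set L), ∀ x ∈ X, g * x * g⁻¹ ∈ X) :
    ∀ g : L, ∀ x ∈ X, g * x * g⁻¹ ∈ X := by
  suffices H : ∀ (d : ℕ) (K : Subgroup L), Nat.card K = d → (P : Subgroup L) ≤ K →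
      ∀ g ∈ K, ∀ x ∈ X, g * x * g⁻¹ ∈ X from fun g => H _ ⊤ rfl le_top g (mem_top g)
  intro d
  induction d using Nat.strong_induction_on with
  | _ d ih =>
    intro K hd hPK
    subst hd
    have hQP : pCore p L ≤ (P : Subgroup L) := PSolvable.pCore_le_sylow P
    have hQK := hQP.trans hPK
    -- work inside `K`
    haveI : (pCore p L).Characteristic := PSolvable.pCore_characteristic
    haveI : (pCore p L).Normal := Subgroup.normal_of_characteristic _
    have hQ' : (pCore p L).subgroupOf K ≤ pCore p K :=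
      PSolvable.le_pCore (PSolvable.pCore_isPGroup.of_equiv (subgroupOfEquivOfLe hQK).symm)
    set Q := pCore p K with hQ
    haveI : Q.Characteristic := PSolvable.pCore_characteristic
    haveI hQn : Q.Normal := Subgroup.normal_of_characteristic _
    set V : Subgroup K := Q ⊓ centralizer (Q : Set K) with hV
    haveI : (centralizer (Q : Set K)).Normal := by
      refine ⟨fun v hv a => mem_centralizer_iff.mpr fun q hq => ?_⟩
      have h1 := mem_centralizer_iff.mp hv (a⁻¹ * q * a)
        (by simpa using hQn.conj_mem q hq a⁻¹)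
      calc q * (a * v * a⁻¹) = a * ((a⁻¹ * q * a) * v) * a⁻¹ := by group
        _ = a * (v * (a⁻¹ * q * a)) * a⁻¹ := by rw [h1]
        _ = a * v * a⁻¹ * q := by group
    haveI : V.Normal := Subgroup.normal_inf_normal Q (centralizer (Q : Set K))
    have hVc : IsMulCommutative V :=
      ⟨⟨fun a b => Subtype.ext (mem_centralizer_iff.mp b.2.2 a a.2.1)⟩⟩
    set P' : Sylow p K := P.subtype hPK with hP'
    have hQP' : Q ≤ (P' : Subgroup K) := PSolvable.pCore_le_sylow P'
    -- the kernel
    set W : Set K := {w : K | ∃ v ∈ V, w = v ^ p ^ n} with hW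
    set C := centralizer W with hC
    haveI : C.Normal := by
      refine ⟨fun c hc' a => mem_centralizer_iff.mpr ?_⟩
      rintro _ ⟨v, hv, rfl⟩
      have h1 := mem_centralizer_iff.mp hc' ((a⁻¹ * v * a) ^ p ^ n)
        ⟨_, by simpa using (inferInstance : V.Normal).conj_mem v hv a⁻¹, rfl⟩
      have h2 : (a⁻¹ * v * a) ^ p ^ n = a⁻¹ * v ^ p ^ n * a := by
        simpa using conj_pow (i := p ^ n) (a := a⁻¹) (b := v)
      rw [h2] at h1
      calc v ^ p ^ n * (a * c * a⁻¹) = a * ((a⁻¹ * v ^ p ^ n * a) * c) * a⁻¹ := by group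
        _ = a * (c * (a⁻¹ * v ^ p ^ n * a)) * a⁻¹ := by rw [h1]
        _ = a * c * a⁻¹ * v ^ p ^ n := by group
    -- elements of order `p` modulo `Q` lie in `C`
    have hord : ∀ g ∈ (P' : Subgroup K), g ^ p ∈ Q → g ∈ C := by
      intro g hg hgp
      refine mem_centralizer_iff.mpr ?_
      rintro _ ⟨v, hv, rfl⟩
      have := conj_pow_eq V hVc (g := g) (m := m) (fun v hv => Subtype.ext ?_) hmn
        (fun v hv => mem_centralizer_iff.mp hv.2 _ hgp) v hv
      · exact (mul_inv_eq_iff_eq_mul.mp this).symm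
      · have e : ∀ k, (((fun x => g * x * g⁻¹ * x⁻¹)^[k] v : K) : L) =
            (fun x => (g : L) * x * (g : L)⁻¹ * x⁻¹)^[k] (v : L) := by
          intro k
          induction k with
          | zero => rfl
          | succ k ihk =>
            rw [Function.iterate_succ_apply', Function.iterate_succ_apply', ← ihk]
            rfl
        rw [e]
        exact hm _ hg _ (hQP' hv.1)
    have hfixC : ∀ c ∈ C, ∀ x ∈ X, (c : L) * x * (c : L)⁻¹ = x := by
      intro c hc' x hx
      obtain ⟨y, hy, rfl⟩ := hX x hx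
      have hyQ : y ∈ pCore p L := hc (centralizer_le (SetLike.coe_subset_coe.mpr hQP) hy.2)
      have hyV : (⟨y, hPK hy.1⟩ : K) ∈ V := ⟨hQ' hyQ, mem_centralizer_iff.mpr fun q hq =>
        Subtype.ext (mem_centralizer_iff.mp hy.2 _ (hQP' hq))⟩
      exact mul_inv_eq_iff_eq_mul.mpr
        (congrArg Subtype.val (mem_centralizer_iff.mp hc' _ ⟨_, hyV, rfl⟩)).symm
    -- Frattini
    set R := (P' : Subgroup K) ⊓ C with hR
    have hfr := SylowAux58.normalizer_inf_sup_eq_top P' C
    intro g hg x hx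
    obtain ⟨a, ha, c, hc', hac⟩ := mem_sup_of_normal_right.mp
      (hfr.ge (mem_top (⟨g, hg⟩ : K)))
    have hgx : g * x * g⁻¹ = (a : L) * x * (a : L)⁻¹ := by
      have e : g = (a : L) * (c : L) := (congrArg Subtype.val hac).symm
      calc g * x * g⁻¹ = (a : L) * ((c : L) * x * (c : L)⁻¹) * (a : L)⁻¹ := by rw [e]; group
        _ = _ := by rw [hfixC c hc' x hx]
    rw [hgx]
    set M := normalizer ((R : Subgroup K) : Set K) with hM
    by_cases hMt : M = ⊤
    · -- then `P` is normal in `K`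
      haveI : R.Normal := normalizer_eq_top_iff.mp hMt
      have hRQ : R ≤ Q := PSolvable.le_pCore (P'.2.to_le inf_le_left)
      have hPQ : (P' : Subgroup K) ≤ Q := by
        intro g hg
        obtain ⟨k, hk⟩ := P'.2 ⟨g, hg⟩
        have hk' : g ^ p ^ k = 1 := congrArg Subtype.val hk
        clear hk
        induction k generalizing g with
        | zero => rw [pow_zero, pow_one] at hk'; rw [hk']; exact one_mem _
        | succ k ihk =>
          exact hRQ ⟨hg, hord g hg (ihk (g := g ^ p) (pow_mem hg p)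
            (by rw [← pow_mul, ← pow_succ']; exact hk'))⟩
      refine hN _ (Cfsg.Agent.Lib.PSolvable.mem_normalizer_of_conj_mem fun y hy => ?_) x hx
      have := hQn.conj_mem _ (hPQ (show (⟨y, hPK hy⟩ : K) ∈ (P' : Subgroup K) from hy)) a
      exact hQP' this
    · have hPM : (P : Subgroup L) ≤ M.map K.subtype := by
        intro y hy
        have hy' : (⟨y, hPK hy⟩ : K) ∈ (P' : Subgroup K) := hy
        refine ⟨⟨y, hPK hy⟩, Cfsg.Agent.Lib.PSolvable.mem_normalizer_of_conj_mem fun r hr =>
          ⟨Subgroup.mul_mem _ (Subgroup.mul_mem _ hy' hr.1) (Subgroup.inv_mem _ hy'),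
            (inferInstance : C.Normal).conj_mem _ hr.2 _⟩, rfl⟩
      refine ih _ ?_ (M.map K.subtype) rfl hPM _ ⟨a, ha, rfl⟩ x hx
      rw [card_map_of_injective K.subtype_injective]
      exact lt_of_le_of_ne M.card_le_card_group fun e => hMt (M.eq_top_of_card_eq e)

end Cfsg.Agent.Lib.BoundedClass
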