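import Cfsg.Agent.Lib.Fusion.BoundedClass
import Cfsg.Agent.Lib.Fusion.ModelSystems
import Cfsg.Agent.Lib.Fusion.KNormalizer
import Cfsg.Agent.Lib.Fusion87.Normal

/-!
Powers of central elements are normal in a system over a group of bounded class.
-/

set_option autoImplicit false
set_option linter.style.haveILetI false

namespace Cfsg.Agent.Lib.Fusion

open Cfsg Cfsg.FusionSystem

universe u

variable {Ω : Type u} [Group Ω] {S : Subgroup Ω} {F : FusionSystem S} {p : ℕ}

theorem iterate_comm_mem_lowerCentralSeries {G : Type*} [Group G] {T : Subgroup G} {g v : G}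
    (hg : g ∈ T) (hv : v ∈ T) (k : ℕ) :
    (fun x => g * x * g⁻¹ * x⁻¹)^[k] v ∈ Subgroup.lowerCentralSeries T k := by
  induction k with
  | zero => exact hv
  | succ k ih =>
    rw [Function.iterate_succ_apply', Subgroup.lowerCentralSeries_succ]
    set y := (fun x => g * x * g⁻¹ * x⁻¹)^[k] v
    have h := inv_mem (Subgroup.commutator_mem_commutator ih hg)
    simpa [commutatorElement_def, mul_assoc] using h

theorem map_iterate_comm {G H : Type*} [Group G] [Group H] (f : G →* H) (g v : G) (k : ℕ) :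
    f ((fun x => g * x * g⁻¹ * x⁻¹)^[k] v) =
      (fun x => f g * x * (f g)⁻¹ * x⁻¹)^[k] (f v) := by
  induction k with
  | zero => rfl
  | succ k ih =>
    rw [Function.iterate_succ_apply', Function.iterate_succ_apply', ← ih]
    simp only [map_mul, map_inv]

/-- If `S` has class at most `m ≤ n (p - 1) + 1`, a characteristic subgroup of `S` consisting of
`p^n`-th powers of central elements is normal in every saturated system over `S`. -/
theorem isNormal_of_class [Finite S] [Fact p.Prime] (hS : IsPGroup p S) (hF : F.IsSaturated p)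
    {m n : ℕ} (hcl : Subgroup.lowerCentralSeries S m = ⊥) (hmn : m ≤ n * (p - 1) + 1)
    {A : Subgroup Ω} (hA : ∀ a ∈ A, ∃ y ∈ S ⊓ Subgroup.centralizer (S : Set Ω), a = y ^ p ^ n)
    (hchar : (A.subgroupOf S).Characteristic) : F.IsNormal A := by
  have hAS : A ≤ S := fun a ha => by
    obtain ⟨y, hy, rfl⟩ := hA a ha
    exact pow_mem hy.1 _
  have hAc : ∀ a ∈ A, ∀ s ∈ S, s * a = a * s := fun a ha s hs => by
    obtain ⟨y, hy, rfl⟩ := hA a ha
    exact Subgroup.mem_centralizer_iff.mp (pow_mem hy.2 _) s hs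
  have hn : ∀ g ∈ S, ∃ k ∈ (⊤ : Subgroup (MulAut A)), ∀ x : A, (k x : Ω) = g * (x : Ω) * g⁻¹ :=
    fun g hg => ⟨1, Subgroup.mem_top _, fun x => by
      rw [hAc x x.2 g hg, mul_inv_cancel_right]
      rfl⟩
  set E := extSystem F A S ⊤ hAS le_rfl hn
  haveI : Finite A := finite_of_le hAS
  have hfix : ∀ {P : Subgroup Ω} {φ : P →* Ω}, φ ∈ E.Hom P → ∀ x : P, (x : Ω) ∈ A → φ x ∈ A := by
    rintro P φ ⟨-, -, -, ψ, -, hψ, k, -, hk⟩ x hx
    rw [← hψ, show Subgroup.inclusion le_sup_left x =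
      Subgroup.inclusion (le_sup_right : A ≤ P ⊔ A) ⟨x, hx⟩ from Subtype.ext rfl, hk]
    exact (k _).2
  refine isNormal_iff_extHom.2 ⟨hAS, ?_⟩
  have key : F ≤ E := by
    refine Fusion87.le_of_autGroup_centric_radical hS hF fun R hRn hRc hRr hbig α hα =>
      (mem_autGroup hRn.1).2 ?_
    have hRS := hRn.1
    haveI : Finite R := finite_of_le hRS
    have hAR : A ≤ R := by
      intro a ha
      refine hRc.2 R (isConj_refl hRS) ⟨hAS ha, Subgroup.mem_centralizer_iff.mpr fun r hr => ?_⟩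
      exact hAc a ha r (hRS hr)
    have hαm := autGroup_hom_mem hRS hα
    suffices hstab : ∀ a : R, (a : Ω) ∈ A → (α a : Ω) ∈ A by
      have hsup : R ⊔ A ≤ R := sup_le le_rfl hAR
      obtain ⟨k, -, hk⟩ := exists_aut_of_hom (restrict_mem hαm hAR) fun x =>
        hstab (Subgroup.inclusion hAR x) x.2
      exact ⟨hαm, hRS, val_mem hαm, _, restrict_mem hαm hsup, fun x => rfl, k,
        Subgroup.mem_top _, fun x => (hk x).symm⟩
    set T := normalizerIn S R with hT
    obtain ⟨N, hN⟩ := exists_normalizerSystem F hRS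
    obtain ⟨L, _, _, ι, hm, -, -⟩ := exists_model_normalizer hS hF hRc hRn hN
    obtain ⟨P, hP⟩ := hm.2.2.1
    have hTS : T ≤ S := inf_le_left
    haveI : Finite T := finite_of_le hTS
    have hRT : R ≤ T := le_normalizerIn hRS
    have hr := hm.2.1
    -- `α` in the model
    have hαN : autHom α ∈ N.Hom R := by
      rw [hN R]
      refine ⟨hαm, hRT, fun x => hRT (α x).2, (autHom α).comp (Subgroup.inclusion (sup_le le_rfl le_rfl)),
        restrict_mem hαm _, fun x => rfl, ?_⟩
      ext y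
      constructor
      · rintro ⟨z, -, rfl⟩
        exact (α _).2
      · intro hy
        exact ⟨⟨α.symm ⟨y, hy⟩, Subgroup.mem_sup_left (α.symm ⟨y, hy⟩).2⟩, (α.symm ⟨y, hy⟩).2,
          congrArg Subtype.val (α.apply_symm_apply ⟨y, hy⟩)⟩
    obtain ⟨g, hg⟩ := (hr.2 R hRT (autHom α) fun x => hRT (α x).2).1 hαN
    set X : Set L := ι '' {t : T | (t : Ω) ∈ A}
    have hX : ∀ x ∈ X, ∃ y ∈ (P : Subgroup L) ⊓ Subgroup.centralizer ((P : Subgroup L) : Set L),
        x = y ^ p ^ n := by
      rintro _ ⟨a, ha, rfl⟩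
      obtain ⟨y, hy, hay⟩ := hA a ha
      have hyR : y ∈ R := hRc.2 R (isConj_refl hRS) ⟨hy.1, Subgroup.mem_centralizer_iff.mpr
        fun r hr => Subgroup.mem_centralizer_iff.mp hy.2 r (hRS hr)⟩
      refine ⟨ι ⟨y, hRT hyR⟩, ⟨hP ▸ ⟨_, rfl⟩, Subgroup.mem_centralizer_iff.mpr ?_⟩, ?_⟩
      · rw [hP]
        rintro _ ⟨t, rfl⟩
        rw [← map_mul, ← map_mul]
        exact congrArg ι (Subtype.ext (Subgroup.mem_centralizer_iff.mp hy.2 t (hTS t.2)))
      · rw [← map_pow]
        exact congrArg ι (Subtype.ext hay)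
    have hclP : ∀ g ∈ (P : Subgroup L), ∀ v ∈ (P : Subgroup L),
        (fun x => g * x * g⁻¹ * x⁻¹)^[m] v = 1 := by
      rw [hP]
      rintro _ ⟨s, rfl⟩ _ ⟨v, rfl⟩
      rw [← map_iterate_comm, show (fun x => s * x * s⁻¹ * x⁻¹)^[m] v = 1 from ?_, map_one]
      apply Subtype.ext
      rw [show (((fun x => s * x * s⁻¹ * x⁻¹)^[m] v : T) : Ω) = _ from
        map_iterate_comm T.subtype s v m]
      have h := iterate_comm_mem_lowerCentralSeries (T := S) (hTS s.2) (hTS v.2) m
      rw [hcl, Subgroup.mem_bot] at h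
      exact h
    have hNP : ∀ l ∈ Subgroup.normalizer ((P : Subgroup L) : Set L), ∀ x ∈ X,
        l * x * l⁻¹ ∈ X := by
      rintro l hl _ ⟨a, ha, rfl⟩
      have hc : ∀ t : T, l * ι t * l⁻¹ ∈ ι.range := fun t => by
        rw [← hP]
        exact (Subgroup.mem_normalizer_iff.mp hl _).mp (hP ▸ ⟨t, rfl⟩)
      let c : T →* ι.range :=
        ((MulAut.conj l).toMonoidHom.comp ι).codRestrict ι.range hc
      let φ : T →* Ω := T.subtype.comp ((MonoidHom.ofInjective hr.1).symm.toMonoidHom.comp c)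
      have hφ : ∀ t : T, ι ⟨φ t, ((MonoidHom.ofInjective hr.1).symm (c t)).2⟩ = l * ι t * l⁻¹ :=
        fun t => congrArg Subtype.val ((MonoidHom.ofInjective hr.1).apply_symm_apply (c t))
      have hφF : φ ∈ F.Hom T := by
        have hφN : φ ∈ N.Hom T := (hr.2 T le_rfl φ fun t =>
          ((MonoidHom.ofInjective hr.1).symm (c t)).2).2 ⟨l, fun t => hφ t⟩
        rw [hN T] at hφN
        exact hφN.1
      refine ⟨⟨φ a, ((MonoidHom.ofInjective hr.1).symm (c a)).2⟩, ?_, hφ a⟩
      show φ a ∈ A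
      by_cases hRSeq : R = S
      · have hTeq : T = S := le_antisymm hTS (hRSeq.ge.trans hRT)
        have hφS := restrict_mem hφF hTeq.ge
        obtain ⟨β, -, hβ⟩ := exists_aut_of_hom hφS fun x => val_mem hφS x
        have hb := Subgroup.characteristic_iff_le_comap.mp hchar β
          (show (⟨a, hTS a.2⟩ : S) ∈ A.subgroupOf S from ha)
        have : (β ⟨a, hTS a.2⟩ : Ω) ∈ A := hb
        rw [hβ] at this
        exact this
      · exact hfix (hbig _ (Fusion87.card_lt_normalizerIn hS hRS hRSeq) hφF) a ha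
    intro a ha
    have h1 := BoundedClass.conj_mem_of_class hmn P hm.2.2.2 hclP hX hNP g _
      ⟨⟨a, hRT a.2⟩, ha, rfl⟩
    obtain ⟨b, hb, hbe⟩ := h1
    rw [← hg a] at hbe
    exact (congrArg Subtype.val (hr.1 hbe)) ▸ hb
  exact key

end Cfsg.Agent.Lib.Fusion
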