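import Cfsg.Agent.Lib.Fusion.Basic

/-!
Intersections of fusion systems and the trace of a system on a subgroup.
-/

set_option autoImplicit false

namespace Cfsg.Agent.Lib.Fusion

open Cfsg Cfsg.FusionSystem

variable {Ω : Type*} [Group Ω] {S : Subgroup Ω}

/-- The maps lying in both systems. -/
def interSystem (F E : FusionSystem S) : FusionSystem S where
  Hom P := F.Hom P ∩ E.Hom P
  le_of_mem h := F.le_of_mem h.1
  injective_of_mem h := F.injective_of_mem h.1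
  conj_mem hP hg := ⟨F.conj_mem hP hg, E.conj_mem hP hg⟩
  comp_mem hφ hψ h := ⟨F.comp_mem hφ.1 hψ.1 h, E.comp_mem hφ.2 hψ.2 h⟩
  inv_mem := by
    intro P φ hφ
    obtain ⟨ψ, hψ, he⟩ := F.inv_mem hφ.1
    obtain ⟨ψ', hψ', he'⟩ := E.inv_mem hφ.2
    refine ⟨ψ, ⟨hψ, ?_⟩, he⟩
    have : ψ' = ψ := MonoidHom.ext fun y => by
      obtain ⟨_, x, rfl⟩ := y
      rw [he, he']
    exact this ▸ hψ'

theorem interSystem_le_left (F E : FusionSystem S) : (interSystem F E).IsSubsystemOf F :=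
  fun _ _ h => h.1

/-- The maps of `F` between subgroups of `T`. -/
def capSystem (F : FusionSystem S) {T : Subgroup Ω} (hT : T ≤ S) : FusionSystem T where
  Hom P := {φ | φ ∈ F.Hom P ∧ P ≤ T ∧ ∀ x, φ x ∈ T}
  le_of_mem h := ⟨h.2.1, h.2.2⟩
  injective_of_mem h := F.injective_of_mem h.1
  conj_mem hP hg := ⟨F.conj_mem (hP.trans hT) (hT hg), hP,
    fun x => T.mul_mem (T.mul_mem hg (hP x.2)) (T.inv_mem hg)⟩
  comp_mem hφ hψ h := ⟨F.comp_mem hφ.1 hψ.1 h, hφ.2.1, fun _ => hψ.2.2 _⟩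
  inv_mem := by
    intro P φ hφ
    obtain ⟨ψ, hψ, he⟩ := F.inv_mem hφ.1
    refine ⟨ψ, ⟨hψ, ?_, ?_⟩, he⟩
    · rintro _ ⟨x, rfl⟩
      exact hφ.2.2 x
    · rintro ⟨_, x, rfl⟩
      rw [he]
      exact hφ.2.1 x.2

end Cfsg.Agent.Lib.Fusion
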