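import Cfsg.Agent.Lib.Fusion.ControlReduction
import Cfsg.Agent.Lib.Fusion.ModelComplement
import Cfsg.Agent.Lib.Transfer.PResidual

/-!
Control of the centre of a saturated fusion system by the normalizer of a functor.
-/

set_option autoImplicit false
set_option linter.style.haveILetI false

namespace Cfsg.Agent.Lib.Fusion

open Cfsg Cfsg.FusionSystem

universe u

variable {Ω : Type u} [Group Ω] {S : Subgroup Ω} {F : FusionSystem S} {p : ℕ}

/-- Every map extends to one fixing `z`. -/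
def FixesExt (F : FusionSystem S) (z : Ω) : Prop :=
  ∀ P : Subgroup Ω, F.Hom P ⊆ extHom F (Subgroup.zpowers z) S ⊥ P

/-- The maps extending to ones fixing the central element `z`. -/
def centSystem (F : FusionSystem S) (z : Ω) (hz : z ∈ S ⊓ Subgroup.centralizer (S : Set Ω)) :
    FusionSystem S :=
  extSystem F (Subgroup.zpowers z) S ⊥ (Subgroup.zpowers_le.mpr hz.1) le_rfl
    (exists_bot_conj_of_centralizes (Subgroup.le_centralizer_iff.mp
      ((Subgroup.zpowers_le.mpr hz).trans inf_le_right)))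

theorem FixesExt.apply_eq {z : Ω} (h : FixesExt F z) {P : Subgroup Ω} {φ : P →* Ω}
    (hφ : φ ∈ F.Hom P) (hzP : z ∈ P) : φ ⟨z, hzP⟩ = z := by
  obtain ⟨-, -, -, ψ, -, hψe, k, hk, hkz⟩ := h P hφ
  rw [Subgroup.mem_bot] at hk
  have := hkz ⟨z, Subgroup.mem_zpowers z⟩
  rw [hk] at this
  rw [← hψe ⟨z, hzP⟩]
  exact this

theorem fixesExt_iff_isCentral {z : Ω} (hzS : z ∈ S) :
    FixesExt F z ↔ F.IsCentral (Subgroup.zpowers z) := by
  constructor
  · intro h
    refine ⟨Subgroup.zpowers_le.mpr hzS, fun P φ hφ => ?_⟩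
    obtain ⟨-, -, -, ψ, hψ, hψe, k, hk, hkz⟩ := h P hφ
    rw [Subgroup.mem_bot] at hk
    refine ⟨ψ, hψ, hψe, fun x => ?_⟩
    rw [hkz x, hk]
    rfl
  · rintro h P φ hφ
    obtain ⟨ψ, hψ, hψe, hψz⟩ := h.2 P φ hφ
    exact ⟨hφ, src_le hφ, val_mem hφ, ψ, hψ, hψe, 1, one_mem _, fun x => hψz x⟩

/-- The automorphisms of order prime to `p` and a Sylow subgroup generate. -/
theorem eq_top_of_coprime_of_sylow {A : Type*} [Group A] [Finite A] [Fact p.Prime] (H : Subgroup A)
    (R : Sylow p A) (hR : (R : Subgroup A) ≤ H) (hcop : ∀ a : A, (orderOf a).Coprime p → a ∈ H) :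
    H = ⊤ := by
  set N := Subgroup.normalClosure {a : A | (orderOf a).Coprime p}
  have hN : N ≤ H := by
    rw [show N = Subgroup.closure (Group.conjugatesOfSet {a : A | (orderOf a).Coprime p}) from rfl,
      Subgroup.closure_le]
    intro x hx
    obtain ⟨a, ha, hax⟩ := Group.mem_conjugatesOfSet_iff.mp hx
    obtain ⟨c, rfl⟩ := isConj_iff.mp hax
    refine hcop _ ?_
    rwa [← MulAut.conj_apply, MulEquiv.orderOf_eq]
  have hq : IsPGroup p (A ⧸ N) := by
    intro q
    obtain ⟨a, rfl⟩ := QuotientGroup.mk'_surjective N q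
    obtain ⟨k, hk⟩ := Transfer.exists_pow_coprime (p := p) a
    refine ⟨k, ?_⟩
    rw [← map_pow]
    exact (QuotientGroup.eq_one_iff (N := N) _).mpr (Subgroup.subset_normalClosure hk)
  have hs := QuotientGroup.mk'_surjective N
  have htop : ((R.mapSurjective hs : Sylow p (A ⧸ N)) : Subgroup (A ⧸ N)) = ⊤ :=
    ((R.mapSurjective hs).is_maximal' (hq.to_subgroup ⊤) le_top).symm
  rw [eq_top_iff]
  intro a _
  obtain ⟨r, hr, hra⟩ := htop.ge (Subgroup.mem_top (QuotientGroup.mk' N a))
  have h1 : r⁻¹ * a ∈ N := QuotientGroup.eq.mp hra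
  have := mul_mem (hR hr) (hN h1)
  rwa [mul_inv_cancel_left] at this

/-- If every map acts on `Q` through `S` and fixes `z` modulo `Q`, then the system fixes `z`. -/
theorem fixesExt_of_mod [Finite S] [Fact p.Prime] (hS : IsPGroup p S) (hF : F.IsSaturated p)
    {Q : Subgroup Ω} (hQ : F.IsNormal Q)
    (hin : ∀ P, F.Hom P ⊆ extHom F Q S (autInducedBy S Q) P) {z : Ω}
    (hz : z ∈ S ⊓ Subgroup.centralizer (S : Set Ω))
    (hmod : ∀ (P : Subgroup Ω) (φ : P →* Ω), φ ∈ F.Hom P → ∀ hzP : z ∈ P, z⁻¹ * φ ⟨z, hzP⟩ ∈ Q) :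
    FixesExt F z := by
  intro P φ hφ
  refine (Fusion87.le_of_autGroup_centric_radical hS hF (E := centSystem F z hz)
    fun R hRn hRc hRr _ => ?_) P hφ
  have hQR : Q ≤ R := Fusion87.le_centric_radical_of_isNormal hS hQ hRc hRr
  have hRS := hRn.1
  haveI : Finite R := finite_of_le hRS
  haveI : Finite Q := finite_of_le hQ.1
  haveI := finite_mulAut (S := S) hRS
  have hzR : z ∈ R := centralizerIn_le_of_isCentric hRc ⟨hz.1,
    Subgroup.centralizer_le (SetLike.coe_subset_coe.mpr hRS) hz.2⟩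
  let zR : R := ⟨z, hzR⟩
  let H : Subgroup (F.autGroup R) :=
    { carrier := {a | (a : MulAut R) zR = zR}
      one_mem' := rfl
      mul_mem' := fun {a b} ha hb => by
        show (a : MulAut R) ((b : MulAut R) zR) = zR
        rw [hb, ha]
      inv_mem' := fun {a} ha => by
        show (a : MulAut R)⁻¹ zR = zR
        conv_lhs => rw [← ha]
        exact MulEquiv.symm_apply_apply _ _ }
  obtain ⟨R₀, hR₀⟩ := (isFullyAutomized_of_isFullyNormalized hS hF hRn).2
  have hH : H = ⊤ := by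
    refine eq_top_of_coprime_of_sylow H R₀ (fun a ha => ?_) fun a ha => ?_
    · have : (a : MulAut R) ∈ autInducedBy S R := by
        have h2 : a ∈ (R₀ : Subgroup (F.autGroup R)) := ha
        rw [hR₀] at h2
        exact h2
      obtain ⟨g, hg, hga⟩ := mem_autInducedBy.1 this
      refine Subtype.ext ?_
      show ((a : MulAut R) zR : Ω) = z
      rw [hga]
      show g * z * g⁻¹ = z
      rw [Subgroup.mem_centralizer_iff.mp hz.2 g hg, mul_inv_cancel_right]
    · obtain ⟨α, hα⟩ := a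
      rw [Subgroup.orderOf_mk] at ha
      show α zR = zR
      have hαH := autGroup_hom_mem hRS hα
      obtain ⟨-, -, -, ψ, -, hψe, k, hk, hψk⟩ := hin R hαH
      obtain ⟨g, hg, hge⟩ := mem_autInducedBy.1 hk
      have hQconj : ∀ (x : R), (x : Ω) ∈ Q → (α x : Ω) = g * (x : Ω) * g⁻¹ := by
        intro x hx
        show autHom α x = _
        rw [← hψe x, ← hge ⟨x, hx⟩, ← hψk]
        rfl
      have hpow : ∀ (m : ℕ) (x : R), (x : Ω) ∈ Q →
          ((α ^ m) x : Ω) = g ^ m * (x : Ω) * (g ^ m)⁻¹ := by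
        intro m
        induction m with
        | zero => intro x _; simp
        | succ m ihm =>
          intro x hx
          have e := ihm x hx
          have hmem : ((α ^ m) x : Ω) ∈ Q := by
            rw [e]
            exact (Subgroup.mem_normalizer_iff.mp
              (le_normalizer_of_isNormal hQ (pow_mem hg m)) _).mp hx
          rw [pow_succ', MulAut.mul_apply, hQconj _ hmem, e, pow_succ']
          group
      -- `α` fixes `Q`
      obtain ⟨j, hj⟩ := hS ⟨g, hg⟩
      have hfix : ∀ x : R, (x : Ω) ∈ Q → α x = x := by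
        intro x hx
        have h1 : (α ^ p ^ j) x = x := Subtype.ext (by
          rw [hpow (p ^ j) x hx, show g ^ p ^ j = 1 from congrArg Subtype.val hj]
          simp)
        obtain ⟨m, hm⟩ := exists_pow_eq_self_of_coprime
          (show (p ^ j).Coprime (orderOf α) from (ha.symm.pow_left j))
        have h2 : ∀ i : ℕ, ((α ^ p ^ j) ^ i) x = x := by
          intro i
          induction i with
          | zero => rfl
          | succ i ihi => rw [pow_succ', MulAut.mul_apply, ihi, h1]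
        have := h2 m
        rwa [hm] at this
      set q : R := zR⁻¹ * α zR with hqdef
      have hqQ : (q : Ω) ∈ Q := hmod R _ hαH hzR
      have hit : ∀ m : ℕ, (α ^ m) zR = zR * q ^ m := by
        intro m
        induction m with
        | zero => simp
        | succ m ihm =>
          have hαq : α q = q := hfix q hqQ
          rw [pow_succ', MulAut.mul_apply, ihm, map_mul, map_pow, hαq,
            show α zR = zR * q by rw [hqdef, mul_inv_cancel_left], mul_assoc, ← pow_succ']
      have h3 := hit (orderOf α)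
      rw [pow_orderOf_eq_one, MulAut.one_apply, eq_comm, mul_eq_left] at h3
      obtain ⟨c, hc⟩ := (hS.to_le hQ.1).exists_card_eq
      have h4 : q ^ p ^ c = 1 := by
        have : ((⟨(q : Ω), hqQ⟩ : Q)) ^ p ^ c = 1 := by rw [← hc]; exact pow_card_eq_one'
        exact Subtype.ext (by simpa using congrArg Subtype.val this)
      have h5 : q = 1 := orderOf_eq_one_iff.1 (Nat.eq_one_of_dvd_coprimes (ha.pow_right c)
        (orderOf_dvd_of_pow_eq_one h3) (orderOf_dvd_of_pow_eq_one h4))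
      rw [hqdef, inv_mul_eq_one] at h5
      exact h5.symm
  intro α hα
  refine (mem_autGroup hRS).2 ?_
  have hαH := autGroup_hom_mem hRS hα
  have hfix : α zR = zR := by
    have : (⟨α, hα⟩ : F.autGroup R) ∈ H := hH ▸ Subgroup.mem_top _
    exact this
  have hsup : R ⊔ Subgroup.zpowers z ≤ R := sup_le le_rfl (Subgroup.zpowers_le.mpr hzR)
  refine ⟨hαH, hRS, fun x => hRS (α x).2, (autHom α).comp (Subgroup.inclusion hsup),
    restrict_mem hαH hsup, fun x => rfl, 1, one_mem _, fun x => ?_⟩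
  obtain ⟨i, hi⟩ := Subgroup.mem_zpowers_iff.mp x.2
  show (α _ : Ω) = (x : Ω)
  rw [show (Subgroup.inclusion hsup (Subgroup.inclusion le_sup_right x) : R) = zR ^ i from
    Subtype.ext (by rw [SubgroupClass.coe_zpow]; exact hi.symm), map_zpow, hfix,
    SubgroupClass.coe_zpow]
  exact hi

/-- Control of central `k`-th powers of central elements. -/
theorem fixesExt_of_normalizer [Fact p.Prime] (k : ℕ)
    (W : ∀ (Q : Type u) [Group Q], Subgroup Q) (hW1 : IsPositive W p) (hW2 : IsFunctorial W p)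
    (Free : ∀ {Ω : Type u} [Group Ω] {S : Subgroup Ω}, FusionSystem S → Prop)
    (hsub : ∀ {Ω : Type u} [Group Ω] {S T : Subgroup Ω} {F : FusionSystem S} {E : FusionSystem T},
      T ≤ S → E.IsSubsystemOf F → Free F → Free E)
    (hquot : ∀ {Ω : Type u} [Group Ω] {S : Subgroup Ω} [Finite S] {F : FusionSystem S}
      {Q : Subgroup Ω} {Ω' : Type u} [Group Ω'] {S' : Subgroup Ω'} {θ : S →* Ω'}
      {E : FusionSystem S'}, F.IsFactorSystem Q θ E → Free F → Free E)
    (hmodel : ∀ {Ω : Type u} [Group Ω] {S : Subgroup Ω} [Finite S] {F : FusionSystem S},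
      IsPGroup p S → ∀ {L : Type u} [Group L] [Finite L] (ι : ↥S →* L) (P : Sylow p L),
      (P : Subgroup L) = ι.range → F.IsRealizedBy ι → Free F →
      Subgroup.centralizer (pCore p L : Set L) ≤ pCore p L →
      ∀ z ∈ (P : Subgroup L) ⊓ Subgroup.centralizer ((P : Subgroup L) : Set L),
      (∃ y ∈ (P : Subgroup L) ⊓ Subgroup.centralizer ((P : Subgroup L) : Set L), y ^ k = z) →
      (∀ g ∈ Subgroup.normalizer (wSub W (P : Subgroup L) : Set L), g * z = z * g) →
      ∀ g : L, g * z = z * g)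
    {Ω : Type u} [Group Ω] {S : Subgroup Ω} [Finite S] (hS : IsPGroup p S) {F : FusionSystem S}
    (hF : F.IsSaturated p) (hfree : Free F) {z : Ω}
    (hz : z ∈ S ⊓ Subgroup.centralizer (S : Set Ω))
    (hk : ∃ y ∈ S ⊓ Subgroup.centralizer (S : Set Ω), y ^ k = z)
    (hN : ∀ (P : Subgroup Ω) (φ : P →* Ω), φ ∈ F.normalizerHom (wSub W S) P →
      ∀ hzP : z ∈ P, φ ⟨z, hzP⟩ = z) : FixesExt F z := by
  suffices H : ∀ n : ℕ, ∀ {Ω : Type u} [Group Ω] {S : Subgroup Ω} [Finite S],
      IsPGroup p S → Nat.card S = n → ∀ (F : FusionSystem S), F.IsSaturated p → Free F →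
      ∀ z ∈ S ⊓ Subgroup.centralizer (S : Set Ω),
      (∃ y ∈ S ⊓ Subgroup.centralizer (S : Set Ω), y ^ k = z) →
      (∀ (P : Subgroup Ω) (φ : P →* Ω), φ ∈ F.normalizerHom (wSub W S) P →
        ∀ hzP : z ∈ P, φ ⟨z, hzP⟩ = z) → FixesExt F z from
    H _ hS rfl F hF hfree z hz hk hN
  intro n
  induction n using Nat.strong_induction_on with
  | _ n ih =>
    intro Ω _ S _ hS hn F hF hfree z hz hk hN
    subst hn
    refine subset_of_reduction hS hF (centSystem F z hz) ?_ ?_ ?_
    · intro T hTS hTne hZT N hNs hNF hY P φ hφ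
      haveI : Finite T := finite_of_le hTS
      have hlt : Nat.card T < Nat.card S := lt_of_le_of_ne (Subgroup.card_le_of_le hTS) fun h =>
        hTne (Subgroup.eq_of_le_of_card_ge hTS h.ge)
      have hTp := hS.to_le hTS
      have hcen : ∀ x ∈ S ⊓ Subgroup.centralizer (S : Set Ω),
          x ∈ T ⊓ Subgroup.centralizer (T : Set Ω) := fun x hx =>
        ⟨hZT hx, Subgroup.centralizer_le (SetLike.coe_subset_coe.mpr hTS) hx.2⟩
      have hNz : ∀ (P : Subgroup Ω) (φ : P →* Ω), φ ∈ N.normalizerHom (wSub W T) P →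
          ∀ hzP : z ∈ P, φ ⟨z, hzP⟩ = z := by
        intro P φ hφ hzP
        rcases eq_or_ne T ⊥ with hT0 | hT0
        · have h1 : z = 1 := Subgroup.mem_bot.mp (hT0 ▸ (hcen z hz).1)
          subst h1
          exact map_one φ
        have hD : φ ∈ (centSystem F z hz).Hom P :=
          hY (wSub W T) (wSub_le W T) (wSub_ne_bot hW1 hTp hT0)
            (wSub_characteristic hW2 hTp) P hφ
        obtain ⟨-, -, -, ψ, -, hψe, c, hc, hcz⟩ := hD
        rw [Subgroup.mem_bot] at hc
        rw [← hψe ⟨z, hzP⟩]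
        exact (hcz ⟨z, Subgroup.mem_zpowers z⟩).trans (by rw [hc]; rfl)
      obtain ⟨y, hy, hyz⟩ := hk
      obtain ⟨h1, hPT, hφT, ψ, hψ, hψe, c, hc, hcz⟩ := ih _ hlt hTp rfl N hNs (hsub hTS hNF hfree)
        z (hcen z hz) ⟨y, hcen y hy, hyz⟩ hNz P hφ
      exact ⟨hNF _ h1, hPT.trans hTS, fun x => hTS (hφT x), ψ, hNF _ hψ, hψe, c, hc, hcz⟩
    · intro E hE hEF hEc _ P φ hφ
      obtain ⟨L, _, _, ι, hm⟩ := exists_model_of_isConstrained hS hEc
      obtain ⟨T, hT⟩ := hm.2.2.1
      have hι := hm.2.1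
      have hwS : wSub W S ≤ S := wSub_le W S
      have hmapW : wSub W (T : Subgroup L) = ((wSub W S).subgroupOf S).map ι := by
        rw [Subgroup.subgroupOf, Subgroup.comap_map_eq_self_of_injective S.subtype_injective,
          map_wSub hW2 hS ι hι.1 hT.symm]
      have hcen : ∀ x (hx : x ∈ S ⊓ Subgroup.centralizer (S : Set Ω)),
          ι ⟨x, hx.1⟩ ∈ (T : Subgroup L) ⊓ Subgroup.centralizer ((T : Subgroup L) : Set L) := by
        intro x hx
        refine ⟨hT.ge ⟨_, rfl⟩, Subgroup.mem_centralizer_iff.mpr fun w hw => ?_⟩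
        obtain ⟨s, rfl⟩ := hT.le hw
        rw [← map_mul, ← map_mul]
        congr 1
        exact Subtype.ext (Subgroup.mem_centralizer_iff.mp hx.2 s s.2)
      have hzQ : ι ⟨z, hz.1⟩ ∈ pCore p L :=
        hm.2.2.2 (Subgroup.centralizer_le (SetLike.coe_subset_coe.mpr
          (PSolvable.pCore_le_sylow T)) (hcen z hz).2)
      have hallg : ∀ g : L, g * ι ⟨z, hz.1⟩ = ι ⟨z, hz.1⟩ * g := by
        obtain ⟨y, hy, hyz⟩ := hk
        refine hmodel hS ι T hT hι (hsub le_rfl hEF hfree) hm.2.2.2 _ (hcen z hz)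
          ⟨_, hcen y hy, by rw [← map_pow]; exact congrArg ι (Subtype.ext hyz)⟩ ?_
        intro g hg
        rw [hmapW] at hg
        set R := Subgroup.zpowers z ⊔ wSub W S with hR
        have hRS : R ≤ S := sup_le (Subgroup.zpowers_le.mpr hz.1) hwS
        have hgR : ∀ r : R, g * ι ⟨r, hRS r.2⟩ * g⁻¹ ∈ ι.range := by
          have hle : R ≤ ((ι.range.comap (MulAut.conj g).toMonoidHom).comap ι).map S.subtype := by
            refine sup_le (Subgroup.zpowers_le.mpr ⟨⟨z, hz.1⟩, ?_, rfl⟩)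
              fun w hw => ⟨⟨w, hwS hw⟩, ?_, rfl⟩
            · show g * ι ⟨z, hz.1⟩ * g⁻¹ ∈ ι.range
              exact hT.le (PSolvable.pCore_le_sylow T
                ((inferInstance : (pCore p L).Normal).conj_mem _ hzQ g))
            · show g * ι ⟨w, hwS hw⟩ * g⁻¹ ∈ ι.range
              exact Subgroup.map_le_range ι _
                ((Subgroup.mem_normalizer_iff.mp hg _).mp ⟨⟨w, hwS hw⟩, hw, rfl⟩)
          intro r
          obtain ⟨w, hw, hwe⟩ := hle r.2
          have : w = ⟨r, hRS r.2⟩ := Subtype.ext hwe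
          rw [← this]
          exact hw
        obtain ⟨ψ, hψ, hψg⟩ := Fusion87.exists_hom_of_conj hι hRS g hgR
        have hψW : ((wSub W S).subgroupOf R).map ψ = wSub W S := by
          haveI : Finite (wSub W S : Subgroup Ω) := finite_of_le hwS
          refine Subgroup.eq_of_le_of_card_ge ?_ (card_imgSub
            (E.injective_of_mem hψ) le_sup_right).ge
          rintro _ ⟨r, hr, rfl⟩
          have e := hψg r (val_mem hψ r)
          obtain ⟨w, hw, hwe⟩ := (Subgroup.mem_normalizer_iff.mp hg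
            (ι ⟨r, hRS r.2⟩)).mp ⟨⟨r, hRS r.2⟩, hr, rfl⟩
          rw [show ψ r = (w : Ω) from congrArg Subtype.val (hι.1 (e.trans hwe.symm))]
          exact hw
        have hzR : Subgroup.zpowers z ≤ R := le_sup_left
        have hSn : S ≤ normalizerIn S (wSub W S) :=
          le_inf le_rfl (Subgroup.le_normalizer.trans (normalizer_le_normalizer_wSub hW2 hS))
        have hmem : ψ.comp (Subgroup.inclusion hzR) ∈
            F.normalizerHom (wSub W S) (Subgroup.zpowers z) :=
          ⟨hEF _ (restrict_mem hψ _), (hzR.trans hRS).trans hSn,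
            fun y => hSn (val_mem hψ _), ψ, hEF _ hψ, fun y => rfl, hψW⟩
        have h1 := hN _ _ hmem (Subgroup.mem_zpowers z)
        have h2 := hψg ⟨z, hzR (Subgroup.mem_zpowers z)⟩ (val_mem hψ _)
        rw [show (⟨ψ ⟨z, hzR (Subgroup.mem_zpowers z)⟩, val_mem hψ _⟩ : S) = ⟨z, hz.1⟩ from
          Subtype.ext h1] at h2
        exact (eq_mul_inv_iff_mul_eq.mp h2).symm
      obtain ⟨g, hg⟩ := Fusion87.exists_conj_of_hom hι hφ
      have hPS := src_le hφ
      have hRS : P ⊔ Subgroup.zpowers z ≤ S := sup_le hPS (Subgroup.zpowers_le.mpr hz.1)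
      have hgR : ∀ r : (P ⊔ Subgroup.zpowers z : Subgroup Ω),
          g * ι ⟨r, hRS r.2⟩ * g⁻¹ ∈ ι.range := by
        have hle : P ⊔ Subgroup.zpowers z ≤
            ((ι.range.comap (MulAut.conj g).toMonoidHom).comap ι).map S.subtype := by
          refine sup_le (fun x hx => ⟨⟨x, hPS hx⟩, ?_, rfl⟩)
            (Subgroup.zpowers_le.mpr ⟨⟨z, hz.1⟩, ?_, rfl⟩)
          · show g * ι ⟨x, hPS hx⟩ * g⁻¹ ∈ ι.range
            exact ⟨_, hg ⟨x, hx⟩⟩
          · show g * ι ⟨z, hz.1⟩ * g⁻¹ ∈ ι.range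
            rw [hallg g, mul_inv_cancel_right]
            exact ⟨_, rfl⟩
        intro r
        obtain ⟨w, hw, hwe⟩ := hle r.2
        have : w = ⟨r, hRS r.2⟩ := Subtype.ext hwe
        rw [← this]
        exact hw
      obtain ⟨ψ, hψ, hψg⟩ := Fusion87.exists_hom_of_conj hι hRS g hgR
      refine ⟨hEF _ hφ, hPS, val_mem hφ, ψ, hEF _ hψ, fun x => ?_, 1, one_mem _, fun x => ?_⟩
      · exact congrArg Subtype.val (hι.1 ((hψg (Subgroup.inclusion le_sup_left x)
          (val_mem hψ _)).trans (hg x).symm))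
      · have e := hψg (Subgroup.inclusion le_sup_right x) (val_mem hψ _)
        have hcx : g * ι ⟨x, hRS (Subgroup.mem_sup_right x.2)⟩ =
            ι ⟨x, hRS (Subgroup.mem_sup_right x.2)⟩ * g := by
          obtain ⟨i, hi⟩ := Subgroup.mem_zpowers_iff.mp x.2
          rw [show (⟨(x : Ω), hRS (Subgroup.mem_sup_right x.2)⟩ : S) = ⟨z, hz.1⟩ ^ i from
            Subtype.ext (by rw [SubgroupClass.coe_zpow]; exact hi.symm), map_zpow]
          exact ((show Commute g (ι ⟨z, hz.1⟩) from hallg g).zpow_right i).eq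
        exact congrArg Subtype.val (hι.1 (e.trans (mul_inv_eq_iff_eq_mul.mpr hcx)))
    · intro E hE hEF Q hQ hQ1 hc hmax hin htop P φ hφ
      have hSQ := le_normalizer_of_isNormal hQ
      haveI hQnor : (Q.subgroupOf S).Normal := ⟨fun n hn g =>
        ((Subgroup.mem_normalizer_iff.mp (hSQ g.2)) n).mp hn⟩
      let θ : S →* ↥S ⧸ Q.subgroupOf S := QuotientGroup.mk' _
      have hθ : ∀ x : S, θ x = 1 ↔ (x : Ω) ∈ Q := fun x => QuotientGroup.eq_one_iff x
      have hrange : θ.range = ⊤ :=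
        MonoidHom.range_eq_top_of_surjective θ (QuotientGroup.mk'_surjective _)
      obtain ⟨E', hE'⟩ := FusionFactor.exists_factorSystem
        (S' := (⊤ : Subgroup (↥S ⧸ Q.subgroupOf S))) θ E (stronglyClosed_of_isNormal hQ) hθ hrange
      have hm := isSurjectiveMorphism_of_isFactorSystem hS hE (stronglyClosed_of_isNormal hQ) hE'
      have hsat : E'.IsSaturated p := isSaturated_of_surjectiveMorphism hS hE hm
      have hS' : IsPGroup p (⊤ : Subgroup (↥S ⧸ Q.subgroupOf S)) :=
        (hS.to_quotient _).to_subgroup ⊤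
      have hQ2 : 1 < Nat.card Q := by
        haveI : Finite Q := finite_of_le hQ.1
        haveI : Nontrivial Q := (Subgroup.nontrivial_iff_ne_bot Q).mpr hQ1
        exact Finite.one_lt_card
      have hidx : (Q.subgroupOf S).index * Nat.card Q = Nat.card S := by
        rw [← Nat.card_congr (Subgroup.subgroupOfEquivOfLe hQ.1).toEquiv, mul_comm]
        exact Subgroup.card_mul_index _
      have hlt : Nat.card (⊤ : Subgroup (↥S ⧸ Q.subgroupOf S)) < Nat.card S := by
        rw [Subgroup.card_top, ← Subgroup.index_eq_card, ← hidx]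
        exact lt_mul_of_one_lt_right (Nat.pos_of_ne_zero Subgroup.index_ne_zero_of_finite) hQ2
      have hcen : ∀ x (hx : x ∈ S ⊓ Subgroup.centralizer (S : Set Ω)),
          θ ⟨x, hx.1⟩ ∈ (⊤ : Subgroup (↥S ⧸ Q.subgroupOf S)) ⊓
            Subgroup.centralizer ((⊤ : Subgroup (↥S ⧸ Q.subgroupOf S)) : Set _) := by
        intro x hx
        refine ⟨Subgroup.mem_top _, Subgroup.mem_centralizer_iff.mpr fun w _ => ?_⟩
        obtain ⟨s, rfl⟩ := QuotientGroup.mk'_surjective _ w
        show θ s * θ _ = θ _ * θ s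
        rw [← map_mul, ← map_mul]
        congr 1
        exact Subtype.ext (Subgroup.mem_centralizer_iff.mp hx.2 s s.2)
      obtain ⟨y, hy, hyz⟩ := hk
      have hfixQ : FixesExt E' (θ ⟨z, hz.1⟩) := by
        refine ih _ hlt hS' rfl E' hsat (hquot hE' (hsub le_rfl hEF hfree)) _ (hcen z hz)
          ⟨_, hcen y hy, by rw [← map_pow]; exact congrArg θ (Subtype.ext hyz)⟩ ?_
        intro P' φ' hφ' hzP'
        obtain ⟨-, hP'N, -, ψ', hψ', hψe', hψY⟩ := hφ'
        set Y := wSub W (⊤ : Subgroup (↥S ⧸ Q.subgroupOf S)) with hYdef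
        obtain ⟨hsrc, ψ, hψ, hPs, hψS, hPimg, hind⟩ := (hE'.2.2.2 _ _).mp hψ'
        by_cases htriv : (⊤ : Subgroup (↥S ⧸ Q.subgroupOf S)) = ⊥
        · have h1 : θ ⟨z, hz.1⟩ = 1 := Subgroup.mem_bot.mp (htriv ▸ Subgroup.mem_top _)
          rw [show (⟨θ ⟨z, hz.1⟩, hzP'⟩ : P') = 1 from Subtype.ext h1, map_one, h1]
        let V := preimageAlong θ Y
        have hVS : V ≤ S := Subgroup.map_subtype_le _
        have hYn : normalizerIn (⊤ : Subgroup (↥S ⧸ Q.subgroupOf S)) Y = ⊤ :=
          normalizerIn_eq_self_of_characteristic (wSub_le W _) (wSub_characteristic hW2 hS')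
        have hVnor : normalizerIn S V = S := by
          refine le_antisymm inf_le_left (le_inf le_rfl fun g hg => ?_)
          have key : ∀ g ∈ S, ∀ x ∈ V, g * x * g⁻¹ ∈ V := by
            rintro g hgS _ ⟨x, hx, rfl⟩
            refine ⟨⟨g, hgS⟩ * x * ⟨g, hgS⟩⁻¹, ?_, rfl⟩
            show θ _ ∈ Y
            rw [map_mul, map_mul, map_inv]
            exact (Subgroup.mem_normalizer_iff.mp
              (hYn.ge (Subgroup.mem_top (θ ⟨g, hgS⟩))).2 _).mp hx
          rw [Subgroup.mem_normalizer_iff]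
          refine fun x => ⟨key g hg x, fun hx => ?_⟩
          simpa [mul_assoc] using key _ (S.inv_mem hg) _ hx
        have hVn : ¬ E.IsNormal V := by
          intro h
          refine wSub_ne_bot hW1 hS' htriv (eq_bot_iff.mpr fun w hw => ?_)
          obtain ⟨x, rfl⟩ := QuotientGroup.mk'_surjective _ w
          exact Subgroup.mem_bot.mpr ((hθ x).mpr (hmax _ h ⟨x, hw, rfl⟩))
        have hVU : V ≤ preimageAlong θ (P' ⊔ Y) :=
          Subgroup.map_mono (Subgroup.comap_mono le_sup_right)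
        have hψV : ∀ v : preimageAlong θ (P' ⊔ Y), (v : Ω) ∈ V → ψ v ∈ V := by
          rintro v ⟨s, hs, hsv⟩
          refine ⟨⟨ψ v, hψS v⟩, ?_, rfl⟩
          show θ _ ∈ Y
          rw [← hind v]
          refine hψY.le ⟨_, ?_, rfl⟩
          show θ _ ∈ Y
          rwa [show (⟨(v : Ω), hPs v.2⟩ : S) = s from Subtype.ext hsv.symm]
        have hψN : ψ ∈ E.normalizerHom V (preimageAlong θ (P' ⊔ Y)) := by
          refine ⟨hψ, by rw [hVnor]; exact hPs, fun x => by rw [hVnor]; exact hψS x,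
            ψ.comp (Subgroup.inclusion (sup_le le_rfl hVU)), restrict_mem hψ _, fun x => rfl, ?_⟩
          haveI : Finite V := finite_of_le hVS
          refine Subgroup.eq_of_le_of_card_ge ?_ (card_imgSub
            (E.injective_of_mem (restrict_mem hψ (sup_le le_rfl hVU))) le_sup_right).ge
          intro w hw
          obtain ⟨v, hv, rfl⟩ := mem_imgSub.1 hw
          exact hψV _ hv
        have hzU : z ∈ preimageAlong θ (P' ⊔ Y) :=
          ⟨⟨z, hz.1⟩, show θ _ ∈ P' ⊔ Y from Subgroup.mem_sup_left hzP', rfl⟩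
        have hψz : ψ ⟨z, hzU⟩ = z := by
          obtain ⟨-, -, -, χ, -, hχe, c, hc', hcz⟩ := htop V hVS hVnor hVn _ hψN
          rw [Subgroup.mem_bot] at hc'
          rw [← hχe ⟨z, hzU⟩]
          exact (hcz ⟨z, Subgroup.mem_zpowers z⟩).trans (by rw [hc']; rfl)
        rw [← hψe' ⟨θ ⟨z, hz.1⟩, hzP'⟩]
        refine (hind ⟨z, hzU⟩).trans (congrArg θ (Subtype.ext ?_))
        exact hψz
      have hEz : FixesExt E z := by
        refine fixesExt_of_mod hS hE hQ hin hz fun R χ hχ hzR => ?_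
        obtain ⟨χ', hχ', hP, hχS, hP', he⟩ := hm.1.2 R χ hχ
        have h1 : θ ⟨χ ⟨z, hzR⟩, hχS _⟩ = θ ⟨z, hz.1⟩ := by
          rw [← he ⟨z, hzR⟩]
          exact hfixQ.apply_eq hχ' (hP' ⟨z, hzR⟩)
        refine (hθ (⟨z, hz.1⟩⁻¹ * ⟨χ ⟨z, hzR⟩, hχS _⟩)).mp ?_
        rw [map_mul, map_inv, h1, inv_mul_cancel]
      obtain ⟨h1, h2, h3, ψ, hψ, hψe, c, hc', hcz⟩ := hEz P hφ
      exact ⟨hEF _ h1, h2, h3, ψ, hEF _ hψ, hψe, c, hc', hcz⟩

end Cfsg.Agent.Lib.Fusion
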