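import Cfsg.Agent.Lib.Fusion.CentralControl

/-!
The centre of a system and the centre of the normalizer of a functor.
-/

set_option autoImplicit false
set_option linter.style.haveILetI false

namespace Cfsg.Agent.Lib.Fusion

open Cfsg Cfsg.FusionSystem

universe u

variable {Ω : Type u} [Group Ω] {S : Subgroup Ω} {F : FusionSystem S} {p : ℕ}

theorem apply_of_isCentral {Z : Subgroup Ω} (hZ : F.IsCentral Z) {P : Subgroup Ω} {φ : P →* Ω}
    (hφ : φ ∈ F.Hom P) {z : Ω} (hz : z ∈ Z) (hzP : z ∈ P) : φ ⟨z, hzP⟩ = z := by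
  obtain ⟨ψ, -, h1, h2⟩ := hZ.2 P φ hφ
  rw [← h1 ⟨z, hzP⟩]
  exact h2 ⟨z, hz⟩

theorem mem_center_of_mem_center [Finite S] {z : Ω} (hz : z ∈ F.center) :
    z ∈ S ⊓ Subgroup.centralizer (S : Set Ω) := by
  have hc := FusionFactor.isCentral_center F
  refine ⟨hc.1 hz, Subgroup.mem_centralizer_iff.mpr fun s hs => ?_⟩
  have h := apply_of_isCentral hc (F.conj_mem le_rfl hs) hz (hc.1 hz)
  exact mul_inv_eq_iff_eq_mul.mp h

/-- The centre of `F` is central in the normalizer of a normal subgroup of `S`. -/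
theorem center_le_normalizer_center [Finite S] {X : Subgroup Ω} (hXn : normalizerIn S X = S)
    {N : FusionSystem (normalizerIn S X)} (hN : F.IsNormalizerSystem X N) :
    F.center ≤ N.center := by
  have hc := FusionFactor.isCentral_center F
  have hcS : F.center ≤ normalizerIn S X := hXn.symm ▸ hc.1
  refine le_sSup (show N.IsCentral F.center from ⟨hcS, fun P φ hφ => ?_⟩)
  rw [hN P] at hφ
  obtain ⟨-, hP, hφS, χ, hχ, hχφ, hχX⟩ := hφ
  obtain ⟨χ', hχ', hχ'e, hχ'z⟩ := hc.2 _ χ hχ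
  have hsub : P ⊔ F.center ≤ (P ⊔ X) ⊔ F.center := sup_le_sup_right le_sup_left _
  have hsub2 : (P ⊔ F.center) ⊔ X ≤ (P ⊔ X) ⊔ F.center :=
    sup_le hsub (le_sup_right.trans le_sup_left)
  have hval : ∀ x, χ' (Subgroup.inclusion hsub x) ∈ normalizerIn S X := fun x => by
    rw [hXn]; exact val_mem hχ' _
  refine ⟨χ'.comp (Subgroup.inclusion hsub), ?_, fun x => ?_, fun z => hχ'z z⟩
  · rw [hN]
    refine ⟨restrict_mem hχ' _, sup_le hP hcS, hval,
      χ'.comp (Subgroup.inclusion hsub2), restrict_mem hχ' _, fun x => rfl, ?_⟩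
    ext y
    constructor
    · rintro ⟨v, hv, rfl⟩
      refine hχX.le ⟨⟨(v : Ω), Subgroup.mem_sup_right hv⟩, hv, ?_⟩
      exact (hχ'e ⟨(v : Ω), Subgroup.mem_sup_right hv⟩).symm
    · intro hy
      obtain ⟨v, hv, hve⟩ := hχX.ge hy
      refine ⟨⟨(v : Ω), Subgroup.mem_sup_right hv⟩, hv, ?_⟩
      rw [← hve]
      exact hχ'e v
  · exact (hχ'e (Subgroup.inclusion le_sup_left x)).trans (hχφ x)

theorem le_center_of_fixesExt [Finite S] {z : Ω} (hz : z ∈ S) (h : FixesExt F z) :
    z ∈ F.center :=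
  (le_sSup ((fixesExt_iff_isCentral hz).mp h) : Subgroup.zpowers z ≤ F.center)
    (Subgroup.mem_zpowers z)

/-- The part of `Z(N_F(W(S)))` given by `k`-th powers is central in `F`. -/
theorem mem_center_of_functor [Fact p.Prime] (k : ℕ) (W : ∀ (Q : Type u) [Group Q], Subgroup Q)
    (hW1 : IsPositive W p) (hW2 : IsFunctorial W p)
    (Free : ∀ {Ω : Type u} [Group Ω] {S : Subgroup Ω}, FusionSystem S → Prop)
    (hsub : ∀ {Ω : Type u} [Group Ω] {S T : Subgroup Ω} {F : FusionSystem S} {E : FusionSystem T},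
      T ≤ S → E.IsSubsystemOf F → Free F → Free E)
    (hquot : ∀ {Ω : Type u} [Group Ω] {S : Subgroup Ω} [Finite S] {F : FusionSystem S}
      {Q : Subgroup Ω} {Ω' : Type u} [Group Ω'] {S' : Subgroup Ω'} {θ : S →* Ω'}
      {E : FusionSystem S'}, F.IsFactorSystem Q θ E → Free F → Free E)
    (hmodel : ∀ {Ω : Type u} [Group Ω] {S : Subgroup Ω} [Finite S] {F : FusionSystem S},
      IsPGroup p S → ∀ {L : Type u} [Group L] [Finite L] (ι : ↥S →* L) (P : Sylow p L),
      (P : Subgroup L) = ι.range → F.IsRealizedBy ι → Free F →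
      Subgroup.centralizer (pCore p L : Set L) ≤ pCore p L →
      ∀ z ∈ (P : Subgroup L) ⊓ Subgroup.centralizer ((P : Subgroup L) : Set L),
      (∃ y ∈ (P : Subgroup L) ⊓ Subgroup.centralizer ((P : Subgroup L) : Set L), y ^ k = z) →
      (∀ g ∈ Subgroup.normalizer (wSub W (P : Subgroup L) : Set L), g * z = z * g) →
      ∀ g : L, g * z = z * g)
    {Ω : Type u} [Group Ω] {S : Subgroup Ω} [Finite S] (hS : IsPGroup p S) {F : FusionSystem S}
    (hF : F.IsSaturated p) (hfree : Free F)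
    {N : FusionSystem (normalizerIn S (wSub W S))} (hN : F.IsNormalizerSystem (wSub W S) N)
    {z : Ω} (hzN : z ∈ N.center)
    (hk : ∃ y ∈ S ⊓ Subgroup.centralizer (S : Set Ω), y ^ k = z) : z ∈ F.center := by
  haveI := finite_normalizerIn (S := S) (wSub W S)
  have hWn : normalizerIn S (wSub W S) = S :=
    le_antisymm inf_le_left
      (le_inf le_rfl (Subgroup.le_normalizer.trans (normalizer_le_normalizer_wSub hW2 hS)))
  have hz' := mem_center_of_mem_center hzN
  rw [hWn] at hz'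
  refine le_center_of_fixesExt hz'.1 (fixesExt_of_normalizer k W hW1 hW2 Free hsub hquot hmodel
    hS hF hfree hz' hk fun P φ hφ hzP => ?_)
  exact apply_of_isCentral (FusionFactor.isCentral_center N) ((hN P).symm ▸ hφ) hzN hzP

end Cfsg.Agent.Lib.Fusion
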