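import Cfsg.Agent.Lib.Fusion.Saturated
import Cfsg.Agent.Lib.Fusion.GroupFusion
import Cfsg.Agent.Lib.Fusion.Factor

/-!
The product of two saturated fusion systems is saturated.
-/

set_option autoImplicit false

namespace Cfsg.Agent.Lib.Fusion

open Cfsg Cfsg.FusionSystem

variable {Ω₁ Ω₂ : Type*} [Group Ω₁] [Group Ω₂] {S₁ : Subgroup Ω₁} {S₂ : Subgroup Ω₂}
  {F₁ : FusionSystem S₁} {F₂ : FusionSystem S₂} {E : FusionSystem (S₁.prod S₂)} {p : ℕ}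

local notation "π₁" => MonoidHom.fst Ω₁ Ω₂
local notation "π₂" => MonoidHom.snd Ω₁ Ω₂

theorem mem_productHom (hE : IsProductSystem F₁ F₂ E) {P : Subgroup (Ω₁ × Ω₂)} {P₁ : Subgroup Ω₁}
    {P₂ : Subgroup Ω₂} (hP : P ≤ S₁.prod S₂) (h₁ : P.map π₁ ≤ P₁) (h₂ : P.map π₂ ≤ P₂)
    {φ₁ : P₁ →* Ω₁} (hφ₁ : φ₁ ∈ F₁.Hom P₁) {φ₂ : P₂ →* Ω₂} (hφ₂ : φ₂ ∈ F₂.Hom P₂)
    {φ : P →* Ω₁ × Ω₂}
    (h : ∀ x : P, φ x = (φ₁ ⟨(x : Ω₁ × Ω₂).1, h₁ ⟨x, x.2, rfl⟩⟩, φ₂ ⟨(x : Ω₁ × Ω₂).2, h₂ ⟨x, x.2, rfl⟩⟩)) :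
    φ ∈ E.Hom P :=
  (hE P φ).2 ⟨hP, _, restrict_mem hφ₁ h₁, _, restrict_mem hφ₂ h₂, fun x _ _ => h x⟩

theorem isPGroup_prod {p : ℕ} (h₁ : IsPGroup p S₁) (h₂ : IsPGroup p S₂) :
    IsPGroup p (S₁.prod S₂) := by
  rintro ⟨⟨a, b⟩, ha, hb⟩
  obtain ⟨k, hk⟩ := h₁ ⟨a, ha⟩
  obtain ⟨l, hl⟩ := h₂ ⟨b, hb⟩
  have hk' : a ^ p ^ k = 1 := congrArg Subtype.val hk
  have hl' : b ^ p ^ l = 1 := congrArg Subtype.val hl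
  refine ⟨k + l, Subtype.ext (Prod.ext ?_ ?_)⟩
  · show a ^ p ^ (k + l) = 1
    rw [pow_add, pow_mul, hk', one_pow]
  · show b ^ p ^ (k + l) = 1
    rw [pow_add, mul_comm, pow_mul, hl', one_pow]

theorem isReceptive_product (hE : IsProductSystem F₁ F₂ E) {Q : Subgroup (Ω₁ × Ω₂)}
    (hQ : Q ≤ S₁.prod S₂) (hQ₁ : F₁.IsReceptive (Q.map π₁)) (hQ₂ : F₂.IsReceptive (Q.map π₂)) :
    E.IsReceptive Q := by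
  refine ⟨hQ, fun P φ hφ hr => ?_⟩
  obtain ⟨hP, φ₁, hφ₁, φ₂, hφ₂, heq⟩ := (hE P φ).1 hφ
  have hx : ∀ x : P, φ x =
      (φ₁ ⟨(x : Ω₁ × Ω₂).1, ⟨x, x.2, rfl⟩⟩, φ₂ ⟨(x : Ω₁ × Ω₂).2, ⟨x, x.2, rfl⟩⟩) :=
    fun x => heq x _ _
  have hr₁ : φ₁.range = Q.map π₁ := by
    ext y
    constructor
    · rintro ⟨⟨_, x, hxP, rfl⟩, rfl⟩
      exact ⟨φ ⟨x, hxP⟩, hr ▸ ⟨_, rfl⟩, congrArg Prod.fst (hx ⟨x, hxP⟩)⟩
    · rintro ⟨q, hq, rfl⟩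
      obtain ⟨x, rfl⟩ := hr.ge hq
      exact ⟨_, (congrArg Prod.fst (hx x)).symm⟩
  have hr₂ : φ₂.range = Q.map π₂ := by
    ext y
    constructor
    · rintro ⟨⟨_, x, hxP, rfl⟩, rfl⟩
      exact ⟨φ ⟨x, hxP⟩, hr ▸ ⟨_, rfl⟩, congrArg Prod.snd (hx ⟨x, hxP⟩)⟩
    · rintro ⟨q, hq, rfl⟩
      obtain ⟨x, rfl⟩ := hr.ge hq
      exact ⟨_, (congrArg Prod.snd (hx x)).symm⟩
  obtain ⟨ψ₁, hψ₁, hψ₁e⟩ := hQ₁.2 _ φ₁ hφ₁ hr₁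
  obtain ⟨ψ₂, hψ₂, hψ₂e⟩ := hQ₂.2 _ φ₂ hφ₂ hr₂
  set N := extender (S₁.prod S₂) P φ with hN
  have hN₁ : ∀ g ∈ N, g.1 ∈ extender S₁ (P.map π₁) φ₁ := by
    intro g hg
    obtain ⟨hgS, hgN, h, hhS, hh⟩ := mem_extender.1 hg
    refine mem_extender.2 ⟨hgS.1,
      Subgroup.le_normalizer_map π₁ (Subgroup.mem_map_of_mem π₁ hgN), h.1, hhS.1, ?_⟩
    rintro ⟨_, x, hxP, rfl⟩ hgx
    have hgxP := (Subgroup.mem_normalizer_iff.1 hgN x).1 hxP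
    have he := congrArg Prod.fst (hh ⟨x, hxP⟩ hgxP)
    rw [hx, hx] at he
    exact he
  have hN₂ : ∀ g ∈ N, g.2 ∈ extender S₂ (P.map π₂) φ₂ := by
    intro g hg
    obtain ⟨hgS, hgN, h, hhS, hh⟩ := mem_extender.1 hg
    refine mem_extender.2 ⟨hgS.2,
      Subgroup.le_normalizer_map π₂ (Subgroup.mem_map_of_mem π₂ hgN), h.2, hhS.2, ?_⟩
    rintro ⟨_, x, hxP, rfl⟩ hgx
    have hgxP := (Subgroup.mem_normalizer_iff.1 hgN x).1 hxP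
    have he := congrArg Prod.snd (hh ⟨x, hxP⟩ hgxP)
    rw [hx, hx] at he
    exact he
  let ψ : N →* Ω₁ × Ω₂ :=
    { toFun := fun g => (ψ₁ ⟨_, hN₁ g g.2⟩, ψ₂ ⟨_, hN₂ g g.2⟩)
      map_one' := Prod.ext (map_one ψ₁) (map_one ψ₂)
      map_mul' := fun a b => Prod.ext
        (map_mul ψ₁ ⟨_, hN₁ a a.2⟩ ⟨_, hN₁ b b.2⟩) (map_mul ψ₂ ⟨_, hN₂ a a.2⟩ ⟨_, hN₂ b b.2⟩) }
  refine ⟨ψ, mem_productHom hE (fun g hg => (mem_extender.1 hg).1)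
    (by rintro _ ⟨g, hg, rfl⟩; exact hN₁ g hg) (by rintro _ ⟨g, hg, rfl⟩; exact hN₂ g hg)
    hψ₁ hψ₂ (fun g => rfl), fun x hxP hxN => ?_⟩
  rw [hx ⟨x, hxP⟩]
  exact Prod.ext (hψ₁e _ _ _) (hψ₂e _ _ _)

section

variable {Q₁ : Subgroup Ω₁} {Q₂ : Subgroup Ω₂}

/-- The action of a pair of automorphisms, read in the ambient product. -/
def pairApply (a : MulAut Q₁ × MulAut Q₂) (y : Q₁ × Q₂) : Ω₁ × Ω₂ :=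
  ((a.1 y.1 : Ω₁), (a.2 y.2 : Ω₂))

/-- The pairs of automorphisms of `F₁` and `F₂` that stabilise `Q`. -/
def pairStab (F₁ : FusionSystem S₁) (F₂ : FusionSystem S₂) (Q₁ : Subgroup Ω₁) (Q₂ : Subgroup Ω₂)
    (Q : Subgroup (Ω₁ × Ω₂)) : Subgroup (F₁.autGroup Q₁ × F₂.autGroup Q₂) where
  carrier := {a | ∀ y : Q₁ × Q₂, ((y.1 : Ω₁), (y.2 : Ω₂)) ∈ Q ↔
    pairApply ((a.1 : MulAut Q₁), (a.2 : MulAut Q₂)) y ∈ Q}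
  one_mem' := fun y => Iff.rfl
  mul_mem' := fun {a b} ha hb y => (hb y).trans (ha (b.1.1 y.1, b.2.1 y.2))
  inv_mem' := fun {a} ha y => by
    have h := (ha (a.1.1.symm y.1, a.2.1.symm y.2)).symm
    simpa [pairApply] using h

theorem fst_mem_of_le {Q : Subgroup (Ω₁ × Ω₂)} (h : Q.map π₁ ≤ Q₁) (x : Q) :
    (x : Ω₁ × Ω₂).1 ∈ Q₁ := h ⟨x, x.2, rfl⟩

theorem snd_mem_of_le {Q : Subgroup (Ω₁ × Ω₂)} (h : Q.map π₂ ≤ Q₂) (x : Q) :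
    (x : Ω₁ × Ω₂).2 ∈ Q₂ := h ⟨x, x.2, rfl⟩

/-- The automorphism of `Q` given by a pair that stabilises it. -/
def pairHom (Q : Subgroup (Ω₁ × Ω₂)) (h₁ : Q.map π₁ ≤ Q₁) (h₂ : Q.map π₂ ≤ Q₂) :
    pairStab F₁ F₂ Q₁ Q₂ Q →* MulAut Q where
  toFun a :=
    { toFun := fun x => ⟨pairApply ((a.1.1 : MulAut Q₁), (a.1.2 : MulAut Q₂))
          (⟨_, fst_mem_of_le h₁ x⟩, ⟨_, snd_mem_of_le h₂ x⟩),
        (a.2 (⟨_, fst_mem_of_le h₁ x⟩, ⟨_, snd_mem_of_le h₂ x⟩)).1 x.2⟩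
      invFun := fun x => ⟨pairApply (((a⁻¹).1.1 : MulAut Q₁), ((a⁻¹).1.2 : MulAut Q₂))
          (⟨_, fst_mem_of_le h₁ x⟩, ⟨_, snd_mem_of_le h₂ x⟩),
        ((a⁻¹).2 (⟨_, fst_mem_of_le h₁ x⟩, ⟨_, snd_mem_of_le h₂ x⟩)).1 x.2⟩
      left_inv := fun x => by
        refine Subtype.ext (Prod.ext ?_ ?_) <;> simp [pairApply]
      right_inv := fun x => by
        refine Subtype.ext (Prod.ext ?_ ?_) <;> simp [pairApply]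
      map_mul' := fun x y => by
        have e₁ : (⟨_, fst_mem_of_le h₁ (x * y)⟩ : Q₁) =
          ⟨_, fst_mem_of_le h₁ x⟩ * ⟨_, fst_mem_of_le h₁ y⟩ := rfl
        have e₂ : (⟨_, snd_mem_of_le h₂ (x * y)⟩ : Q₂) =
          ⟨_, snd_mem_of_le h₂ x⟩ * ⟨_, snd_mem_of_le h₂ y⟩ := rfl
        refine Subtype.ext ?_
        simp only [pairApply, e₁, e₂, map_mul]
        rfl }
  map_one' := MulEquiv.ext fun x => rfl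
  map_mul' a b := MulEquiv.ext fun x => rfl

theorem pairHom_apply (Q : Subgroup (Ω₁ × Ω₂)) (h₁ : Q.map π₁ ≤ Q₁) (h₂ : Q.map π₂ ≤ Q₂)
    (a : pairStab F₁ F₂ Q₁ Q₂ Q) (x : Q) :
    ((pairHom Q h₁ h₂ a x : Q) : Ω₁ × Ω₂) =
      (((a.1.1 : MulAut Q₁) ⟨_, fst_mem_of_le h₁ x⟩ : Ω₁),
        ((a.1.2 : MulAut Q₂) ⟨_, snd_mem_of_le h₂ x⟩ : Ω₂)) := rfl

theorem map_pairHom_top (hE : IsProductSystem F₁ F₂ E) [Finite S₁] [Finite S₂]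
    {Q : Subgroup (Ω₁ × Ω₂)} (hQ : Q ≤ S₁.prod S₂) (h₁ : Q.map π₁ = Q₁) (h₂ : Q.map π₂ = Q₂) :
    (pairHom (F₁ := F₁) (F₂ := F₂) Q h₁.le h₂.le).range = E.autGroup Q := by
  have hQ₁ : Q₁ ≤ S₁ := h₁ ▸ fun _ ⟨x, hx, he⟩ => he ▸ (hQ hx).1
  have hQ₂ : Q₂ ≤ S₂ := h₂ ▸ fun _ ⟨x, hx, he⟩ => he ▸ (hQ hx).2
  have := finite_of_le hQ₁
  have := finite_of_le hQ₂
  refine le_antisymm ?_ fun α hα => ?_
  · rintro _ ⟨a, rfl⟩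
    exact (mem_autGroup hQ).2 (mem_productHom hE hQ h₁.le h₂.le
      (autGroup_hom_mem hQ₁ a.1.1.2) (autGroup_hom_mem hQ₂ a.1.2.2) fun x => rfl)
  · obtain ⟨-, φ₁, hφ₁, φ₂, hφ₂, heq⟩ := (hE Q _).1 (autGroup_hom_mem hQ hα)
    have hx : ∀ x : Q, (α x : Ω₁ × Ω₂) =
        (φ₁ ⟨(x : Ω₁ × Ω₂).1, ⟨x, x.2, rfl⟩⟩, φ₂ ⟨(x : Ω₁ × Ω₂).2, ⟨x, x.2, rfl⟩⟩) :=
      fun x => heq x _ _
    obtain ⟨a₁, ha₁, ha₁e⟩ := exists_aut_of_hom (mem_cast hφ₁ h₁) fun z => by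
      obtain ⟨x, hxQ, hxz⟩ := h₁.ge z.2
      refine h₁.le ⟨_, (α ⟨x, hxQ⟩).2, (congrArg Prod.fst (hx ⟨x, hxQ⟩)).trans ?_⟩
      exact congrArg φ₁ (Subtype.ext hxz)
    obtain ⟨a₂, ha₂, ha₂e⟩ := exists_aut_of_hom (mem_cast hφ₂ h₂) fun z => by
      obtain ⟨x, hxQ, hxz⟩ := h₂.ge z.2
      refine h₂.le ⟨_, (α ⟨x, hxQ⟩).2, (congrArg Prod.snd (hx ⟨x, hxQ⟩)).trans ?_⟩
      exact congrArg φ₂ (Subtype.ext hxz)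
    have key : ∀ x : Q, pairApply (a₁, a₂) (⟨_, fst_mem_of_le h₁.le x⟩, ⟨_, snd_mem_of_le h₂.le x⟩)
        = (α x : Ω₁ × Ω₂) := fun x => by
      rw [hx x]
      exact Prod.ext (ha₁e _) (ha₂e _)
    have hmem : ((⟨a₁, ha₁⟩, ⟨a₂, ha₂⟩) : F₁.autGroup Q₁ × F₂.autGroup Q₂) ∈
        pairStab F₁ F₂ Q₁ Q₂ Q := fun y => by
      constructor
      · intro hy
        show pairApply (a₁, a₂) y ∈ Q
        rw [show y = (⟨_, fst_mem_of_le h₁.le ⟨_, hy⟩⟩, ⟨_, snd_mem_of_le h₂.le ⟨_, hy⟩⟩) from rfl,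
          key ⟨_, hy⟩]
        exact SetLike.coe_mem _
      · intro hy
        have hy' : pairApply (a₁, a₂) y ∈ Q := hy
        obtain ⟨x, hx'⟩ := α.surjective ⟨_, hy'⟩
        have he := (key x).trans (congrArg Subtype.val hx')
        have e₁ := a₁.injective (Subtype.ext (congrArg Prod.fst he))
        have e₂ := a₂.injective (Subtype.ext (congrArg Prod.snd he))
        rw [← e₁, ← e₂]
        exact x.2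
    exact ⟨⟨_, hmem⟩, MulEquiv.ext fun x => Subtype.ext (key x)⟩

theorem isFullyAutomized_product (hE : IsProductSystem F₁ F₂ E) [Finite S₁] [Finite S₂]
    [Fact p.Prime] (h₁p : IsPGroup p S₁) (h₂p : IsPGroup p S₂)
    {Q : Subgroup (Ω₁ × Ω₂)} (hQ : Q ≤ S₁.prod S₂) (h₁ : Q.map π₁ = Q₁) (h₂ : Q.map π₂ = Q₂)
    {L : Subgroup (F₁.autGroup Q₁ × F₂.autGroup Q₂)}
    (hL : IsSylowIn p L (pairStab F₁ F₂ Q₁ Q₂ Q))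
    (hLR : ∀ a ∈ L, (a.1 : MulAut Q₁) ∈ autInducedBy S₁ Q₁ ∧ (a.2 : MulAut Q₂) ∈ autInducedBy S₂ Q₂) :
    E.IsFullyAutomized p Q := by
  have : Finite (S₁.prod S₂) := Finite.of_equiv _ (Subgroup.prodEquiv S₁ S₂).symm.toEquiv
  refine isFullyAutomized_iff.2 ⟨hQ, autInducedBy_le_autGroup hQ,
    isPGroup_autInducedBy (isPGroup_prod h₁p h₂p), fun hd => ?_⟩
  set ρ := pairHom (F₁ := F₁) (F₂ := F₂) Q h₁.le h₂.le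
  have hle : (L.subgroupOf _).map ρ ≤ autInducedBy (S₁.prod S₂) Q := by
    rintro _ ⟨a, ha, rfl⟩
    obtain ⟨ha₁, ha₂⟩ := hLR _ ha
    obtain ⟨g₁, hg₁, he₁⟩ := mem_autInducedBy.1 ha₁
    obtain ⟨g₂, hg₂, he₂⟩ := mem_autInducedBy.1 ha₂
    exact mem_autInducedBy.2 ⟨(g₁, g₂), ⟨hg₁, hg₂⟩, fun x => Prod.ext (he₁ _) (he₂ _)⟩
  refine hL.2.2 (hd.trans ((Subgroup.relIndex_dvd_of_le_left _ hle).trans ?_))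
  rw [← map_pairHom_top hE hQ h₁ h₂, MonoidHom.range_eq_map, Subgroup.relIndex_map_map,
    top_sup_eq, Subgroup.relIndex_top_right]
  exact (Subgroup.index_dvd_of_le le_sup_left).trans dvd_rfl

end

/-- The product of saturated systems is saturated. -/
theorem isSaturated_product [Finite S₁] [Finite S₂] [Fact p.Prime] (h₁p : IsPGroup p S₁)
    (h₂p : IsPGroup p S₂) (hF₁ : F₁.IsSaturated p) (hF₂ : F₂.IsSaturated p)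
    (hE : IsProductSystem F₁ F₂ E) : E.IsSaturated p := by
  intro P hP
  obtain ⟨Q₁, ⟨φ₁, hφ₁, hr₁⟩, hQ₁a, hQ₁r⟩ := hF₁ (P.map π₁) (by
    rintro _ ⟨x, hx, rfl⟩; exact (hP hx).1)
  obtain ⟨Q₂, ⟨φ₂, hφ₂, hr₂⟩, hQ₂a, hQ₂r⟩ := hF₂ (P.map π₂) (by
    rintro _ ⟨x, hx, rfl⟩; exact (hP hx).2)
  obtain ⟨hQ₁, hsyl₁⟩ := isFullyAutomized_iff.1 hQ₁a
  obtain ⟨hQ₂, hsyl₂⟩ := isFullyAutomized_iff.1 hQ₂a
  have := finite_of_le hQ₁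
  have := finite_of_le hQ₂
  have hv₁ : ∀ x : P, φ₁ ⟨(x : Ω₁ × Ω₂).1, ⟨x, x.2, rfl⟩⟩ ∈ Q₁ := fun x => hr₁ ▸ ⟨_, rfl⟩
  have hv₂ : ∀ x : P, φ₂ ⟨(x : Ω₁ × Ω₂).2, ⟨x, x.2, rfl⟩⟩ ∈ Q₂ := fun x => hr₂ ▸ ⟨_, rfl⟩
  let φ : (F₁.autGroup Q₁ × F₂.autGroup Q₂) → (P →* Ω₁ × Ω₂) := fun c =>
    { toFun := fun x => pairApply ((c.1 : MulAut Q₁), (c.2 : MulAut Q₂)) (⟨_, hv₁ x⟩, ⟨_, hv₂ x⟩)
      map_one' := by
        have e₁ : (⟨_, hv₁ 1⟩ : Q₁) = 1 := Subtype.ext (map_one φ₁)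
        have e₂ : (⟨_, hv₂ 1⟩ : Q₂) = 1 := Subtype.ext (map_one φ₂)
        simp only [pairApply, e₁, e₂, map_one]
        rfl
      map_mul' := fun x y => by
        have e₁ : (⟨_, hv₁ (x * y)⟩ : Q₁) = ⟨_, hv₁ x⟩ * ⟨_, hv₁ y⟩ :=
          Subtype.ext (map_mul φ₁ ⟨_, ⟨x, x.2, rfl⟩⟩ ⟨_, ⟨y, y.2, rfl⟩⟩)
        have e₂ : (⟨_, hv₂ (x * y)⟩ : Q₂) = ⟨_, hv₂ x⟩ * ⟨_, hv₂ y⟩ :=
          Subtype.ext (map_mul φ₂ ⟨_, ⟨x, x.2, rfl⟩⟩ ⟨_, ⟨y, y.2, rfl⟩⟩)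
        simp only [pairApply, e₁, e₂, map_mul]
        rfl }
  have hφ : ∀ c, φ c ∈ E.Hom P := fun c => by
    obtain ⟨χ₁, hχ₁, he₁⟩ := exists_comp hφ₁ (autGroup_hom_mem hQ₁ c.1.2) fun x => hr₁ ▸ ⟨x, rfl⟩
    obtain ⟨χ₂, hχ₂, he₂⟩ := exists_comp hφ₂ (autGroup_hom_mem hQ₂ c.2.2) fun x => hr₂ ▸ ⟨x, rfl⟩
    exact mem_productHom hE hP le_rfl le_rfl hχ₁ hχ₂ fun x => Prod.ext (he₁ _).symm (he₂ _).symm
  have hp₁ : ∀ c, (φ c).range.map π₁ = Q₁ := fun c => by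
    refine le_antisymm ?_ fun z hz => ?_
    · rintro _ ⟨_, ⟨x, rfl⟩, rfl⟩
      exact SetLike.coe_mem _
    · obtain ⟨w, hw⟩ := hr₁.ge ((c.1.1.symm ⟨z, hz⟩).2)
      obtain ⟨x, hxP, hxw⟩ := w.2
      refine ⟨φ c ⟨x, hxP⟩, ⟨_, rfl⟩, ?_⟩
      have e : (⟨_, hv₁ ⟨x, hxP⟩⟩ : Q₁) = c.1.1.symm ⟨z, hz⟩ :=
        Subtype.ext ((congrArg φ₁ (Subtype.ext hxw)).trans hw)
      show ((c.1.1 ⟨_, hv₁ ⟨x, hxP⟩⟩ : Q₁) : Ω₁) = z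
      rw [e, MulEquiv.apply_symm_apply]
  have hp₂ : ∀ c, (φ c).range.map π₂ = Q₂ := fun c => by
    refine le_antisymm ?_ fun z hz => ?_
    · rintro _ ⟨_, ⟨x, rfl⟩, rfl⟩
      exact SetLike.coe_mem _
    · obtain ⟨w, hw⟩ := hr₂.ge ((c.2.1.symm ⟨z, hz⟩).2)
      obtain ⟨x, hxP, hxw⟩ := w.2
      refine ⟨φ c ⟨x, hxP⟩, ⟨_, rfl⟩, ?_⟩
      have e : (⟨_, hv₂ ⟨x, hxP⟩⟩ : Q₂) = c.2.1.symm ⟨z, hz⟩ :=
        Subtype.ext ((congrArg φ₂ (Subtype.ext hxw)).trans hw)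
      show ((c.2.1 ⟨_, hv₂ ⟨x, hxP⟩⟩ : Q₂) : Ω₂) = z
      rw [e, MulEquiv.apply_symm_apply]
  -- membership in the translated images
  have hmem : ∀ c (y : Q₁ × Q₂), ((y.1 : Ω₁), (y.2 : Ω₂)) ∈ (φ c).range ↔
      pairApply ((c⁻¹.1 : MulAut Q₁), (c⁻¹.2 : MulAut Q₂)) y ∈ (φ 1).range := fun c y => by
    constructor
    · rintro ⟨x, hx⟩
      refine ⟨x, ?_⟩
      have e₁ : c.1.1 ⟨_, hv₁ x⟩ = y.1 := Subtype.ext (congrArg Prod.fst hx)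
      have e₂ : c.2.1 ⟨_, hv₂ x⟩ = y.2 := Subtype.ext (congrArg Prod.snd hx)
      simp [φ, pairApply, ← e₁, ← e₂]
    · rintro ⟨x, hx⟩
      refine ⟨x, ?_⟩
      have e₁ : (⟨_, hv₁ x⟩ : Q₁) = (c⁻¹).1.1 y.1 := Subtype.ext (congrArg Prod.fst hx)
      have e₂ : (⟨_, hv₂ x⟩ : Q₂) = (c⁻¹).2.1 y.2 := Subtype.ext (congrArg Prod.snd hx)
      simp [φ, pairApply, e₁, e₂]
  have hfin₁ := finite_mulAut hQ₁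
  have hfin₂ := finite_mulAut hQ₂
  set R : Subgroup (F₁.autGroup Q₁ × F₂.autGroup Q₂) :=
    ((autInducedBy S₁ Q₁).subgroupOf (F₁.autGroup Q₁)).prod
      ((autInducedBy S₂ Q₂).subgroupOf (F₂.autGroup Q₂))
  have hR : IsSylowIn p R ⊤ := by
    refine ⟨le_top, isPGroup_prod (hsyl₁.2.1.comap_subtype) (hsyl₂.2.1.comap_subtype), ?_⟩
    rw [Subgroup.relIndex_top_right, Subgroup.index_prod]
    exact (Nat.Prime.not_dvd_mul Fact.out) hsyl₁.2.2 hsyl₂.2.2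
  obtain ⟨L, hL⟩ := exists_isSylowIn (p := p) (pairStab F₁ F₂ Q₁ Q₂ (φ 1).range)
  obtain ⟨k, -, hk⟩ := hR.exists_conj_le hL.2.1 le_top
  refine ⟨(φ k).range, isConj_range (hφ k), ?_, ?_⟩
  · have hstab : (pairStab F₁ F₂ Q₁ Q₂ (φ 1).range).map (MulAut.conj k).toMonoidHom =
        pairStab F₁ F₂ Q₁ Q₂ (φ k).range := by
      ext b
      rw [Subgroup.mem_map_equiv, MulAut.conj_symm_apply]
      show (∀ y : Q₁ × Q₂, _ ↔ _) ↔ (∀ y : Q₁ × Q₂, _ ↔ _)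
      constructor
      · intro h y
        refine (hmem k y).trans ((h (k⁻¹.1.1 y.1, k⁻¹.2.1 y.2)).trans
          (Iff.trans ?_ (hmem k (b.1.1 y.1, b.2.1 y.2)).symm))
        simp [pairApply]
      · intro h y
        have h' := (hmem k (k.1.1 y.1, k.2.1 y.2)).symm.trans ((h (k.1.1 y.1, k.2.1 y.2)).trans
          (hmem k (b.1.1 (k.1.1 y.1), b.2.1 (k.2.1 y.2))))
        simpa [pairApply] using h'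
    refine isFullyAutomized_product hE h₁p h₂p (range_le (hφ k)) (hp₁ k) (hp₂ k)
      (hstab ▸ hL.map (MulAut.conj k).toMonoidHom) fun a ha => ?_
    exact hk ha
  · refine isReceptive_product hE (range_le (hφ k)) ?_ ?_
    · rwa [hp₁ k]
    · rwa [hp₂ k]

end Cfsg.Agent.Lib.Fusion
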