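/-
The maps of a central product.
-/
import Cfsg.Agent.Lib.Fusion.Product
import Cfsg.Agent.Lib.Fusion.Quotient
import Cfsg.Agent.Lib.Fusion.NormExt

set_option autoImplicit false

namespace Cfsg.Agent.Lib.Fusion.CentralProduct

open Cfsg Cfsg.FusionSystem
open Cfsg.Agent.Lib.FusionFactor (mem_preimageAlong preimageAlong_le exists_preimage isCentral_center)

variable {Ω : Type*} [Group Ω] {T₁ T₂ T : Subgroup Ω} {E₁ : FusionSystem T₁} {E₂ : FusionSystem T₂}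
  {D : FusionSystem T}

theorem top_eq_and_comm (h : IsCentralProductOf E₁ E₂ D) :
    T₁ ⊔ T₂ = T ∧ (∀ a ∈ T₁, ∀ b ∈ T₂, a * b = b * a) ∧
      ∀ x ∈ T, ∃ a ∈ T₁, ∃ b ∈ T₂, x = a * b := by
  obtain ⟨D₀, hD₀, Z, θ, -, -, -, hθ1, hθ2, -, -, hrange, -⟩ := h
  have hmem : ∀ a ∈ T₁, ∀ b ∈ T₂, ((a, b) : Ω × Ω) ∈ T₁.prod T₂ := fun a ha b hb =>
    Subgroup.mem_prod.2 ⟨ha, hb⟩
  have hθ : ∀ (a b : Ω) (h : ((a, b) : Ω × Ω) ∈ T₁.prod T₂), θ ⟨(a, b), h⟩ = a * b := by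
    intro a b h
    obtain ⟨ha, hb⟩ := Subgroup.mem_prod.1 h
    rw [show (⟨(a, b), h⟩ : T₁.prod T₂) = ⟨(a, 1), hmem a ha 1 T₂.one_mem⟩ *
      ⟨(1, b), hmem 1 T₁.one_mem b hb⟩ from Subtype.ext (by simp), map_mul, hθ1, hθ2]
  have hdec : ∀ x ∈ T, ∃ a ∈ T₁, ∃ b ∈ T₂, x = a * b := by
    intro x hx
    obtain ⟨⟨⟨a, b⟩, hab⟩, rfl⟩ := hrange.ge hx
    exact ⟨a, (Subgroup.mem_prod.1 hab).1, b, (Subgroup.mem_prod.1 hab).2, hθ a b hab⟩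
  refine ⟨le_antisymm (sup_le (fun a ha => ?_) fun b hb => ?_) fun x hx => ?_, fun a ha b hb => ?_,
    hdec⟩
  · exact hrange.le ⟨⟨(a, 1), hmem a ha 1 T₂.one_mem⟩, hθ1 _ _⟩
  · exact hrange.le ⟨⟨(1, b), hmem 1 T₁.one_mem b hb⟩, hθ2 _ _⟩
  · obtain ⟨a, ha, b, hb, rfl⟩ := hdec x hx
    exact Subgroup.mul_mem_sup ha hb
  · have e1 := hθ2 b (hmem 1 T₁.one_mem b hb)
    have e2 := hθ1 a (hmem a ha 1 T₂.one_mem)
    rw [← e1, ← e2, ← map_mul, ← map_mul]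
    exact congrArg θ (Subtype.ext (by simp))

/-- Every map of a central product is a product of maps of the factors. -/
theorem exists_decomp (h : IsCentralProductOf E₁ E₂ D) {P : Subgroup Ω} {φ : P →* Ω}
    (hφ : φ ∈ D.Hom P) :
    ∃ (P₁ P₂ : Subgroup Ω) (φ₁ : P₁ →* Ω) (φ₂ : P₂ →* Ω), φ₁ ∈ E₁.Hom P₁ ∧ φ₂ ∈ E₂.Hom P₂ ∧
      ∀ x : P, ∃ (a : P₁) (b : P₂), (x : Ω) = a * b ∧ φ x = φ₁ a * φ₂ b := by
  obtain ⟨D₀, hD₀, Z, θ, -, -, -, hθ1, hθ2, -, -, hrange, hHom⟩ := h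
  obtain ⟨hP, φ₀, hφ₀, hP₀, hφ₀T, hmem, hind⟩ := (hHom P φ).1 hφ
  obtain ⟨-, φ₁, hφ₁, φ₂, hφ₂, heq⟩ := (hD₀ _ φ₀).1 hφ₀
  have hθ : ∀ (z : T₁.prod T₂), θ z = (z : Ω × Ω).1 * (z : Ω × Ω).2 := by
    rintro ⟨⟨a, b⟩, hab⟩
    obtain ⟨ha, hb⟩ := Subgroup.mem_prod.1 hab
    rw [show (⟨(a, b), hab⟩ : T₁.prod T₂) = ⟨(a, 1), Subgroup.mem_prod.2 ⟨ha, T₂.one_mem⟩⟩ *
      ⟨(1, b), Subgroup.mem_prod.2 ⟨T₁.one_mem, hb⟩⟩ from Subtype.ext (by simp), map_mul, hθ1, hθ2]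
    simp
  refine ⟨_, _, φ₁, φ₂, hφ₁, hφ₂, fun x => ?_⟩
  obtain ⟨z, hz⟩ := exists_preimage θ (hP.trans hrange.ge) x
  have hx : x = ⟨θ ⟨z, hP₀ z.2⟩, hmem z⟩ := Subtype.ext hz.symm
  refine ⟨⟨(z : Ω × Ω).1, ⟨z, z.2, rfl⟩⟩, ⟨(z : Ω × Ω).2, ⟨z, z.2, rfl⟩⟩, ?_, ?_⟩
  · rw [← hz, hθ]
  · rw [hx, hind z, hθ]
    show (φ₀ z).1 * (φ₀ z).2 = _
    rw [heq z ⟨z, z.2, rfl⟩ ⟨z, z.2, rfl⟩]

/-- Maps of the factors combine to a map of a central product. -/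
theorem exists_hom_sup [Finite T₁] [Finite T₂] (h : IsCentralProductOf E₁ E₂ D) {P₁ P₂ : Subgroup Ω} {φ₁ : P₁ →* Ω}
    {φ₂ : P₂ →* Ω} (hφ₁ : φ₁ ∈ E₁.Hom P₁) (hφ₂ : φ₂ ∈ E₂.Hom P₂) :
    ∃ ψ ∈ D.Hom (P₁ ⊔ P₂), (∀ a : P₁, ψ (Subgroup.inclusion le_sup_left a) = φ₁ a) ∧
      ∀ b : P₂, ψ (Subgroup.inclusion le_sup_right b) = φ₂ b := by
  obtain ⟨htop, hcomm, hdec⟩ := top_eq_and_comm h
  obtain ⟨D₀, hD₀, Z, θ, hZc, -, -, hθ1, hθ2, -, hker, hrange, hHom⟩ := h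
  have hP₁ := src_le hφ₁
  have hP₂ := src_le hφ₂
  haveI : Finite (T₁.prod T₂ : Subgroup (Ω × Ω)) :=
    Finite.of_equiv _ (Subgroup.prodEquiv T₁ T₂).symm.toEquiv
  set Q : Subgroup (Ω × Ω) := P₁.prod P₂ with hQdef
  have hQ : Q ≤ T₁.prod T₂ := Subgroup.prod_mono hP₁ hP₂
  let Φ : Q →* Ω × Ω :=
    (φ₁.comp (((MonoidHom.fst Ω Ω).comp Q.subtype).codRestrict P₁
      fun x => (Subgroup.mem_prod.1 x.2).1)).prod
    (φ₂.comp (((MonoidHom.snd Ω Ω).comp Q.subtype).codRestrict P₂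
      fun x => (Subgroup.mem_prod.1 x.2).2))
  have hΦ : Φ ∈ D₀.Hom Q := mem_productHom hD₀ hQ (P₁ := P₁) (P₂ := P₂)
    (by rintro _ ⟨x, hx, rfl⟩; exact (Subgroup.mem_prod.1 hx).1)
    (by rintro _ ⟨x, hx, rfl⟩; exact (Subgroup.mem_prod.1 hx).2) hφ₁ hφ₂ fun x => rfl
  obtain ⟨Ψ, hΨ, hΨQ, hΨZ⟩ := (isCentral_center D₀).2 Q Φ hΦ
  set P := P₁ ⊔ P₂ with hPdef
  have hPT : P ≤ T := (sup_le_sup hP₁ hP₂).trans htop.le
  have hset : ∀ x ∈ P, ∃ a ∈ P₁, ∃ b ∈ P₂, x = a * b := by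
    intro x hx
    have hn : P₁ ≤ Subgroup.normalizer (P₂ : Set Ω) := fun a ha => Subgroup.mem_normalizer_iff.2
      fun y => by
        constructor
        · intro hy
          rw [hcomm a (hP₁ ha) y (hP₂ hy), mul_inv_cancel_right]
          exact hy
        · intro hy
          have e := hcomm a (hP₁ ha) _ (hP₂ hy)
          have : a * y * a⁻¹ = y := by
            have := congrArg (fun t => a⁻¹ * t) e
            simp only [inv_mul_cancel_left] at this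
            rw [this]
            group
          rwa [this] at hy
    rw [hPdef, ← SetLike.mem_coe, Subgroup.coe_mul_of_left_le_normalizer_right P₁ P₂ hn] at hx
    obtain ⟨a, ha, b, hb, rfl⟩ := hx
    exact ⟨a, ha, b, hb, rfl⟩
  set pre := preimageAlong θ P with hpre
  have hθ : ∀ (z : T₁.prod T₂), θ z = (z : Ω × Ω).1 * (z : Ω × Ω).2 := by
    rintro ⟨⟨a, b⟩, hab⟩
    obtain ⟨ha, hb⟩ := Subgroup.mem_prod.1 hab
    rw [show (⟨(a, b), hab⟩ : T₁.prod T₂) = ⟨(a, 1), Subgroup.mem_prod.2 ⟨ha, T₂.one_mem⟩⟩ *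
      ⟨(1, b), Subgroup.mem_prod.2 ⟨T₁.one_mem, hb⟩⟩ from Subtype.ext (by simp), map_mul, hθ1, hθ2]
    simp
  have hle : pre ≤ Q ⊔ D₀.center := by
    intro x hx
    obtain ⟨hxS, hxP⟩ := (mem_preimageAlong θ).1 hx
    obtain ⟨a, ha, b, hb, hab⟩ := hset _ hxP
    have hq : ((a, b) : Ω × Ω) ∈ Q := Subgroup.mem_prod.2 ⟨ha, hb⟩
    have hz : ((a, b) : Ω × Ω)⁻¹ * x ∈ Z := (hker (⟨(a, b), hQ hq⟩⁻¹ * ⟨x, hxS⟩)).1 (by
      rw [map_mul, map_inv, hθ ⟨(a, b), hQ hq⟩, ← hab, inv_mul_cancel])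
    have h := Subgroup.mul_mem_sup hq (hZc hz)
    rwa [mul_inv_cancel_left] at h
  have hm := restrict_mem hΨ hle
  obtain ⟨ψ, hψ⟩ := exists_induced θ (preimageAlong_le θ P) (Ψ.comp (Subgroup.inclusion hle))
    (val_mem hm) (fun x hx => by
      have hxZ := (hker _).1 hx
      have e : (Ψ.comp (Subgroup.inclusion hle)) x = (x : Ω × Ω) :=
        (congrArg Ψ (Subtype.ext rfl)).trans (hΨZ ⟨x, hZc hxZ⟩)
      refine (congrArg θ (Subtype.ext e : (⟨_, val_mem hm x⟩ : T₁.prod T₂) =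
        ⟨x, preimageAlong_le θ P x.2⟩)).trans hx)
    (fun x => ((mem_preimageAlong θ).1 x.2).2) (exists_preimage θ (hPT.trans hrange.ge))
  have hψD : ψ ∈ D.Hom P := (hHom P ψ).2 ⟨hPT, _, hm, preimageAlong_le θ P, val_mem hm, _, hψ⟩
  refine ⟨ψ, hψD, fun a => ?_, fun b => ?_⟩
  · have hab : ((a : Ω), (1 : Ω)) ∈ Q := Subgroup.mem_prod.2 ⟨a.2, P₂.one_mem⟩
    have hmem : ((a : Ω), (1 : Ω)) ∈ pre := (mem_preimageAlong θ).2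
      ⟨hQ hab, by rw [hθ1]; exact Subgroup.mem_sup_left a.2⟩
    refine Eq.trans (congrArg ψ (Subtype.ext (hθ1 a (hQ hab)).symm :
      Subgroup.inclusion le_sup_left a = ⟨θ ⟨_, hQ hab⟩, ((mem_preimageAlong θ).1 hmem).2⟩))
      ((hψ ⟨_, hmem⟩).trans ?_)
    have e : Ψ (Subgroup.inclusion hle ⟨_, hmem⟩) = (φ₁ a, 1) := by
      refine (congrArg Ψ (Subtype.ext rfl)).trans ((hΨQ ⟨_, hab⟩).trans ?_)
      exact Prod.ext rfl (map_one φ₂)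
    rw [hθ]
    show (Ψ (Subgroup.inclusion hle ⟨_, hmem⟩)).1 * (Ψ (Subgroup.inclusion hle ⟨_, hmem⟩)).2 = _
    rw [e, mul_one]
  · have hab : ((1 : Ω), (b : Ω)) ∈ Q := Subgroup.mem_prod.2 ⟨P₁.one_mem, b.2⟩
    have hmem : ((1 : Ω), (b : Ω)) ∈ pre := (mem_preimageAlong θ).2
      ⟨hQ hab, by rw [hθ2]; exact Subgroup.mem_sup_right b.2⟩
    refine Eq.trans (congrArg ψ (Subtype.ext (hθ2 b (hQ hab)).symm :
      Subgroup.inclusion le_sup_right b = ⟨θ ⟨_, hQ hab⟩, ((mem_preimageAlong θ).1 hmem).2⟩))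
      ((hψ ⟨_, hmem⟩).trans ?_)
    have e : Ψ (Subgroup.inclusion hle ⟨_, hmem⟩) = (1, φ₂ b) := by
      refine (congrArg Ψ (Subtype.ext rfl)).trans ((hΨQ ⟨_, hab⟩).trans ?_)
      exact Prod.ext (map_one φ₁) rfl
    rw [hθ]
    show (Ψ (Subgroup.inclusion hle ⟨_, hmem⟩)).1 * (Ψ (Subgroup.inclusion hle ⟨_, hmem⟩)).2 = _
    rw [e, one_mul]

theorem subsystem_left [Finite T₁] [Finite T₂] (h : IsCentralProductOf E₁ E₂ D) : E₁.IsSubsystemOf D := by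
  intro P φ hφ
  obtain ⟨ψ, hψ, ha, -⟩ := exists_hom_sup h hφ (subtype_mem (F := E₂) (bot_le : ⊥ ≤ T₂))
  exact mem_of_restrict hψ le_sup_left fun x => (ha x).symm

theorem subsystem_right [Finite T₁] [Finite T₂] (h : IsCentralProductOf E₁ E₂ D) : E₂.IsSubsystemOf D := by
  intro P φ hφ
  obtain ⟨ψ, hψ, -, hb⟩ := exists_hom_sup h (subtype_mem (F := E₁) (bot_le : ⊥ ≤ T₁)) hφ
  exact mem_of_restrict hψ le_sup_right fun x => (hb x).symm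

end Cfsg.Agent.Lib.Fusion.CentralProduct
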