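/-
Constrained fusion systems of groups stay constrained modulo a central subgroup.
-/
import Cfsg.Agent.Lib.Fusion.ConstrainedSub

set_option autoImplicit false

namespace Cfsg.Agent.Lib.Fusion

open Cfsg Cfsg.FusionSystem

universe u

variable {Ω : Type u} [Group Ω] {S : Subgroup Ω} {F : FusionSystem S} {p : ℕ}

/-- An element of `S` stabilizing the series `O_p ≥ R ≥ 1` lies in `O_p` of a model. -/
theorem mem_modelCore_of_stabilizes [Fact p.Prime] {L : Type u} [Group L] {ι : S →* L}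
    (hM : F.IsModel p L ι) {R : Subgroup Ω} (hR : F.StronglyClosed R) (hRQ : R ≤ modelCore p ι)
    {z : Ω} (hz : z ∈ S) (hzR : ∀ r ∈ R, r * z = z * r)
    (hzQ : ∀ q ∈ modelCore p ι, q⁻¹ * z⁻¹ * q * z ∈ R) : z ∈ modelCore p ι := by
  have hnQ := isNormal_modelCore hM
  obtain ⟨hfin, hreal, hsylT, hCL⟩ := hM
  rw [mem_modelCore hz]
  set A : Subgroup L := (R.subgroupOf S).map ι with hA
  set B : Subgroup L := pCore p L with hB
  have hBn : B.Normal := pCore_normal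
  have hBr : B ≤ ι.range := pCore_le_range hsylT
  obtain ⟨T₀, hT₀⟩ := hsylT
  have hrange : IsPGroup p ι.range := hT₀ ▸ T₀.2
  have hAB : A ≤ B := by
    rintro _ ⟨r, hr, rfl⟩
    exact (mem_modelCore r.2).1 (hRQ hr)
  haveI : A.Normal := by
    refine ⟨fun a ha g => ?_⟩
    obtain ⟨r, hr, rfl⟩ := ha
    obtain ⟨φ, hφ, hφS, hφv⟩ := exists_hom_of_conj hreal hnQ.1 (g := g) fun x =>
      hBr (hBn.conj_mem _ ((mem_modelCore _).1 x.2) g)
    exact ⟨⟨_, hφS ⟨r, hRQ hr⟩⟩, Fusion87.stronglyClosed_apply hR hφ ⟨r, hRQ hr⟩ hr,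
      hφv ⟨r, hRQ hr⟩⟩
  let π := QuotientGroup.mk' A
  haveI : (B.map π).Normal := hBn.map π (QuotientGroup.mk'_surjective A)
  set K : Subgroup L := Subgroup.centralizer (A : Set L) ⊓
    (Subgroup.centralizer ((B.map π : Subgroup (L ⧸ A)) : Set (L ⧸ A))).comap π with hK
  haveI : K.Normal := Subgroup.normal_inf_normal _ _
  have hKp : IsPGroup p K := by
    intro g
    obtain ⟨n, hn⟩ := IsPGroup.iff_card.1 (hrange.to_le (hAB.trans hBr))
    have hpow : (g : L) ^ p ^ n ∈ B := by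
      refine hCL fun b hb => ?_
      have h1 : (g : L) * b * (g : L)⁻¹ * b⁻¹ ∈ A := by
        refine (QuotientGroup.eq_one_iff _).1 ?_
        show π ((g : L) * b * (g : L)⁻¹ * b⁻¹) = 1
        rw [map_mul, map_mul, map_mul, map_inv, map_inv, ← (g.2.2 (π b) ⟨b, hb, rfl⟩)]
        group
      set a := (g : L) * b * (g : L)⁻¹ * b⁻¹ with ha
      have hit : ∀ i : ℕ, (g : L) ^ i * b * ((g : L) ^ i)⁻¹ = a ^ i * b := by
        intro i
        induction i with
        | zero => simp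
        | succ i ih =>
          have hga : (g : L) * a ^ i = a ^ i * g := (g.2.1 _ (A.pow_mem h1 i)).symm
          calc (g : L) ^ (i + 1) * b * ((g : L) ^ (i + 1))⁻¹
              = g * ((g : L) ^ i * b * ((g : L) ^ i)⁻¹) * (g : L)⁻¹ := by
                rw [pow_succ']; group
            _ = g * (a ^ i * b) * (g : L)⁻¹ := by rw [ih]
            _ = a ^ i * (g * b * (g : L)⁻¹) := by
                rw [← mul_assoc, hga]; group
            _ = a ^ (i + 1) * b := by rw [pow_succ, ha]; group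
      have h2 := hit (p ^ n)
      have h3 : a ^ p ^ n = 1 := by
        have := congrArg Subtype.val (pow_card_eq_one' (x := (⟨a, h1⟩ : A)))
        rw [hn] at this
        exact this
      rw [h3, one_mul, mul_inv_eq_iff_eq_mul] at h2
      exact h2.symm
    obtain ⟨m, hm⟩ := (hrange.to_le hBr) ⟨_, hpow⟩
    refine ⟨n + m, Subtype.ext ?_⟩
    rw [pow_add, pow_mul]
    have h4 : ((g : L) ^ p ^ n) ^ p ^ m = 1 := congrArg Subtype.val hm
    simpa using h4
  refine PSolvable.le_pCore hKp ⟨?_, ?_⟩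
  · rintro _ ⟨r, hr, rfl⟩
    rw [← map_mul, ← map_mul]
    exact congrArg ι (Subtype.ext (hzR r hr))
  · rintro _ ⟨b, hb, rfl⟩
    obtain ⟨q, rfl⟩ := hBr hb
    have hqQ : (q : Ω) ∈ modelCore p ι := (mem_modelCore q.2).2 hb
    rw [← map_mul, ← map_mul]
    refine (QuotientGroup.eq.2 ?_).symm
    show (ι ⟨z, hz⟩ * ι q)⁻¹ * ι (q * ⟨z, hz⟩) ∈ A
    rw [← map_mul, ← map_inv, ← map_mul]
    refine ⟨_, ?_, rfl⟩
    show (((⟨z, hz⟩ : S) * q)⁻¹ * (q * ⟨z, hz⟩) : S).1 ∈ R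
    simpa [mul_assoc] using hzQ _ hqQ

/-- The fusion system of `G/Z`, `Z` central, on the image of a Sylow subgroup is constrained if
that of `G` is. -/
theorem isConstrained_centralQuotient {G : Type u} [Group G] [Finite G] [Fact p.Prime]
    (T : Sylow p G) (hF : (groupFusionSystem (T : Subgroup G)).IsConstrained p) (Z : Subgroup G)
    [Z.Normal] (hZ : Z ≤ Subgroup.center G) :
    (groupFusionSystem ((T : Subgroup G).map (QuotientGroup.mk' Z))).IsConstrained p := by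
  set π := QuotientGroup.mk' Z with hπ
  set F₀ := groupFusionSystem (T : Subgroup G) with hF₀
  obtain ⟨L, _, _, ι, hM⟩ := exists_model_of_isConstrained T.2 hF
  obtain ⟨-, Q₀, hQ₀, hQ₀c⟩ := hF
  have hnQ := isNormal_modelCore hM
  have hQc : F₀.IsCentric (modelCore p ι) :=
    isCentric_mono hQ₀c (le_modelCore_of_isNormal hM hQ₀) hnQ.1
  set Q := modelCore p ι with hQ
  have hcen : ∀ z ∈ Z, ∀ x : G, x * z = z * x := fun z hz => Subgroup.mem_center_iff.1 (hZ hz)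
  set R : Subgroup G := Z ⊓ T with hR
  have hRsc : F₀.StronglyClosed R := by
    refine ⟨inf_le_right, fun U hU φ hφ x => ?_⟩
    obtain ⟨-, -, g, hg⟩ := hφ
    rw [hg, hcen _ (hU x.2).1 g, mul_inv_cancel_right]
    exact hU x.2
  have hRQ : R ≤ Q := fun r hr =>
    centralizerIn_le_of_isCentric hQc ⟨hr.2, fun q _ => hcen r hr.1 q⟩
  set T' := (T : Subgroup G).map π with hT'
  haveI : Finite T' := inferInstance
  obtain ⟨T₁, hT₁⟩ : ∃ T₁ : Sylow p (G ⧸ Z), (T₁ : Subgroup (G ⧸ Z)) = T' :=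
    ⟨T.mapSurjective (QuotientGroup.mk'_surjective Z), rfl⟩
  have hsat : (groupFusionSystem T').IsSaturated p := hT₁ ▸ isSaturated_groupFusion T₁
  -- `p`-elements over the image of `T` lie in `T`
  have hlift : ∀ y : G, (∃ k, y ^ p ^ k = 1) → π y ∈ T' → y ∈ (T : Subgroup G) := by
    rintro y hy ⟨t, ht, htx⟩
    obtain ⟨z, hz, rfl⟩ : ∃ z ∈ Z, y = t * z := by
      refine ⟨t⁻¹ * y, ?_, by group⟩
      rw [← QuotientGroup.eq_one_iff]
      show π (t⁻¹ * y) = 1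
      rw [map_mul, map_inv, htx, inv_mul_cancel]
    obtain ⟨k, hk⟩ := hy
    obtain ⟨l, hl⟩ := T.2 ⟨t, ht⟩
    have hl' : t ^ p ^ l = 1 := congrArg Subtype.val hl
    have hzp : z ^ p ^ (k + l) = 1 := by
      have hzt : Commute t z := hcen z hz t
      have h1 : (t * z) ^ p ^ (k + l) = 1 := by rw [pow_add, pow_mul, hk, one_pow]
      rwa [hzt.mul_pow, show t ^ p ^ (k + l) = 1 by
        rw [pow_add, mul_comm, pow_mul, hl', one_pow], one_mul] at h1
    refine Subgroup.mul_mem _ ht ?_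
    -- a central `p`-element lies in every Sylow subgroup
    have hp : IsPGroup p (Subgroup.zpowers z) := by
      obtain ⟨i, -, hi⟩ :=
        (Nat.dvd_prime_pow (Fact.out : p.Prime)).1 (orderOf_dvd_of_pow_eq_one hzp)
      exact IsPGroup.of_card (n := i) ((Nat.card_zpowers _).trans hi)
    haveI : (Subgroup.zpowers z).Normal :=
      ⟨fun a ha g => by
        obtain ⟨j, rfl⟩ := ha
        show g * z ^ j * g⁻¹ ∈ _
        rw [show g * z ^ j = z ^ j * g from hcen _ (Z.zpow_mem hz j) g, mul_inv_cancel_right]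
        exact ⟨j, rfl⟩⟩
    exact PSolvable.pCore_le_sylow T (PSolvable.le_pCore hp (Subgroup.mem_zpowers z))
  refine ⟨hsat, Q.map π, ⟨Subgroup.map_mono hnQ.1, ?_⟩, Subgroup.map_mono hnQ.1, ?_⟩
  · rintro P φ ⟨hP, hφT, g', hg⟩
    obtain ⟨g, rfl⟩ := QuotientGroup.mk'_surjective Z g'
    set P₁ : Subgroup G := (T : Subgroup G) ⊓ P.comap π with hP₁
    have hmapP : ∀ x : P, ∃ y : P₁, π y = x := by
      intro x
      obtain ⟨t, ht, htx⟩ := hP x.2
      refine ⟨⟨t, ht, ?_⟩, htx⟩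
      show π t ∈ P
      rw [htx]
      exact x.2
    have hgP₁ : ∀ y : P₁, g * (y : G) * g⁻¹ ∈ (T : Subgroup G) := by
      intro y
      refine hlift _ ?_ ?_
      · obtain ⟨k, hk⟩ := T.2 ⟨y, y.2.1⟩
        refine ⟨k, ?_⟩
        rw [conj_pow, show (y : G) ^ p ^ k = 1 from congrArg Subtype.val hk, mul_one, mul_inv_cancel]
      · rw [map_mul, map_mul, map_inv, ← hg ⟨π y, y.2.2⟩]
        exact hφT _
    have hφ₁ : conjHom P₁ g ∈ F₀.Hom P₁ := ⟨inf_le_left, hgP₁, g, fun _ => rfl⟩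
    obtain ⟨ψ, ⟨hψS, hψT, g₁, hg₁⟩, hψP, hψQ⟩ := hnQ.2 P₁ _ hφ₁
    have hsup : P ⊔ Q.map π ≤ (P₁ ⊔ Q).map π := by
      refine sup_le (fun x hx => ?_) (Subgroup.map_mono le_sup_right)
      obtain ⟨y, hy⟩ := hmapP ⟨x, hx⟩
      exact ⟨y, Subgroup.mem_sup_left y.2, hy⟩
    have hψv : ∀ x : ↥(P ⊔ Q.map π), ∃ y : ↥(P₁ ⊔ Q),
        π y = x ∧ conjHom (P ⊔ Q.map π) (π g₁) x = π (ψ y) := by
      intro x
      obtain ⟨y, hy, hyx⟩ := hsup x.2
      refine ⟨⟨y, hy⟩, hyx, ?_⟩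
      show π g₁ * (x : G ⧸ Z) * (π g₁)⁻¹ = _
      rw [hg₁, ← hyx, map_mul, map_mul, map_inv]
    have hmem : conjHom (P ⊔ Q.map π) (π g₁) ∈ (groupFusionSystem T').Hom (P ⊔ Q.map π) := by
      refine ⟨sup_le hP (Subgroup.map_mono hnQ.1), fun x => ?_, π g₁, fun x => rfl⟩
      obtain ⟨y, -, hy⟩ := hψv x
      rw [hy]
      exact ⟨_, hψT y, rfl⟩
    refine ⟨_, hmem, fun x => ?_, ?_⟩
    · obtain ⟨y, hy⟩ := hmapP x
      show π g₁ * (x : G ⧸ Z) * (π g₁)⁻¹ = φ x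
      rw [hg, ← hy, ← map_inv, ← map_mul, ← map_mul, ← map_inv, ← map_mul, ← map_mul]
      have h := hψP y
      rw [hg₁] at h
      exact congrArg π h
    · refine imgSub_eq_of_le_of_card hmem le_sup_right ?_ le_rfl
      intro x' hx'
      obtain ⟨x, hx, rfl⟩ := mem_imgSub.1 hx'
      obtain ⟨q, hq, hqx⟩ := hx
      refine ⟨ψ ⟨q, Subgroup.mem_sup_right hq⟩, hψQ.le (apply_mem_imgSub ψ _ hq), ?_⟩
      show π (ψ _) = π g₁ * (x : G ⧸ Z) * (π g₁)⁻¹
      rw [hg₁, ← hqx, map_mul, map_mul, map_inv]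
  · rintro U ⟨φ, ⟨-, hφT, g', hg⟩, rfl⟩
    obtain ⟨g, rfl⟩ := QuotientGroup.mk'_surjective Z g'
    -- the conjugate of `Q` is `Q`
    have hgQ : ∀ q ∈ Q, ∀ (hq : π q ∈ Q.map π), φ ⟨π q, hq⟩ = π (g * q * g⁻¹) := fun q _ hq => by
      rw [hg, map_mul, map_mul, map_inv]
    have hgT : ∀ q ∈ Q, g * q * g⁻¹ ∈ Q := by
      intro q hq
      have hqp : ∃ k, (g * q * g⁻¹) ^ p ^ k = 1 := by
        obtain ⟨k, hk⟩ := T.2 ⟨q, hnQ.1 hq⟩
        refine ⟨k, ?_⟩
        rw [conj_pow, show q ^ p ^ k = 1 from congrArg Subtype.val hk, mul_one, mul_inv_cancel]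
      have hmem : ∀ v : Q, g * (v : G) * g⁻¹ ∈ (T : Subgroup G) := by
        intro v
        refine hlift _ ?_ ?_
        · obtain ⟨k, hk⟩ := T.2 ⟨v, hnQ.1 v.2⟩
          refine ⟨k, ?_⟩
          rw [conj_pow, show (v : G) ^ p ^ k = 1 from congrArg Subtype.val hk, mul_one,
            mul_inv_cancel]
        · rw [← hgQ v v.2 ⟨v, v.2, rfl⟩]
          exact hφT _
      exact (stronglyClosed_of_isNormal hnQ).2 Q le_rfl (conjHom Q g)
        ⟨hnQ.1, hmem, g, fun _ => rfl⟩ ⟨q, hq⟩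
    haveI : Finite (Q.map π) := inferInstance
    have hr : φ.range = Q.map π := by
      refine Subgroup.eq_of_le_of_card_ge ?_ (le_of_eq ?_)
      · rintro _ ⟨⟨_, q, hq, rfl⟩, rfl⟩
        exact ⟨_, hgT q hq, (hgQ q hq _).symm⟩
      · refine Nat.card_congr (MonoidHom.ofInjective (f := φ) ?_).toEquiv
        intro a b hab
        rw [hg, hg] at hab
        exact Subtype.ext (mul_left_cancel (mul_right_cancel hab))
    rw [hr]
    rintro y ⟨⟨x, hxT, rfl⟩, hyC⟩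
    refine ⟨x, ?_, rfl⟩
    show x ∈ modelCore p ι
    refine mem_modelCore_of_stabilizes hM hRsc hRQ hxT
      (fun r hr => (hcen r hr.1 x).symm) fun q hq => ⟨?_, ?_⟩
    · show q⁻¹ * x⁻¹ * q * x ∈ Z
      rw [← QuotientGroup.eq_one_iff]
      show π (q⁻¹ * x⁻¹ * q * x) = 1
      have h1 : π q * π x = π x * π q := hyC _ ⟨q, hq, rfl⟩
      rw [map_mul, map_mul, map_mul, map_inv, map_inv, mul_assoc, h1]
      group
    · exact Subgroup.mul_mem _ (Subgroup.mul_mem _ (Subgroup.mul_mem _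
        (Subgroup.inv_mem _ (hnQ.1 hq)) (Subgroup.inv_mem _ hxT)) (hnQ.1 hq)) hxT

end Cfsg.Agent.Lib.Fusion
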