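import Cfsg.Agent.Lib.Fusion.GlaubermanThompsonF
import Cfsg.Agent.Lib.Fusion.Normal
import Cfsg.Agent.Lib.Fusion.InnerReduction

/-!
A non-inner saturated system for an odd prime has a centric subgroup, normal in `S`, whose
automizer is not a `p`-group.
-/

set_option autoImplicit false
set_option linter.style.haveILetI false

namespace Cfsg.Agent.Lib.Fusion

open Cfsg Cfsg.FusionSystem

universe u

variable {Ω : Type u} [Group Ω] {S : Subgroup Ω} {F : FusionSystem S} {p : ℕ}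

/-- The normalizer system of a subgroup normalized by `S`, as a system over `S`. -/
theorem exists_normalizer_over [Finite S] [Fact p.Prime] (hS : IsPGroup p S) (hF : F.IsSaturated p)
    {Q : Subgroup Ω} (hQ : Q ≤ S) (hQS : normalizerIn S Q = S) :
    ∃ E : FusionSystem S, E.IsSaturated p ∧ E.IsNormal Q ∧ E.IsSubsystemOf F ∧
      (∀ α ∈ F.autGroup Q, α ∈ E.autGroup Q) ∧
      (IsInnerSystem E → HasInnerNormalizer F Q) := by
  obtain ⟨N, hN⟩ := exists_normalizerSystem F hQ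
  have hsat := isSaturated_normalizerSystem hS hF (isFullyNormalized_of_normalizerIn_eq hQ hQS) hN
  obtain ⟨E, hEsat, hE, hEin⟩ : ∃ E : FusionSystem S, E.IsSaturated p ∧
      (∀ P, E.Hom P = F.normalizerHom Q P) ∧ (IsInnerSystem E → HasInnerNormalizer F Q) := by
    have key : ∀ (T : Subgroup Ω) (_ : T = S) (M : FusionSystem T), M.IsSaturated p →
        (∀ P, M.Hom P = F.normalizerHom Q P) → normalizerIn S Q = T →
        ∃ E : FusionSystem S, E.IsSaturated p ∧ (∀ P, E.Hom P = F.normalizerHom Q P) ∧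
          (IsInnerSystem E → HasInnerNormalizer F Q) := by
      rintro T rfl M h1 h2 h3
      refine ⟨M, h1, h2, fun hM N' hN' P => ?_⟩
      rw [hN' P, ← h2 P, hM P]
      rw [h3]
    exact key _ hQS N hsat hN rfl
  have hsub : E.IsSubsystemOf F := fun P φ hφ => by rw [hE P] at hφ; exact hφ.1
  have hext : ∀ {P : Subgroup Ω} {ψ : P →* Ω}, ψ ∈ F.Hom P → ∀ hQP : Q ≤ P,
      (Q.subgroupOf P).map ψ = Q → ψ ∈ E.Hom P := by
    intro P ψ hψ hQP hm
    rw [hE P]
    refine ⟨hψ, by rw [hQS]; exact src_le hψ, fun x => by rw [hQS]; exact val_mem hψ x,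
      ψ.comp (Subgroup.inclusion (sup_le le_rfl hQP)), restrict_mem hψ _, fun x => rfl, ?_⟩
    refine (map_subgroupOf_eq_iff le_sup_right
      (F.injective_of_mem (restrict_mem hψ (sup_le le_rfl hQP)))).2 ?_
    obtain ⟨k, hk⟩ := (map_subgroupOf_eq_iff hQP (F.injective_of_mem hψ)).1 hm
    exact ⟨k, hk⟩
  refine ⟨E, hEsat, ⟨hQ, fun P φ hφ => ?_⟩, hsub, fun α hα => ?_, hEin⟩
  · rw [hE P] at hφ
    obtain ⟨-, -, -, ψ, hψ, ha, hb⟩ := hφ
    exact ⟨ψ, hext hψ le_sup_right hb, ha, hb⟩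
  · refine (mem_autGroup hQ).2 (hext (autGroup_hom_mem hQ hα) le_rfl ?_)
    exact (map_subgroupOf_eq_iff le_rfl (F.injective_of_mem (autGroup_hom_mem hQ hα))).2
      ⟨α, fun x => rfl⟩

theorem commute_centerThompsonAOf (T : Subgroup Ω) {x y : Ω} (hx : x ∈ centerThompsonAOf T)
    (hy : y ∈ centerThompsonAOf T) : x * y = y * x :=
  Subgroup.mem_centralizer_iff.mp hy.2 x hx.1

/-- Automizers that extend. -/
theorem exists_extension_centralizerIn [Finite S] [Fact p.Prime] (hS : IsPGroup p S)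
    (hF : F.IsSaturated p) {Z : Subgroup Ω} (hZn : F.IsNormal Z) (hZC : Z ≤ centralizerIn S Z)
    {α : MulAut Z} (hα : α ∈ F.autGroup Z) :
    ∃ β ∈ F.autGroup (centralizerIn S Z),
      ∀ z : Z, (β (Subgroup.inclusion hZC z) : Ω) = (α z : Ω) := by
  have hrec := isReceptive_of_isFullyNormalized hS hF
    (isFullyNormalized_of_normalizerIn_eq (F := F) hZn.1 (normalizerIn_eq_of_isNormal hZn))
  have hαH := autGroup_hom_mem hZn.1 hα
  obtain ⟨ψ, hψ, hag⟩ := hrec.2 Z _ hαH (range_autHom α)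
  have hC := centralizerIn_le_extender (S := S) (autHom α)
  have hagree : imgSub ψ Z = Z :=
    (imgSub_of_agree (le_extender hαH) hag).trans (range_autHom α)
  haveI := finite_centralizerIn (S := S) Z
  obtain ⟨β, hβ, hβe⟩ := exists_aut_of_hom (restrict_mem hψ hC) (fun x => by
    have h := apply_mem_centralizerIn (P := Z) hψ (Subgroup.inclusion hC x) x.2.2
    rwa [hagree] at h)
  refine ⟨β, hβ, fun z => ?_⟩
  rw [hβe]
  exact hag z z.2 _

/-- **Centric invariant subgroup.** -/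
theorem exists_centric_not_isPGroup [Fact p.Prime] (hp : p ≠ 2) :
    ∀ (n : ℕ) {Ω : Type u} [Group Ω] {S : Subgroup Ω} [Finite S], IsPGroup p S → Nat.card S = n →
      ∀ F : FusionSystem S, F.IsSaturated p → ¬ IsInnerSystem F →
        ∃ R : Subgroup Ω, R ≤ S ∧ normalizerIn S R = S ∧ centralizerIn S R ≤ R ∧
          ¬ IsPGroup p (F.autGroup R) := by
  intro n
  induction n using Nat.strong_induction_on with
  | _ n ih =>
  intro Ω _ S _ hS hn F hF hnot
  obtain ⟨Z, hZdef⟩ : ∃ Z, Z = centerThompsonAOf S := ⟨_, rfl⟩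
  have hZS : Z ≤ S := hZdef ▸ centerThompsonAOf_le S
  have hZnor : normalizerIn S Z = S := by
    subst hZdef
    exact normalizerIn_eq_self_of_characteristic hZS (centerThompsonAOf_characteristic hS)
  obtain ⟨E, hE, hEZ, hEF, -, hEin⟩ := exists_normalizer_over hS hF hZS hZnor
  have hEnot : ¬ IsInnerSystem E := fun h =>
    hnot (isInner_of_centerThompsonA hp hS F hF (hZdef ▸ hEin h))
  suffices h : ∃ R : Subgroup Ω, R ≤ S ∧ normalizerIn S R = S ∧ centralizerIn S R ≤ R ∧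
      ¬ IsPGroup p (E.autGroup R) by
    obtain ⟨R, h1, h2, h3, h4⟩ := h
    exact ⟨R, h1, h2, h3, fun h => h4 (h.to_le (autGroup_mono hEF R))⟩
  haveI : Finite Z := finite_of_le hZS
  have hSZ := le_normalizer_of_isNormal hEZ
  by_cases hZp : IsPGroup p (E.autGroup Z)
  swap
  · -- the centralizer of `Z`
    have hZC : Z ≤ centralizerIn S Z := fun z hz => ⟨hZS hz,
      Subgroup.mem_centralizer_iff.mpr fun y hy =>
        commute_centerThompsonAOf S (hZdef ▸ hy) (hZdef ▸ hz)⟩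
    refine ⟨centralizerIn S Z, inf_le_left, le_antisymm inf_le_left (le_inf le_rfl fun g hg => ?_),
      fun x hx => ⟨hx.1, Subgroup.centralizer_le hZC hx.2⟩, fun hCp => hZp fun α => ?_⟩
    · have key : ∀ g ∈ S, ∀ x ∈ centralizerIn S Z, g * x * g⁻¹ ∈ centralizerIn S Z := by
        intro g hgS x hx
        refine ⟨S.mul_mem (S.mul_mem hgS hx.1) (S.inv_mem hgS),
          Subgroup.mem_centralizer_iff.mpr fun q hq => ?_⟩
        have h3 : g⁻¹ * q * g ∈ Z :=
          (Subgroup.mem_normalizer_iff.mp (hSZ hgS) _).mpr (by simpa [mul_assoc] using hq)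
        have h4 := Subgroup.mem_centralizer_iff.mp hx.2 _ h3
        show q * (g * x * g⁻¹) = g * x * g⁻¹ * q
        calc q * (g * x * g⁻¹) = g * ((g⁻¹ * q * g) * x) * g⁻¹ := by group
          _ = g * (x * (g⁻¹ * q * g)) * g⁻¹ := by rw [h4]
          _ = g * x * g⁻¹ * q := by group
      rw [Subgroup.mem_normalizer_iff]
      refine fun x => ⟨key g hg x, fun hx => ?_⟩
      simpa [mul_assoc] using key _ (S.inv_mem hg) _ hx
    · obtain ⟨α, hα⟩ := α
      obtain ⟨β, hβ, hβα⟩ := exists_extension_centralizerIn hS hE hEZ hZC hα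
      have hpow : ∀ (m : ℕ) (z : Z),
          ((β ^ m) (Subgroup.inclusion hZC z) : Ω) = ((α ^ m) z : Ω) := by
        intro m
        induction m with
        | zero => intro z; simp
        | succ m ihm =>
          intro z
          rw [pow_succ', pow_succ', MulAut.mul_apply, MulAut.mul_apply, ← hβα ((α ^ m) z)]
          exact congrArg (fun t => ((β t : ↥(centralizerIn S Z)) : Ω)) (Subtype.ext (ihm z))
      obtain ⟨k, hk⟩ := hCp ⟨β, hβ⟩
      refine ⟨k, Subtype.ext (MulEquiv.ext fun z => Subtype.ext ?_)⟩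
      show ((α ^ p ^ k) z : Ω) = z
      rw [← hpow, show β ^ p ^ k = 1 from congrArg Subtype.val hk]
      rfl
  -- every map acts on `Z` through `S`
  have hZK : E.autGroup Z ≤ autInducedBy S Z := by
    intro α hα
    obtain ⟨R, hR⟩ := (isFullyAutomized_of_isFullyNormalized hS hE
      (isFullyNormalized_of_normalizerIn_eq hZS hZnor)).2
    have htop : (R : Subgroup (E.autGroup Z)) = ⊤ :=
      R.3 (show IsPGroup p (⊤ : Subgroup (E.autGroup Z)) from hZp.to_subgroup _) le_top |>.symm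
    have hmem : (⟨α, hα⟩ : E.autGroup Z) ∈ (R : Subgroup (E.autGroup Z)) :=
      htop ▸ Subgroup.mem_top _
    rwa [hR] at hmem
  obtain ⟨Z₁, hZ₁def⟩ : ∃ Z₁, Z₁ = Z ⊓ Subgroup.centralizer (S : Set Ω) := ⟨_, rfl⟩
  have hZ₁S : Z₁ ≤ S := hZ₁def ▸ inf_le_left.trans hZS
  have hfix : ∀ x ∈ Z₁, ∀ y : Ω, E.IsConjElt x y → y = x := by
    rintro x hx y ⟨φ, hφ, rfl⟩
    rw [hZ₁def] at hx
    obtain ⟨-, -, -, ψ, hψ, ha, k, -, hk⟩ := (isNormal_iff_extHom.1 hEZ).2 _ hφ
    have hkE : k ∈ E.autGroup Z := (mem_autGroup hZS).2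
      (mem_congr (restrict_mem hψ le_sup_right) fun z => (hk z).symm)
    obtain ⟨g, hg, hgk⟩ := mem_autInducedBy.1 (hZK hkE)
    rw [← ha]
    refine ((congrArg ψ (Subtype.ext rfl)).trans (hk ⟨x, hx.1⟩)).trans ?_
    rw [hgk]
    show g * x * g⁻¹ = x
    rw [Subgroup.mem_centralizer_iff.mp hx.2 g hg, mul_inv_cancel_right]
  have hZ₁c : E.IsCentral Z₁ := Fusion.isCentral_of_fixed hS hE hZ₁S hfix
  have hZ₁n : E.IsNormal Z₁ := isNormal_iff_extHom.2 ⟨hZ₁S, fun P φ hφ => by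
    obtain ⟨h1, h2, h3, ψ, hψ, ha, k, -, hk⟩ := (isCentral_iff_extHom.1 hZ₁c).2 P hφ
    exact ⟨h1, h2, h3, ψ, hψ, ha, k, Subgroup.mem_top _, hk⟩⟩
  have hin : ∀ P, E.Hom P ⊆ extHom E Z₁ S (autInducedBy S Z₁) P := fun P φ hφ => by
    obtain ⟨h1, h2, h3, ψ, hψ, ha, k, hk', hk⟩ := (isCentral_iff_extHom.1 hZ₁c).2 P hφ
    refine ⟨h1, h2, h3, ψ, hψ, ha, k, ?_, hk⟩
    rw [Subgroup.mem_bot.1 hk']
    exact Subgroup.one_mem _
  have hS1 : S ≠ ⊥ := fun h => hnot (isInner_of_eq_bot hS hF h)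
  have hZ1 : Z ≠ ⊥ := hZdef ▸ centerThompsonAOf_ne_bot hS hS1
  have hZ₁1 : Z₁ ≠ ⊥ := by
    haveI : (Z.subgroupOf S).Normal := Subgroup.normal_subgroupOf_of_le_normalizer hSZ
    haveI := hS.isNilpotent
    have hne : Z.subgroupOf S ≠ ⊥ := by
      rw [ne_eq, Subgroup.subgroupOf_eq_bot, disjoint_iff, inf_eq_left.mpr hZS]
      exact hZ1
    intro h
    refine Cfsg.Agent.Lib.Nilp.inf_center_ne_bot_of_normal hne (eq_bot_iff.mpr fun x hx => ?_)
    have : (x : Ω) ∈ Z₁ := by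
      rw [hZ₁def]
      exact ⟨hx.1, Subgroup.mem_centralizer_iff.mpr fun s hs =>
        congrArg Subtype.val (Subgroup.mem_center_iff.mp hx.2 ⟨s, hs⟩)⟩
    rw [h, Subgroup.mem_bot] at this
    exact Subgroup.mem_bot.mpr (Subtype.ext this)
  -- the factor system
  have hSZ₁ := le_normalizer_of_isNormal hZ₁n
  haveI hnor : (Z₁.subgroupOf S).Normal := Subgroup.normal_subgroupOf_of_le_normalizer hSZ₁
  let θ : S →* ↥S ⧸ Z₁.subgroupOf S := QuotientGroup.mk' _
  have hθ : ∀ x : S, θ x = 1 ↔ (x : Ω) ∈ Z₁ := fun x => QuotientGroup.eq_one_iff x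
  have hrange : θ.range = ⊤ :=
    MonoidHom.range_eq_top_of_surjective θ (QuotientGroup.mk'_surjective _)
  have hsc := stronglyClosed_of_isNormal hZ₁n
  obtain ⟨E', hE'⟩ := FusionFactor.exists_factorSystem
    (S' := (⊤ : Subgroup (↥S ⧸ Z₁.subgroupOf S))) θ E hsc hθ hrange
  have hEsat' : E'.IsSaturated p := isSaturated_of_surjectiveMorphism hS hE
    (isSurjectiveMorphism_of_isFactorSystem hS hE hsc hE')
  have hS' : IsPGroup p (⊤ : Subgroup (↥S ⧸ Z₁.subgroupOf S)) :=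
    (hS.to_quotient _).to_subgroup ⊤
  have hlt : Nat.card (⊤ : Subgroup (↥S ⧸ Z₁.subgroupOf S)) < n := by
    haveI : Finite Z₁ := finite_of_le hZ₁S
    have hQ1 : 1 < Nat.card Z₁ := by
      haveI : Nontrivial Z₁ := (Subgroup.nontrivial_iff_ne_bot Z₁).mpr hZ₁1
      exact Finite.one_lt_card
    have hidx : (Z₁.subgroupOf S).index * Nat.card Z₁ = Nat.card S := by
      rw [← Nat.card_congr (Subgroup.subgroupOfEquivOfLe hZ₁S).toEquiv, mul_comm]
      exact Subgroup.card_mul_index _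
    rw [Subgroup.card_top, ← Subgroup.index_eq_card, ← hn, ← hidx]
    exact lt_mul_of_one_lt_right (Nat.pos_of_ne_zero Subgroup.index_ne_zero_of_finite) hQ1
  obtain ⟨R', hR'S, hR'nor, hR'C, hR'p⟩ := ih _ hlt hS' rfl E' hEsat'
    fun h => hEnot (isInner_of_factor hS hE hZ₁n hin hE' h)
  refine ⟨preimageAlong θ R', FusionFactor.preimageAlong_le θ R',
    le_antisymm inf_le_left (le_inf le_rfl fun g hg => ?_), fun x hx => ?_, fun hp' => hR'p ?_⟩
  · have key : ∀ g ∈ S, ∀ x ∈ preimageAlong θ R', g * x * g⁻¹ ∈ preimageAlong θ R' := by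
      rintro g hgS _ ⟨x, hx, rfl⟩
      refine ⟨⟨g, hgS⟩ * x * ⟨g, hgS⟩⁻¹, ?_, rfl⟩
      show θ _ ∈ R'
      rw [map_mul, map_mul, map_inv]
      exact (Subgroup.mem_normalizer_iff.mp
        (hR'nor.ge (Subgroup.mem_top (θ ⟨g, hgS⟩))).2 _).mp hx
    rw [Subgroup.mem_normalizer_iff]
    refine fun x => ⟨key g hg x, fun hx => ?_⟩
    simpa [mul_assoc] using key _ (S.inv_mem hg) _ hx
  · refine (FusionFactor.mem_preimageAlong θ).mpr ⟨hx.1, hR'C ⟨Subgroup.mem_top _,
      Subgroup.mem_centralizer_iff.mpr fun y hy => ?_⟩⟩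
    obtain ⟨s, rfl⟩ := QuotientGroup.mk'_surjective _ y
    show θ s * θ ⟨x, hx.1⟩ = θ ⟨x, hx.1⟩ * θ s
    rw [← map_mul, ← map_mul]
    exact congrArg θ (Subtype.ext (Subgroup.mem_centralizer_iff.mp hx.2 (s : Ω)
      ((FusionFactor.mem_preimageAlong θ).mpr ⟨s.2, hy⟩)))
  · rintro ⟨α', hα'⟩
    obtain ⟨-, φ, hφ, hP, hφS, hmem, hind⟩ := (hE'.2.2.2 _ _).mp (autGroup_hom_mem hR'S hα')
    haveI : Finite (preimageAlong θ R') := finite_of_le (FusionFactor.preimageAlong_le θ R')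
    obtain ⟨α, hα, hαe⟩ := exists_aut_of_hom hφ (fun x => by
      refine (FusionFactor.mem_preimageAlong θ).mpr ⟨hφS x, ?_⟩
      rw [← hind x]
      exact (α' _).2)
    have hpow : ∀ (m : ℕ) (x : preimageAlong θ R'),
        θ ⟨((α ^ m) x : Ω), hP ((α ^ m) x).2⟩ = ((α' ^ m) ⟨θ ⟨x, hP x.2⟩, hmem x⟩ : ↥S ⧸ _) := by
      intro m
      induction m with
      | zero => intro x; simp
      | succ m ihm =>
        intro x
        have e : (⟨θ ⟨((α ^ m) x : Ω), hP ((α ^ m) x).2⟩, hmem ((α ^ m) x)⟩ : R') =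
            (α' ^ m) ⟨θ ⟨x, hP x.2⟩, hmem x⟩ := Subtype.ext (ihm x)
        rw [pow_succ' α', MulAut.mul_apply, ← e]
        refine Eq.trans ?_ (hind ((α ^ m) x)).symm
        congr 1
        apply Subtype.ext
        show ((α ^ (m + 1)) x : Ω) = _
        rw [pow_succ', MulAut.mul_apply, hαe]
    obtain ⟨k, hk⟩ := hp' ⟨α, hα⟩
    refine ⟨k, Subtype.ext (MulEquiv.ext fun y => Subtype.ext ?_)⟩
    obtain ⟨x, hx⟩ := FusionFactor.exists_preimage θ (hrange.symm ▸ le_top : R' ≤ θ.range) y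
    show ((α' ^ p ^ k) y).1 = y.1
    rw [show y = ⟨θ ⟨x, hP x.2⟩, hmem x⟩ from Subtype.ext hx.symm, ← hpow]
    congr 1
    apply Subtype.ext
    rw [show α ^ p ^ k = 1 from congrArg Subtype.val hk]
    rfl

end Cfsg.Agent.Lib.Fusion
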