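/-
The normal subsystem cut out by a character of the automizer of a strongly closed subgroup.

For a normal subsystem `E` over `T` and a normal subgroup `K` of `Aut_F(T)` containing `Aut_E(T)`
and `Aut_S(T)`, the maps of `F` whose restriction to `T` is an element of `K` composed with a map
of `E` form a system; the system generated by those of its maps whose source meets `T` in a
`T`-centric subgroup is saturated, of index prime to `p` and normal in `F`.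
-/
import Cfsg.Agent.Lib.Fusion.LeastNormal

set_option autoImplicit false

namespace Cfsg.Agent.Lib.Fusion.CharacterSubsystem

open Cfsg Cfsg.FusionSystem Cfsg.Agent.Lib.Fusion
open Cfsg.Agent.Lib.Fusion87 (stronglyClosed_apply stronglyClosed_le_normalizer')

universe u

variable {Ω : Type u} [Group Ω] {S T : Subgroup Ω} {F : FusionSystem S} {E : FusionSystem T}
  {K : Subgroup (MulAut T)} {p : ℕ}

/-! ### Restriction to a strongly closed subgroup -/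

theorem range_restrict_inf (hT : F.StronglyClosed T) {P : Subgroup Ω} {φ : P →* Ω}
    (hφ : φ ∈ F.Hom P) :
    (φ.comp (Subgroup.inclusion (inf_le_left : P ⊓ T ≤ P))).range = φ.range ⊓ T := by
  refine le_antisymm ?_ ?_
  · rintro _ ⟨x, rfl⟩
    exact ⟨⟨_, rfl⟩, stronglyClosed_apply hT hφ _ x.2.2⟩
  · rintro _ ⟨⟨x, rfl⟩, hxT⟩
    have h := (rangeInv_apply φ (F.injective_of_mem hφ) x ⟨x, rfl⟩) ▸
      stronglyClosed_apply hT (rangeInv_mem hφ) ⟨φ x, x, rfl⟩ hxT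
    exact ⟨⟨x, x.2, h⟩, rfl⟩

theorem exists_res_aut [Finite S] (hT : F.StronglyClosed T) {a : MulAut S}
    (ha : a ∈ F.autGroup S) :
    ∃ b ∈ F.autGroup T, ∀ t : T, (b t : Ω) = (a ⟨t, hT.1 t.2⟩ : Ω) := by
  haveI : Finite T := finite_of_le hT.1
  obtain ⟨b, hb, hbx⟩ := exists_aut_of_hom (restrict_mem (autGroup_hom_mem le_rfl ha) hT.1)
    (fun t => stronglyClosed_apply hT (autGroup_hom_mem le_rfl ha) _ t.2)
  exact ⟨b, hb, fun t => hbx t⟩

theorem tCentric_map {U : Subgroup Ω} (hT : F.StronglyClosed T) (hU : TCentric F T U)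
    {φ : U →* Ω} (hφ : φ ∈ F.Hom U) : TCentric F T φ.range := by
  refine ⟨?_, fun ψ hψ hr => ?_⟩
  · rintro _ ⟨x, rfl⟩
    exact hT.2 U hU.1 φ hφ x
  obtain ⟨χ, hχ, hχx⟩ := exists_comp hφ hψ fun x => ⟨x, rfl⟩
  have hrr : χ.range = ψ.range := by
    refine le_antisymm ?_ ?_
    · rintro _ ⟨x, rfl⟩
      exact ⟨_, (hχx x).symm⟩
    · rintro _ ⟨⟨_, x, rfl⟩, rfl⟩
      exact ⟨x, hχx x⟩
  rw [← hrr]
  exact hU.2 χ hχ (hrr.le.trans hr)

theorem tCentric_mono {U V : Subgroup Ω} (hU : TCentric F T U) (hUV : U ≤ V) (hV : V ≤ T) :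
    TCentric F T V := by
  refine ⟨hV, fun φ hφ hr => ?_⟩
  have hle : (φ.comp (Subgroup.inclusion hUV)).range ≤ φ.range := by
    rintro _ ⟨x, rfl⟩
    exact ⟨_, rfl⟩
  refine fun y hy => hle (hU.2 _ (restrict_mem hφ hUV) (hle.trans hr) ⟨hy.1, fun z hz => ?_⟩)
  exact hy.2 z (hle hz)

/-! ### The data -/

/-- The maps of `F` between subgroups of `T` that are an element of `K` composed with a map
of `E`. -/
def decompK (F : FusionSystem S) (E : FusionSystem T) (hTS : T ≤ S) (hinv : ActInvariant E F)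
    (K : Subgroup (MulAut T)) (hK : K ≤ F.autGroup T) :
    FusionSystem T where
  Hom P := {φ | φ ∈ F.Hom P ∧ P ≤ T ∧ (∀ x : P, φ x ∈ T) ∧ ∃ a ∈ K, ∃ φ₀ ∈ E.Hom P,
    ∀ (x : P) (hx : φ₀ x ∈ T), φ x = (a ⟨φ₀ x, hx⟩ : Ω)}
  le_of_mem h := ⟨h.2.1, h.2.2.1⟩
  injective_of_mem h := F.injective_of_mem h.1
  conj_mem {P g} hP hg := ⟨F.conj_mem (hP.trans hTS) (hTS hg), hP,
    fun x => T.mul_mem (T.mul_mem hg (hP x.2)) (T.inv_mem hg), 1, Subgroup.one_mem _, _,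
    E.conj_mem hP hg, fun _ _ => rfl⟩
  comp_mem := by
    rintro P Q φ ψ ⟨hφ, hP, -, a, ha, φ₀, hφ₀, hx⟩ ⟨hψ, hQ, hψT, b, hb, ψ₀, hψ₀, hy⟩ h
    refine ⟨F.comp_mem hφ hψ h, hP, fun x => hψT _, b * a, Subgroup.mul_mem _ hb ha, ?_⟩
    obtain ⟨χ, hχ, hχx⟩ := hinv _ (Subgroup.inv_mem _ (hK ha)) Q ψ₀ hψ₀
    have hval : ∀ x : P, φ₀ x ∈ imgSub (autHom a⁻¹) Q := by
      intro x
      have e : (a⁻¹ ⟨φ x, hQ (h x)⟩ : Ω) = φ₀ x := by
        have e1 : (⟨φ x, hQ (h x)⟩ : T) = a ⟨φ₀ x, val_mem hφ₀ x⟩ :=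
          Subtype.ext (hx x (val_mem hφ₀ x))
        rw [e1, MulAut.inv_apply_self]
      exact e ▸ imgSub_act_mem hQ ⟨φ x, h x⟩
    obtain ⟨θ, hθ, hθx⟩ := exists_comp hφ₀ hχ hval
    refine ⟨θ, hθ, fun x hxS => ?_⟩
    have e1 : (⟨φ₀ x, hval x⟩ : imgSub (autHom a⁻¹) Q) =
        ⟨_, imgSub_act_mem hQ ⟨φ x, h x⟩⟩ := by
      refine Subtype.ext ?_
      have e2 : (⟨φ x, hQ (h x)⟩ : T) = a ⟨φ₀ x, val_mem hφ₀ x⟩ :=
        Subtype.ext (hx x (val_mem hφ₀ x))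
      show φ₀ x = (a⁻¹ (⟨φ x, hQ (h x)⟩ : T) : Ω)
      rw [e2, MulAut.inv_apply_self]
    have e3 : θ x = (a⁻¹ ⟨ψ₀ ⟨φ x, h x⟩, val_mem hψ₀ _⟩ : Ω) := by
      rw [hθx, e1, hχx]
    show ψ ⟨φ x, h x⟩ = (b (a ⟨θ x, hxS⟩) : Ω)
    rw [hy _ (val_mem hψ₀ _)]
    refine congrArg (fun z : T => (b z : Ω)) ?_
    rw [show (⟨θ x, hxS⟩ : T) = a⁻¹ ⟨ψ₀ ⟨φ x, h x⟩, val_mem hψ₀ _⟩ from Subtype.ext e3,
      MulAut.apply_inv_self]
  inv_mem := by
    rintro P φ ⟨hφ, hP, hφT, a, ha, φ₀, hφ₀, hx⟩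
    obtain ⟨χ, hχ, hχx⟩ := hinv a (hK ha) _ _ (rangeInv_mem hφ₀)
    have hle : φ.range ≤ imgSub (autHom a) φ₀.range := by
      rintro _ ⟨x, rfl⟩
      rw [hx x (val_mem hφ₀ x)]
      exact imgSub_act_mem (range_le hφ₀) ⟨φ₀ x, x, rfl⟩
    refine ⟨_, ⟨rangeInv_mem hφ, ?_, fun y => hP (rangeInv_mem_src _ _ y), a⁻¹,
      Subgroup.inv_mem _ ha, _, restrict_mem hχ hle, ?_⟩, fun x => rangeInv_apply _ _ x _⟩
    · rintro _ ⟨x, rfl⟩
      exact hφT x
    rintro ⟨_, x, rfl⟩ hxS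
    refine (rangeInv_apply φ _ x _).trans ?_
    have e1 : (Subgroup.inclusion hle ⟨φ x, x, rfl⟩) =
        ⟨_, imgSub_act_mem (range_le hφ₀) ⟨φ₀ x, x, rfl⟩⟩ :=
      Subtype.ext (hx x (val_mem hφ₀ x))
    have e2 : χ (Subgroup.inclusion hle ⟨φ x, x, rfl⟩) = (a ⟨x, hP x.2⟩ : Ω) := by
      rw [e1, hχx]
      exact congrArg (fun z : T => (a z : Ω)) (Subtype.ext (rangeInv_apply φ₀ _ x _))
    have e3 : (⟨_, hxS⟩ : T) = a ⟨x, hP x.2⟩ := Subtype.ext e2
    show (x : Ω) = _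
    rw [e3, MulAut.inv_apply_self]

/-- The standing hypotheses. -/
structure CharData (F : FusionSystem S) (E : FusionSystem T) (K : Subgroup (MulAut T)) (p : ℕ) :
    Prop where
  hS : IsPGroup p S
  hF : F.IsSaturated p
  hE : E.IsWeaklyNormalIn F p
  hact : ActInvariant E F
  hK : K ≤ F.autGroup T
  hconj : ∀ g ∈ F.autGroup T, ∀ k ∈ K, g * k * g⁻¹ ∈ K
  hEK : E.autGroup T ≤ K
  hSK : autInducedBy S T ≤ K

theorem CharData.hT (c : CharData F E K p) : F.StronglyClosed T := c.hE.2.2.2.1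

theorem CharData.hEF (c : CharData F E K p) : E.IsSubsystemOf F := c.hE.2.2.1

theorem CharData.hTS (c : CharData F E K p) : T ≤ S := c.hT.1

/-- The system on `T`. -/
def tSystem (c : CharData F E K p) : FusionSystem T := decompK F E c.hTS c.hact K c.hK

/-- The maps of `F` restricting to maps of `tSystem`. -/
def charSystem (c : CharData F E K p) : FusionSystem S where
  Hom P := {φ | φ ∈ F.Hom P ∧
    φ.comp (Subgroup.inclusion (inf_le_left : P ⊓ T ≤ P)) ∈ (tSystem c).Hom (P ⊓ T)}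
  le_of_mem h := F.le_of_mem h.1
  injective_of_mem h := F.injective_of_mem h.1
  conj_mem {P g} hP hg := by
    have hn : g ∈ Subgroup.normalizer (T : Set Ω) := stronglyClosed_le_normalizer' c.hT hg
    have hres := restrict_mem (F.conj_mem hP hg) (inf_le_left : P ⊓ T ≤ P)
    refine ⟨F.conj_mem hP hg, hres, inf_le_right,
      fun x => (Subgroup.mem_normalizer_iff.1 hn x).1 x.2.2, conjAut T g hn,
      c.hSK (mem_autInducedBy.2 ⟨g, hg, fun x => rfl⟩), _, subtype_mem inf_le_right,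
      fun x hx => rfl⟩
  comp_mem := by
    rintro P Q φ ψ ⟨hφ, hφT⟩ ⟨hψ, hψT⟩ h
    refine ⟨F.comp_mem hφ hψ h, ?_⟩
    exact comp_of_apply hφT hψT fun x => ⟨⟨h _, hφT.2.2.1 x⟩, rfl⟩
  inv_mem := by
    rintro P φ ⟨hφ, hφT⟩
    refine ⟨_, ⟨rangeInv_mem hφ, ?_⟩, fun x => rangeInv_apply _ _ x _⟩
    have hle := (range_restrict_inf c.hT hφ).ge
    refine mem_of_restrict (rangeInv_mem hφT) hle ?_
    rintro ⟨y, hy⟩
    obtain ⟨x, rfl⟩ := hle hy
    exact (rangeInv_apply φ _ (Subgroup.inclusion inf_le_left x) _).trans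
      (rangeInv_apply (φ.comp (Subgroup.inclusion (inf_le_left : P ⊓ T ≤ P))) _ x ⟨_, rfl⟩).symm

theorem mem_charSystem_of_decomp (c : CharData F E K p) {P : Subgroup Ω} {φ : P →* Ω}
    (hφ : φ ∈ F.Hom P) {k : MulAut T} (hk : k ∈ K) {φ₀ : (P ⊓ T : Subgroup Ω) →* Ω}
    (hφ₀ : φ₀ ∈ E.Hom (P ⊓ T))
    (h : ∀ (x : (P ⊓ T : Subgroup Ω)) (hx : φ₀ x ∈ T),
      φ (Subgroup.inclusion inf_le_left x) = (k ⟨φ₀ x, hx⟩ : Ω)) :
    φ ∈ (charSystem c).Hom P :=
  ⟨hφ, restrict_mem hφ _, inf_le_right, fun x => stronglyClosed_apply c.hT hφ _ x.2.2,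
    k, hk, φ₀, hφ₀, h⟩

theorem exists_act_charSystem [Finite S] (c : CharData F E K p) {a : MulAut S}
    (ha : a ∈ F.autGroup S) {Q : Subgroup Ω} {ψ : Q →* Ω} (hψ : ψ ∈ (charSystem c).Hom Q) :
    ∃ χ ∈ (charSystem c).Hom (imgSub (autHom a) Q), ∀ x : Q,
      χ ⟨_, imgSub_act_mem (src_le hψ.1) x⟩ = (a ⟨ψ x, val_mem hψ.1 x⟩ : Ω) := by
  obtain ⟨hψF, -, -, hψT, k, hk, ψ₀, hψ₀, hψx⟩ := hψ
  have haF := autGroup_hom_mem le_rfl ha
  obtain ⟨a', ha', har, hax, -⟩ := exists_inverse (restrict_mem haF (src_le hψF))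
    (range_restrict (autHom a) (src_le hψF))
  obtain ⟨d, hd, hdx⟩ := exists_comp ha' hψF fun y => har.le ⟨y, rfl⟩
  obtain ⟨χ, hχ, hχx⟩ := exists_comp hd haF fun y => val_mem hd y
  have hval : ∀ x : Q, χ ⟨_, imgSub_act_mem (src_le hψF) x⟩ = (a ⟨ψ x, val_mem hψF x⟩ : Ω) := by
    intro x
    rw [hχx]
    refine congrArg (fun z : S => (a z : Ω)) (Subtype.ext ?_)
    exact (hdx _).trans
      (congrArg ψ (Subtype.ext (hax x (imgSub_act_mem (src_le hψF) x))))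
  refine ⟨χ, ?_, hval⟩
  obtain ⟨b, hb, hbx⟩ := exists_res_aut c.hT ha
  obtain ⟨χ₀, hχ₀, hχ₀x⟩ := c.hact b hb _ ψ₀ hψ₀
  have hle : imgSub (autHom a) Q ⊓ T ≤ imgSub (autHom b) (Q ⊓ T) := by
    rintro y ⟨hy, hyT⟩
    obtain ⟨x, hxS, rfl⟩ := exists_of_mem_imgSub_act hy
    have hxT : (x : Ω) ∈ T := by
      have h := stronglyClosed_apply c.hT (autGroup_hom_mem le_rfl (Subgroup.inv_mem _ ha))
        (a ⟨x, hxS⟩) hyT
      rwa [autHom_apply, MulAut.inv_apply_self] at h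
    have := imgSub_act_mem (a := b) (inf_le_right : Q ⊓ T ≤ T) ⟨x, x.2, hxT⟩
    rwa [hbx] at this
  refine mem_charSystem_of_decomp c hχ (c.hconj b hb k hk) (restrict_mem hχ₀ hle) ?_
  rintro ⟨y, hy⟩ hyT
  obtain ⟨x, hxS, rfl⟩ := exists_of_mem_imgSub_act hy.1
  have hxT : (x : Ω) ∈ T := by
    have h := stronglyClosed_apply c.hT (autGroup_hom_mem le_rfl (Subgroup.inv_mem _ ha))
      (a ⟨x, hxS⟩) hy.2
    rwa [autHom_apply, MulAut.inv_apply_self] at h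
  set x' : (Q ⊓ T : Subgroup Ω) := ⟨x, x.2, hxT⟩ with hx'
  have e0 : (χ₀.comp (Subgroup.inclusion hle)) ⟨_, hy⟩ = (b ⟨ψ₀ x', val_mem hψ₀ x'⟩ : Ω) := by
    refine (congrArg χ₀ (Subtype.ext ?_)).trans (hχ₀x x')
    exact (hbx ⟨x, hxT⟩).symm
  have e1 : ψ x = (k ⟨ψ₀ x', val_mem hψ₀ x'⟩ : Ω) := hψx x' _
  have e2 : (⟨_, hyT⟩ : T) = b ⟨ψ₀ x', val_mem hψ₀ x'⟩ := Subtype.ext e0
  rw [e2, MulAut.mul_apply, MulAut.mul_apply, MulAut.inv_apply_self, hbx]
  exact (hval x).trans (congrArg (fun z : S => (a z : Ω)) (Subtype.ext e1))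

/-- The family of subgroups. -/
def InFam (F : FusionSystem S) (T P : Subgroup Ω) : Prop :=
  F.IsCentric P ∧ TCentric F T (P ⊓ T)

theorem inFam_map (c : CharData F E K p) {P : Subgroup Ω} (hP : InFam F T P) {φ : P →* Ω}
    (hφ : φ ∈ F.Hom P) : InFam F T φ.range :=
  ⟨isCentric_of_isConj hP.1 (isConj_range hφ),
    range_restrict_inf c.hT hφ ▸ tCentric_map c.hT hP.2 (restrict_mem hφ inf_le_left)⟩

theorem inFam_act (c : CharData F E K p) {a : MulAut S} (ha : a ∈ F.autGroup S)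
    {P : Subgroup Ω} (hP : InFam F T P) : InFam F T (imgSub (autHom a) P) := by
  have h := inFam_map c hP (restrict_mem (autGroup_hom_mem le_rfl ha) hP.1.1)
  rwa [range_restrict] at h

/-- The least system containing the maps of `charSystem` on the family. -/
def genSystem (c : CharData F E K p) : FusionSystem S where
  Hom P := {φ | φ ∈ (charSystem c).Hom P ∧ ∀ X : FusionSystem S,
    (∀ R, InFam F T R → (charSystem c).Hom R ⊆ X.Hom R) → φ ∈ X.Hom P}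
  le_of_mem h := F.le_of_mem h.1.1
  injective_of_mem h := F.injective_of_mem h.1.1
  conj_mem hP hg := ⟨(charSystem c).conj_mem hP hg, fun X _ => X.conj_mem hP hg⟩
  comp_mem hφ hψ h :=
    ⟨(charSystem c).comp_mem hφ.1 hψ.1 h, fun X hX => X.comp_mem (hφ.2 X hX) (hψ.2 X hX) h⟩
  inv_mem hφ := ⟨_, ⟨rangeInv_mem hφ.1, fun X hX => rangeInv_mem (hφ.2 X hX)⟩,
    fun x => rangeInv_apply _ _ x _⟩

theorem genSystem_le (c : CharData F E K p) : genSystem c ≤ F := fun _ _ h => h.1.1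

theorem mem_genSystem (c : CharData F E K p) {P : Subgroup Ω} (hP : InFam F T P) {φ : P →* Ω}
    (hφ : φ ∈ (charSystem c).Hom P) : φ ∈ (genSystem c).Hom P :=
  ⟨hφ, fun X hX => hX P hP hφ⟩

theorem exists_act_genSystem [Finite S] (c : CharData F E K p) {a : MulAut S}
    (ha : a ∈ F.autGroup S) {Q : Subgroup Ω} {ψ : Q →* Ω} (hψ : ψ ∈ (genSystem c).Hom Q) :
    ∃ χ ∈ (genSystem c).Hom (imgSub (autHom a) Q), ∀ x : Q,
      χ ⟨_, imgSub_act_mem (src_le hψ) x⟩ = (a ⟨ψ x, val_mem hψ x⟩ : Ω) := by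
  obtain ⟨χ, hχ, hval⟩ := exists_act_charSystem c ha hψ.1
  refine ⟨χ, ⟨hχ, fun X hX => ?_⟩, hval⟩
  have hGen : ∀ R, InFam F T R → (charSystem c).Hom R ⊆ (transportAct F X a).Hom R := by
    intro R hR θ hθ
    obtain ⟨θ', hθ', hθx⟩ := exists_act_charSystem c ha hθ
    exact ⟨hθ.1, _, θ', hX _ (inFam_act c ha hR) hθ',
      fun x => ⟨imgSub_act_mem (src_le hθ.1) x, hθx x⟩⟩
  obtain ⟨hψF, R, χ', hχ', hx⟩ := hψ.2 _ hGen
  obtain ⟨χ'', hχ'', hx''⟩ := exists_restrict_act (src_le hψ) hχ' fun x => (hx x).1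
  refine mem_congr hχ'' ?_
  rintro ⟨y, hy⟩
  obtain ⟨x, hxS, rfl⟩ := exists_of_mem_imgSub_act hy
  exact (hval x).trans ((hx'' x).trans (hx x).2).symm

/-- The maps that are an automorphism of `S` composed with a map of `genSystem`. -/
def frattiniGenSystem [Finite S] (c : CharData F E K p) : FusionSystem S where
  Hom P := {φ | φ ∈ F.Hom P ∧ ∃ a ∈ F.autGroup S, ∃ φ₀ ∈ (genSystem c).Hom P,
    ∀ (x : P) (hx : φ₀ x ∈ S), φ x = (a ⟨φ₀ x, hx⟩ : Ω)}
  le_of_mem h := F.le_of_mem h.1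
  injective_of_mem h := F.injective_of_mem h.1
  conj_mem hP hg := ⟨F.conj_mem hP hg, 1, Subgroup.one_mem _, _,
    (genSystem c).conj_mem hP hg, fun _ _ => rfl⟩
  comp_mem := by
    rintro P Q φ ψ ⟨hφ, a, ha, φ₀, hφ₀, hx⟩ ⟨hψ, b, hb, ψ₀, hψ₀, hy⟩ h
    refine ⟨F.comp_mem hφ hψ h, b * a, Subgroup.mul_mem _ hb ha, ?_⟩
    have hψS := src_le hψ₀
    obtain ⟨χ, hχ, hχx⟩ := exists_act_genSystem c (Subgroup.inv_mem _ ha) hψ₀
    have hval : ∀ x : P, φ₀ x ∈ imgSub (autHom a⁻¹) Q := by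
      intro x
      have e : (a⁻¹ ⟨φ x, hψS (h x)⟩ : Ω) = φ₀ x := by
        have e1 : (⟨φ x, hψS (h x)⟩ : S) = a ⟨φ₀ x, val_mem hφ₀ x⟩ :=
          Subtype.ext (hx x (val_mem hφ₀ x))
        rw [e1, MulAut.inv_apply_self]
      exact e ▸ imgSub_act_mem hψS ⟨φ x, h x⟩
    obtain ⟨θ, hθ, hθx⟩ := exists_comp hφ₀ hχ hval
    refine ⟨θ, hθ, fun x hxS => ?_⟩
    have e1 : (⟨φ₀ x, hval x⟩ : imgSub (autHom a⁻¹) Q) =
        ⟨_, imgSub_act_mem hψS ⟨φ x, h x⟩⟩ := by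
      refine Subtype.ext ?_
      have e2 : (⟨φ x, hψS (h x)⟩ : S) = a ⟨φ₀ x, val_mem hφ₀ x⟩ :=
        Subtype.ext (hx x (val_mem hφ₀ x))
      show φ₀ x = (a⁻¹ (⟨φ x, hψS (h x)⟩ : S) : Ω)
      rw [e2, MulAut.inv_apply_self]
    have e3 : θ x = (a⁻¹ ⟨ψ₀ ⟨φ x, h x⟩, val_mem hψ₀ _⟩ : Ω) := by
      rw [hθx, e1, hχx]
    show ψ ⟨φ x, h x⟩ = (b (a ⟨θ x, hxS⟩) : Ω)
    rw [hy _ (val_mem hψ₀ _)]
    refine congrArg (fun z : S => (b z : Ω)) ?_
    rw [show (⟨θ x, hxS⟩ : S) = a⁻¹ ⟨ψ₀ ⟨φ x, h x⟩, val_mem hψ₀ _⟩ from Subtype.ext e3,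
      MulAut.apply_inv_self]
  inv_mem := by
    rintro P φ ⟨hφ, a, ha, φ₀, hφ₀, hx⟩
    obtain ⟨χ, hχ, hχx⟩ := exists_act_genSystem c ha (rangeInv_mem hφ₀)
    have hle : φ.range ≤ imgSub (autHom a) φ₀.range := by
      rintro _ ⟨x, rfl⟩
      rw [hx x (val_mem hφ₀ x)]
      exact imgSub_act_mem (range_le hφ₀) ⟨φ₀ x, x, rfl⟩
    refine ⟨_, ⟨rangeInv_mem hφ, a⁻¹, Subgroup.inv_mem _ ha, _, restrict_mem hχ hle, ?_⟩,
      fun x => rangeInv_apply _ _ x _⟩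
    rintro ⟨_, x, rfl⟩ hxS
    refine (rangeInv_apply φ _ x _).trans ?_
    have e1 : (Subgroup.inclusion hle ⟨φ x, x, rfl⟩) =
        ⟨_, imgSub_act_mem (range_le hφ₀) ⟨φ₀ x, x, rfl⟩⟩ :=
      Subtype.ext (hx x (val_mem hφ₀ x))
    have e2 : χ (Subgroup.inclusion hle ⟨φ x, x, rfl⟩) = (a ⟨x, src_le hφ x.2⟩ : Ω) := by
      rw [e1, hχx]
      exact congrArg (fun z : S => (a z : Ω)) (Subtype.ext (rangeInv_apply φ₀ _ x _))
    have e3 : (⟨_, hxS⟩ : S) = a ⟨x, src_le hφ x.2⟩ := Subtype.ext e2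
    show (x : Ω) = _
    rw [e3, MulAut.inv_apply_self]

/-- Every automorphism of `T` agrees modulo `K` with the restriction of an automorphism of `S`. -/
theorem exists_lift [Fact p.Prime] [Finite S] (c : CharData F E K p) {α : MulAut T}
    (hα : α ∈ F.autGroup T) :
    ∃ a ∈ F.autGroup S, ∃ b ∈ F.autGroup T,
      (∀ t : T, (b t : Ω) = (a ⟨t, c.hTS t.2⟩ : Ω)) ∧ b⁻¹ * α ∈ K := by
  haveI : Finite T := finite_of_le c.hTS
  haveI := finite_mulAut (S := S) c.hTS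
  have hTn := stronglyClosed_le_normalizer' c.hT
  have hfull : F.IsFullyNormalized T := by
    refine ⟨c.hTS, ?_⟩
    rintro Q ⟨φ, hφ, rfl⟩
    haveI := finite_normalizerIn (S := S) T
    exact Subgroup.card_le_of_le fun x hx => ⟨hx.1, hTn hx.1⟩
  obtain ⟨-, hsyl⟩ := isFullyAutomized_iff.1 (isFullyAutomized_of_isFullyNormalized c.hS c.hF hfull)
  have hconjle : (autInducedBy S T).map (MulAut.conj α).toMonoidHom ≤ K := by
    rintro _ ⟨g, hg, rfl⟩
    exact c.hconj α hα g (c.hSK hg)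
  obtain ⟨o, ho, hle⟩ :=
    (hsyl.of_le c.hSK c.hK).exists_conj_le (hsyl.2.1.map _) hconjle
  have hoα : o * α ∈ F.autGroup T := Subgroup.mul_mem _ (c.hK ho) hα
  obtain ⟨ψ, hψ, hag⟩ := (isReceptive_of_isFullyNormalized c.hS c.hF hfull).2 T (autHom (o * α))
    (autGroup_hom_mem c.hTS hoα) (range_autHom _)
  have hext : S ≤ extender S T (autHom (o * α)) := fun g hg => by
    refine mem_extender_of_conj_mem hg (hTn hg) ?_
    have hgA : conjAut T g (hTn hg) ∈ autInducedBy S T :=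
      mem_autInducedBy.2 ⟨g, hg, fun x => rfl⟩
    have h1 := hle ⟨_, ⟨_, hgA, rfl⟩, rfl⟩
    have e : (o * α) * conjAut T g (hTn hg) * (o * α)⁻¹ =
        o * (α * conjAut T g (hTn hg) * α⁻¹) * o⁻¹ := by
      rw [mul_inv_rev]
      simp only [mul_assoc]
    rw [e]
    exact h1
  obtain ⟨a, ha, hax⟩ := exists_aut_of_hom (restrict_mem hψ hext) fun x => val_mem hψ _
  refine ⟨a, ha, o * α, hoα, fun t => ?_, ?_⟩
  · rw [hax]
    exact (hag t t.2 (hext (c.hTS t.2))).symm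
  · have e : (o * α)⁻¹ * α = α⁻¹ * o⁻¹ * (α⁻¹)⁻¹ := by rw [mul_inv_rev, inv_inv]
    rw [e]
    exact c.hconj _ (Subgroup.inv_mem _ hα) _ (Subgroup.inv_mem _ ho)

/-- A witness that `Aut_S(Q)` meets `O_p` outside the inner automorphisms. -/
def Witness (S T Q : Subgroup Ω) : Prop :=
  ∃ g, g ∈ S ∧ g ∈ T ∧ g ∈ Subgroup.normalizer (Q : Set Ω) ∧ g ∉ Q ∧
    ∀ x ∈ Q, x ∈ T → g * x = x * g

theorem exists_witness [Fact p.Prime] [Finite S] (c : CharData F E K p) {P : Subgroup Ω}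
    (hP : P ≤ S) (h : ¬ TCentric F T (P ⊓ T)) :
    ∃ φ ∈ F.Hom P, Witness S T φ.range := by
  set U := P ⊓ T with hU
  have hUS : U ≤ S := inf_le_left.trans hP
  obtain ⟨φ, hφ, hφT, hnc⟩ : ∃ φ ∈ F.Hom U, φ.range ≤ T ∧
      ¬ centralizerIn T φ.range ≤ φ.range := by
    by_contra hh
    push Not at hh
    exact h ⟨inf_le_right, hh⟩
  obtain ⟨y, hy, hyn⟩ := SetLike.not_le_iff_exists.1 hnc
  obtain ⟨U', hUU', hU'⟩ := exists_isFullyNormalized_conj F hUS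
  obtain ⟨η, hη, -, hηU⟩ := exists_map_to_fullyNormalized c.hS c.hF hU'
    (isConj_trans (isConj_symm (isConj_range hφ)) hUU')
  obtain ⟨ψ, hψ, -, hψU⟩ := exists_map_to_fullyNormalized c.hS c.hF hU' hUU'
  -- the element centralizing the fully normalized subgroup
  have hyN : y ∈ normalizerIn S φ.range :=
    ⟨c.hTS hy.1, mem_normalizer_of_mem_centralizer hy.2⟩
  set y' := η ⟨y, hyN⟩ with hy'
  have hy'T : y' ∈ T := stronglyClosed_apply c.hT hη _ hy.1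
  have hy'C : y' ∈ Subgroup.centralizer (U' : Set Ω) := hηU ▸ apply_mem_centralizer η _ hy.2
  have hy'U : y' ∉ U' := by
    rw [← hηU]
    exact fun hh => hyn ((apply_mem_imgSub_iff (F.injective_of_mem hη) ⟨y, hyN⟩).1 hh)
  -- the image of `P`
  have hPN : P ≤ normalizerIn S U := fun x hx => by
    refine ⟨hP hx, Subgroup.mem_normalizer_iff.2 ?_⟩
    intro z
    have h1 := Subgroup.mem_normalizer_iff.1 (Subgroup.le_normalizer hx : x ∈ Subgroup.normalizer (P : Set Ω)) z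
    have h2 := Subgroup.mem_normalizer_iff.1 (stronglyClosed_le_normalizer' c.hT (hP hx)) z
    exact ⟨fun hz => ⟨h1.1 hz.1, h2.1 hz.2⟩, fun hz => ⟨h1.2 hz.1, h2.2 hz.2⟩⟩
  have hψP := restrict_mem hψ hPN
  refine ⟨_, hψP, ?_⟩
  set Q := (ψ.comp (Subgroup.inclusion hPN)).range with hQ
  have hQT : Q ⊓ T = U' := by
    rw [hQ, ← range_restrict_inf c.hT hψP, ← hψU, ← range_restrict ψ (inf_le_left.trans hPN)]
    rfl
  have hQS : Q ≤ S := range_le hψP
  set C := centralizerIn T U' with hC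
  have hCS : C ≤ S := inf_le_left.trans c.hTS
  have hQC : Q ≤ Subgroup.normalizer (C : Set Ω) := by
    intro q hq
    rw [Subgroup.mem_normalizer_iff]
    intro z
    have hqU : q ∈ Subgroup.normalizer (U' : Set Ω) := by
      rw [← hQT, Subgroup.mem_normalizer_iff]
      intro w
      have h1 := Subgroup.mem_normalizer_iff.1 (Subgroup.le_normalizer hq : q ∈ Subgroup.normalizer (Q : Set Ω)) w
      have h2 := Subgroup.mem_normalizer_iff.1 (stronglyClosed_le_normalizer' c.hT (hQS hq)) w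
      exact ⟨fun hz => ⟨h1.1 hz.1, h2.1 hz.2⟩, fun hz => ⟨h1.2 hz.1, h2.2 hz.2⟩⟩
    have h2 := Subgroup.mem_normalizer_iff.1 (stronglyClosed_le_normalizer' c.hT (hQS hq)) z
    constructor
    · rintro ⟨hzT, hzc⟩
      refine ⟨h2.1 hzT, fun w hw => ?_⟩
      have hw' : q⁻¹ * w * q ∈ U' := by
        rw [Subgroup.mem_normalizer_iff.1 hqU]
        simpa [mul_assoc] using hw
      have := hzc _ hw'
      calc w * (q * z * q⁻¹) = q * (q⁻¹ * w * q * z) * q⁻¹ := by group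
        _ = q * (z * (q⁻¹ * w * q)) * q⁻¹ := by rw [this]
        _ = q * z * q⁻¹ * w := by group
    · rintro ⟨hzT, hzc⟩
      refine ⟨h2.2 hzT, fun w hw => ?_⟩
      have hw' : q * w * q⁻¹ ∈ U' := (Subgroup.mem_normalizer_iff.1 hqU w).1 hw
      have := hzc _ hw'
      calc w * z = q⁻¹ * (q * w * q⁻¹ * (q * z * q⁻¹)) * q := by group
        _ = q⁻¹ * (q * z * q⁻¹ * (q * w * q⁻¹)) * q := by rw [this]
        _ = z * w := by group
  by_contra hno
  have hle : C ≤ Q := by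
    haveI : Finite (Q ⊔ C : Subgroup Ω) := finite_of_le (sup_le hQS hCS)
    refine Fusion87.le_of_normalizerIn_le (S := Q ⊔ C) (c.hS.to_le (sup_le hQS hCS)) ?_ le_sup_right
      (sup_le hQC Subgroup.le_normalizer) fun g hg hgn => ?_
    · exact le_sup_left
    · by_contra hgQ
      exact hno ⟨g, hCS hg, hg.1, hgn, hgQ,
        fun x hx hxT => (hg.2 x (hQT.le ⟨hx, hxT⟩)).symm⟩
  exact hy'U (hQT.le ⟨hle ⟨hy'T, hy'C⟩, hy'T⟩)

/-- An element of the witness acts by an element of `O_p` of any automizer inside `Aut_F(Q)`. -/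
theorem conjAut_mem_pCoreAut [Fact p.Prime] [Finite S] {X : FusionSystem S} (c : CharData F E K p)
    (hX : X ≤ F) {Q : Subgroup Ω} (hQS : Q ≤ S) {g : Ω} (hgS : g ∈ S) (hgT : g ∈ T)
    (hgn : g ∈ Subgroup.normalizer (Q : Set Ω)) (hgc : ∀ x ∈ Q, x ∈ T → g * x = x * g) :
    conjAut Q g hgn ∈ pCoreAut X p Q := by
  have hXF : ∀ a : X.autGroup Q, autHom (a : MulAut Q) ∈ F.Hom Q :=
    fun a => hX Q (autGroup_hom_mem hQS a.2)
  let N : Subgroup (X.autGroup Q) :=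
    { carrier := {a | (∀ x : Q, ((a : MulAut Q) x : Ω) * (x : Ω)⁻¹ ∈ T) ∧
        ∀ x : Q, (x : Ω) ∈ T → (a : MulAut Q) x = x}
      one_mem' := ⟨fun x => by simp, fun x _ => rfl⟩
      mul_mem' := by
        rintro a b ⟨ha, ha'⟩ ⟨hb, hb'⟩
        refine ⟨fun x => ?_, fun x hx => ?_⟩
        · simpa [mul_assoc] using T.mul_mem (ha ((b : MulAut Q) x)) (hb x)
        · rw [Subgroup.coe_mul, MulAut.mul_apply, hb' x hx, ha' x hx]
      inv_mem' := by
        rintro a ⟨ha, ha'⟩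
        refine ⟨fun x => ?_, fun x hx => ?_⟩
        · have := T.inv_mem (ha ((a : MulAut Q)⁻¹ x))
          rw [MulAut.apply_inv_self, mul_inv_rev, inv_inv] at this
          exact this
        · rw [InvMemClass.coe_inv]
          conv_lhs => rw [← ha' x hx]
          rw [MulAut.inv_apply_self] }
  haveI : N.Normal := by
    refine ⟨?_⟩
    rintro a ⟨ha, ha'⟩ b
    refine ⟨fun x => ?_, fun x hx => ?_⟩
    · have h := stronglyClosed_apply c.hT (hXF b)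
        ((a : MulAut Q) ((b : MulAut Q)⁻¹ x) * ((b : MulAut Q)⁻¹ x)⁻¹) (ha _)
      rw [map_mul, map_inv, autHom_apply, autHom_apply, MulAut.apply_inv_self] at h
      exact h
    · have h : (((b : MulAut Q)⁻¹ x : Q) : Ω) ∈ T := by
        have := stronglyClosed_apply c.hT (hXF b⁻¹) x hx
        exact this
      show (b : MulAut Q) ((a : MulAut Q) ((b : MulAut Q)⁻¹ x)) = x
      rw [ha' _ h, MulAut.apply_inv_self]
  have hNp : IsPGroup p N := by
    rintro ⟨a, ha, ha'⟩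
    haveI : Finite Q := finite_of_le hQS
    obtain ⟨k, hk⟩ := IsPGroup.iff_card.1 (c.hS.to_le hQS)
    refine ⟨k, Subtype.ext (Subtype.ext (MulEquiv.ext fun x => ?_))⟩
    set z : Q := (a : MulAut Q) x * x⁻¹ with hz
    have hzT : (z : Ω) ∈ T := ha x
    have hit : ∀ j : ℕ, ((a : MulAut Q) ^ j) x = z ^ j * x := by
      intro j
      induction j with
      | zero => simp
      | succ j ih =>
        rw [pow_succ', MulAut.mul_apply, ih, map_mul, map_pow, ha' z hzT, pow_succ, hz]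
        simp [mul_assoc]
    show ((a : MulAut Q) ^ p ^ k) x = x
    rw [hit, ← hk, pow_card_eq_one', one_mul]
  have hmem : conjAut Q g hgn ∈ X.autGroup Q :=
    autInducedBy_le_autGroup hQS (mem_autInducedBy.2 ⟨g, hgS, fun x => rfl⟩)
  refine ⟨⟨_, hmem⟩, PSolvable.le_pCore hNp ⟨fun x => ?_, fun x hx => Subtype.ext ?_⟩, rfl⟩
  · show g * (x : Ω) * g⁻¹ * (x : Ω)⁻¹ ∈ T
    have hn := (Subgroup.mem_normalizer_iff.1
      (stronglyClosed_le_normalizer' c.hT (hQS x.2)) g⁻¹).1 (T.inv_mem hgT)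
    simpa [mul_assoc] using T.mul_mem hgT hn
  · show g * (x : Ω) * g⁻¹ = x
    rw [hgc x x.2 hx, mul_inv_cancel_right]

/-- Centric radical subgroups belong to the family. -/
theorem inFam_of_radical [Fact p.Prime] [Finite S] (c : CharData F E K p) {P : Subgroup Ω}
    (hP : F.IsCentric P) (hr : F.IsRadical p P) : InFam F T P := by
  refine ⟨hP, ?_⟩
  by_contra hno
  obtain ⟨φ, hφ, g, hgS, hgT, hgn, hgQ, hgc⟩ := exists_witness c hP.1 hno
  have h1 := conjAut_mem_pCoreAut c (fun _ _ h => h : F ≤ F) (range_le hφ) hgS hgT hgn hgc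
  rw [← map_congr_pCoreAut hφ rfl] at h1
  obtain ⟨b, hb, hbe⟩ := h1
  obtain ⟨y, rfl⟩ : b ∈ Inn P := hr.2 ▸ hb
  refine hgQ (mem_of_conjAut_mem_inn (isCentric_of_isConj hP (isConj_range hφ)) hgS (hgN := hgn)
    ⟨isoOnto φ (F.injective_of_mem hφ) rfl y, ?_⟩)
  rw [← hbe]
  ext x
  simp [MulAut.congr]

/-- Every map of `F` is an automorphism of `S` composed with a map of `genSystem`. -/
theorem le_frattiniGenSystem [Fact p.Prime] [Finite S] (c : CharData F E K p) :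
    F ≤ frattiniGenSystem c := by
  refine Fusion87.le_of_autGroup_centric_radical c.hS c.hF fun Q hQ hQc hQr _ β hβ => ?_
  have hfam := inFam_of_radical c hQc hQr
  have hβF := autGroup_hom_mem hQ.1 hβ
  obtain ⟨α, hα, φ₀, hφ₀, hx⟩ :=
    c.hE.2.2.2.2.2 (Q ⊓ T) inf_le_right _ (restrict_mem hβF inf_le_left)
  obtain ⟨a, ha, b, hb, hba, hbα⟩ := exists_lift c hα
  obtain ⟨φ₁, hφ₁, hφ₁x⟩ := exists_comp hβF (autGroup_hom_mem le_rfl (Subgroup.inv_mem _ ha))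
    fun x => val_mem hβF x
  refine (mem_autGroup hQ.1).2 ⟨hβF, a, ha, φ₁,
    mem_genSystem c hfam (mem_charSystem_of_decomp c hφ₁ hbα hφ₀ fun x hxT => ?_), fun x hxS => ?_⟩
  · rw [hφ₁x, MulAut.mul_apply, autHom_apply]
    have h := hba (b⁻¹ (α ⟨φ₀ x, hxT⟩))
    rw [MulAut.apply_inv_self] at h
    have e : (⟨autHom β (Subgroup.inclusion inf_le_left x), val_mem hβF _⟩ : S) =
        a ⟨((b⁻¹ (α ⟨φ₀ x, hxT⟩) : T) : Ω), c.hTS (b⁻¹ (α ⟨φ₀ x, hxT⟩)).2⟩ :=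
      Subtype.ext ((hx x hxT).trans h)
    rw [e, MulAut.inv_apply_self]
  · have e : (⟨φ₁ x, hxS⟩ : S) = a⁻¹ ⟨autHom β x, val_mem hβF x⟩ := Subtype.ext (hφ₁x x)
    rw [e, MulAut.apply_inv_self]

theorem exists_gen_decomp [Fact p.Prime] [Finite S] (c : CharData F E K p) {P : Subgroup Ω}
    {φ : P →* Ω} (hφ : φ ∈ F.Hom P) :
    ∃ a ∈ F.autGroup S, ∃ φ₀ ∈ (genSystem c).Hom P, ∀ (x : P) (hx : φ₀ x ∈ S),
      φ x = (a ⟨φ₀ x, hx⟩ : Ω) :=
  (le_frattiniGenSystem c P hφ).2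

/-- `genSystem` contains all automorphisms of `p`-power order. -/
theorem autHom_mem_genSystem [Fact p.Prime] [Finite S] (c : CharData F E K p) {P : Subgroup Ω}
    (hP : P ≤ S) {α : MulAut P} (hα : α ∈ F.autGroup P) (hk : ∃ k, α ^ p ^ k = 1) :
    autHom α ∈ (genSystem c).Hom P := by
  obtain ⟨k, hk⟩ := hk
  obtain ⟨Q, ⟨φ, hφ, hr⟩, hQ⟩ := exists_isFullyNormalized_conj F hP
  haveI := finite_mulAut hQ.1
  set e := isoOnto φ (F.injective_of_mem hφ) hr with he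
  have hem : Q.subtype.comp e.toMonoidHom ∈ F.Hom P := mem_congr hφ fun x => rfl
  have hb := congr_mem_autGroup e hem hα
  have hbp : (MulAut.congr e α) ^ p ^ k = 1 :=
    (map_pow (MulAut.congr e) α (p ^ k)).symm.trans
      ((congrArg (MulAut.congr e) hk).trans (map_one (MulAut.congr e)))
  obtain ⟨i, -, hi⟩ :=
    (Nat.dvd_prime_pow (Fact.out : p.Prime)).1 (orderOf_dvd_of_pow_eq_one hbp)
  obtain ⟨-, hsyl⟩ := isFullyAutomized_iff.1 (isFullyAutomized_of_isFullyNormalized c.hS c.hF hQ)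
  obtain ⟨δ, hδ, hle⟩ := hsyl.exists_conj_le (IsPGroup.of_card (n := i)
    ((Nat.card_zpowers _).trans hi)) (Subgroup.zpowers_le.2 hb)
  obtain ⟨t, ht, htx⟩ := mem_autInducedBy.1 (hle ⟨_, Subgroup.mem_zpowers _, rfl⟩)
  obtain ⟨ψ, hψ, hψx⟩ := exists_comp hem (autGroup_hom_mem hQ.1 hδ) fun x => (e x).2
  have hψe : ∀ x, ψ x = (δ (e x) : Ω) := fun x => hψx x
  have hconj : ∀ x : P, ψ (α x) = t * ψ x * t⁻¹ := by
    intro x
    have h := htx (δ (e x))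
    rw [hψe, hψe, ← h]
    show _ = (δ ((MulAut.congr e α) (δ⁻¹ (δ (e x)))) : Ω)
    rw [MulAut.inv_apply_self]
    exact congrArg (fun y => (δ (e (α y)) : Ω)) (e.symm_apply_apply x).symm
  obtain ⟨a, ha, h, hh, hx⟩ := exists_gen_decomp c hψ
  set s : S := a⁻¹ ⟨t, ht⟩ with hs
  have hhx : ∀ x : P, h (α x) = (s : Ω) * h x * (s : Ω)⁻¹ := by
    intro x
    have h1 : a ⟨h (α x), val_mem hh _⟩ =
        a s * a ⟨h x, val_mem hh _⟩ * (a s)⁻¹ := by
      refine Subtype.ext ?_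
      rw [hs, MulAut.apply_inv_self]
      simp only [Subgroup.coe_mul, InvMemClass.coe_inv]
      rw [← hx, ← hx]
      exact hconj x
    rw [← map_inv, ← map_mul, ← map_mul] at h1
    exact congrArg Subtype.val (a.injective h1)
  have hrS : h.range ≤ S := range_le hh
  obtain ⟨d, hd, hdx⟩ := exists_comp hh ((genSystem c).conj_mem hrS s.2) fun x => ⟨x, rfl⟩
  have hdr : ∀ x, d x ∈ h.range := fun x => by
    rw [hdx]
    exact ⟨α x, hhx x⟩
  refine comp_of_apply hd (rangeInv_mem hh) fun x => ⟨hdr x, ?_⟩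
  refine (rangeInv_apply h _ (α x) ⟨_, rfl⟩).symm.trans (congrArg _ (Subtype.ext ?_))
  show h (α x) = d x
  rw [hdx]
  exact hhx x

theorem hasPAut_genSystem [Fact p.Prime] [Finite S] (c : CharData F E K p) :
    HasPAut (genSystem c) F p :=
  fun _ hP _ hα hk => autHom_mem_genSystem c hP.1 hα hk

/-- An automorphism of `T` agreeing with a map of `E` on a `T`-centric subgroup lies in `K`. -/
theorem mem_K_of_restrict [Fact p.Prime] [Finite S] (c : CharData F E K p) {U : Subgroup Ω}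
    (hU : TCentric F T U) {γ : MulAut T} (hγ : γ ∈ F.autGroup T) {μ : U →* Ω} (hμ : μ ∈ E.Hom U)
    (hμx : ∀ (x : U) (hx : (x : Ω) ∈ T), μ x = (γ ⟨x, hx⟩ : Ω)) : γ ∈ K := by
  haveI : Finite T := finite_of_le c.hTS
  have hTp : IsPGroup p T := c.hS.to_le c.hTS
  suffices key : ∀ n (U : Subgroup Ω) (γ : MulAut T) (μ : U →* Ω),
      Nat.card T - Nat.card U ≤ n → TCentric F T U → γ ∈ F.autGroup T → μ ∈ E.Hom U →
      (∀ (x : U) (hx : (x : Ω) ∈ T), μ x = (γ ⟨x, hx⟩ : Ω)) → γ ∈ K from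
    key _ U γ μ le_rfl hU hγ hμ hμx
  clear hμx hμ hγ hU μ γ U
  intro n
  induction n using Nat.strong_induction_on with
  | _ n ih =>
    intro U γ μ hn hU hγ hμ hμx
    by_cases hUT : U = T
    · subst hUT
      exact c.hEK ((mem_autGroup le_rfl).2 (mem_congr hμ fun x => (hμx x x.2).symm))
    haveI : Finite U := finite_of_le hU.1
    set N := normalizerIn T U with hN
    have hUN : U ≤ N := le_normalizerIn hU.1
    have hNT : N ≤ T := normalizerIn_le U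
    haveI : Finite N := finite_of_le hNT
    have hlt : Nat.card U < Nat.card N := Fusion87.card_lt_normalizerIn hTp hU.1 hUT
    have hEc := hU.isCentric c.hEF
    obtain ⟨ψ₁, hψ₁, hag⟩ := (isReceptive_of_isFullyCentralized hTp c.hE.1
      (isFullyCentralized_of_isCentric (isCentric_of_isConj hEc (isConj_range hμ)))).2 U μ hμ rfl
    have hext : N ≤ extender T U μ := fun g hg => mem_extender.2 ⟨hg.1, hg.2,
      (γ ⟨g, hg.1⟩ : Ω), (γ _).2, fun x hx => by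
        rw [hμx ⟨_, hx⟩ (hU.1 hx), hμx x (hU.1 x.2)]
        rw [show (⟨g * x * g⁻¹, hU.1 hx⟩ : T) = ⟨g, hg.1⟩ * ⟨x, hU.1 x.2⟩ * ⟨g, hg.1⟩⁻¹ from
          Subtype.ext rfl, map_mul, map_mul, map_inv]
        rfl⟩
    have hψ : ψ₁.comp (Subgroup.inclusion hext) ∈ E.Hom N := restrict_mem hψ₁ hext
    set ψ := ψ₁.comp (Subgroup.inclusion hext) with hψdef
    have hψU : ∀ x : N, (x : Ω) ∈ U → ψ x = (γ ⟨x, hNT x.2⟩ : Ω) := fun x hx =>
      (hag x hx (hext x.2)).trans (hμx ⟨x, hx⟩ _)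
    obtain ⟨b, hb, hbx⟩ : ∃ b ∈ F.Hom N, ∀ x, b x = (γ⁻¹ ⟨ψ x, val_mem hψ x⟩ : Ω) := by
      obtain ⟨b, hb, hbx⟩ := exists_comp (c.hEF N hψ)
        (autGroup_hom_mem c.hTS (Subgroup.inv_mem _ hγ)) fun x => val_mem hψ x
      exact ⟨b, hb, hbx⟩
    have hbfix : ∀ x : N, (x : Ω) ∈ U → b x = x := fun x hx => by
      rw [hbx, show (⟨ψ x, val_mem hψ x⟩ : T) = γ ⟨x, hNT x.2⟩ from Subtype.ext (hψU x hx),
        MulAut.inv_apply_self]
    have hbT : ∀ x : N, b x ∈ T := fun x => (hbx x).symm ▸ (γ⁻¹ _).2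
    have hdiff : ∀ x : N, (x : Ω)⁻¹ * b x ∈ U := by
      intro x
      refine (centralizerIn_le_of_isCentric hEc)
        ⟨T.mul_mem (T.inv_mem (hNT x.2)) (hbT x), fun q hq => ?_⟩
      have hxq : (x : Ω) * q * (x : Ω)⁻¹ ∈ U := (Subgroup.mem_normalizer_iff.1 x.2.2 q).1 hq
      have h1 := hbfix (x * ⟨q, hUN hq⟩ * x⁻¹) hxq
      rw [map_mul, map_mul, map_inv, hbfix ⟨q, hUN hq⟩ hq] at h1
      change b x * q * (b x)⁻¹ = (x : Ω) * q * (x : Ω)⁻¹ at h1
      calc q * ((x : Ω)⁻¹ * b x) = (x : Ω)⁻¹ * ((x : Ω) * q * (x : Ω)⁻¹) * b x := by group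
        _ = (x : Ω)⁻¹ * (b x * q * (b x)⁻¹) * b x := by rw [h1]
        _ = (x : Ω)⁻¹ * b x * q := by group
    obtain ⟨β, hβ, hβx⟩ := exists_aut_of_hom hb fun x => by
      have h1 := N.mul_mem x.2 (hUN (hdiff x))
      rwa [mul_inv_cancel_left] at h1
    have hfix : ∀ x : N, (x : Ω) ∈ U → β x = x := fun x hx =>
      Subtype.ext ((hβx x).trans (hbfix x hx))
    have hβp : ∃ i, β ^ p ^ i = 1 := by
      obtain ⟨i, hi⟩ := IsPGroup.iff_card.1 (hTp.to_le hNT)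
      refine ⟨i, MulEquiv.ext fun x => ?_⟩
      set q : N := x⁻¹ * β x with hq
      have hqU : (q : Ω) ∈ U := by
        show (x : Ω)⁻¹ * (β x : Ω) ∈ U
        rw [hβx]
        exact hdiff x
      have hit : ∀ j : ℕ, (β ^ j) x = x * q ^ j := by
        intro j
        induction j with
        | zero => simp
        | succ j ih =>
          rw [pow_succ', MulAut.mul_apply, ih, map_mul, map_pow, hfix q hqU, pow_succ',
            show β x = x * q by rw [hq, mul_inv_cancel_left], mul_assoc]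
      rw [hit, MulAut.one_apply, ← hi, pow_card_eq_one', mul_one]
    obtain ⟨-, -, -, -, k, hk, φ₀, hφ₀, hk₀⟩ :=
      (autHom_mem_genSystem c (hNT.trans c.hTS) hβ hβp).1
    have hψ' := restrict_mem hψ (inf_le_left : N ⊓ T ≤ N)
    obtain ⟨μ', hμ', hμ'x⟩ := exists_comp (rangeInv_mem hφ₀) hψ'
      fun y => rangeInv_mem_src _ _ y
    have hUN' : U ≤ N ⊓ T := le_inf hUN hU.1
    have hc' : TCentric F T φ₀.range :=
      tCentric_map c.hT (tCentric_mono hU hUN' inf_le_right) (c.hEF _ hφ₀)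
    have hcard : Nat.card U < Nat.card φ₀.range := by
      rw [card_range hφ₀, inf_eq_left.2 hNT]
      exact hlt
    have hle : Nat.card φ₀.range ≤ Nat.card T := Subgroup.card_le_of_le hc'.1
    have hγk : γ * k ∈ K := by
      refine ih _ (by omega) φ₀.range (γ * k) μ' le_rfl hc'
        (Subgroup.mul_mem _ hγ (c.hK hk)) hμ' ?_
      rintro ⟨_, x, rfl⟩ hxT
      rw [hμ'x]
      have e1 : (⟨rangeInv φ₀ _ ⟨φ₀ x, x, rfl⟩, rangeInv_mem_src _ _ _⟩ :
          (N ⊓ T : Subgroup Ω)) = x := Subtype.ext (rangeInv_apply φ₀ (E.injective_of_mem hφ₀) x _)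
      rw [e1]
      have h2 : (b (Subgroup.inclusion inf_le_left x) : Ω) = (k ⟨φ₀ x, hxT⟩ : Ω) :=
        (hβx _).symm.trans (hk₀ x hxT)
      rw [hbx] at h2
      rw [MulAut.mul_apply, show k ⟨φ₀ x, hxT⟩ = γ⁻¹ ⟨_, val_mem hψ _⟩ from (Subtype.ext h2).symm,
        MulAut.apply_inv_self]
      rfl
    have := K.mul_mem hγk (K.inv_mem hk)
    rwa [mul_inv_cancel_right] at this

/-- A member of `F` on the family agreeing on a member with a map of `genSystem` is in it. -/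
theorem mem_genSystem_of_restrict [Fact p.Prime] [Finite S] (c : CharData F E K p)
    {R M : Subgroup Ω} (hR : InFam F T R) (hRM : R ≤ M) {ψ : M →* Ω} (hψ : ψ ∈ F.Hom M)
    (h : ψ.comp (Subgroup.inclusion hRM) ∈ (genSystem c).Hom R) : ψ ∈ (genSystem c).Hom M := by
  have hMS := src_le hψ
  have hM : InFam F T M := ⟨isCentric_mono hR.1 hRM hMS,
    tCentric_mono hR.2 (inf_le_inf_right T hRM) inf_le_right⟩
  obtain ⟨α, hα, ψ₀, hψ₀, hx⟩ :=
    c.hE.2.2.2.2.2 (M ⊓ T) inf_le_right _ (restrict_mem hψ inf_le_left)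
  obtain ⟨-, -, -, -, k, hk, φ₀, hφ₀, hk₀⟩ := h.1
  have hres := restrict_mem hψ₀ (inf_le_inf_right T hRM)
  obtain ⟨μ, hμ, hμx⟩ := exists_comp (rangeInv_mem hres) hφ₀ fun y => rangeInv_mem_src _ _ y
  have hkα : k⁻¹ * α ∈ K := by
    refine mem_K_of_restrict c (tCentric_map c.hT hR.2 (c.hEF _ hres))
      (Subgroup.mul_mem _ (Subgroup.inv_mem _ (c.hK hk)) hα) hμ ?_
    rintro ⟨_, x, rfl⟩ hxT
    rw [hμx]
    have e1 : (⟨rangeInv (ψ₀.comp (Subgroup.inclusion (inf_le_inf_right T hRM))) _ ⟨_, x, rfl⟩,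
        rangeInv_mem_src _ _ _⟩ : (R ⊓ T : Subgroup Ω)) = x :=
      Subtype.ext (rangeInv_apply _ (E.injective_of_mem hres) x _)
    rw [e1, MulAut.mul_apply]
    have e2 : α ⟨_, hxT⟩ = k ⟨φ₀ x, val_mem hφ₀ x⟩ :=
      Subtype.ext ((hx (Subgroup.inclusion (inf_le_inf_right T hRM) x) hxT).symm.trans
        (hk₀ x (val_mem hφ₀ x)))
    rw [e2, MulAut.inv_apply_self]
  have hαK : α ∈ K := by
    have := K.mul_mem hk hkα
    rwa [mul_inv_cancel_left] at this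
  exact mem_genSystem c hM (mem_charSystem_of_decomp c hψ hαK hψ₀ hx)

/-- A preimage of a fully normalized subgroup under an automorphism of `S` is fully normalized. -/
theorem isFullyNormalized_of_act [Finite S] {Q Q₀ : Subgroup Ω} {a : MulAut S}
    (ha : a ∈ F.autGroup S) (hQ : Q ≤ S) (hQ₀ : F.IsFullyNormalized Q₀)
    (hi : imgSub (autHom a) Q = Q₀) : F.IsFullyNormalized Q := by
  have hconj : F.IsConj Q Q₀ := hi ▸ isConj_imgSub (autGroup_hom_mem le_rfl ha) hQ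
  refine ⟨hQ, fun R hR => (hQ₀.2 R (isConj_trans (isConj_symm hconj) hR)).trans ?_⟩
  have hmem : ∀ z : S, (a z : Ω) ∈ Q₀ ↔ (z : Ω) ∈ Q := hi ▸
    apply_mem_imgSub_iff (φ := autHom a) (F.injective_of_mem (autGroup_hom_mem le_rfl ha))
  haveI := finite_normalizerIn (S := S) Q
  refine Nat.card_le_card_of_injective (fun z : normalizerIn S Q₀ =>
    (⟨(a⁻¹ ⟨z, z.2.1⟩ : Ω), (a⁻¹ _).2, ?_⟩ : normalizerIn S Q)) ?_
  · refine Subgroup.mem_normalizer_iff.2 ?_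
    intro w
    have hz := Subgroup.mem_normalizer_iff.1 z.2.2
    constructor
    · intro hw
      have h1 : (a (a⁻¹ ⟨z, z.2.1⟩ * ⟨w, hQ hw⟩ * (a⁻¹ ⟨z, z.2.1⟩)⁻¹) : Ω) ∈ Q₀ := by
        rw [map_mul, map_mul, map_inv, MulAut.apply_inv_self]
        exact (hz _).1 ((hmem _).2 hw)
      exact (hmem _).1 h1
    · intro hw
      have hwS : w ∈ S := by
        have := S.mul_mem (S.mul_mem (S.inv_mem (a⁻¹ ⟨z, z.2.1⟩).2) (hQ hw))
          (a⁻¹ ⟨z, z.2.1⟩).2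
        simpa [mul_assoc] using this
      refine (hmem ⟨w, hwS⟩).1 ((hz _).2 ?_)
      have h1 := (hmem (a⁻¹ ⟨z, z.2.1⟩ * ⟨w, hwS⟩ * (a⁻¹ ⟨z, z.2.1⟩)⁻¹)).2 hw
      rw [map_mul, map_mul, map_inv, MulAut.apply_inv_self] at h1
      exact h1
  · intro u v huv
    exact Subtype.ext (congrArg (fun w : S => (w : Ω))
      (a⁻¹.injective (Subtype.ext (congrArg Subtype.val huv :) : a⁻¹ ⟨u, u.2.1⟩ = a⁻¹ ⟨v, v.2.1⟩)) :)

theorem imgSub_act_range {P : Subgroup Ω} {φ₀ φ : P →* Ω} {a : MulAut S} (hφ₀ : φ₀.range ≤ S)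
    (hx : ∀ (x : P) (hx : φ₀ x ∈ S), φ x = (a ⟨φ₀ x, hx⟩ : Ω)) :
    imgSub (autHom a) φ₀.range = φ.range := by
  refine le_antisymm ?_ ?_
  · intro y hy
    obtain ⟨⟨_, x, rfl⟩, hxS, rfl⟩ := exists_of_mem_imgSub_act hy
    exact ⟨x, hx x hxS⟩
  · rintro _ ⟨x, rfl⟩
    rw [hx x (hφ₀ ⟨x, rfl⟩)]
    exact imgSub_act_mem hφ₀ ⟨_, x, rfl⟩

/-- `genSystem` is saturated. -/
theorem isSaturated_genSystem [Fact p.Prime] [Finite S] (c : CharData F E K p) :
    (genSystem c).IsSaturated p := by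
  have hGF : ∀ {P Q : Subgroup Ω}, (genSystem c).IsConj P Q → F.IsConj P Q :=
    fun ⟨φ, hφ, hr⟩ => ⟨φ, genSystem_le c _ hφ, hr⟩
  refine isSaturated_of_generated c.hS (ℋ := {P | InFam F T P}) ?_ ?_ ?_ ?_
  · rintro P hP Q ⟨φ, hφ, rfl⟩
    exact inFam_map c hP hφ.1.1
  · intro P hP
    obtain ⟨Q₀, ⟨φ, hφ, rfl⟩, hQ₀⟩ := exists_isFullyNormalized_conj F hP.1.1
    obtain ⟨a, ha, h, hh, hx⟩ := exists_gen_decomp c hφ
    have hQ := isFullyNormalized_of_act ha (range_le hh) hQ₀ (imgSub_act_range (range_le hh) hx)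
    obtain ⟨-, hsyl⟩ := isFullyAutomized_iff.1
      (isFullyAutomized_of_isFullyNormalized c.hS c.hF hQ)
    refine ⟨_, isConj_range hh, isFullyAutomized_iff.2 ⟨hQ.1,
      hsyl.of_le (autInducedBy_le_autGroup hQ.1) (autGroup_mono (genSystem_le c) _)⟩, hQ.1,
      fun R θ hθ hr => ?_⟩
    obtain ⟨ψ, hψ, hag⟩ :=
      (isReceptive_of_isFullyNormalized c.hS c.hF hQ).2 R θ hθ.1.1 hr
    have hR : InFam F T R := by
      have h1 := inFam_map c (inFam_map c hP hh.1.1) (rangeInv_mem hh.1.1)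
      obtain ⟨τ, hτ, hτr, -, -⟩ := exists_inverse hθ.1.1 hr
      have h2 := inFam_map c (inFam_map c hP hh.1.1) hτ
      rwa [hτr] at h2
    have hRM : R ≤ extender S R θ := le_extender hθ.1.1
    refine ⟨ψ, mem_genSystem_of_restrict c hR hRM hψ ?_, hag⟩
    exact mem_congr hθ fun x => hag x x.2 (hRM x.2)
  · exact fun X hX P φ hφ => hφ.2 X fun R hR θ hθ => hX R hR (mem_genSystem c hR hθ)
  · intro P hP hPn
    have hPF := isCentric_of_hasPAut c.hS c.hF (hasPAut_genSystem c) hP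
    obtain ⟨φ, hφ, g, hgS, hgT, hgn, hgQ, hgc⟩ :=
      exists_witness c hP.1 fun h => hPn ⟨hPF, h⟩
    obtain ⟨a, ha, h, hh, hx⟩ := exists_gen_decomp c hφ
    have hQS := range_le hh
    have hi := imgSub_act_range hQS hx
    have hmem : ∀ z : S, (a z : Ω) ∈ φ.range ↔ (z : Ω) ∈ h.range := hi ▸
      apply_mem_imgSub_iff (φ := autHom a) (F.injective_of_mem (autGroup_hom_mem le_rfl ha))
    set g' : S := a⁻¹ ⟨g, hgS⟩ with hg'
    have hag : (a g' : Ω) = g := by rw [hg', MulAut.apply_inv_self]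
    have hg'T : (g' : Ω) ∈ T :=
      stronglyClosed_apply c.hT (autGroup_hom_mem le_rfl (Subgroup.inv_mem _ ha)) ⟨g, hgS⟩ hgT
    have hg'n : (g' : Ω) ∈ Subgroup.normalizer (h.range : Set Ω) := by
      rw [Subgroup.mem_normalizer_iff]
      intro w
      have hn := Subgroup.mem_normalizer_iff.1 hgn
      constructor
      · intro hw
        refine (hmem (g' * ⟨w, hQS hw⟩ * g'⁻¹)).1 ?_
        simp only [map_mul, map_inv, Subgroup.coe_mul, InvMemClass.coe_inv, hag]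
        exact (hn _).1 ((hmem _).2 hw)
      · intro hw
        have hwS : w ∈ S := by
          simpa [mul_assoc] using S.mul_mem (S.mul_mem (S.inv_mem g'.2) (hQS hw)) g'.2
        refine (hmem ⟨w, hwS⟩).1 ((hn _).2 ?_)
        have h1 := (hmem (g' * ⟨w, hwS⟩ * g'⁻¹)).2 hw
        simp only [map_mul, map_inv, Subgroup.coe_mul, InvMemClass.coe_inv, hag] at h1
        exact h1
    have hg'c : ∀ x ∈ h.range, x ∈ T → (g' : Ω) * x = x * g' := by
      intro x hx' hxT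
      have h1 := hgc (a ⟨x, hQS hx'⟩) ((hmem _).2 hx')
        (stronglyClosed_apply c.hT (autGroup_hom_mem le_rfl ha) ⟨x, hQS hx'⟩ hxT)
      have h2 : a (g' * ⟨x, hQS hx'⟩) = a (⟨x, hQS hx'⟩ * g') := by
        refine Subtype.ext ?_
        rw [map_mul, map_mul, Subgroup.coe_mul, Subgroup.coe_mul, hag]
        exact h1
      exact congrArg Subtype.val (a.injective h2)
    refine ⟨h.range, isConj_range hh, fun hle => ?_⟩
    have h1 := hle ⟨mem_autInducedBy.2 ⟨g', g'.2, fun x => rfl⟩,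
      conjAut_mem_pCoreAut c (genSystem_le c) hQS g'.2 hg'T hg'n hg'c⟩
    have h2 := mem_of_conjAut_mem_inn (isCentric_of_isConj hPF (hGF (isConj_range hh))) g'.2 h1
    exact hgQ (hag ▸ (hmem g').2 h2)

theorem hasPrimeToPIndexIn_genSystem [Fact p.Prime] [Finite S] (c : CharData F E K p) :
    (genSystem c).HasPrimeToPIndexIn F p :=
  hasPrimeToPIndexIn_of_hasPAut c.hS c.hF (genSystem_le c) (hasPAut_genSystem c)

/-- `Aut(S)` in `genSystem`. -/
theorem mem_autGroup_genSystem [Fact p.Prime] [Finite S] (c : CharData F E K p) {a : MulAut S} :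
    a ∈ (genSystem c).autGroup S ↔
      a ∈ F.autGroup S ∧ ∃ b ∈ K, ∀ t : T, (b t : Ω) = (a ⟨t, c.hTS t.2⟩ : Ω) := by
  haveI : Finite T := finite_of_le c.hTS
  have hTT : T ≤ S ⊓ T := le_inf c.hTS le_rfl
  constructor
  · intro ha
    have hm := autGroup_hom_mem le_rfl ha
    refine ⟨(mem_autGroup le_rfl).2 hm.1.1, ?_⟩
    obtain ⟨-, -, -, -, k, hk, φ₀, hφ₀, hx⟩ := hm.1
    obtain ⟨e, he, hex⟩ := exists_aut_of_hom (restrict_mem hφ₀ hTT) fun t => val_mem hφ₀ _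
    refine ⟨k * e, K.mul_mem hk (c.hEK he), fun t => ?_⟩
    rw [MulAut.mul_apply]
    refine Eq.trans ?_ (hx (Subgroup.inclusion hTT t) (val_mem hφ₀ _)).symm
    exact congrArg (fun z : T => (k z : Ω)) (Subtype.ext (hex t))
  · rintro ⟨ha, b, hb, hbx⟩
    have hSfam : InFam F T S := ⟨isCentric_top,
      tCentric_mono (tCentric_of_isCentric c.hE.2.2 isCentric_top) hTT inf_le_right⟩
    refine (mem_autGroup le_rfl).2 (mem_genSystem c hSfam (mem_charSystem_of_decomp c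
      (autGroup_hom_mem le_rfl ha) hb (subtype_mem inf_le_right) fun x hx => ?_))
    exact (hbx ⟨x, hx⟩).symm

/-- `E` is contained in `genSystem`. -/
theorem subsystem_genSystem [Fact p.Prime] [Finite S] (c : CharData F E K p) :
    E.IsSubsystemOf (genSystem c) := by
  haveI : Finite T := finite_of_le c.hTS
  let X : FusionSystem T :=
    { Hom := fun P => {φ | φ ∈ E.Hom P ∧ φ ∈ (genSystem c).Hom P}
      le_of_mem := fun h => E.le_of_mem h.1
      injective_of_mem := fun h => E.injective_of_mem h.1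
      conj_mem := fun hP hg =>
        ⟨E.conj_mem hP hg, (genSystem c).conj_mem (hP.trans c.hTS) (c.hTS hg)⟩
      comp_mem := fun hφ hψ h => ⟨E.comp_mem hφ.1 hψ.1 h, (genSystem c).comp_mem hφ.2 hψ.2 h⟩
      inv_mem := fun hφ => ⟨_, ⟨rangeInv_mem hφ.1, rangeInv_mem hφ.2⟩,
        fun x => rangeInv_apply _ _ x _⟩ }
  suffices key : ∀ P : Subgroup Ω, E.IsCentric P → E.autGroup P ≤ X.autGroup P from
    fun P φ hφ => (le_of_autGroup_le (c.hS.to_le c.hTS) c.hE.1 X (key T isCentric_top)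
      (fun Q hQ => key Q hQ.1) P hφ).2
  intro P hP β hβ
  have hPc := tCentric_of_isCentric c.hE.2.2 hP
  have hPS : P ≤ S := hP.1.trans c.hTS
  have hPP : P ≤ P ⊓ T := le_inf le_rfl hP.1
  have hβE := autGroup_hom_mem hP.1 hβ
  refine (mem_autGroup hP.1).2 ⟨hβE, ?_⟩
  obtain ⟨a, ha, h, hh, hx⟩ := exists_gen_decomp c (c.hEF P hβE)
  obtain ⟨b, hb, hbx⟩ := exists_res_aut c.hT ha
  obtain ⟨-, -, -, -, k, hk, h₀, hh₀, hk₀⟩ := hh.1
  obtain ⟨μ, hμ, hμx⟩ := exists_comp (rangeInv_mem hh₀)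
    (restrict_mem hβE (inf_le_left : P ⊓ T ≤ P)) fun y => rangeInv_mem_src _ _ y
  have hbk : b * k ∈ K := by
    refine mem_K_of_restrict c
      (tCentric_map c.hT (tCentric_mono hPc hPP inf_le_right) (c.hEF _ hh₀))
      (Subgroup.mul_mem _ hb (c.hK hk)) hμ ?_
    rintro ⟨_, x, rfl⟩ hxT
    rw [hμx]
    have e1 : (⟨rangeInv h₀ _ ⟨h₀ x, x, rfl⟩, rangeInv_mem_src _ _ _⟩ :
        (P ⊓ T : Subgroup Ω)) = x := Subtype.ext (rangeInv_apply h₀ (E.injective_of_mem hh₀) x _)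
    rw [e1, MulAut.mul_apply, hbx]
    refine (hx _ (val_mem hh _)).trans (congrArg (fun z : S => (a z : Ω)) (Subtype.ext ?_))
    exact hk₀ x hxT
  have hbK : b ∈ K := by
    have := K.mul_mem hbk (K.inv_mem hk)
    rwa [mul_inv_cancel_right] at this
  exact comp_of_apply hh
    (autGroup_hom_mem le_rfl ((mem_autGroup_genSystem c).2 ⟨ha, b, hbK, hbx⟩))
    fun x => ⟨val_mem hh x, hx x _⟩

/-- `genSystem` is proper when `K` is. -/
theorem genSystem_ne [Fact p.Prime] [Finite S] (c : CharData F E K p)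
    (hne : ¬ F.autGroup T ≤ K) : ¬ ∀ P : Subgroup Ω, (genSystem c).Hom P = F.Hom P := by
  intro h
  refine hne fun α hα => ?_
  obtain ⟨a, ha, b, hb, hba, hbα⟩ := exists_lift c hα
  have ha' : a ∈ (genSystem c).autGroup S :=
    (mem_autGroup le_rfl).2 ((h S).symm ▸ autGroup_hom_mem le_rfl ha)
  obtain ⟨-, b', hb', hb'x⟩ := (mem_autGroup_genSystem c).1 ha'
  have e : b = b' := MulEquiv.ext fun t => Subtype.ext ((hba t).trans (hb'x t).symm)
  have := K.mul_mem (e ▸ hb' : b ∈ K) hbα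
  rwa [mul_inv_cancel_left] at this

/-- `genSystem` is normal in `F`. -/
theorem isNormalIn_genSystem [Fact p.Prime] [Finite S] (c : CharData F E K p) :
    (genSystem c).IsNormalIn F p := by
  refine ⟨⟨isSaturated_genSystem c, c.hF, genSystem_le c,
    ⟨le_rfl, fun R _ φ hφ x => val_mem hφ x⟩, fun P hP φ hφ α hα => ?_,
    fun P _ φ hφ => exists_gen_decomp c hφ⟩, fun α hα => ?_⟩
  · obtain ⟨χ, hχ, hχx⟩ := exists_act_genSystem c hα hφ
    exact ⟨χ, hχ, fun x _ _ => hχx x⟩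
  · have hle : S ⊔ centralizerIn S S ≤ S := sup_le le_rfl inf_le_left
    haveI : Finite (S ⊔ centralizerIn S S : Subgroup Ω) := finite_of_le hle
    have hαF := autGroup_hom_mem le_rfl hα
    obtain ⟨β, hβ, hβx⟩ := exists_aut_of_hom
      (restrict_mem (genSystem_le c S hαF) hle) fun x => (le_sup_left : S ≤ _) (α _).2
    refine ⟨β, hβ, fun x => hβx _, fun z hz => ?_⟩
    rw [hβx]
    refine ⟨S.mul_mem (S.inv_mem (hle z.2)) (α _).2, fun w hw => ?_⟩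
    have hz1 : w * (z : Ω)⁻¹ = (z : Ω)⁻¹ * w := Commute.inv_right (hz.2 w hw)
    have hz2 : w * (α ⟨z, hle z.2⟩ : Ω) = (α ⟨z, hle z.2⟩ : Ω) * w := by
      have h := congrArg (fun s : S => (α s : Ω)) (show α⁻¹ ⟨w, hw⟩ * ⟨z, hle z.2⟩ =
        ⟨z, hle z.2⟩ * α⁻¹ ⟨w, hw⟩ from Subtype.ext (hz.2 _ (α⁻¹ ⟨w, hw⟩).2))
      simpa [map_mul, MulAut.apply_inv_self] using h
    show w * ((z : Ω)⁻¹ * (α ⟨z, hle z.2⟩ : Ω)) = (z : Ω)⁻¹ * (α ⟨z, hle z.2⟩ : Ω) * w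
    rw [← mul_assoc, hz1, mul_assoc, hz2, mul_assoc]

end Cfsg.Agent.Lib.Fusion.CharacterSubsystem
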