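import Mathlib
import Cfsg.Agent.Lib.TransferOrbit.Basic

/-!
A cocycle on a set acted on by a finite group: its product is a product of transfers over orbits.
-/

set_option autoImplicit false

namespace Cfsg.Agent.Lib.CocycleOrbits

open MulAction Subgroup

variable {R : Type*} [Group R] {Y : Type*} [MulAction R Y] {A : Type*} [CommGroup A]

/-- The restriction of a cocycle to the stabilizer of a point. -/
def stabHom (c : R → Y → A) (hc : ∀ g h q, c (g * h) q = c g (h • q) * c h q) (q₀ : Y) :
    stabilizer R q₀ →* A :=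
  MonoidHom.mk' (fun r => c r q₀) fun a b => by
    show c ((a : R) * b) q₀ = _
    rw [hc, mem_stabilizer_iff.mp b.2]

/-- The product of a cocycle is the product of the transfers of its restrictions to stabilizers. -/
theorem prod_eq_prod_transfer [Finite R] [Fintype Y] [Fintype (orbitRel.Quotient R Y)]
    (c : R → Y → A) (hc : ∀ g h q, c (g * h) q = c g (h • q) * c h q) (y : R) :
    ∏ q : Y, c y q =
      ∏ ω : orbitRel.Quotient R Y, MonoidHom.transfer (stabHom c hc ω.out) y := by
  classical
  haveI : ∀ ω : orbitRel.Quotient R Y, Fintype (R ⧸ stabilizer R ω.out) :=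
    fun ω => Fintype.ofFinite _
  obtain ⟨e, he⟩ : ∃ e : Y ≃ (ω : orbitRel.Quotient R Y) × R ⧸ stabilizer R ω.out,
      ∀ ω q, e.symm ⟨ω, q⟩ = q.out • ω.out := by
    refine ⟨selfEquivSigmaOrbitsQuotientStabilizer R Y, fun ω q => ?_⟩
    conv_lhs => rw [← QuotientGroup.out_eq' q]
    rfl
  rw [← e.symm.prod_comp, Fintype.prod_sigma]
  refine Finset.prod_congr rfl fun ω _ => ?_
  rw [TransferOrbit.transfer_eq_prod_section (stabHom c hc ω.out) Quotient.out
    QuotientGroup.out_eq']
  rw [Finset.prod_congr rfl fun q _ => congrArg (c y) (he ω q)]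
  set q₀ := ω.out with hq₀
  have key : ∀ q : R ⧸ stabilizer R q₀, c y (q.out • q₀) * c q.out q₀ =
      c ((y • q).out) q₀ * stabHom c hc q₀ ⟨_, TransferOrbit.section_mem _ QuotientGroup.out_eq' y q⟩ := by
    intro q
    set ρ : stabilizer R q₀ := ⟨_, TransferOrbit.section_mem _ QuotientGroup.out_eq' y q⟩ with hρ
    have e1 : y * q.out = (y • q).out * (ρ : R) := by rw [hρ]; simp
    have h1 := hc (y • q).out (ρ : R) q₀
    rw [mem_stabilizer_iff.mp ρ.2, ← e1, hc] at h1
    exact h1
  have h2 : ∀ q : R ⧸ stabilizer R q₀, c y (q.out • q₀) =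
      c ((y • q).out) q₀ / c q.out q₀ *
        stabHom c hc q₀ ⟨_, TransferOrbit.section_mem _ QuotientGroup.out_eq' y q⟩ := by
    intro q
    rw [div_mul_eq_mul_div, eq_div_iff_mul_eq']
    exact key q
  refine (Finset.prod_congr rfl fun q _ => h2 q).trans ?_
  rw [Finset.prod_mul_distrib, Finset.prod_div_distrib]
  rw [show ∏ q : R ⧸ stabilizer R q₀, c ((y • q).out) q₀ = ∏ q : R ⧸ stabilizer R q₀, c q.out q₀ from
    Equiv.prod_comp (MulAction.toPerm y) (fun q : R ⧸ stabilizer R q₀ => c q.out q₀), div_self',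
    one_mul]

end Cfsg.Agent.Lib.CocycleOrbits
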