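/-
Sylow subgroups and extensions in the stabilizer of a fully normalized subgroup.
-/
import Cfsg.Agent.Lib.Fusion.KNormalizer
import Cfsg.Agent.Lib.Fusion.SatCriterion
import Cfsg.Agent.Lib.Fusion.ConstrainedSub

set_option autoImplicit false
set_option linter.style.haveILetI false

set_option linter.unusedTactic false
set_option linter.unreachableTactic false

namespace Cfsg.Agent.Lib.Fusion

open Cfsg Cfsg.FusionSystem

universe u

variable {Ω : Type u} [Group Ω] {S : Subgroup Ω} {F : FusionSystem S} {p : ℕ}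

/-- The automorphisms of `W` in the system stabilizing `R`. -/
abbrev stabAut (F : FusionSystem S) (W R : Subgroup Ω) : Subgroup (MulAut W) :=
  F.autGroup W ⊓ stabSub W R

theorem mem_normalizerSystem_of_stab {R W : Subgroup Ω} {N : FusionSystem (normalizerIn S R)}
    (hN : F.IsNormalizerSystem R N) (hRW : R ≤ W) (hW : W ≤ normalizerIn S R) {γ : MulAut W}
    (hγ : γ ∈ stabAut F W R) : γ ∈ N.autGroup W := by
  have hWS : W ≤ S := hW.trans inf_le_left
  refine (mem_autGroup hW).2 ?_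
  rw [hN]
  refine ⟨autGroup_hom_mem hWS hγ.1, hW, fun x => hW (γ x).2,
    (autHom γ).comp (Subgroup.inclusion (sup_le le_rfl hRW)),
    restrict_mem (autGroup_hom_mem hWS hγ.1) _, fun x => rfl, ?_⟩
  ext y
  constructor
  · rintro ⟨x, hx, rfl⟩
    exact (hγ.2 (Subgroup.inclusion (sup_le le_rfl hRW) x)).2 hx
  · intro hy
    obtain ⟨w, hw⟩ := γ.surjective ⟨y, hRW hy⟩
    have hwR : (w : Ω) ∈ R := (hγ.2 w).1 (by rw [hw]; exact hy)
    exact ⟨⟨w, Subgroup.mem_sup_left w.2⟩, hwR,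
      (congrArg (fun z : W => (γ z : Ω)) (Subtype.ext rfl)).trans (congrArg Subtype.val hw)⟩

theorem mem_stab_of_normalizerSystem [Finite S] {R W : Subgroup Ω}
    {N : FusionSystem (normalizerIn S R)} (hN : F.IsNormalizerSystem R N) (hRW : R ≤ W) (hW : W ≤ normalizerIn S R)
    {γ : MulAut W} (hγ : γ ∈ N.autGroup W) : γ ∈ stabAut F W R := by
  have hWS : W ≤ S := hW.trans inf_le_left
  have h := autGroup_hom_mem hW hγ
  rw [hN] at h
  obtain ⟨hF, -, -, ψ, -, hψW, hψR⟩ := h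
  haveI : Finite W := finite_of_le hWS
  haveI : Finite R := finite_of_le (hRW.trans hWS)
  have hfwd : ∀ x : W, (x : Ω) ∈ R → (γ x : Ω) ∈ R := by
    intro x hx
    rw [← autHom_apply, ← hψW]
    refine hψR.le ⟨_, ?_, rfl⟩
    exact hx
  refine ⟨(mem_autGroup hWS).2 hF, fun x => ⟨fun h => ?_, hfwd x⟩⟩
  have hinj : Function.Injective
      fun r : R => (⟨(γ ⟨r, hRW r.2⟩ : Ω), hfwd _ r.2⟩ : R) := fun a b e => by
    simp only [Subtype.mk.injEq, SetLike.coe_eq_coe] at e
    have e' : γ ⟨a, hRW a.2⟩ = γ ⟨b, hRW b.2⟩ := e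
    exact Subtype.ext (congrArg (fun z : W => (z : Ω)) (γ.injective e'))
  obtain ⟨r, hr⟩ := (Finite.injective_iff_surjective.1 hinj) ⟨_, h⟩
  simp only [Subtype.mk.injEq, SetLike.coe_eq_coe] at hr
  have e : γ ⟨r, hRW r.2⟩ = γ x := hr
  rw [← γ.injective e]
  exact r.2

theorem isFullyNormalized_normalizerSystem [Finite S] {R W : Subgroup Ω}
    {N : FusionSystem (normalizerIn S R)} (hN : F.IsNormalizerSystem R N) (hRW : R ≤ W) (hW : W ≤ normalizerIn S R)
    (hcl : ∀ φ ∈ F.Hom W, (∀ x : W, (x : Ω) ∈ R → φ x ∈ R) → φ.range ≤ W) :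
    N.IsFullyNormalized W := by
  haveI : Finite W := finite_of_le (hW.trans inf_le_left)
  refine ⟨hW, fun W' hW' => ?_⟩
  obtain ⟨φ, hφ, rfl⟩ := hW'
  have hφ' := hφ
  rw [hN] at hφ'
  obtain ⟨hF, -, -, ψ, -, hψW, hψR⟩ := hφ'
  have hle : φ.range ≤ W := hcl φ hF fun x hx => by
    rw [← hψW]
    exact hψR.le ⟨_, hx, rfl⟩
  rw [Subgroup.eq_of_le_of_card_ge hle (card_range hφ).ge]

/-- `Aut_{N_S(R)}(W)` is Sylow in the stabilizer of `R`. -/
theorem isSylowIn_stabAut [Fact p.Prime] [Finite S] (hS : IsPGroup p S) (hF : F.IsSaturated p)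
    {R W : Subgroup Ω} (hR : F.IsFullyNormalized R) (hRW : R ≤ W) (hW : W ≤ normalizerIn S R)
    (hcl : ∀ φ ∈ F.Hom W, (∀ x : W, (x : Ω) ∈ R → φ x ∈ R) → φ.range ≤ W) :
    IsSylowIn p (autInducedBy (normalizerIn S R) W) (stabAut F W R) := by
  obtain ⟨N, hN⟩ := exists_normalizerSystem F hR.1
  have hNp : IsPGroup p (normalizerIn S R) := hS.to_le inf_le_left
  haveI := finite_normalizerIn (S := S) R
  have hNs := isSaturated_normalizerSystem hS hF hR hN
  obtain ⟨-, h⟩ := isFullyAutomized_iff.1 (isFullyAutomized_of_isFullyNormalized hNp hNs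
    (isFullyNormalized_normalizerSystem hN hRW hW hcl))
  have e : N.autGroup W = stabAut F W R := le_antisymm
    (fun _ hγ => mem_stab_of_normalizerSystem hN hRW hW hγ)
    (fun _ hγ => mem_normalizerSystem_of_stab hN hRW hW hγ)
  rwa [e] at h

/-- An element of the stabilizer extends to every subgroup of `N_S(R)` it transports into
`Aut_{N_S(R)}(W)`. -/
theorem exists_extend_stab [Fact p.Prime] [Finite S] (hS : IsPGroup p S) (hF : F.IsSaturated p)
    {R W : Subgroup Ω} (hR : F.IsFullyNormalized R) (hRW : R ≤ W) (hW : W ≤ normalizerIn S R)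
    (hcl : ∀ φ ∈ F.Hom W, (∀ x : W, (x : Ω) ∈ R → φ x ∈ R) → φ.range ≤ W)
    {γ : MulAut W} (hγ : γ ∈ stabAut F W R) {M : Subgroup Ω} (hWM : W ≤ M)
    (hM : M ≤ normalizerIn S R)
    (hMn : M ≤ Subgroup.normalizer (W : Set Ω))
    (h : ∀ g (hg : g ∈ M), γ * conjAut W g (hMn hg) * γ⁻¹ ∈ autInducedBy (normalizerIn S R) W) :
    ∃ ψ ∈ F.Hom M, (∀ x : W, ψ (Subgroup.inclusion hWM x) = (γ x : Ω)) ∧
      ∀ x, ψ x ∈ normalizerIn S R := by
  obtain ⟨N, hN⟩ := exists_normalizerSystem F hR.1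
  have hNp : IsPGroup p (normalizerIn S R) := hS.to_le inf_le_left
  haveI := finite_normalizerIn (S := S) R
  haveI : Finite W := finite_of_le (hW.trans inf_le_left)
  have hNs := isSaturated_normalizerSystem hS hF hR hN
  have hrec := isReceptive_of_isFullyNormalized hNp hNs
    (isFullyNormalized_normalizerSystem hN hRW hW hcl)
  obtain ⟨ψ, hψ, hag⟩ := hrec.2 W (autHom γ)
    (autGroup_hom_mem hW (mem_normalizerSystem_of_stab hN hRW hW hγ)) (range_autHom γ)
  have hsub : M ≤ extender (normalizerIn S R) W (autHom γ) := fun g hg =>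
    mem_extender_of_conj_mem (hM hg) (hMn hg) (h g hg)
  have hψ' := restrict_mem hψ hsub
  refine ⟨ψ.comp (Subgroup.inclusion hsub), ?_, fun x => hag x x.2 _, fun x => val_mem hψ' x⟩
  rw [hN] at hψ'
  exact hψ'.1

end Cfsg.Agent.Lib.Fusion
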