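/-
Extensions of the maps of a saturated subsystem to a normal subgroup with prescribed action.
-/
import Cfsg.Agent.Lib.Fusion.LeastNormal
import Cfsg.Agent.Lib.Fusion.LocalGlobal
import Cfsg.Agent.Lib.Fusion.NormExt
import Cfsg.Agent.Lib.Fusion.ConstrainedSub
import Cfsg.Agent.Lib.Fusion.Solvable
import Cfsg.Agent.Lib.Transfer.PResidual
import Cfsg.Agent.Lib.Fusion87.Stabilizer

set_option autoImplicit false
set_option linter.style.haveILetI false

namespace Cfsg.Agent.Lib.Fusion.TrivialAction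

open Cfsg Cfsg.FusionSystem

universe u

variable {Ω : Type u} [Group Ω] {S T : Subgroup Ω} {F : FusionSystem S} {E : FusionSystem T}
  {p : ℕ}

/-- A normal subgroup of the big system, cut down to `T`, is normal in a saturated subsystem on
the strongly closed subgroup `T`. -/
theorem isNormal_inf_of_subsystem [Fact p.Prime] [Finite S] (hS : IsPGroup p S)
    (hT : F.StronglyClosed T) (hE : E.IsSaturated p) (hEF : E.IsSubsystemOf F) {R : Subgroup Ω}
    (hR : F.IsNormal R) : E.IsNormal (R ⊓ T) := by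
  have hTS : T ≤ S := hT.1
  haveI : Finite T := finite_of_le hTS
  have hTp : IsPGroup p T := hS.to_le hTS
  let Y := R ⊓ T
  have hY : F.IsNormal Y := isNormal_inf_stronglyClosed hR hT
  refine (isNormal_iff_le_centric_radical hTp hE).2
    ⟨stronglyClosed_of_subsystem hEF (stronglyClosed_of_isNormal hY) inf_le_right,
      fun P hc hr => ?_⟩
  have hPS : P ≤ S := hc.1.trans hTS
  let K : Subgroup (E.autGroup P) := (autInducedBy Y P).subgroupOf (E.autGroup P)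
  have hKn : K.Normal := by
    refine ⟨fun a ha b => ?_⟩
    obtain ⟨m, hm, hmx⟩ := mem_autInducedBy.1 (Subgroup.mem_subgroupOf.1 ha)
    obtain ⟨ψ, -, hψa, hψY⟩ := hY.2 P _ (hEF _ (autGroup_hom_mem hc.1 b.2))
    have hmU : m ∈ P ⊔ Y := Subgroup.mem_sup_right hm
    refine Subgroup.mem_subgroupOf.2 (mem_autInducedBy.2
      ⟨ψ ⟨m, hmU⟩, hψY.le ⟨⟨m, hmU⟩, hm, rfl⟩, fun x => ?_⟩)
    obtain ⟨z, rfl⟩ := (b : MulAut P).surjective x
    show (((b : MulAut P) * (a : MulAut P) * (b : MulAut P)⁻¹) ((b : MulAut P) z) : Ω) = _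
    rw [MulAut.mul_apply, MulAut.mul_apply, MulAut.inv_apply_self]
    have h1 := hψa ((a : MulAut P) z)
    have h2 := hψa z
    rw [autHom_apply] at h1 h2
    rw [← h1, ← h2, ← map_mul, ← map_inv, ← map_mul]
    exact congrArg ψ (Subtype.ext (hmx z))
  have hKp : IsPGroup p K := (isPGroup_autInducedBy (hS.to_le hY.1)).comap_subtype
  have key : ∀ g ∈ Y, g ∈ Subgroup.normalizer (P : Set Ω) → g ∈ P := fun g hg hgN =>
    Fusion87.mem_of_radical hc hr K hKp hg.2 hgN fun a ha =>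
      Subgroup.mem_subgroupOf.2 (ha ▸ mem_autInducedBy.2 ⟨g, hg, fun x => rfl⟩)
  by_contra hnle
  have hU : P ⊔ Y ≤ T := sup_le hc.1 inf_le_right
  obtain ⟨n, hn, hnN, hnP⟩ := exists_mem_normalizerIn hTp (le_sup_left : P ≤ P ⊔ Y) hU
    fun h => hnle (h ▸ le_sup_right)
  have hPY : P ≤ Subgroup.normalizer (Y : Set Ω) := hPS.trans (le_normalizer_of_isNormal hY)
  rw [← SetLike.mem_coe, Subgroup.coe_mul_of_left_le_normalizer_right P Y hPY] at hn
  obtain ⟨q, hq, y, hy, rfl⟩ := hn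
  have hyN : y ∈ Subgroup.normalizer (P : Set Ω) := by
    have := Subgroup.mul_mem _ (Subgroup.inv_mem _ (Subgroup.le_normalizer hq)) hnN
    rwa [inv_mul_cancel_left] at this
  exact hnP (P.mul_mem hq (key y hy hyN))

/-- The maps of `E` extending to `R` with action in `K`. -/
def extPart (F : FusionSystem S) (E : FusionSystem T) (R : Subgroup Ω) (K : Subgroup (MulAut R))
    (hR : R ≤ S) (hT : T ≤ S)
    (hTK : ∀ g ∈ T, ∃ k ∈ K, ∀ x : R, (k x : Ω) = g * (x : Ω) * g⁻¹) : FusionSystem T where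
  Hom P := E.Hom P ∩ extHom F R T K P
  le_of_mem h := E.le_of_mem h.1
  injective_of_mem h := E.injective_of_mem h.1
  conj_mem hP hg := ⟨E.conj_mem hP hg, (extSystem F R T K hR hT hTK).conj_mem hP hg⟩
  comp_mem hφ hψ h := ⟨E.comp_mem hφ.1 hψ.1 h,
    (extSystem F R T K hR hT hTK).comp_mem hφ.2 hψ.2 h⟩
  inv_mem := fun {P φ} hφ => by
    obtain ⟨ψ, hψ, hx⟩ := (extSystem F R T K hR hT hTK).inv_mem hφ.2
    refine ⟨ψ, ⟨?_, hψ⟩, hx⟩
    obtain ⟨τ, hτ, hτx⟩ := E.inv_mem hφ.1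
    refine mem_congr hτ ?_
    rintro ⟨_, x, rfl⟩
    exact (hx x).trans (hτx x).symm

theorem imgSub_sup_le {P Q R : Subgroup Ω} {ψ : (Q ⊔ R : Subgroup Ω) →* Ω} {χ : Q →* Ω}
    (hPQ : P ≤ Q) (hψ : ∀ x : Q, ψ (Subgroup.inclusion le_sup_left x) = χ x) {c : MulAut R}
    (hc : ∀ x : R, ψ (Subgroup.inclusion le_sup_right x) = (c x : Ω)) :
    imgSub χ P ⊔ R ≤ imgSub ψ (P ⊔ R) := by
  refine sup_le (fun y hy => ?_) fun y hy => ?_
  · obtain ⟨x, hx, rfl⟩ := mem_imgSub.1 hy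
    exact mem_imgSub.2 ⟨Subgroup.inclusion le_sup_left x, Subgroup.mem_sup_left hx, hψ x⟩
  · refine mem_imgSub.2 ⟨Subgroup.inclusion le_sup_right (c.symm ⟨y, hy⟩),
      Subgroup.mem_sup_right (SetLike.coe_mem _), ?_⟩
    rw [hc, MulEquiv.apply_symm_apply]

theorem exists_aut_restrict [Finite S] {R U : Subgroup Ω} {ψ : U →* Ω} (hψ : ψ ∈ F.Hom U)
    (hRU : R ≤ U) (h : ∀ x : R, ψ (Subgroup.inclusion hRU x) ∈ R) :
    ∃ c ∈ F.autGroup R, ∀ x : R, ψ (Subgroup.inclusion hRU x) = (c x : Ω) := by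
  haveI : Finite R := finite_of_le (hRU.trans (src_le hψ))
  obtain ⟨c, hc, hcx⟩ := exists_aut_of_hom (restrict_mem hψ hRU) h
  exact ⟨c, hc, fun x => (hcx x).symm⟩

/-- The part extending with action in a normalized `K` is strongly invariant. -/
theorem stronglyInvariant_extPart [Finite S] (hEF : E.IsSubsystemOf F) {R : Subgroup Ω}
    (hR : F.IsNormal R) {K : Subgroup (MulAut R)} (hT : T ≤ S)
    (hTK : ∀ g ∈ T, ∃ k ∈ K, ∀ x : R, (k x : Ω) = g * (x : Ω) * g⁻¹)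
    (hKn : ∀ c ∈ F.autGroup R, ∀ k ∈ K, c * k * c⁻¹ ∈ K) :
    StronglyInvariant (extPart F E R K hR.1 hT hTK) E := by
  intro P Q hPQ hQT φ hφ hφQ ψ hψ
  obtain ⟨hφE, -, -, -, Φ, hΦ, hΦφ, k, hk, hΦk⟩ := hφ
  obtain ⟨χ, hχ, hχx⟩ := exists_transport hψ hφE hPQ hφQ
  obtain ⟨Ψ, hΨ, hΨψ, hΨR⟩ := hR.2 Q ψ (hEF _ hψ)
  obtain ⟨c, hc, hcx⟩ := exists_aut_restrict hΨ le_sup_right (imgSub_le_of_isNormal_map hΨR)
  have hΦQ : ∀ x, Φ x ∈ Q ⊔ R := hom_sup_mem Φ
    (fun x => Subgroup.mem_sup_left ((hΦφ x).symm ▸ hφQ x))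
    (fun x => Subgroup.mem_sup_right ((hΦk x).symm ▸ (k x).2))
  have hle : P ⊔ R ≤ Q ⊔ R := sup_le_sup_right hPQ R
  obtain ⟨Θ, hΘ, hΘx⟩ := exists_transport hΨ hΦ hle hΦQ
  have hsup := imgSub_sup_le hPQ hΨψ hcx
  refine ⟨χ, ⟨hχ, hEF _ hχ, src_le hχ, val_mem hχ, _, restrict_mem hΘ hsup, ?_,
    c * k * c⁻¹, hKn c hc k hk, fun x => ?_⟩, fun x hx => hχx x hx⟩
  · rintro ⟨y, hy⟩
    obtain ⟨x, hxP, rfl⟩ := mem_imgSub.1 hy
    refine Eq.trans ?_ (hχx ⟨x, hxP⟩ hy).symm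
    have hm : Ψ (Subgroup.inclusion hle (Subgroup.inclusion le_sup_left ⟨(x : Ω), hxP⟩)) ∈
        imgSub Ψ (P ⊔ R) := apply_mem_imgSub Ψ _ (Subgroup.mem_sup_left hxP)
    refine Eq.trans ?_ ((hΘx (Subgroup.inclusion le_sup_left ⟨x, hxP⟩) hm).trans ?_)
    · exact congrArg Θ (Subtype.ext (hΨψ x).symm)
    · refine Eq.trans ?_ (hΨψ ⟨φ ⟨x, hxP⟩, hφQ _⟩)
      exact congrArg Ψ (Subtype.ext (hΦφ ⟨x, hxP⟩))
  · obtain ⟨z, rfl⟩ := c.surjective x
    rw [MulAut.mul_apply, MulAut.mul_apply, MulAut.inv_apply_self]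
    have hm : Ψ (Subgroup.inclusion hle (Subgroup.inclusion le_sup_right z)) ∈
        imgSub Ψ (P ⊔ R) := apply_mem_imgSub Ψ _ (Subgroup.mem_sup_right z.2)
    refine Eq.trans ?_ ((hΘx (Subgroup.inclusion le_sup_right z) hm).trans ?_)
    · exact congrArg Θ (Subtype.ext (hcx z).symm)
    · refine Eq.trans ?_ (hcx (k z))
      exact congrArg Ψ (Subtype.ext (hΦk z))

/-- If the automorphisms of `T` of order prime to `p` in the saturated `E` extend to `R` with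
action in the normalized `K`, all maps of `E` do. -/
theorem hom_le_extHom [Fact p.Prime] [Finite S] (hS : IsPGroup p S) (hE : E.IsSaturated p)
    (hEF : E.IsSubsystemOf F) {R : Subgroup Ω} (hR : F.IsNormal R) {K : Subgroup (MulAut R)}
    (hT : T ≤ S) (hTK : ∀ g ∈ T, ∃ k ∈ K, ∀ x : R, (k x : Ω) = g * (x : Ω) * g⁻¹)
    (hKn : ∀ c ∈ F.autGroup R, ∀ k ∈ K, c * k * c⁻¹ ∈ K)
    (h : ∀ α ∈ E.autGroup T, (orderOf α).Coprime p → autHom α ∈ extHom F R T K T)
    (P : Subgroup Ω) : E.Hom P ⊆ extHom F R T K P := by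
  haveI : Finite T := finite_of_le hT
  haveI := finite_mulAut (S := S) hT
  have hTp : IsPGroup p T := hS.to_le hT
  let X := extPart F E R K hR.1 hT hTK
  have hX := stronglyInvariant_extPart hEF hR hT hTK hKn
  have hp : HasPAut X E p := fun Q hQ α hα hk =>
    autHom_mem_of_stronglyInvariant hTp le_rfl hE (fun _ _ h => h) hX hQ.1 hα hk
  have hTX : ∀ α ∈ E.autGroup T, α ∈ X.autGroup T := by
    intro α hα
    obtain ⟨k, hk⟩ := Transfer.exists_pow_coprime (p := p) α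
    set m := orderOf (α ^ p ^ k) with hm
    have h1 : α ^ p ^ k ∈ X.autGroup T := (mem_autGroup le_rfl).2
      ⟨autGroup_hom_mem le_rfl (pow_mem hα _), h _ (pow_mem hα _) hk⟩
    have h2 : α ^ m ∈ X.autGroup T := (mem_autGroup le_rfl).2
      (autHom_mem_of_stronglyInvariant hTp le_rfl hE (fun _ _ h => h) hX le_rfl (pow_mem hα _)
        ⟨k, by rw [← pow_mul, mul_comm, pow_mul, hm, pow_orderOf_eq_one]⟩)
    have hg : Nat.gcd (p ^ k) m = 1 := (Nat.Coprime.pow_right k hk).symm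
    have e : α = (α ^ p ^ k) ^ Nat.gcdA (p ^ k) m * (α ^ m) ^ Nat.gcdB (p ^ k) m := by
      rw [← zpow_natCast α (p ^ k), ← zpow_natCast α m, ← zpow_mul, ← zpow_mul, ← zpow_add,
        ← Nat.gcd_eq_gcd_ab, hg, Nat.cast_one, zpow_one]
    rw [e]
    exact mul_mem (Subgroup.zpow_mem _ h1 _) (Subgroup.zpow_mem _ h2 _)
  intro φ hφ
  obtain ⟨a, ha, φ₀, hφ₀, hx⟩ := exists_decomp hTp hE hp hφ
  exact (comp_of_apply hφ₀ (autGroup_hom_mem le_rfl (hTX a ha))
    fun x => ⟨val_mem hφ₀ x, hx x _⟩ : φ ∈ X.Hom P).2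

/-- A `p'`-automorphism of a `p`-group: if it moves `x` by `q` and fixes `q` after applying `f`,
then `f q = 1`. -/
theorem map_eq_one_of_coprime {W G : Type*} [Group W] [Group G] (hW : IsPGroup p W) (f : W →* G)
    (b : MulAut W) (hb : (orderOf b).Coprime p) (hker : ∀ w, f w = 1 → f (b w) = 1) {x q : W}
    (hx : f (b x) = f x * f q) (hq : f (b q) = f q) : f q = 1 := by
  have hcong : ∀ u v, f u = f v → f (b u) = f (b v) := fun u v h => by
    have := hker (u⁻¹ * v) (by rw [map_mul, map_inv, h, inv_mul_cancel])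
    rwa [map_mul, map_inv, map_mul, map_inv, inv_mul_eq_one] at this
  have hit : ∀ n : ℕ, f ((b ^ n) x) = f x * f q ^ n := by
    intro n
    induction n with
    | zero => simp
    | succ n ih =>
      rw [pow_succ', MulAut.mul_apply, hcong _ (x * q ^ n) (by rw [ih, map_mul, map_pow]),
        map_mul, map_mul, map_pow, map_pow, hx, hq, pow_succ', mul_assoc]
  have h1 := hit (orderOf b)
  rw [pow_orderOf_eq_one, MulAut.one_apply, left_eq_mul] at h1
  obtain ⟨k, hk⟩ := hW q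
  have h2 : f q ^ p ^ k = 1 := by rw [← map_pow, hk, map_one]
  exact orderOf_eq_one_iff.1 (Nat.eq_one_of_dvd_coprimes (Nat.Coprime.pow_right k hb)
    (orderOf_dvd_of_pow_eq_one h1) (orderOf_dvd_of_pow_eq_one h2))

/-- A power of order prime to `p` of an extension. -/
theorem exists_coprime_extension [Fact p.Prime] {P W : Subgroup Ω} [Finite (MulAut W)]
    (hPW : P ≤ W) {α : MulAut P} {β : MulAut W}
    (h : ∀ x : P, (β (Subgroup.inclusion hPW x) : Ω) = α x) (hco : (orderOf α).Coprime p) :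
    ∃ n : ℕ, (orderOf (β ^ n)).Coprime p ∧
      ∀ x : P, ((β ^ n) (Subgroup.inclusion hPW x) : Ω) = α x := by
  obtain ⟨k, hk⟩ := Transfer.exists_pow_coprime (p := p) β
  obtain ⟨m, hm⟩ := exists_pow_eq_self_of_coprime (Nat.Coprime.pow_right k hco).symm
  have hpow : ∀ n : ℕ, ∀ x : P, ((β ^ n) (Subgroup.inclusion hPW x) : Ω) = (α ^ n) x := by
    intro n
    induction n with
    | zero => intro x; rfl
    | succ n ih =>
      intro x
      rw [pow_succ', pow_succ', MulAut.mul_apply, MulAut.mul_apply,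
        show (β ^ n) (Subgroup.inclusion hPW x) = Subgroup.inclusion hPW ((α ^ n) x) from
          Subtype.ext (ih x)]
      exact h _
  refine ⟨p ^ k * m, ?_, fun x => ?_⟩
  · rw [pow_mul]
    exact Nat.Coprime.coprime_dvd_left (orderOf_pow_dvd m) hk
  · rw [hpow, pow_mul α, hm]

/-- The automorphisms of `R` trivial modulo `Y` and fixing `Z`. -/
def stab (R Y Z : Subgroup Ω) (hY : R ≤ Subgroup.normalizer (Y : Set Ω)) :
    Subgroup (MulAut R) where
  carrier := {k | (∀ r : R, (r : Ω) ∈ Z → (k r : Ω) = r) ∧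
    (∀ r : R, (r : Ω) ∈ Y → (k r : Ω) ∈ Y) ∧ (∀ r : R, (r : Ω) ∈ Y → (k⁻¹ r : Ω) ∈ Y) ∧
    ∀ r : R, (r : Ω)⁻¹ * (k r : Ω) ∈ Y}
  one_mem' := ⟨fun r _ => rfl, fun r h => h, fun r h => by simpa using h,
    fun r => by simp⟩
  mul_mem' := by
    rintro a b ⟨a1, a2, a3, a4⟩ ⟨b1, b2, b3, b4⟩
    refine ⟨fun r hr => ?_, fun r hr => a2 _ (b2 r hr), fun r hr => ?_, fun r => ?_⟩
    · rw [MulAut.mul_apply, show b r = r from Subtype.ext (b1 r hr)]
      exact a1 r hr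
    · rw [mul_inv_rev]
      exact b3 _ (a3 r hr)
    · have h := Y.mul_mem (b4 r) (a4 (b r))
      rwa [mul_assoc, mul_inv_cancel_left] at h
  inv_mem' := by
    rintro a ⟨a1, a2, a3, a4⟩
    refine ⟨fun r hr => ?_, a3, fun r hr => by rw [inv_inv]; exact a2 r hr, fun r => ?_⟩
    · conv_rhs => rw [← MulAut.inv_apply_self _ a r]
      rw [show a r = r from Subtype.ext (a1 r hr)]
    · have h := Y.inv_mem (a4 (a⁻¹ r))
      rwa [MulAut.apply_inv_self, mul_inv_rev, inv_inv] at h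

theorem conj_mem_stab {R Y Z : Subgroup Ω} {hY : R ≤ Subgroup.normalizer (Y : Set Ω)}
    {c k : MulAut R} (hk : k ∈ stab R Y Z hY)
    (hcZ : ∀ r : R, (r : Ω) ∈ Z → (c⁻¹ r : Ω) ∈ Z)
    (hcY : ∀ r : R, (r : Ω) ∈ Y → (c r : Ω) ∈ Y)
    (hcY' : ∀ r : R, (r : Ω) ∈ Y → (c⁻¹ r : Ω) ∈ Y) : c * k * c⁻¹ ∈ stab R Y Z hY := by
  obtain ⟨k1, k2, k3, k4⟩ := hk
  refine ⟨fun r hr => ?_, fun r hr => hcY _ (k2 _ (hcY' r hr)), fun r hr => ?_, fun r => ?_⟩
  · rw [MulAut.mul_apply, MulAut.mul_apply, show k (c⁻¹ r) = c⁻¹ r from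
      Subtype.ext (k1 _ (hcZ r hr)), MulAut.apply_inv_self]
  · rw [mul_inv_rev, mul_inv_rev, inv_inv]
    exact hcY _ (k3 _ (hcY' r hr))
  · obtain ⟨s, rfl⟩ := c.surjective r
    rw [MulAut.mul_apply, MulAut.mul_apply, MulAut.inv_apply_self]
    have h := hcY (s⁻¹ * k s) (k4 s)
    rwa [map_mul, map_inv, Subgroup.coe_mul, Subgroup.coe_inv] at h

/-- The maps of a normal subsystem extend to a normal subgroup acting trivially modulo their
intersection. -/
theorem hom_le_extHom_stab [Fact p.Prime] [Finite S] (hS : IsPGroup p S)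
    (hE : E.IsNormalIn F p) {R : Subgroup Ω} (hR : F.IsNormal R)
    (hn : R ≤ Subgroup.normalizer ((R ⊓ T : Subgroup Ω) : Set Ω)) (P : Subgroup Ω) :
    E.Hom P ⊆ extHom F R T (stab R (R ⊓ T) ⊥ hn) P := by
  obtain ⟨hEs, hF, hinv⟩ := hE.1
  have hTc := hinv.2.1
  have hTS : T ≤ S := hTc.1
  haveI : Finite T := finite_of_le hTS
  haveI : Finite R := finite_of_le hR.1
  haveI := finite_mulAut (S := S) hTS
  have hTp : IsPGroup p T := hS.to_le hTS
  have hY := isNormal_inf_stronglyClosed hR hTc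
  have hYc := stronglyClosed_of_isNormal hY
  have hSR := le_normalizer_of_isNormal hR
  have hST := stronglyClosed_le_normalizer hTc
  have hTK : ∀ g ∈ T, ∃ k ∈ stab R (R ⊓ T) ⊥ hn, ∀ x : R, (k x : Ω) = g * (x : Ω) * g⁻¹ := by
    intro g hg
    have hgS := hTS hg
    refine ⟨conjAut R g (hSR hgS), ⟨fun r hr => ?_, fun r hr => ?_, fun r hr => ?_, fun r => ?_⟩,
      fun x => rfl⟩
    · show g * (r : Ω) * g⁻¹ = r
      rw [Subgroup.mem_bot.1 hr]; simp
    · exact (Subgroup.mem_normalizer_iff.1 (le_normalizer_of_isNormal hY hgS) r).1 hr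
    · exact stronglyClosed_map hYc (autGroup_hom_mem hR.1 (inv_mem (autInducedBy_le_autGroup hR.1
        (mem_autInducedBy.2 ⟨g, hgS, fun x => rfl⟩ :
          conjAut R g (hSR hgS) ∈ autInducedBy S R)))) r hr
    · refine ⟨R.mul_mem (R.inv_mem r.2) ((Subgroup.mem_normalizer_iff.1 (hSR hgS) r).1 r.2), ?_⟩
      show (r : Ω)⁻¹ * (g * (r : Ω) * g⁻¹) ∈ T
      have h1 := (Subgroup.mem_normalizer_iff.1 (hST (S.inv_mem (hR.1 r.2))) g).1 hg
      rw [inv_inv] at h1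
      rw [show (r : Ω)⁻¹ * (g * r * g⁻¹) = ((r : Ω)⁻¹ * g * r) * g⁻¹ by group]
      exact T.mul_mem h1 (T.inv_mem hg)
  have hKn : ∀ c ∈ F.autGroup R, ∀ k ∈ stab R (R ⊓ T) ⊥ hn, c * k * c⁻¹ ∈ stab R (R ⊓ T) ⊥ hn :=
    fun c hc k hk => conj_mem_stab hk
      (fun r hr => by
        rw [show r = 1 from Subtype.ext (Subgroup.mem_bot.1 hr), map_one]; exact one_mem _)
      (stronglyClosed_map hYc (autGroup_hom_mem hR.1 hc))
      (stronglyClosed_map hYc (autGroup_hom_mem hR.1 (inv_mem hc)))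
  refine hom_le_extHom hS hEs hinv.1 hR hTS hTK hKn (fun α hα hco => ?_) P
  have hαF := hinv.1 _ (autGroup_hom_mem le_rfl hα)
  obtain ⟨β₀, hβ₀, hβ₀T, hβ₀C⟩ := hE.2 α hα
  let C := T ⊔ centralizerIn S T
  have hCS : C ≤ S := sup_le hTS inf_le_left
  haveI : Finite C := finite_of_le hCS
  obtain ⟨ψ, hψ, hψC, hψR⟩ := hR.2 C _ (autGroup_hom_mem hCS hβ₀)
  have hWS : C ⊔ R ≤ S := sup_le hCS hR.1
  haveI : Finite (C ⊔ R : Subgroup Ω) := finite_of_le hWS
  haveI := finite_mulAut (S := S) hWS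
  obtain ⟨b₀, hb₀, hb₀x⟩ := exists_aut_of_hom hψ (hom_sup_mem ψ
    (fun x => Subgroup.mem_sup_left ((hψC x).symm ▸ (β₀ x).2))
    (fun x => Subgroup.mem_sup_right (imgSub_le_of_isNormal_map hψR x)))
  have hTW : T ≤ C ⊔ R := le_sup_left.trans le_sup_left
  have hb₀T : ∀ x : T, (b₀ (Subgroup.inclusion hTW x) : Ω) = α x := fun x => by
    rw [hb₀x]
    exact (hψC (Subgroup.inclusion le_sup_left x)).trans (hβ₀T x)
  obtain ⟨n, hbco, hbT⟩ := exists_coprime_extension (p := p) hTW hb₀T hco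
  set b := b₀ ^ n with hb
  have hbF : b ∈ F.autGroup (C ⊔ R) := pow_mem hb₀ n
  have hbh := autGroup_hom_mem hWS hbF
  have hbR : ∀ r : (C ⊔ R : Subgroup Ω), (r : Ω) ∈ R → (b r : Ω) ∈ R := fun r hr =>
    stronglyClosed_map (stronglyClosed_of_isNormal hR) hbh r hr
  have hbTmem : ∀ r : (C ⊔ R : Subgroup Ω), (r : Ω) ∈ T → (b r : Ω) ∈ T := fun r hr =>
    stronglyClosed_map hTc hbh r hr
  have hTn : (T.subgroupOf (C ⊔ R)).Normal :=
    ⟨fun t ht g => (Subgroup.mem_normalizer_iff.1 (hST (hWS g.2)) t).1 ht⟩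
  let π := QuotientGroup.mk' (T.subgroupOf (C ⊔ R))
  have hπ : ∀ w, π w = 1 ↔ (w : Ω) ∈ T := fun w => QuotientGroup.eq_one_iff w
  have hker : ∀ w, π w = 1 → π (b w) = 1 := fun w hw => (hπ _).2 (hbTmem w ((hπ w).1 hw))
  -- trivial on `T C_S(T)` modulo `T`
  have hb0C : ∀ x : (C ⊔ R : Subgroup Ω), (x : Ω) ∈ C → π (b₀ x) = π x := by
    have hle : C ≤ ((MonoidHom.eqLocus (π.comp b₀.toMonoidHom) π).map
        (C ⊔ R : Subgroup Ω).subtype) := by
      refine sup_le (fun t ht => ⟨⟨t, hTW ht⟩, ?_, rfl⟩) fun c hc => ?_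
      · show π (b₀ _) = π _
        rw [(hπ ⟨t, hTW ht⟩).2 ht, hπ,
          show (b₀ ⟨t, hTW ht⟩ : Ω) = α ⟨t, ht⟩ from hb₀T ⟨t, ht⟩]
        exact (α _).2
      · refine ⟨⟨c, Subgroup.mem_sup_left (Subgroup.mem_sup_right hc)⟩, ?_, rfl⟩
        show π (b₀ _) = π _
        refine Eq.symm (inv_mul_eq_one.1 ?_)
        rw [← map_inv, ← map_mul, hπ]
        show c⁻¹ * (b₀ ⟨c, _⟩ : Ω) ∈ T
        rw [hb₀x, show ψ ⟨c, Subgroup.mem_sup_left (Subgroup.mem_sup_right hc)⟩ = _ from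
          hψC ⟨c, Subgroup.mem_sup_right hc⟩]
        exact (hβ₀C ⟨c, Subgroup.mem_sup_right hc⟩ hc).1
    intro x hx
    obtain ⟨y, hy, hyx⟩ := hle hx
    rwa [show x = y from Subtype.ext hyx.symm]
  have hbC : ∀ x : (C ⊔ R : Subgroup Ω), (x : Ω) ∈ C → π (b x) = π x := by
    have hker0 : ∀ w, π w = 1 → π (b₀ w) = 1 := fun w hw => (hπ _).2
      (stronglyClosed_map hTc (autGroup_hom_mem hWS hb₀) w ((hπ w).1 hw))
    have key : ∀ j : ℕ, ∀ x : (C ⊔ R : Subgroup Ω), (x : Ω) ∈ C → π ((b₀ ^ j) x) = π x := by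
      intro j
      induction j with
      | zero => intro x _; rfl
      | succ j ih =>
        intro x hx
        rw [pow_succ', MulAut.mul_apply]
        have := hker0 (x⁻¹ * (b₀ ^ j) x) (by rw [map_mul, map_inv, ih x hx, inv_mul_cancel])
        rw [map_mul, map_inv, map_mul, map_inv, inv_mul_eq_one] at this
        rw [← this, hb0C x hx]
    exact key n
  -- the Sylow subgroup of `Aut_E(T)` is inner
  have hinn : ∀ γ ∈ E.autGroup T, γ ∈ autInducedBy S T → γ ∈ autInducedBy T T := by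
    intro γ hγ hγS
    obtain ⟨-, hsyl⟩ := isFullyAutomized_iff.1
      (isFullyAutomized_of_isFullyNormalized hTp hEs (isFullyNormalized_top E))
    obtain ⟨j, hj⟩ := isPGroup_autInducedBy hS (⟨γ, hγS⟩ : autInducedBy S T)
    have hj' : γ ^ p ^ j = 1 := congrArg Subtype.val hj
    obtain ⟨i, -, hi⟩ :=
      (Nat.dvd_prime_pow (Fact.out : p.Prime)).1 (orderOf_dvd_of_pow_eq_one hj')
    obtain ⟨d, hd, hle⟩ := hsyl.exists_conj_le (IsPGroup.of_card (n := i)
      ((Nat.card_zpowers _).trans hi)) (Subgroup.zpowers_le.2 hγ)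
    obtain ⟨t, ht, htx⟩ := mem_autInducedBy.1 (hle ⟨_, Subgroup.mem_zpowers _, rfl⟩)
    refine mem_autInducedBy.2 ⟨(d.symm ⟨t, ht⟩ : T), SetLike.coe_mem _, fun x => ?_⟩
    have e : γ = d⁻¹ * (MulAut.conj d γ) * d := by
      rw [MulAut.conj_apply]; group
    rw [e, MulAut.mul_apply, MulAut.mul_apply]
    have h1 : MulAut.conj d γ (d x) = ⟨t, ht⟩ * d x * ⟨t, ht⟩⁻¹ := Subtype.ext (htx (d x))
    rw [h1, map_mul, map_mul, map_inv, MulAut.inv_apply_self]
    rfl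
  have hnorm : ∀ g ∈ F.autGroup T, ∀ a ∈ E.autGroup T, g * a * g⁻¹ ∈ E.autGroup T := by
    intro g hg a ha
    obtain ⟨χ, hχ, hχx⟩ := stronglyInvariant_of_isWeaklyNormalIn hS hE.1 T T le_rfl le_rfl
      (autHom a) (autGroup_hom_mem le_rfl ha) (fun x => (a x).2) (autHom g)
      (autGroup_hom_mem hTS hg)
    have hr : T ≤ imgSub (autHom g) T := by rw [imgSub_self, range_autHom]
    refine (mem_autGroup le_rfl).2 (mem_of_restrict hχ hr fun y => ?_)
    obtain ⟨z, rfl⟩ := g.surjective y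
    refine Eq.trans ?_ ((hχx z (hr (g z).2)).symm.trans (congrArg χ (Subtype.ext rfl)))
    show ((g * a * g⁻¹) (g z) : Ω) = _
    rw [MulAut.mul_apply, MulAut.mul_apply, MulAut.inv_apply_self]
    rfl
  have hfin : ∀ r : R, ((⟨r, Subgroup.mem_sup_right r.2⟩ : (C ⊔ R : Subgroup Ω))⁻¹ *
      b ⟨r, Subgroup.mem_sup_right r.2⟩ : (C ⊔ R : Subgroup Ω)).1 ∈ R ⊓ T := by
    intro r
    set w : (C ⊔ R : Subgroup Ω) := ⟨r, Subgroup.mem_sup_right r.2⟩ with hw
    set q := w⁻¹ * b w with hq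
    have hqR : (q : Ω) ∈ R := R.mul_mem (R.inv_mem r.2) (hbR w r.2)
    have hrN : (r : Ω) ∈ Subgroup.normalizer (T : Set Ω) := hST (hR.1 r.2)
    have hrF : conjAut T r hrN ∈ F.autGroup T :=
      autInducedBy_le_autGroup hTS (mem_autInducedBy.2 ⟨r, hR.1 r.2, fun x => rfl⟩)
    have hqN : (q : Ω) ∈ Subgroup.normalizer (T : Set Ω) := hST (hWS q.2)
    have hcq : conjAut T q hqN = ((conjAut T r hrN)⁻¹ * α * conjAut T r hrN) * α⁻¹ := by
      refine MulEquiv.ext fun x => ?_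
      obtain ⟨z, rfl⟩ := α.surjective x
      rw [MulAut.mul_apply, MulAut.inv_apply_self, MulAut.mul_apply, MulAut.mul_apply]
      refine Subtype.ext ?_
      show ((r : Ω)⁻¹ * (b w : Ω)) * (α z : Ω) * ((r : Ω)⁻¹ * (b w : Ω))⁻¹ = _
      have e1 := hbT (conjAut T r hrN z)
      have e2 : Subgroup.inclusion hTW (conjAut T r hrN z) =
          w * Subgroup.inclusion hTW z * w⁻¹ := Subtype.ext rfl
      rw [e2, map_mul, map_mul, map_inv, Subgroup.coe_mul, Subgroup.coe_mul, Subgroup.coe_inv,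
        hbT z] at e1
      have e3 : (r : Ω) * (((conjAut T r hrN)⁻¹ (α (conjAut T r hrN z)) : T) : Ω) * (r : Ω)⁻¹ =
          (α (conjAut T r hrN z) : Ω) :=
        congrArg Subtype.val (MulAut.apply_inv_self T (conjAut T r hrN) (α (conjAut T r hrN z)))
      refine mul_left_cancel (a := (r : Ω)) (mul_right_cancel (b := (r : Ω)⁻¹) ?_)
      rw [e3, ← e1]
      group
    have hγ : conjAut T q hqN ∈ E.autGroup T := by
      rw [hcq]
      refine mul_mem ?_ (inv_mem hα)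
      have := hnorm _ (inv_mem hrF) α hα
      rwa [inv_inv] at this
    obtain ⟨t, ht, htx⟩ := mem_autInducedBy.1
      (hinn _ hγ (mem_autInducedBy.2 ⟨q, hWS q.2, fun x => rfl⟩))
    have hqC : (q : Ω) ∈ C := by
      have hc : t⁻¹ * (q : Ω) ∈ centralizerIn S T := by
        refine ⟨S.mul_mem (S.inv_mem (hTS ht)) (hWS q.2), fun x hx => ?_⟩
        have e : (q : Ω) * x * (q : Ω)⁻¹ = t * x * t⁻¹ := htx ⟨x, hx⟩
        calc x * (t⁻¹ * q) = t⁻¹ * (t * x * t⁻¹) * q := by group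
          _ = t⁻¹ * ((q : Ω) * x * (q : Ω)⁻¹) * q := by rw [e]
          _ = t⁻¹ * q * x := by group
      have := C.mul_mem (Subgroup.mem_sup_left ht) (Subgroup.mem_sup_right hc)
      rwa [mul_inv_cancel_left] at this
    have h1 : π q = 1 := map_eq_one_of_coprime (hS.to_le hWS) π b hbco hker (x := w)
      (by rw [hq, map_mul, map_inv, mul_inv_cancel_left]) (hbC q hqC)
    exact ⟨hqR, (hπ q).1 h1⟩
  have hsup : T ⊔ R ≤ C ⊔ R := sup_le_sup_right le_sup_left R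
  obtain ⟨c, hc, hcx⟩ := exists_aut_restrict (restrict_mem hbh hsup) le_sup_right fun r =>
    hbR _ r.2
  refine ⟨hαF, le_rfl, fun x => (α x).2, _, restrict_mem hbh hsup, fun x => hbT x, c,
    ⟨fun r hr => ?_, fun r hr => ?_, fun r hr => ?_, fun r => ?_⟩, hcx⟩
  · rw [show r = 1 from Subtype.ext (Subgroup.mem_bot.1 hr), map_one]
  · exact stronglyClosed_map hYc (autGroup_hom_mem hR.1 hc) r hr
  · exact stronglyClosed_map hYc (autGroup_hom_mem hR.1 (inv_mem hc)) r hr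
  · rw [← hcx r]
    exact hfin r

end Cfsg.Agent.Lib.Fusion.TrivialAction
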