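/-
Lifts of the automorphisms in a subsystem over `P C_S(P)` with displacement in `T`: definitions,
transport along maps, and the lifts of the automorphisms generated by `p`-elements.
-/
import Cfsg.Agent.Lib.Fusion.StabSylow
import Cfsg.Agent.Lib.Fusion.TrivialAction
import Cfsg.Agent.Lib.Fusion.CentralizerNormal
import Cfsg.Agent.Lib.Fusion.GroupFusion

set_option autoImplicit false
set_option linter.style.haveILetI false
set_option linter.unusedTactic false
set_option linter.unreachableTactic false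
set_option linter.unusedVariables false

namespace Cfsg.Agent.Lib.Fusion

open Cfsg Cfsg.FusionSystem

universe u

variable {Ω : Type u} [Group Ω] {S T : Subgroup Ω} {F : FusionSystem S} {E : FusionSystem T}
  {p : ℕ}

/-- The automorphisms fixing the elements of `R`. -/
def fixSub (W R : Subgroup Ω) : Subgroup (MulAut W) where
  carrier := {γ | ∀ x : W, (x : Ω) ∈ R → γ x = x}
  one_mem' := fun _ _ => rfl
  mul_mem' := fun {a b} ha hb x hx => by rw [MulAut.mul_apply, hb x hx, ha x hx]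
  inv_mem' := fun {a} ha x hx => by
    conv_lhs => rw [← ha x hx]
    exact MulAut.inv_apply_self _ a x

/-- The automorphisms moving every element inside its coset modulo `T`. -/
def modSub (W T : Subgroup Ω) : Subgroup (MulAut W) where
  carrier := {γ | ∀ x : W, (x : Ω)⁻¹ * (γ x : Ω) ∈ T}
  one_mem' := fun x => by
    show (x : Ω)⁻¹ * (x : Ω) ∈ T
    rw [inv_mul_cancel]
    exact one_mem T
  mul_mem' := fun {a b} ha hb x => by
    have h := T.mul_mem (hb x) (ha (b x))
    rwa [mul_assoc, mul_inv_cancel_left] at h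
  inv_mem' := fun {a} ha x => by
    have h := T.inv_mem (ha (a⁻¹ x))
    rw [MulAut.apply_inv_self, mul_inv_rev, inv_inv] at h
    exact h

theorem conj_mem_modSub {W : Subgroup Ω} {g γ : MulAut W} (hγ : γ ∈ modSub W T)
    (hg : ∀ x : W, (x : Ω) ∈ T → (g x : Ω) ∈ T) : g * γ * g⁻¹ ∈ modSub W T := by
  intro x
  obtain ⟨y, rfl⟩ := g.surjective x
  rw [MulAut.mul_apply, MulAut.mul_apply, MulAut.inv_apply_self]
  have h := hg (y⁻¹ * γ y) (hγ y)
  rwa [map_mul, map_inv, Subgroup.coe_mul, Subgroup.coe_inv] at h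

theorem conj_mem_fixSub {W R : Subgroup Ω} {g γ : MulAut W} (hγ : γ ∈ fixSub W R)
    (hg : ∀ x : W, (x : Ω) ∈ R → (g⁻¹ x : Ω) ∈ R) : g * γ * g⁻¹ ∈ fixSub W R := by
  intro x hx
  rw [MulAut.mul_apply, MulAut.mul_apply, hγ _ (hg x hx), MulAut.apply_inv_self]

/-- An automorphism extending one of `P` preserves `P`. -/
theorem iff_of_restrict {W P : Subgroup Ω} (hPW : P ≤ W) {β : MulAut W} {α : MulAut P}
    (h : ∀ y : P, (β (Subgroup.inclusion hPW y) : Ω) = α y) (x : W) :
    (β x : Ω) ∈ P ↔ (x : Ω) ∈ P := by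
  constructor
  · intro hx
    obtain ⟨y, hy⟩ := α.surjective ⟨_, hx⟩
    have h1 : β x = β (Subgroup.inclusion hPW y) :=
      Subtype.ext ((h y).trans (congrArg Subtype.val hy)).symm
    rw [β.injective h1]
    exact y.2
  · intro hx
    rw [show x = Subgroup.inclusion hPW ⟨x, hx⟩ from Subtype.ext rfl, h]
    exact (α _).2

/-- The automorphisms of `P C_S(P)` preserving `P` and moving `C_S(P)` inside cosets of `T`. -/
def dispGroup (F : FusionSystem S) (T : Subgroup Ω) {P : Subgroup Ω} (hP : P ≤ S) :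
    Subgroup (MulAut (cenSup S P)) where
  carrier := {β | β ∈ F.autGroup (cenSup S P) ∧ (∀ x, (β x : Ω) ∈ P ↔ (x : Ω) ∈ P) ∧
    ∀ x : cenSup S P, (x : Ω) ∈ centralizerIn S P → (x : Ω)⁻¹ * (β x : Ω) ∈ T}
  one_mem' := ⟨one_mem _, fun _ => Iff.rfl, fun x _ => by
    show (x : Ω)⁻¹ * (x : Ω) ∈ T
    rw [inv_mul_cancel]; exact one_mem _⟩
  mul_mem' := by
    rintro a b ⟨ha, hai, haP⟩ ⟨hb, hbi, hbP⟩
    refine ⟨mul_mem ha hb, fun x => (hai _).trans (hbi x), fun x hx => ?_⟩
    have h1 := haP (b x) (apply_mem_centralizerIn_of_iff hP hbi x hx)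
    have h2 := T.mul_mem (hbP x hx) h1
    rwa [mul_assoc, mul_inv_cancel_left] at h2
  inv_mem' := by
    rintro a ⟨ha, hai, haP⟩
    have hii : ∀ x, (a⁻¹ x : Ω) ∈ P ↔ (x : Ω) ∈ P := fun x => by
      have h := hai (a⁻¹ x)
      rw [MulAut.apply_inv_self] at h
      exact h.symm
    refine ⟨inv_mem ha, hii, fun x hx => ?_⟩
    have h1 := inv_mem (haP (a⁻¹ x) (apply_mem_centralizerIn_of_iff hP hii x hx))
    rw [MulAut.apply_inv_self, mul_inv_rev, inv_inv] at h1
    exact h1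

/-- `a` extends over `C_S(P)` with displacement in `T`. -/
def DispLift (F : FusionSystem S) (T P : Subgroup Ω) (a : MulAut P) : Prop :=
  ∃ (hP : P ≤ S) (β : MulAut (cenSup S P)), β ∈ dispGroup F T hP ∧ Agrees β a

theorem DispLift.mul {P : Subgroup Ω} {a b : MulAut P} (ha : DispLift F T P a)
    (hb : DispLift F T P b) : DispLift F T P (a * b) := by
  obtain ⟨hP, β, hβ, hag⟩ := ha
  obtain ⟨hP', γ, hγ, hgag⟩ := hb
  refine ⟨hP, β * γ, mul_mem hβ hγ, fun y => ?_⟩
  rw [MulAut.mul_apply, MulAut.mul_apply,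
    show γ (Subgroup.inclusion le_sup_left y) = Subgroup.inclusion le_sup_left (b y) from
      Subtype.ext (hgag y)]
  exact hag _

theorem DispLift.inv {P : Subgroup Ω} {a : MulAut P} (ha : DispLift F T P a) :
    DispLift F T P a⁻¹ := by
  obtain ⟨hP, β, hβ, hag⟩ := ha
  refine ⟨hP, β⁻¹, inv_mem hβ, fun y => ?_⟩
  have h1 := hag (a⁻¹ y)
  rw [MulAut.apply_inv_self] at h1
  rw [show Subgroup.inclusion le_sup_left y = β (Subgroup.inclusion le_sup_left (a⁻¹ y)) from
    Subtype.ext h1.symm, MulAut.inv_apply_self]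
  rfl

theorem dispLift_one {P : Subgroup Ω} (hP : P ≤ S) : DispLift F T P 1 :=
  ⟨hP, 1, one_mem _, fun _ => rfl⟩

/-- The automorphisms with a displacement lift. -/
def dispLiftGroup (F : FusionSystem S) (T : Subgroup Ω) {P : Subgroup Ω} (hP : P ≤ S) :
    Subgroup (MulAut P) where
  carrier := {a | DispLift F T P a}
  one_mem' := dispLift_one hP
  mul_mem' := DispLift.mul
  inv_mem' := DispLift.inv

/-- A displacement lift of order prime to `p`. -/
theorem DispLift.exists_coprime [Fact p.Prime] [Finite S] {P : Subgroup Ω} {a : MulAut P}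
    (ha : DispLift F T P a) (hco : (orderOf a).Coprime p) :
    ∃ (hP : P ≤ S) (β : MulAut (cenSup S P)),
      β ∈ dispGroup F T hP ∧ Agrees β a ∧ (orderOf β).Coprime p := by
  obtain ⟨hP, β, hβ, hag⟩ := ha
  haveI := finite_mulAut (S := S) (cenSup_le hP)
  obtain ⟨n, hn, hnag⟩ := TrivialAction.exists_coprime_extension
    (le_sup_left : P ≤ cenSup S P) hag hco
  exact ⟨hP, β ^ n, pow_mem hβ n, hnag, hn⟩

/-- A displacement lift of a conjugate is a lift of the conjugate. -/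
theorem DispLift.conj [Fact p.Prime] [Finite S] (hS : IsPGroup p S) (hF : F.IsSaturated p)
    (hT : F.StronglyClosed T) {P : Subgroup Ω} (hP : F.IsFullyCentralized P) {g a : MulAut P}
    (hg : g ∈ F.autGroup P) (ha : DispLift F T P a) : DispLift F T P (g * a * g⁻¹) := by
  obtain ⟨hPS, β, hβ, hag⟩ := ha
  obtain ⟨γ, hγ, hγi, hγag⟩ := exists_lift_aut hS hF hP hg
  have hγi' : ∀ x, (γ⁻¹ x : Ω) ∈ P ↔ (x : Ω) ∈ P := fun x => by
    have h := hγi (γ⁻¹ x)
    rw [MulAut.apply_inv_self] at h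
    exact h.symm
  refine ⟨hPS, γ * β * γ⁻¹, ⟨mul_mem (mul_mem hγ hβ.1) (inv_mem hγ),
    fun x => (hγi _).trans ((hβ.2.1 _).trans (hγi' x)), fun x hx => ?_⟩, fun y => ?_⟩
  · have hw := apply_mem_centralizerIn_of_iff hPS hγi' x hx
    have h1 := stronglyClosed_map hT (autGroup_hom_mem (cenSup_le hPS) hγ)
      ((γ⁻¹ x)⁻¹ * β (γ⁻¹ x)) (hβ.2.2 _ hw)
    rw [autHom_apply, map_mul, map_inv, MulAut.apply_inv_self, Subgroup.coe_mul,
      Subgroup.coe_inv] at h1
    exact h1
  · obtain ⟨z, rfl⟩ := g.surjective y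
    rw [MulAut.mul_apply, MulAut.mul_apply, MulAut.mul_apply, MulAut.mul_apply,
      MulAut.inv_apply_self,
      show Subgroup.inclusion le_sup_left (g z) = γ (Subgroup.inclusion le_sup_left z) from
        Subtype.ext (hγag z).symm, MulAut.inv_apply_self,
      show β (Subgroup.inclusion le_sup_left z) = Subgroup.inclusion le_sup_left (a z) from
        Subtype.ext (hag z)]
    exact hγag _

/-- The automorphisms induced by `T` have displacement lifts. -/
theorem dispLift_conjAut (hT : F.StronglyClosed T) {P : Subgroup Ω} (hP : P ≤ S) {t : Ω}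
    (ht : t ∈ T) (htP : t ∈ Subgroup.normalizer (P : Set Ω)) :
    DispLift F T P (conjAut P t htP) := by
  have htS : t ∈ S := hT.1 ht
  have htW : t ∈ Subgroup.normalizer (cenSup S P : Set Ω) := by
    have h2 : conjSub t P = P := conjSub_eq_self_iff.2 htP
    have h3 : conjSub t (centralizerIn S P) = centralizerIn S P := by
      rw [conjSub_centralizerIn htS, h2]
    refine conjSub_eq_self_iff.1 ?_
    show (P ⊔ centralizerIn S P).map _ = _
    rw [Subgroup.map_sup]
    exact congrArg₂ (· ⊔ ·) h2 h3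
  refine ⟨hP, conjAut (cenSup S P) t htW, ⟨autInducedBy_le_autGroup (cenSup_le hP)
    (mem_autInducedBy.2 ⟨t, htS, fun _ => rfl⟩),
    fun x => (Subgroup.mem_normalizer_iff.1 htP x).symm, fun x hx => ?_⟩, fun y => rfl⟩
  have h1 := stronglyClosed_conj hT (inv_mem hx.1) ht
  rw [inv_inv] at h1
  have e : (x : Ω)⁻¹ * (conjAut (cenSup S P) t htW x : Ω) = (x : Ω)⁻¹ * t * (x : Ω) * t⁻¹ := by
    show (x : Ω)⁻¹ * (t * (x : Ω) * t⁻¹) = _
    group
  rw [e]
  exact T.mul_mem h1 (T.inv_mem ht)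

/-- The automorphisms generated by `p`-elements of `Aut_E(P)` have displacement lifts. -/
theorem pGen_le_dispLiftGroup [Fact p.Prime] [Finite S] (hS : IsPGroup p S)
    (hF : F.IsSaturated p) (hT : F.StronglyClosed T) (hEF : E.IsSubsystemOf F)
    (hE : E.IsSaturated p) {P : Subgroup Ω} (hPT : P ≤ T) (hP : F.IsFullyNormalized P) :
    pGen E p P ≤ dispLiftGroup F T hP.1 := by
  haveI : Finite T := finite_of_le hT.1
  haveI := finite_mulAut (S := S) hP.1
  have hTp : IsPGroup p T := hS.to_le hT.1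
  have hPfc := isFullyCentralized_of_isFullyNormalized hS hF hP
  obtain ⟨-, hsyl⟩ := isFullyAutomized_iff.1 (isFullyAutomized_of_isFullyNormalized hTp hE
    (isFullyNormalized_subsystem hS hF hEF hT hPT hP))
  refine (Subgroup.closure_le _).2 ?_
  rintro b ⟨hb, k, hk⟩
  obtain ⟨i, -, hi⟩ := (Nat.dvd_prime_pow Fact.out).1 (orderOf_dvd_of_pow_eq_one hk)
  obtain ⟨γ, hγ, hle⟩ := hsyl.exists_conj_le (IsPGroup.of_card (n := i)
    ((Nat.card_zpowers _).trans hi)) (Subgroup.zpowers_le.2 hb)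
  obtain ⟨t, htN, ht, htx⟩ := mem_autInducedBy_normalizer.1
    (hle ⟨_, Subgroup.mem_zpowers _, rfl⟩)
  have h1 := DispLift.conj hS hF hT hPfc (inv_mem (autGroup_mono hEF P hγ))
    (dispLift_conjAut hT hP.1 ht htN)
  rw [← htx, inv_inv] at h1
  have e : γ⁻¹ * (MulAut.conj γ).toMonoidHom b * γ = b := by
    show γ⁻¹ * (γ * b * γ⁻¹) * γ = b
    group
  rwa [e] at h1

/-- Displacement lifts are transported back along maps onto fully centralized subgroups. -/
theorem DispLift.transport [Fact p.Prime] [Finite S] (hS : IsPGroup p S) (hF : F.IsSaturated p)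
    {P R : Subgroup Ω} (hPT : P ≤ T) {θ : P →* Ω} (hθ : θ ∈ F.Hom P) (hr : θ.range = R)
    (hR : F.IsFullyCentralized R) (hRc : centralizerIn T R ≤ R) {a : MulAut P} {b : MulAut R}
    (hab : ∀ (x : P) (h : θ x ∈ R), θ (a x) = (b ⟨θ x, h⟩ : Ω)) (hb : DispLift F T R b) :
    DispLift F T P a := by
  obtain ⟨hRS, β, hβ, hβb⟩ := hb
  have hPS := src_le hθ
  obtain ⟨ψ, hψ, hag⟩ := (isReceptive_of_isFullyCentralized hS hF hR).2 P θ hθ hr
  have hsub := sup_centralizerIn_le_extender hθ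
  set Θ := ψ.comp (Subgroup.inclusion hsub) with hΘdef
  have hΘ : Θ ∈ F.Hom (cenSup S P) := restrict_mem hψ hsub
  have hΘP : ∀ y : P, Θ (Subgroup.inclusion le_sup_left y) = θ y := fun y => hag y y.2 _
  have himg : imgSub Θ P = R := by
    rw [imgSub_of_agree (φ := θ) le_sup_left fun x hP hN => hΘP ⟨x, hP⟩, hr]
  have hΘC : ∀ x : cenSup S P, (x : Ω) ∈ centralizerIn S P → Θ x ∈ centralizerIn S R := by
    intro x hx
    have h := apply_mem_centralizerIn (P := P) hΘ x hx.2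
    rwa [himg] at h
  have hval : ∀ x, Θ x ∈ cenSup S R := hom_sup_mem Θ
    (fun y => Subgroup.mem_sup_left (by rw [hΘP]; exact hr.le ⟨y, rfl⟩))
    (fun y => Subgroup.mem_sup_right (hΘC _ y.2))
  haveI : Finite (cenSup S P) := finite_of_le (cenSup_le hPS)
  obtain ⟨χ, hχ, hχx⟩ := exists_comp hΘ (autGroup_hom_mem (cenSup_le hRS) hβ.1) hval
  obtain ⟨τ, hτ, hτr, hτx, -⟩ := exists_inverse hΘ rfl
  -- the displacement on `C_S(P)` is the image of an element of `P`
  have hdisp : ∀ x : cenSup S P, (x : Ω) ∈ centralizerIn S P → ∃ y : P,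
      χ x = Θ (x * Subgroup.inclusion le_sup_left y) := by
    intro x hx
    have h1 := hΘC x hx
    have h2 := hβ.2.2 ⟨Θ x, hval x⟩ h1
    have h3 := apply_mem_centralizerIn_of_iff hRS hβ.2.1 ⟨Θ x, hval x⟩ h1
    have h4 := hRc ⟨h2, Subgroup.mul_mem _ (Subgroup.inv_mem _ h1.2) h3.2⟩
    obtain ⟨y, hy⟩ := hr.ge h4
    refine ⟨y, ?_⟩
    rw [map_mul, hΘP, hy, hχx, autHom_apply, mul_inv_cancel_left]
  have hχP : ∀ y : P, χ (Subgroup.inclusion le_sup_left y) =
      Θ (Subgroup.inclusion le_sup_left (a y)) := by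
    intro y
    rw [hΘP (a y), hab y (hr.le ⟨y, rfl⟩), ← hβb, hχx, autHom_apply]
    exact congrArg (fun z : cenSup S R => (β z : Ω)) (Subtype.ext (hΘP y))
  have hmem : ∀ x, χ x ∈ Θ.range := hom_sup_mem χ
    (fun y => ⟨_, (hχP y).symm⟩)
    (fun y => by
      obtain ⟨w, hw⟩ := hdisp (Subgroup.inclusion le_sup_right y) y.2
      exact ⟨_, hw.symm⟩)
  obtain ⟨μ, hμ, hμx⟩ := exists_comp hχ hτ hmem
  have hμv : ∀ x, μ x ∈ cenSup S P := fun x => by
    rw [hμx]
    exact hτr.le ⟨_, rfl⟩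
  obtain ⟨δ, hδ, hδx⟩ := exists_aut_of_hom hμ hμv
  have hval2 : ∀ (x z : cenSup S P), χ x = Θ z → (δ x : Ω) = z := by
    intro x z h
    rw [hδx, hμx]
    exact (congrArg τ (Subtype.ext h : (⟨χ x, hmem x⟩ : Θ.range) = ⟨Θ z, z, rfl⟩)).trans
      (hτx z _)
  have hδP : Agrees δ a := fun y => (hval2 _ _ (hχP y))
  refine ⟨hPS, δ, ⟨hδ, iff_of_restrict _ hδP, fun x hx => ?_⟩, hδP⟩
  obtain ⟨y, hy⟩ := hdisp x hx
  rw [hval2 x _ hy]
  show (x : Ω)⁻¹ * ((x : Ω) * (y : Ω)) ∈ T
  rw [inv_mul_cancel_left]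
  exact hPT y.2

end Cfsg.Agent.Lib.Fusion
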