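/-
The maps of a normal subsystem over `T` lift with displacement in `T`: for a fully normalized
`R ≤ T` every element of `Aut_E(R)` extends to `R C_S(R)` moving `C_S(R)` inside cosets of `T`.
-/
import Cfsg.Agent.Lib.Fusion.DispLift

set_option autoImplicit false
set_option linter.style.haveILetI false

namespace Cfsg.Agent.Lib.Fusion

open Cfsg Cfsg.FusionSystem

universe u

variable {Ω : Type u} [Group Ω] {S T : Subgroup Ω} {F : FusionSystem S} {E : FusionSystem T}
  {p : ℕ}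

/-- `Aut_E(P)` is normalized by `Aut_F(P)` for a strongly invariant `E`. -/
theorem conj_mem_autGroup_of_stronglyInvariant [Finite S] (hTS : T ≤ S)
    (hstr : StronglyInvariant E F) {P : Subgroup Ω} (hPT : P ≤ T) {g a : MulAut P}
    (hg : g ∈ F.autGroup P) (ha : a ∈ E.autGroup P) : g * a * g⁻¹ ∈ E.autGroup P := by
  obtain ⟨χ, hχ, hχx⟩ := hstr P P le_rfl hPT (autHom a) (autGroup_hom_mem hPT ha)
    (fun x => (a x).2) (autHom g) (autGroup_hom_mem (hPT.trans hTS) hg)
  have hr : P ≤ imgSub (autHom g) P := by rw [imgSub_self, range_autHom]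
  refine (mem_autGroup hPT).2 (mem_of_restrict hχ hr fun y => ?_)
  obtain ⟨z, rfl⟩ := g.surjective y
  refine Eq.trans ?_ ((hχx z (hr (g z).2)).symm.trans (congrArg χ (Subtype.ext rfl)))
  show ((g * a * g⁻¹) (g z) : Ω) = _
  rw [MulAut.mul_apply, MulAut.mul_apply, MulAut.inv_apply_self]
  rfl

/-- `N_T(R)` is `T`-centric for `R` fully normalized. -/
theorem tCentric_normalizerIn [Fact p.Prime] [Finite S] (hS : IsPGroup p S) (hF : F.IsSaturated p)
    (hT : F.StronglyClosed T) {R : Subgroup Ω} (hRT : R ≤ T) (hR : F.IsFullyNormalized R) :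
    TCentric F T (normalizerIn T R) := by
  haveI : Finite T := finite_of_le hT.1
  haveI : Finite (centralizerIn T R) := finite_centralizerIn (S := T) R
  refine ⟨inf_le_left, fun φ hφ hφr => ?_⟩
  have hRN : R ≤ normalizerIn T R := le_normalizerIn hRT
  have hCN : centralizerIn T R ≤ normalizerIn T R := fun x hx =>
    ⟨hx.1, mem_normalizer_of_mem_centralizer hx.2⟩
  set R' := imgSub φ R with hR'
  have hR'T : R' ≤ T := (imgSub_le_range φ).trans hφr
  haveI : Finite (centralizerIn T R') := finite_centralizerIn (S := T) R'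
  obtain ⟨χ, hχ, hχN, hχR⟩ := exists_map_to_fullyNormalized hS hF hR
    (isConj_symm (isConj_imgSub hφ hRN))
  have hCN' : centralizerIn T R' ≤ normalizerIn S R' := fun x hx =>
    ⟨hT.1 hx.1, mem_normalizer_of_mem_centralizer hx.2⟩
  have hcard : Nat.card (centralizerIn T R') ≤ Nat.card (centralizerIn T R) := by
    refine Nat.card_le_card_of_injective (fun x => (⟨χ (Subgroup.inclusion hCN' x), ?_⟩ :
      centralizerIn T R)) fun u v h => Subgroup.inclusion_injective hCN'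
        (F.injective_of_mem hχ (congrArg Subtype.val h))
    refine ⟨stronglyClosed_map hT hχ _ x.2.1, ?_⟩
    have h := apply_mem_centralizerIn (P := R') hχ (Subgroup.inclusion hCN' x) x.2.2
    rw [hχR] at h
    exact h.2
  have hle : imgSub φ (centralizerIn T R) ≤ centralizerIn T R' := by
    intro y hy
    obtain ⟨x, hx, rfl⟩ := mem_imgSub.1 hy
    exact ⟨stronglyClosed_map hT hφ _ hx.1, (apply_mem_centralizerIn (P := R) hφ x hx.2).2⟩
  have heq := Subgroup.eq_of_le_of_card_ge hle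
    (hcard.trans (card_imgSub (F.injective_of_mem hφ) hCN).ge)
  intro y hy
  refine imgSub_le_range φ (heq.ge ⟨hy.1, Subgroup.centralizer_le ?_ hy.2⟩)
  exact imgSub_le_range φ

/-- The extension step. -/
theorem dispLift_of_normalizer [Fact p.Prime] [Finite S] (hS : IsPGroup p S)
    (hE : E.IsNormalIn F p) {R : Subgroup Ω} (hRT : R ≤ T) (hR : F.IsFullyNormalized R)
    (hN : ∀ a ∈ E.autGroup (normalizerIn T R), DispLift F T (normalizerIn T R) a)
    {a : MulAut R} (hco : (orderOf a).Coprime p) {a' : MulAut (normalizerIn T R)}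
    (ha' : a' ∈ E.autGroup (normalizerIn T R))
    (hag : ∀ (x : R) (h : (x : Ω) ∈ normalizerIn T R), (a' ⟨x, h⟩ : Ω) = a x) :
    DispLift F T R a := by
  classical
  obtain ⟨hEs, hF, hinv⟩ := id hE.1
  have hEF := hinv.1
  have hTc := hinv.2.1
  have hTS := hTc.1
  have hstr := stronglyInvariant_of_isWeaklyNormalIn hS hE.1
  have hST := stronglyClosed_le_normalizer hTc
  haveI : Finite T := finite_of_le hTS
  have hTp : IsPGroup p T := hS.to_le hTS
  revert a' hN
  set N := normalizerIn T R with hNdef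
  set C := centralizerIn S R with hCdef
  intro hN a' ha' hag
  have hRS := hR.1
  have hNT : N ≤ T := inf_le_left
  have hNNS : N ≤ normalizerIn S R := inf_le_inf_right _ hTS
  have hNS : N ≤ S := hNNS.trans inf_le_left
  have hRN : R ≤ N := le_normalizerIn hRT
  haveI : Finite N := finite_of_le hNS
  haveI : Finite R := finite_of_le hRS
  haveI := finite_mulAut (S := S) hNS
  have hCNS : C ≤ normalizerIn S R := fun x hx =>
    ⟨hx.1, mem_normalizer_of_mem_centralizer hx.2⟩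
  have hNC : C ≤ Subgroup.normalizer (N : Set Ω) := fun c hc =>
    conjSub_eq_self_iff.1 (show conjSub c (T ⊓ Subgroup.normalizer (R : Set Ω)) =
      T ⊓ Subgroup.normalizer (R : Set Ω) by
      rw [conjSub_inf, conjSub_eq_self_iff.2 (hST hc.1)]
      exact congrArg (T ⊓ ·) (conjSub_eq_self_iff.2
        (Subgroup.le_normalizer (mem_normalizer_of_mem_centralizer hc.2))))
  -- closedness of `N`
  have hclN : ∀ φ ∈ F.Hom N, (∀ x : N, (x : Ω) ∈ R → φ x ∈ R) → φ.range ≤ N := by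
    rintro φ hφ hφR _ ⟨x, rfl⟩
    refine ⟨stronglyClosed_map hTc hφ x (hNT x.2), ?_⟩
    have h := apply_mem_normalizerIn (P := R) hφ x x.2.2
    have e : imgSub φ R = R := imgSub_eq_of_le_of_card hφ hRN (fun y hy => by
      obtain ⟨z, hz, rfl⟩ := mem_imgSub.1 hy
      exact hφR z hz) le_rfl
    rw [e] at h
    exact h.2
  have hsylF := isSylowIn_stabAut hS hF hR hRN hNNS hclN
  have hsylE : IsSylowIn p (autInducedBy N N) (stabAut E N R) :=
    isSylowIn_stabAut hTp hEs (isFullyNormalized_subsystem hS hF hEF hTc hRT hR) hRN le_rfl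
      fun φ hφ h => hclN φ (hEF _ hφ) h
  let K : Subgroup (MulAut N) := stabAut F N R ⊓ fixSub N R
  let Δ : Subgroup (MulAut N) := stabAut E N R ⊓ fixSub N R
  have hpres : ∀ g ∈ stabAut F N R, ∀ x : N, (x : Ω) ∈ R → (g⁻¹ x : Ω) ∈ R := by
    intro g hg x hx
    exact (((stabAut F N R).inv_mem hg).2 x).2 hx
  have hKn : ∀ k ∈ stabAut F N R, ∀ h ∈ K, k * h * k⁻¹ ∈ K := fun k hk h hh =>
    ⟨mul_mem (mul_mem hk hh.1) (Subgroup.inv_mem _ hk), conj_mem_fixSub hh.2 (hpres k hk)⟩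
  have hΔn : ∀ k ∈ stabAut F N R, ∀ h ∈ Δ, k * h * k⁻¹ ∈ Δ := fun k hk h hh =>
    ⟨⟨conj_mem_autGroup_of_stronglyInvariant hTS hstr hNT hk.1 hh.1.1,
      (mul_mem (mul_mem hk (⟨autGroup_mono hEF N hh.1.1, hh.1.2⟩ : h ∈ stabAut F N R))
        (Subgroup.inv_mem _ hk)).2⟩, conj_mem_fixSub hh.2 (hpres k hk)⟩
  have hACK : autInducedBy C N ≤ K := by
    intro c hc
    obtain ⟨g, hgN, hg, rfl⟩ := mem_autInducedBy_normalizer.1 hc
    refine ⟨hsylF.1 (autInducedBy_mono hCNS hc), fun x hx => Subtype.ext ?_⟩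
    show g * (x : Ω) * g⁻¹ = x
    rw [← hg.2 x hx, mul_inv_cancel_right]
  have hAC : IsSylowIn p (autInducedBy C N) K := by
    have h := isSylowIn_inf_of_normalized hsylF inf_le_left hKn
    refine h.of_card_eq ((isPGroup_autInducedBy hS).to_le (autInducedBy_mono inf_le_left)) hACK
      (le_antisymm (h.card_le ((isPGroup_autInducedBy hS).to_le (autInducedBy_mono inf_le_left))
        hACK) (Subgroup.card_le_of_le ?_))
    rintro c ⟨hc, hck⟩
    obtain ⟨g, hgN, hg, rfl⟩ := mem_autInducedBy_normalizer.1 hc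
    refine mem_autInducedBy.2 ⟨g, ⟨hg.1, fun y hy => ?_⟩, fun x => rfl⟩
    have h1 : g * y * g⁻¹ = y := congrArg Subtype.val (hck.2 ⟨y, hRN hy⟩ hy)
    calc y * g = g * y * g⁻¹ * g := by rw [h1]
      _ = g * y := by group
  -- the Frattini step
  have hiff : ∀ x : N, (a' x : Ω) ∈ R ↔ (x : Ω) ∈ R :=
    iff_of_restrict hRN fun y => hag y (hRN y.2)
  have ha's : a' ∈ stabAut E N R := ⟨ha', hiff⟩
  have ha'F : a' ∈ stabAut F N R := ⟨autGroup_mono hEF N ha', hiff⟩
  let L : Subgroup (MulAut N) := autInducedBy C N ⊔ Δ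
  have hΔK : Δ ≤ K := fun h hh => ⟨⟨autGroup_mono hEF N hh.1.1, hh.1.2⟩, hh.2⟩
  have hLsyl : IsSylowIn p (autInducedBy C N) L := hAC.of_le le_sup_left (sup_le hACK hΔK)
  have hconjL : (autInducedBy C N).map (MulAut.conj a').toMonoidHom ≤ L := by
    rintro _ ⟨c, hc, rfl⟩
    have hcK := hACK hc
    have h1 : a' * c * a'⁻¹ * c⁻¹ ∈ Δ := by
      refine ⟨⟨?_, (mul_mem (mul_mem (mul_mem ha'F hcK.1) (Subgroup.inv_mem _ ha'F))
        (Subgroup.inv_mem _ hcK.1)).2⟩, mul_mem (conj_mem_fixSub hcK.2 (hpres a' ha'F)) (Subgroup.inv_mem _ hcK.2)⟩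
      have h2 := mul_mem ha' (conj_mem_autGroup_of_stronglyInvariant hTS hstr hNT hcK.1.1
        (Subgroup.inv_mem _ ha'))
      rwa [← mul_assoc, ← mul_assoc] at h2
    show a' * c * a'⁻¹ ∈ L
    have h3 := mul_mem (Subgroup.mem_sup_right h1 : _ ∈ L) (Subgroup.mem_sup_left hc : c ∈ L)
    rwa [inv_mul_cancel_right] at h3
  obtain ⟨l, hl, hle⟩ := hLsyl.exists_conj_le (hAC.2.1.map _) hconjL
  have hnorm : autInducedBy C N ≤ Subgroup.normalizer (Δ : Set (MulAut N)) := by
    refine fun c hc => Subgroup.mem_normalizer_iff.2 fun h => ⟨hΔn c (hACK hc).1 h, fun hh => ?_⟩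
    have h2 := hΔn c⁻¹ (Subgroup.inv_mem _ (hACK hc).1) _ hh
    rwa [inv_inv, show c⁻¹ * (c * h * c⁻¹) * c = h by group] at h2
  replace hl : l ∈ ((autInducedBy C N ⊔ Δ : Subgroup (MulAut N)) : Set (MulAut N)) := hl
  rw [Subgroup.coe_mul_of_left_le_normalizer_right _ _ hnorm] at hl
  obtain ⟨c₀, hc₀, δ, hδ, rfl⟩ := hl
  set b₁ := δ * a' with hb₁
  have hb₁n : ∀ c ∈ autInducedBy C N, b₁ * c * b₁⁻¹ ∈ autInducedBy C N := by
    intro c hc
    have h1 := hle ⟨_, ⟨c, hc, rfl⟩, rfl⟩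
    have h2 := mul_mem (mul_mem (Subgroup.inv_mem _ (SetLike.mem_coe.1 hc₀)) h1) (SetLike.mem_coe.1 hc₀)
    have e : c₀⁻¹ * (c₀ * δ * (a' * c * a'⁻¹) * (c₀ * δ)⁻¹) * c₀ = b₁ * c * b₁⁻¹ := by
      rw [hb₁]; group
    rw [← e]
    exact h2
  have hb₁R : ∀ y : R, (b₁ (Subgroup.inclusion hRN y) : Ω) = a y := by
    intro y
    have h1 := hag y (hRN y.2)
    rw [hb₁, MulAut.mul_apply, (SetLike.mem_coe.1 hδ).2 _ (by
      show (a' (Subgroup.inclusion hRN y) : Ω) ∈ R
      rw [show Subgroup.inclusion hRN y = ⟨(y : Ω), hRN y.2⟩ from rfl, h1]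
      exact (a y).2)]
    exact h1
  obtain ⟨n, hbco, hbR⟩ := TrivialAction.exists_coprime_extension (p := p) hRN hb₁R hco
  set b := b₁ ^ n with hbdef
  have hbE : b ∈ E.autGroup N := pow_mem (mul_mem (SetLike.mem_coe.1 hδ).1.1 ha') n
  have hbn : ∀ c ∈ autInducedBy C N, b * c * b⁻¹ ∈ autInducedBy C N := by
    suffices h : ∀ m : ℕ, ∀ c ∈ autInducedBy C N, b₁ ^ m * c * (b₁ ^ m)⁻¹ ∈ autInducedBy C N
      from h n
    intro m
    induction m with
    | zero => intro c hc; simpa using hc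
    | succ m ih =>
      intro c hc
      rw [pow_succ', show b₁ * b₁ ^ m * c * (b₁ * b₁ ^ m)⁻¹ =
        b₁ * (b₁ ^ m * c * (b₁ ^ m)⁻¹) * b₁⁻¹ by group]
      exact hb₁n _ (ih c hc)
  have hbiff := iff_of_restrict hRN hbR
  -- elements of `C` acting on `N` inside `E`
  have hkey : ∀ g (hg : g ∈ C), conjAut N g (hNC hg) ∈ E.autGroup N →
      ∃ t ∈ centralizerIn T R, t⁻¹ * g ∈ centralizerIn S N := by
    intro g hg hgE
    have hgK := hACK (mem_autInducedBy.2 ⟨g, hg, fun _ => rfl⟩ :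
      conjAut N g (hNC hg) ∈ autInducedBy C N)
    have hp : IsPGroup p (autInducedBy (normalizerIn S R) N ⊓ stabAut E N R :
        Subgroup (MulAut N)) := hsylF.2.1.to_le inf_le_left
    have heq := hsylE.eq_of_le hp inf_le_right
      (le_inf (autInducedBy_mono hNNS) hsylE.1)
    obtain ⟨t, ht, htx⟩ := mem_autInducedBy.1 (heq.ge ⟨autInducedBy_mono hCNS
      (mem_autInducedBy.2 ⟨g, hg, fun _ => rfl⟩), hgE, hgK.1.2⟩)
    have htx' : ∀ x ∈ N, g * x * g⁻¹ = t * x * t⁻¹ := fun x hx => htx ⟨x, hx⟩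
    refine ⟨t, ⟨hNT ht, fun y hy => ?_⟩,
      S.mul_mem (S.inv_mem (hNS ht)) hg.1, fun x hx => ?_⟩
    · have h1 := htx' y (hRN hy)
      rw [← hg.2 y hy, mul_inv_cancel_right] at h1
      calc y * t = t * y * t⁻¹ * t := by rw [← h1]
        _ = t * y := by group
    · calc x * (t⁻¹ * g) = t⁻¹ * (t * x * t⁻¹) * g := by group
        _ = t⁻¹ * (g * x * g⁻¹) * g := by rw [htx' x hx]
        _ = t⁻¹ * g * x := by group
  -- a lift at `N`
  set W := cenSup S N with hW
  obtain ⟨hNS', β, hβ, hβb, hβco⟩ := DispLift.exists_coprime (hN b hbE) hbco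
  have hNW : N ≤ W := le_sup_left
  have hCSN : centralizerIn S N ≤ C := centralizerIn_anti hRN
  have hWNS : W ≤ normalizerIn S R := sup_le hNNS (hCSN.trans hCNS)
  have hWS : W ≤ S := hWNS.trans inf_le_left
  have hRW : R ≤ W := hRN.trans hNW
  haveI : Finite W := finite_of_le hWS
  haveI := finite_mulAut (S := S) hWS
  have hclW : ∀ φ ∈ F.Hom W, (∀ x : W, (x : Ω) ∈ R → φ x ∈ R) → φ.range ≤ W := by
    intro φ hφ hφR
    have hr : (φ.comp (Subgroup.inclusion hNW)).range ≤ N :=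
      hclN _ (restrict_mem hφ hNW) fun x hx => hφR _ hx
    have himg : imgSub φ N = N := imgSub_eq_of_le_of_card hφ hNW (fun y hy => by
      obtain ⟨z, hz, rfl⟩ := mem_imgSub.1 hy
      exact hr ⟨⟨z, hz⟩, rfl⟩) le_rfl
    rintro _ ⟨x, rfl⟩
    refine hom_sup_mem φ (fun y => Subgroup.mem_sup_left (hr ⟨y, rfl⟩)) (fun y => ?_) x
    have h := apply_mem_centralizerIn (P := N) hφ (Subgroup.inclusion le_sup_right y) y.2.2
    rw [himg] at h
    exact Subgroup.mem_sup_right h
  have hsylW := isSylowIn_stabAut hS hF hR hRW hWNS hclW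
  have hWmod : β ∈ modSub W T := by
    intro x
    have hle : W ≤ (({ carrier := {y | ∃ hy : y ∈ W, y⁻¹ * (β ⟨y, hy⟩ : Ω) ∈ T}
                       one_mem' := ⟨one_mem _, by
                        rw [show (⟨1, one_mem _⟩ : W) = 1 from rfl, map_one]; simp⟩
                       mul_mem' := by
                        rintro u v ⟨hu, hu'⟩ ⟨hv, hv'⟩
                        refine ⟨mul_mem hu hv, ?_⟩
                        rw [show (⟨u * v, mul_mem hu hv⟩ : W) = ⟨u, hu⟩ * ⟨v, hv⟩ from rfl,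
                          map_mul, Subgroup.coe_mul]
                        have h1 := stronglyClosed_conj hTc (Subgroup.inv_mem _ (hWS hv)) hu'
                        rw [inv_inv] at h1
                        have h2 := T.mul_mem h1 hv'
                        rwa [show v⁻¹ * (u⁻¹ * (β ⟨u, hu⟩ : Ω)) * v * (v⁻¹ * (β ⟨v, hv⟩ : Ω)) =
                          (u * v)⁻¹ * ((β ⟨u, hu⟩ : Ω) * (β ⟨v, hv⟩ : Ω)) by group] at h2
                       inv_mem' := by
                        rintro u ⟨hu, hu'⟩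
                        refine ⟨Subgroup.inv_mem _ hu, ?_⟩
                        rw [show (⟨u⁻¹, Subgroup.inv_mem _ hu⟩ : W) = ⟨u, hu⟩⁻¹ from rfl, map_inv,
                          Subgroup.coe_inv, inv_inv]
                        have h1 := stronglyClosed_conj hTc (hWS hu) (T.inv_mem hu')
                        rwa [show u * (u⁻¹ * (β ⟨u, hu⟩ : Ω))⁻¹ * u⁻¹ =
                          u * (β ⟨u, hu⟩ : Ω)⁻¹ by group] at h1 } : Subgroup Ω)) := by
      refine sup_le (fun y hy => ⟨hNW hy, T.mul_mem (T.inv_mem (hNT hy)) ?_⟩) fun y hy =>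
        ⟨Subgroup.mem_sup_right hy, hβ.2.2 ⟨y, Subgroup.mem_sup_right hy⟩ hy⟩
      exact stronglyClosed_map hTc (autGroup_hom_mem hWS hβ.1) ⟨y, hNW hy⟩ (hNT hy)
    obtain ⟨_, h⟩ := hle x.2
    exact h
  let G₀ : Subgroup (MulAut W) := (stabAut F W R ⊓ fixSub W N) ⊓ modSub W T
  have hG₀n : ∀ k ∈ stabAut F W R, ∀ h ∈ G₀, k * h * k⁻¹ ∈ G₀ := by
    intro k hk h hh
    have hkT : ∀ x : W, (x : Ω) ∈ T → (k x : Ω) ∈ T :=
      fun x hx => stronglyClosed_map hTc (autGroup_hom_mem hWS hk.1) x hx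
    refine ⟨⟨mul_mem (mul_mem hk hh.1.1) (Subgroup.inv_mem _ hk), conj_mem_fixSub hh.1.2 fun x hx => ?_⟩,
      conj_mem_modSub hh.2 hkT⟩
    exact ⟨stronglyClosed_map hTc (autGroup_hom_mem hWS (Subgroup.inv_mem _ hk.1)) x (hNT hx),
      (hWNS (k⁻¹ x).2).2⟩
  have hG₀p : IsPGroup p G₀ := by
    refine Fusion87.isPGroup_of_coprime_trivial fun u hu => ?_
    rw [← Subgroup.orderOf_coe] at hu
    refine Subtype.ext (MulEquiv.ext fun y => ?_)
    exact Fusion87.fix_of_step (p := p) _ hu y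
      (u.2.1.2 _ ⟨u.2.2 y, (hWNS (y⁻¹ * (u : MulAut W) y).2).2⟩) ((hS.to_le hWS) _)
  have hG₀syl : G₀ ≤ autInducedBy (normalizerIn S R) W := by
    obtain ⟨k, hk, hkle⟩ := hsylW.exists_conj_le hG₀p (fun _ h => h.1.1)
    intro γ hγ
    have h := hG₀n k⁻¹ (Subgroup.inv_mem _ hk) γ hγ
    rw [inv_inv] at h
    have h1 := hkle ⟨_, h, rfl⟩
    change k * (k⁻¹ * γ * k) * k⁻¹ ∈ _ at h1
    rwa [show k * (k⁻¹ * γ * k) * k⁻¹ = γ by group] at h1
  have hCW : C ≤ Subgroup.normalizer (W : Set Ω) := fun c hc => by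
    refine conjSub_eq_self_iff.1 ?_
    show (N ⊔ centralizerIn S N).map _ = _
    rw [Subgroup.map_sup]
    refine congrArg₂ (· ⊔ ·) (conjSub_eq_self_iff.2 (hNC hc)) ?_
    show conjSub c (centralizerIn S N) = _
    rw [conjSub_centralizerIn hc.1, conjSub_eq_self_iff.2 (hNC hc)]
  have hβN : ∀ y : N, β (Subgroup.inclusion hNW y) = Subgroup.inclusion hNW (b y) :=
    fun y => Subtype.ext (hβb y)
  have hβR : β ∈ stabAut F W R := ⟨hβ.1, iff_of_restrict hRW (α := a) fun y => by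
    rw [show Subgroup.inclusion hRW y = Subgroup.inclusion hNW (Subgroup.inclusion hRN y) from rfl,
      hβN]
    exact hbR y⟩
  have hconjC : ∀ c (hc : c ∈ C),
      β * conjAut W c (hCW hc) * β⁻¹ ∈ autInducedBy (normalizerIn S R) W := by
    intro c hc
    obtain ⟨c₁, hc₁, hc₁x⟩ := mem_autInducedBy.1
      (hbn _ (mem_autInducedBy.2 ⟨c, hc, fun x => rfl⟩ : conjAut N c (hNC hc) ∈ _))
    have hg : c₁ * c⁻¹ ∈ C := mul_mem hc₁ (Subgroup.inv_mem _ hc)
    have hgE : conjAut N (c₁ * c⁻¹) (hNC hg) ∈ E.autGroup N := by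
      have e : conjAut N (c₁ * c⁻¹) (hNC hg) =
          b * (conjAut N c (hNC hc) * b⁻¹ * (conjAut N c (hNC hc))⁻¹) := by
        refine MulEquiv.ext fun x => ?_
        obtain ⟨z, rfl⟩ := (conjAut N c (hNC hc)).surjective x
        simp only [MulAut.mul_apply, MulAut.inv_apply_self]
        refine Subtype.ext ?_
        have h1 := hc₁x z
        simp only [MulAut.mul_apply] at h1
        rw [h1]
        show c₁ * c⁻¹ * (c * (z : Ω) * c⁻¹) * (c₁ * c⁻¹)⁻¹ = _
        group
      rw [e]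
      exact mul_mem hbE (conj_mem_autGroup_of_stronglyInvariant hTS hstr hNT
        (hACK (mem_autInducedBy.2 ⟨c, hc, fun _ => rfl⟩)).1.1 (Subgroup.inv_mem _ hbE))
    obtain ⟨t, ht, htg⟩ := hkey _ hg hgE
    have htS := hTS ht.1
    have htC : t ∈ C := ⟨htS, ht.2⟩
    set κ := conjAut W c (hCW hc) with hκ
    set τ := conjAut W t (hCW htC) with hτ
    set d := τ⁻¹ * (β * κ * β⁻¹ * κ⁻¹) with hd
    have hstabC : ∀ g (hg : g ∈ C), conjAut W g (hCW hg) ∈ stabAut F W R := fun g hg =>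
      hsylW.1 (mem_autInducedBy.2 ⟨g, hCNS hg, fun _ => rfl⟩)
    have hdG : d ∈ G₀ := by
      refine ⟨⟨mul_mem (Subgroup.inv_mem _ (hstabC t htC))
        (mul_mem (mul_mem (mul_mem hβR (hstabC c hc)) (Subgroup.inv_mem _ hβR)) (Subgroup.inv_mem _ (hstabC c hc))),
        fun x hx => ?_⟩, mul_mem (Subgroup.inv_mem _ fun x => ?_) ?_⟩
      · set x' : N := ⟨x, hx⟩ with hx'
        have hx'' : x = Subgroup.inclusion hNW x' := rfl
        obtain ⟨z, hz⟩ := (b * conjAut N c (hNC hc) * b⁻¹ * (conjAut N c (hNC hc))⁻¹).surjective x'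
        have e1 : (β * κ * β⁻¹ * κ⁻¹) x =
            Subgroup.inclusion hNW ((b * conjAut N c (hNC hc) * b⁻¹ *
              (conjAut N c (hNC hc))⁻¹) x') := by
          simp only [MulAut.mul_apply]
          have k1 : κ⁻¹ x = Subgroup.inclusion hNW ((conjAut N c (hNC hc))⁻¹ x') := by
            refine κ.injective ?_
            rw [MulAut.apply_inv_self]
            exact Subtype.ext (congrArg Subtype.val
              (MulAut.apply_inv_self _ (conjAut N c (hNC hc)) x')).symm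
          have k2 : ∀ y : N, β⁻¹ (Subgroup.inclusion hNW y) =
              Subgroup.inclusion hNW (b⁻¹ y) := fun y => by
            refine β.injective ?_
            rw [MulAut.apply_inv_self, hβN, MulAut.apply_inv_self]
          rw [k1, k2, show ∀ y : N, κ (Subgroup.inclusion hNW y) =
            Subgroup.inclusion hNW (conjAut N c (hNC hc) y) from fun y => rfl, hβN]
        rw [hd, MulAut.mul_apply, e1]
        refine τ.injective ?_
        rw [MulAut.apply_inv_self]
        refine Subtype.ext ?_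
        have h1 := hc₁x ((conjAut N c (hNC hc))⁻¹ x')
        simp only [MulAut.mul_apply] at h1 ⊢
        show _ = t * (x : Ω) * t⁻¹
        refine h1.trans ?_
        have h2 : (((conjAut N c (hNC hc))⁻¹ x' : N) : Ω) = c⁻¹ * (x : Ω) * c := by
          have h3 : c * (((conjAut N c (hNC hc))⁻¹ x' : N) : Ω) * c⁻¹ = x :=
            congrArg Subtype.val (MulAut.apply_inv_self _ (conjAut N c (hNC hc)) x')
          rw [← h3]; group
        rw [h2]
        have h4 : (x : Ω) * (t⁻¹ * (c₁ * c⁻¹)) = t⁻¹ * (c₁ * c⁻¹) * (x : Ω) := htg.2 x hx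
        calc c₁ * (c⁻¹ * (x : Ω) * c) * c₁⁻¹
            = t * (t⁻¹ * (c₁ * c⁻¹) * (x : Ω)) * (c₁ * c⁻¹)⁻¹ := by group
          _ = t * ((x : Ω) * (t⁻¹ * (c₁ * c⁻¹))) * (c₁ * c⁻¹)⁻¹ := by rw [h4]
          _ = t * (x : Ω) * t⁻¹ := by group
      · have h1 := stronglyClosed_conj hTc (Subgroup.inv_mem _ (hWS x.2)) ht.1
        rw [inv_inv] at h1
        show (x : Ω)⁻¹ * (t * (x : Ω) * t⁻¹) ∈ T
        rw [show (x : Ω)⁻¹ * (t * (x : Ω) * t⁻¹) = (x : Ω)⁻¹ * t * (x : Ω) * t⁻¹ by group]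
        exact T.mul_mem h1 (T.inv_mem ht.1)
      · rw [show β * κ * β⁻¹ * κ⁻¹ = β * (κ * β⁻¹ * κ⁻¹) by group]
        exact mul_mem hWmod (conj_mem_modSub (Subgroup.inv_mem _ hWmod) fun x hx =>
          stronglyClosed_map hTc (autGroup_hom_mem hWS (hstabC c hc).1) x hx)
    have e : β * κ * β⁻¹ = τ * d * κ := by rw [hd]; group
    rw [e]
    exact mul_mem (mul_mem (mem_autInducedBy.2 ⟨t, hCNS htC, fun _ => rfl⟩) (hG₀syl hdG))
      (mem_autInducedBy.2 ⟨c, hCNS hc, fun _ => rfl⟩)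
  set M := C ⊔ W with hM
  have hWM : W ≤ M := le_sup_right
  have hMNS : M ≤ normalizerIn S R := sup_le hCNS hWNS
  have hMS : M ≤ S := hMNS.trans inf_le_left
  haveI : Finite M := finite_of_le hMS
  haveI := finite_mulAut (S := S) hMS
  have hMn : M ≤ Subgroup.normalizer (W : Set Ω) := sup_le hCW Subgroup.le_normalizer
  have hmove : ∀ g (hg : g ∈ M),
      β * conjAut W g (hMn hg) * β⁻¹ ∈ autInducedBy (normalizerIn S R) W := by
    intro g hg
    have hg' : g ∈ ((C ⊔ W : Subgroup Ω) : Set Ω) := hg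
    rw [Subgroup.coe_mul_of_left_le_normalizer_right _ _ hCW] at hg'
    obtain ⟨c, hc, w, hw, rfl⟩ := hg'
    have e : conjAut W (c * w) (hMn hg) =
        conjAut W c (hCW hc) * conjAut W w (Subgroup.le_normalizer hw) :=
      MulEquiv.ext fun x => Subtype.ext (show c * w * (x : Ω) * (c * w)⁻¹ =
        c * (w * (x : Ω) * w⁻¹) * c⁻¹ by group)
    rw [e, show β * (conjAut W c (hCW hc) * conjAut W w (Subgroup.le_normalizer hw)) * β⁻¹ =
      (β * conjAut W c (hCW hc) * β⁻¹) *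
        (β * conjAut W w (Subgroup.le_normalizer hw) * β⁻¹) by group]
    refine mul_mem (hconjC c hc) (mem_autInducedBy.2 ⟨(β ⟨w, hw⟩ : Ω), hWNS (β ⟨w, hw⟩).2,
      fun x => ?_⟩)
    obtain ⟨z, rfl⟩ := β.surjective x
    rw [MulAut.mul_apply, MulAut.mul_apply, MulAut.inv_apply_self]
    show _ = (β ⟨w, hw⟩ : Ω) * (β z : Ω) * (β ⟨w, hw⟩ : Ω)⁻¹
    rw [← Subgroup.coe_inv, ← map_inv, ← Subgroup.coe_mul, ← Subgroup.coe_mul, ← map_mul,
      ← map_mul]
    rfl
  obtain ⟨ψ, hψ, hψβ, hψN⟩ := exists_extend_stab hS hF hR hRW hWNS hclW hβR hWM hMNS hMn hmove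
  have hψR : imgSub ψ R = R := by
    refine imgSub_eq_of_le_of_card hψ (hRW.trans hWM) (fun y hy => ?_) le_rfl
    obtain ⟨z, hz, rfl⟩ := mem_imgSub.1 hy
    rw [show z = Subgroup.inclusion hWM ⟨z, hRW hz⟩ from Subtype.ext rfl, hψβ]
    exact (hβR.2 _).2 hz
  obtain ⟨μ, hμ, hμx⟩ := exists_aut_of_hom hψ (hom_sup_mem ψ
    (fun y => Subgroup.mem_sup_left (by
      have h := apply_mem_centralizerIn (P := R) hψ (Subgroup.inclusion le_sup_left y) y.2.2
      rwa [hψR] at h))
    (fun y => Subgroup.mem_sup_right (by rw [hψβ]; exact (β y).2)))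
  obtain ⟨m, hmco, hmW⟩ := TrivialAction.exists_coprime_extension (p := p) hWM
    (fun y => (hμx _).trans (hψβ y)) hβco
  set ν := μ ^ m with hν
  have hνF : ν ∈ F.autGroup M := pow_mem hμ m
  have hνh := autGroup_hom_mem hMS hνF
  have hRM : R ≤ M := hRW.trans hWM
  have hνR : ∀ y : R, (ν (Subgroup.inclusion hRM y) : Ω) = a y := fun y => by
    rw [show Subgroup.inclusion hRM y = Subgroup.inclusion hWM (Subgroup.inclusion hRW y) from rfl,
      hmW, show Subgroup.inclusion hRW y = Subgroup.inclusion hNW (Subgroup.inclusion hRN y)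
        from rfl, hβN]
    exact hbR y
  have hνimg : imgSub (autHom ν) R = R := by
    refine imgSub_eq_of_le_of_card hνh hRM (fun y hy => ?_) le_rfl
    obtain ⟨z, hz, rfl⟩ := mem_imgSub.1 hy
    exact (iff_of_restrict hRM hνR z).2 hz
  have hνC : ∀ x : M, (x : Ω) ∈ C → (ν x : Ω) ∈ C := fun x hx => by
    have h := apply_mem_centralizerIn (P := R) hνh x hx.2
    rw [hνimg] at h
    exact h
  haveI hTn : (T.subgroupOf M).Normal :=
    ⟨fun t ht g => (Subgroup.mem_normalizer_iff.1 (hST (hMS g.2)) t).1 ht⟩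
  let π := QuotientGroup.mk' (T.subgroupOf M)
  have hπ : ∀ w, π w = 1 ↔ (w : Ω) ∈ T := fun w => QuotientGroup.eq_one_iff w
  have hπeq : ∀ u v : M, (u : Ω)⁻¹ * (v : Ω) ∈ T → π v = π u := fun u v h => by
    have h1 : π (u⁻¹ * v) = 1 := (hπ _).2 h
    rw [map_mul, map_inv, inv_mul_eq_one] at h1
    exact h1.symm
  have hker : ∀ w, π w = 1 → π (ν w) = 1 := fun w hw =>
    (hπ _).2 (stronglyClosed_map hTc hνh w ((hπ w).1 hw))
  have hfin : ∀ x : M, (x : Ω) ∈ C → (x : Ω)⁻¹ * (ν x : Ω) ∈ T := by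
    intro x hx
    set q := x⁻¹ * ν x with hq
    have hqC : (q : Ω) ∈ C := C.mul_mem (C.inv_mem hx) (hνC x hx)
    have hqE : conjAut N (q : Ω) (hNC hqC) ∈ E.autGroup N := by
      have e : conjAut N (q : Ω) (hNC hqC) =
          ((conjAut N x (hNC hx))⁻¹ * b * (conjAut N x (hNC hx))⁻¹⁻¹) * b⁻¹ := by
        refine MulEquiv.ext fun y => ?_
        obtain ⟨z, rfl⟩ := b.surjective y
        rw [MulAut.mul_apply, MulAut.inv_apply_self, MulAut.mul_apply, MulAut.mul_apply, inv_inv]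
        refine (conjAut N x (hNC hx)).injective ?_
        rw [MulAut.apply_inv_self]
        refine Subtype.ext ?_
        show (x : Ω) * ((x : Ω)⁻¹ * (ν x : Ω) * (b z : Ω) * ((x : Ω)⁻¹ * (ν x : Ω))⁻¹) *
          (x : Ω)⁻¹ = _
        have hbν : ∀ u : N, (ν (Subgroup.inclusion hWM (Subgroup.inclusion hNW u)) : Ω) = b u :=
          fun u => by rw [hmW, hβN]; rfl
        rw [← hbν z, ← hbν (conjAut N x (hNC hx) z)]
        rw [show Subgroup.inclusion hWM (Subgroup.inclusion hNW (conjAut N x (hNC hx) z)) =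
          x * Subgroup.inclusion hWM (Subgroup.inclusion hNW z) * x⁻¹ from Subtype.ext rfl,
          map_mul, map_mul, map_inv, Subgroup.coe_mul, Subgroup.coe_mul, Subgroup.coe_inv]
        group
      rw [e]
      exact mul_mem (conj_mem_autGroup_of_stronglyInvariant hTS hstr hNT
        (Subgroup.inv_mem _ (hACK (mem_autInducedBy.2 ⟨(x : Ω), hx, fun _ => rfl⟩)).1.1) hbE) (Subgroup.inv_mem _ hbE)
    obtain ⟨t, ht, htq⟩ := hkey _ hqC hqE
    have hqW : (q : Ω) ∈ W := by
      have h := W.mul_mem (hNW ⟨ht.1, mem_normalizer_of_mem_centralizer ht.2⟩)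
        (Subgroup.mem_sup_right htq)
      rwa [mul_inv_cancel_left] at h
    have hqfix : π (ν q) = π q := by
      refine hπeq _ _ ?_
      have h := hWmod ⟨q, hqW⟩
      rwa [← hmW ⟨q, hqW⟩] at h
    have h1 := TrivialAction.map_eq_one_of_coprime (hS.to_le hMS) π ν hmco hker (x := x) (q := q)
      (by rw [hq, map_mul, map_inv, mul_inv_cancel_left]) hqfix
    exact (hπ q).1 h1
  have hle : cenSup S R ≤ M := sup_le hRM le_sup_left
  haveI : Finite (cenSup S R) := finite_of_le (cenSup_le hRS)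
  obtain ⟨ξ, hξ, hξx⟩ := exists_aut_of_hom (restrict_mem hνh hle) (hom_sup_mem _
    (fun y => Subgroup.mem_sup_left (by
      show (ν (Subgroup.inclusion hRM y) : Ω) ∈ R
      rw [hνR]
      exact (a y).2))
    (fun y => Subgroup.mem_sup_right (hνC _ y.2)))
  have hξR : Agrees ξ a := fun y => (hξx _).trans (hνR y)
  refine ⟨hRS, ξ, ⟨hξ, iff_of_restrict _ hξR, fun x hx => ?_⟩, hξR⟩
  rw [hξx]
  exact hfin (Subgroup.inclusion hle x) hx

/-- **Displacement lifts exist** for a normal subsystem. -/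
theorem exists_dispLift [Fact p.Prime] [Finite S] (hS : IsPGroup p S) (hE : E.IsNormalIn F p)
    {R : Subgroup Ω} (hRT : R ≤ T) (hR : F.IsFullyNormalized R) {a : MulAut R}
    (ha : a ∈ E.autGroup R) : DispLift F T R a := by
  classical
  obtain ⟨hEs, hF, hinv⟩ := id hE.1
  have hEF := hinv.1
  have hTc := hinv.2.1
  have hTS := hTc.1
  have hstr := stronglyInvariant_of_isWeaklyNormalIn hS hE.1
  haveI : Finite T := finite_of_le hTS
  have hTp : IsPGroup p T := hS.to_le hTS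
  suffices key : ∀ n, ∀ R : Subgroup Ω, Nat.card T - Nat.card R ≤ n → R ≤ T →
      F.IsFullyNormalized R → ∀ a ∈ E.autGroup R, DispLift F T R a from
    key _ R le_rfl hRT hR a ha
  clear ha a hR hRT R
  intro n
  induction n using Nat.strong_induction_on with
  | _ n ih =>
  intro R hn hRT hR a ha
  by_cases hRe : R = T
  · subst hRe
    obtain ⟨β, hβ, hag⟩ := exists_trivLift_top hE ha
    exact ⟨hTS, β, ⟨hβ.1, hβ.2.1, fun x hx => hβ.2.2 x hx⟩, hag⟩
  set N := normalizerIn T R with hNdef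
  have hlt : Nat.card R < Nat.card N := Fusion87.card_lt_normalizerIn hTp hRT hRe
  have hNT : N ≤ T := inf_le_left
  haveI : Finite N := finite_of_le (hNT.trans hTS)
  haveI : Finite R := finite_of_le hR.1
  haveI := finite_mulAut (S := S) hR.1
  have hN : ∀ a ∈ E.autGroup N, DispLift F T N a := by
    intro a ha
    obtain ⟨N', ⟨θ, hθ, hr⟩, hN'⟩ := exists_isFullyNormalized_conj F (hNT.trans hTS)
    have hN'T : N' ≤ T := by
      rw [← hr]
      rintro _ ⟨x, rfl⟩
      exact stronglyClosed_map hTc hθ x (hNT x.2)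
    obtain ⟨χ, hχ, hχx⟩ := hstr N N le_rfl hNT (autHom a) (autGroup_hom_mem hNT ha)
      (fun y => (a y).2) θ hθ
    set e := isoOnto θ (F.injective_of_mem hθ) hr with he
    have hb : MulAut.congr e a ∈ E.autGroup N' := by
      refine (mem_autGroup hN'T).2 ?_
      have hle : N' ≤ imgSub θ N := by rw [imgSub_self]; exact hr.ge
      refine mem_congr (restrict_mem hχ hle) fun y => ?_
      obtain ⟨x, rfl⟩ := e.surjective y
      refine Eq.trans ?_ ((congrArg χ (Subtype.ext rfl : Subgroup.inclusion hle (e x) =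
        ⟨_, apply_mem_imgSub θ x x.2⟩)).trans (hχx x _)).symm
      show (e (a (e.symm (e x))) : Ω) = θ (a x)
      rw [e.symm_apply_apply]
      rfl
    have hc : Nat.card N' = Nat.card N := isConj_card ⟨θ, hθ, hr⟩
    have hle := Subgroup.card_le_of_le hNT
    have hL := ih (Nat.card T - Nat.card N') (by omega) N' le_rfl hN'T hN' _ hb
    have hc' : centralizerIn T N' ≤ N' := by
      have h := (tCentric_normalizerIn hS hF hTc hRT hR).2 θ hθ (hr.le.trans hN'T)
      rwa [hr] at h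
    refine DispLift.transport hS hF hNT hθ hr (isFullyCentralized_of_isFullyNormalized hS hF hN')
      hc' (fun x h => ?_) hL
    show θ (a x) = (e (a (e.symm ⟨θ x, h⟩)) : Ω)
    rw [show (⟨θ x, h⟩ : N') = e x from rfl, e.symm_apply_apply]
    rfl
  have hREn := isFullyNormalized_subsystem hS hF hEF hTc hRT hR
  obtain ⟨-, hsyl⟩ := isFullyAutomized_iff.1 (isFullyAutomized_of_isFullyNormalized hTp hEs hREn)
  have hpG : ∀ c ∈ pGen E p R, DispLift F T R c := pGen_le_dispLiftGroup hS hF hTc hEF hEs hRT hR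
  -- elements of order prime to `p` normalizing `Aut_T(R)`
  have hnorm : ∀ c ∈ E.autGroup R, (orderOf c).Coprime p →
      (∀ g ∈ autInducedBy T R, c * g * c⁻¹ ∈ autInducedBy T R) → DispLift F T R c := by
    intro c hc hco hcn
    obtain ⟨ψ, hψ, hag⟩ := (isReceptive_of_isFullyNormalized hTp hEs hREn).2 R (autHom c)
      (autGroup_hom_mem hRT hc) (range_autHom _)
    have hext : N ≤ extender T R (autHom c) := fun g hg => mem_extender_of_conj_mem hg.1 hg.2
      (hcn _ (mem_autInducedBy.2 ⟨g, hg.1, fun _ => rfl⟩))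
    have hψN := restrict_mem hψ hext
    have hRN : R ≤ N := le_normalizerIn hRT
    have himg : imgSub (ψ.comp (Subgroup.inclusion hext)) R = R := by
      rw [imgSub_of_agree (φ := autHom c) hRN fun x hP hN' => hag x hP (hext hN'), range_autHom]
    obtain ⟨c', hc', hc'x⟩ := exists_aut_of_hom hψN fun y => by
      have h := apply_mem_normalizerIn hψN y y.2.2 (P := R)
      rwa [himg] at h
    exact dispLift_of_normalizer hS hE hRT hR hN hco hc'
      fun x h => (hc'x _).trans (hag x x.2 (hext h))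
  -- decomposition
  have hpow : ∀ (c : MulAut R) (k : ℕ), c ^ p ^ k ∈ dispLiftGroup F T hR.1 →
      c ^ orderOf (c ^ p ^ k) ∈ dispLiftGroup F T hR.1 → (orderOf (c ^ p ^ k)).Coprime p →
        DispLift F T R c := by
    intro c k h1 h2 hk
    set m := orderOf (c ^ p ^ k)
    have hg : Nat.gcd (p ^ k) m = 1 := (Nat.Coprime.pow_right k hk).symm
    have e : c = (c ^ p ^ k) ^ Nat.gcdA (p ^ k) m * (c ^ m) ^ Nat.gcdB (p ^ k) m := by
      rw [← zpow_natCast c (p ^ k), ← zpow_natCast c m, ← zpow_mul, ← zpow_mul, ← zpow_add,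
        ← Nat.gcd_eq_gcd_ab, hg, Nat.cast_one, zpow_one]
    rw [e]
    exact mul_mem (Subgroup.zpow_mem (dispLiftGroup F T hR.1) h1 _)
      (Subgroup.zpow_mem _ h2 _)
  have hAO : autInducedBy T R ≤ pGen E p R := fun g hg => Subgroup.subset_closure ⟨hsyl.1 hg, by
    obtain ⟨j, hj⟩ := hsyl.2.1 ⟨g, hg⟩
    exact ⟨j, congrArg Subtype.val hj⟩⟩
  have hconjle : (autInducedBy T R).map (MulAut.conj a).toMonoidHom ≤ pGen E p R := by
    rintro _ ⟨g, hg, rfl⟩
    refine Subgroup.subset_closure ⟨mul_mem (mul_mem ha (hsyl.1 hg)) (Subgroup.inv_mem _ ha), ?_⟩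
    obtain ⟨j, hj⟩ := hsyl.2.1 ⟨g, hg⟩
    refine ⟨j, ?_⟩
    show (MulAut.conj a g) ^ p ^ j = 1
    rw [← map_pow, show g ^ p ^ j = 1 from congrArg Subtype.val hj, map_one]
  obtain ⟨o, ho, hle⟩ := (hsyl.of_le hAO (pGen_le E p R)).exists_conj_le (hsyl.2.1.map _) hconjle
  set c := o * a with hcdef
  have hcn : ∀ g ∈ autInducedBy T R, c * g * c⁻¹ ∈ autInducedBy T R := by
    intro g hg
    have h1 := hle ⟨_, ⟨g, hg, rfl⟩, rfl⟩
    have e : c * g * c⁻¹ = o * (a * g * a⁻¹) * o⁻¹ := by rw [hcdef]; group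
    rw [e]
    exact h1
  have hcE : c ∈ E.autGroup R := mul_mem (pGen_le E p R ho) ha
  obtain ⟨k, hk⟩ := Transfer.exists_pow_coprime (p := p) c
  have hcn' : ∀ m : ℕ, ∀ g ∈ autInducedBy T R, c ^ m * g * (c ^ m)⁻¹ ∈ autInducedBy T R := by
    intro m
    induction m with
    | zero => intro g hg; simpa using hg
    | succ m ihm =>
      intro g hg
      rw [pow_succ', show c * c ^ m * g * (c * c ^ m)⁻¹ = c * (c ^ m * g * (c ^ m)⁻¹) * c⁻¹ by
        group]
      exact hcn _ (ihm g hg)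
  have hc : DispLift F T R c := hpow c k (hnorm _ (pow_mem hcE _) hk (hcn' _))
    (hpG _ (Subgroup.subset_closure ⟨pow_mem hcE _, k, by
      rw [← pow_mul, mul_comm, pow_mul, pow_orderOf_eq_one]⟩)) hk
  have h := (hpG o ho).inv.mul hc
  rwa [hcdef, inv_mul_cancel_left] at h

end Cfsg.Agent.Lib.Fusion
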