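/-
The automorphisms common to two normal subsystems: their `p`-parts modulo `O^p` come from the
intersection of the underlying subgroups, and extensions of order prime to `p` are unique enough
to stay common.
-/
import Cfsg.Agent.Lib.Fusion.DispLiftExists
import Cfsg.Agent.S5093

set_option autoImplicit false
set_option linter.style.haveILetI false

namespace Cfsg.Agent.Lib.Fusion

open Cfsg Cfsg.FusionSystem

universe u

variable {Ω : Type u} [Group Ω] {S T T₁ T₂ : Subgroup Ω} {F : FusionSystem S}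
  {E : FusionSystem T} {E₁ : FusionSystem T₁} {E₂ : FusionSystem T₂} {p : ℕ}

/-- The automorphisms of `Q` in both systems. -/
abbrev commonAut (E₁ : FusionSystem T₁) (E₂ : FusionSystem T₂) (Q : Subgroup Ω) :
    Subgroup (MulAut Q) := E₁.autGroup Q ⊓ E₂.autGroup Q

/-- A subgroup element of `Aut_S(Q)` lying in `Aut_E(Q)` is induced by `T`. -/
theorem mem_autInducedBy_of_mem_autGroup [Fact p.Prime] [Finite S] (hS : IsPGroup p S)
    (hE : E.IsWeaklyNormalIn F p) {Q : Subgroup Ω} (hQT : Q ≤ T) (hQ : F.IsFullyNormalized Q)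
    {g : MulAut Q} (hg : g ∈ autInducedBy S Q) (hgE : g ∈ E.autGroup Q) :
    g ∈ autInducedBy T Q := by
  obtain ⟨hEs, hF, hinv⟩ := id hE
  have hTS := hinv.2.1.1
  haveI : Finite T := finite_of_le hTS
  haveI := finite_mulAut (S := S) hQ.1
  obtain ⟨-, hsyl⟩ := isFullyAutomized_iff.1 (isFullyAutomized_of_isFullyNormalized
    (hS.to_le hTS) hEs (isFullyNormalized_subsystem hS hF hinv.1 hinv.2.1 hQT hQ))
  have h := hsyl.eq_of_le ((isPGroup_autInducedBy hS).to_le inf_le_left :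
    IsPGroup p (autInducedBy S Q ⊓ E.autGroup Q : Subgroup (MulAut Q))) inf_le_right
    (le_inf (autInducedBy_mono hTS) hsyl.1)
  exact h.ge ⟨hg, hgE⟩

/-- The `p`-elements of `O^p` of the common automorphism group of a fully normalized subgroup are
induced by the intersection. -/
theorem mem_autInducedBy_inf_of_pResidual [Fact p.Prime] [Finite S] (hS : IsPGroup p S)
    (h₁ : E₁.IsNormalIn F p) (h₂ : E₂.IsNormalIn F p) {Q : Subgroup Ω} (hQ₁ : Q ≤ T₁)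
    (hQ₂ : Q ≤ T₂) (hQ : F.IsFullyNormalized Q) :
    (pResidual p (commonAut E₁ E₂ Q)).map (commonAut E₁ E₂ Q).subtype ⊓ autInducedBy S Q ≤
      autInducedBy (T₁ ⊓ T₂) Q := by
  classical
  obtain ⟨hE₁, hF, hinv₁⟩ := id h₁.1
  obtain ⟨hE₂, -, hinv₂⟩ := id h₂.1
  have hT₁ := hinv₁.2.1
  have hT₂ := hinv₂.2.1
  have hstr₁ := stronglyInvariant_of_isWeaklyNormalIn hS h₁.1
  have hstr₂ := stronglyInvariant_of_isWeaklyNormalIn hS h₂.1
  have hQS := hQ.1
  set W := cenSup S Q with hW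
  have hQW : Q ≤ W := le_sup_left
  have hWN : W ≤ normalizerIn S Q := sup_le (le_normalizerIn hQS)
    fun x hx => ⟨hx.1, mem_normalizer_of_mem_centralizer hx.2⟩
  have hWS : W ≤ S := cenSup_le hQS
  haveI : Finite W := finite_of_le hWS
  haveI : Finite Q := finite_of_le hQS
  haveI := finite_mulAut (S := S) hWS
  haveI := finite_mulAut (S := S) hQS
  have hcl : ∀ φ ∈ F.Hom W, (∀ x : W, (x : Ω) ∈ Q → φ x ∈ Q) → φ.range ≤ W := by
    intro φ hφ hφQ
    have himg : imgSub φ Q = Q := imgSub_eq_of_le_of_card hφ hQW (fun y hy => by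
      obtain ⟨z, hz, rfl⟩ := mem_imgSub.1 hy
      exact hφQ z hz) le_rfl
    rintro _ ⟨x, rfl⟩
    refine hom_sup_mem φ (fun y => Subgroup.mem_sup_left (hφQ _ y.2)) (fun y => ?_) x
    have h := apply_mem_centralizerIn (P := Q) hφ (Subgroup.inclusion le_sup_right y) y.2.2
    rw [himg] at h
    exact Subgroup.mem_sup_right h
  have hsyl := isSylowIn_stabAut hS hF hQ hQW hWN hcl
  set X := commonAut E₁ E₂ Q with hX
  let G₀ : Subgroup (MulAut W) :=
    (X.comap (resAut hQW)).map (stabSub W Q).subtype ⊓ dispGroup F T₁ hQS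
  have hG₀st : G₀ ≤ stabAut F W Q := fun g hg => ⟨hg.2.1, hg.2.2.1⟩
  have hXn : ∀ k ∈ F.autGroup Q, ∀ h ∈ X, k * h * k⁻¹ ∈ X := fun k hk h hh =>
    ⟨conj_mem_autGroup_of_stronglyInvariant hT₁.1 hstr₁ hQ₁ hk hh.1,
      conj_mem_autGroup_of_stronglyInvariant hT₂.1 hstr₂ hQ₂ hk hh.2⟩
  have hG₀n : ∀ k ∈ stabAut F W Q, ∀ h ∈ G₀, k * h * k⁻¹ ∈ G₀ := by
    intro k hk h hh
    obtain ⟨⟨h', hh', rfl⟩, hd⟩ := hh
    refine ⟨⟨⟨k, hk.2⟩ * h' * ⟨k, hk.2⟩⁻¹, ?_, rfl⟩,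
      mul_mem (mul_mem hk.1 hd.1) (Subgroup.inv_mem _ hk.1),
      fun x => (hk.2 _).trans ((hd.2.1 _).trans (((stabSub W Q).inv_mem hk.2) x)), fun x hx => ?_⟩
    · rw [SetLike.mem_coe, Subgroup.mem_comap, map_mul, map_mul, map_inv]
      exact hXn _ (resAut_mem hQW hWS ⟨k, hk.2⟩ hk.1) _ hh'
    · have hw := apply_mem_centralizerIn_of_iff hQS ((stabSub W Q).inv_mem hk.2) x hx
      have h1 := stronglyClosed_map hT₁ (autGroup_hom_mem hWS hk.1)
        ((k⁻¹ x)⁻¹ * (h' : MulAut W) (k⁻¹ x)) (hd.2.2 _ hw)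
      rw [autHom_apply, map_mul, map_inv, MulAut.apply_inv_self, Subgroup.coe_mul,
        Subgroup.coe_inv] at h1
      exact h1
  set P := autInducedBy (normalizerIn S Q) W ⊓ G₀ with hP
  have hPsyl : IsSylowIn p P G₀ := isSylowIn_inf_of_normalized hsyl hG₀st hG₀n
  let f : G₀ →* MulAut Q := (resAut hQW).comp (Subgroup.inclusion fun g hg => hg.2.2.1)
  have hf : ∀ (g : G₀) (y : Q),
      (f g y : Ω) = ((g : MulAut W) (Subgroup.inclusion hQW y) : Ω) := fun g y => rfl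
  have hfX : ∀ g, f g ∈ X := by
    intro g
    obtain ⟨h', hh', e⟩ := g.2.1
    have e' : h' = ⟨g, g.2.2.2.1⟩ := Subtype.ext e
    rw [SetLike.mem_coe, e'] at hh'
    exact hh'
  have hfsurj : ∀ a ∈ X, ∃ g, f g = a := by
    intro a ha
    obtain ⟨_, β, hβ, hag⟩ := exists_dispLift hS h₁ hQ₁ hQ ha.1
    have e : resAut hQW ⟨β, hβ.2.1⟩ = a := MulEquiv.ext fun y => Subtype.ext (hag y)
    refine ⟨⟨β, ⟨⟨β, hβ.2.1⟩, ?_, rfl⟩, hβ⟩, e⟩
    rw [SetLike.mem_coe, Subgroup.mem_comap, e]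
    exact ha
  -- the restriction of a focal element
  have hfocal : ∀ x g : G₀, (x : MulAut W) ∈ P → ((g * x * g⁻¹ : G₀) : MulAut W) ∈ P →
      f (x⁻¹ * (g * x * g⁻¹)) ∈ autInducedBy (T₁ ⊓ T₂) Q := by
    intro x g hx hxg
    obtain ⟨n, hnW, hn, hnx⟩ := mem_autInducedBy_normalizer.1 hx.1
    have hxQ : f x ∈ autInducedBy S Q := by
      refine mem_autInducedBy.2 ⟨n, hn.1, fun y => ?_⟩
      rw [hf, hnx]
      rfl
    obtain ⟨t₁, ht₁, ht₁x⟩ := mem_autInducedBy.1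
      (mem_autInducedBy_of_mem_autGroup hS h₁.1 hQ₁ hQ hxQ (hfX x).1)
    obtain ⟨t₂, ht₂, ht₂x⟩ := mem_autInducedBy.1
      (mem_autInducedBy_of_mem_autGroup hS h₂.1 hQ₂ hQ hxQ (hfX x).2)
    have hzgen : ∀ t, t ∈ S → (∀ y : Q, (f x y : Ω) = t * (y : Ω) * t⁻¹) →
        t⁻¹ * n ∈ centralizerIn S Q := by
      intro t htS htx
      refine ⟨S.mul_mem (S.inv_mem htS) hn.1, fun y hy => ?_⟩
      have h1 : n * y * n⁻¹ = t * y * t⁻¹ := by
        have h2 := htx ⟨y, hy⟩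
        rw [hf, hnx] at h2
        exact h2
      calc y * (t⁻¹ * n) = t⁻¹ * (t * y * t⁻¹) * n := by group
        _ = t⁻¹ * (n * y * n⁻¹) * n := by rw [h1]
        _ = t⁻¹ * n * y := by group
    have hz₁ := hzgen t₁ (hT₁.1 ht₁) ht₁x
    have hz₂ := hzgen t₂ (hT₂.1 ht₂) ht₂x
    set M := W ⊔ Subgroup.zpowers n with hM
    have hWM : W ≤ M := le_sup_left
    have hnM : n ∈ M := Subgroup.mem_sup_right (Subgroup.mem_zpowers n)
    have hMN : M ≤ normalizerIn S Q := sup_le hWN (Subgroup.zpowers_le.2 hn)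
    have hMn : M ≤ Subgroup.normalizer (W : Set Ω) :=
      sup_le Subgroup.le_normalizer (Subgroup.zpowers_le.2 hnW)
    let κ : Subgroup.normalizer (W : Set Ω) →* MulAut W :=
      (MulAut.conj (g : MulAut W)).toMonoidHom.comp (Subgroup.normalizerMonoidHom W)
    have hle : M ≤ ((autInducedBy (normalizerIn S Q) W).comap κ).map
        (Subgroup.normalizer (W : Set Ω)).subtype := by
      refine sup_le (fun w hw => ⟨⟨w, Subgroup.le_normalizer hw⟩, ?_, rfl⟩)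
        (Subgroup.zpowers_le.2 ⟨⟨n, hnW⟩, ?_, rfl⟩)
      · refine mem_autInducedBy.2 ⟨((g : MulAut W) ⟨w, hw⟩ : Ω), hWN ((g : MulAut W) ⟨w, hw⟩).2,
          fun y => ?_⟩
        obtain ⟨z, rfl⟩ := (g : MulAut W).surjective y
        show (((g : MulAut W) * conjAut W w (Subgroup.le_normalizer hw) * (g : MulAut W)⁻¹)
          ((g : MulAut W) z) : Ω) = _
        rw [MulAut.mul_apply, MulAut.mul_apply, MulAut.inv_apply_self, ← Subgroup.coe_inv,
          ← map_inv, ← Subgroup.coe_mul, ← Subgroup.coe_mul, ← map_mul, ← map_mul]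
        rfl
      · rw [SetLike.mem_coe, Subgroup.mem_comap]
        show (g : MulAut W) * conjAut W n hnW * (g : MulAut W)⁻¹ ∈ _
        rw [← hnx]
        exact hxg.1
    obtain ⟨ψ, hψ, hψg, -⟩ := exists_extend_stab hS hF hQ hQW hWN hcl (hG₀st g.2) hWM hMN hMn
      fun h hh => by
        obtain ⟨h', hh', e⟩ := hle hh
        obtain rfl : h' = ⟨h, hMn hh⟩ := Subtype.ext e
        exact hh'
    have hzW : ∀ z ∈ centralizerIn S Q, z ∈ W := fun z hz => Subgroup.mem_sup_right hz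
    have ht₁M : t₁ ∈ M := by
      have h := M.mul_mem hnM (hWM (hzW _ (Subgroup.inv_mem _ hz₁)))
      rwa [mul_inv_rev, inv_inv, mul_inv_cancel_left] at h
    have ht₂M : t₂ ∈ M := by
      have h := M.mul_mem hnM (hWM (hzW _ (Subgroup.inv_mem _ hz₂)))
      rwa [mul_inv_rev, inv_inv, mul_inv_cancel_left] at h
    have ha₁ : ψ ⟨t₁, ht₁M⟩ ∈ T₁ := stronglyClosed_map hT₁ hψ _ ht₁
    have ha₂ : ψ ⟨t₂, ht₂M⟩ ∈ T₂ := stronglyClosed_map hT₂ hψ _ ht₂
    have hwC : t₁⁻¹ * t₂ ∈ centralizerIn S Q := by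
      have h := Subgroup.mul_mem _ hz₁ (Subgroup.inv_mem _ hz₂)
      rwa [show t₁⁻¹ * n * (t₂⁻¹ * n)⁻¹ = t₁⁻¹ * t₂ by group] at h
    set w : W := ⟨t₁⁻¹ * t₂, hzW _ hwC⟩ with hw
    have hdisp : (w : Ω)⁻¹ * ((g : MulAut W) w : Ω) ∈ T₁ := g.2.2.2.2 w hwC
    set v := t₂⁻¹ * ψ ⟨t₂, ht₂M⟩ with hv
    have hv₁ : v ∈ T₁ := by
      have e : (⟨t₂, ht₂M⟩ : M) = ⟨t₁, ht₁M⟩ * Subgroup.inclusion hWM w :=
        Subtype.ext (mul_inv_cancel_left t₁ t₂).symm
      rw [hv, e, map_mul, hψg]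
      have h1 := T₁.mul_mem (stronglyClosed_conj hT₁ (S.inv_mem (hWS w.2))
        (T₁.mul_mem (T₁.inv_mem ht₁) ha₁)) hdisp
      rw [inv_inv] at h1
      have e2 : t₂⁻¹ * (ψ ⟨t₁, ht₁M⟩ * ((g : MulAut W) w : Ω)) =
          (w : Ω)⁻¹ * (t₁⁻¹ * ψ ⟨t₁, ht₁M⟩) * (w : Ω) * ((w : Ω)⁻¹ * ((g : MulAut W) w : Ω)) := by
        rw [hw]
        group
      rw [e2]
      exact h1
    refine mem_autInducedBy.2 ⟨v, ⟨hv₁, T₂.mul_mem (T₂.inv_mem ht₂) ha₂⟩, fun y => ?_⟩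
    have hconj : ∀ u : Q, (f (g * x * g⁻¹) u : Ω) =
        ψ ⟨t₂, ht₂M⟩ * (u : Ω) * (ψ ⟨t₂, ht₂M⟩)⁻¹ := by
      intro u
      obtain ⟨u', rfl⟩ := (f g).surjective u
      have e0 : f (g * x * g⁻¹) (f g u') = f g (f x u') := by
        rw [map_mul, map_mul, map_inv, MulAut.mul_apply, MulAut.mul_apply, MulAut.inv_apply_self]
      rw [e0, hf, hf, ← hψg, ← hψg]
      have e1 : Subgroup.inclusion hWM (Subgroup.inclusion hQW (f x u')) =
          ⟨t₂, ht₂M⟩ * Subgroup.inclusion hWM (Subgroup.inclusion hQW u') * ⟨t₂, ht₂M⟩⁻¹ :=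
        Subtype.ext (ht₂x u')
      rw [e1, map_mul, map_mul, map_inv]
    rw [map_mul, map_inv, MulAut.mul_apply]
    have h1 := ht₂x ((f x)⁻¹ (f (g * x * g⁻¹) y))
    rw [MulAut.apply_inv_self, hconj y] at h1
    calc (((f x)⁻¹ (f (g * x * g⁻¹) y) : Q) : Ω)
        = t₂⁻¹ * (t₂ * (((f x)⁻¹ (f (g * x * g⁻¹) y) : Q) : Ω) * t₂⁻¹) * t₂ := by group
      _ = v * (y : Ω) * v⁻¹ := by rw [← h1, hv]; group
  -- the Sylow subgroup of `O^p`
  set O := (pResidual p G₀).map G₀.subtype with hO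
  haveI : (pResidual p G₀).Characteristic := Transfer.pResidual_characteristic
  have hOG : O ≤ G₀ := Subgroup.map_subtype_le _
  have hOn : ∀ k ∈ G₀, ∀ h ∈ O, k * h * k⁻¹ ∈ O := by
    rintro k hk _ ⟨h, hh, rfl⟩
    exact ⟨⟨k, hk⟩ * h * ⟨k, hk⟩⁻¹, Subgroup.Normal.conj_mem inferInstance h hh ⟨k, hk⟩, rfl⟩
  have hPO := isSylowIn_inf_of_normalized hPsyl hOG hOn
  have hhyp : ∀ x : G₀, (x : MulAut W) ∈ P → x ∈ pResidual p G₀ →
      f x ∈ autInducedBy (T₁ ⊓ T₂) Q := by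
    intro x hxP hxO
    have h := Cfsg.Agent.S5093.result p hPsyl.toSylow
    have hmem : x ∈ (Cfsg.groupFusionSystem
        (hPsyl.toSylow : Subgroup G₀)).hyperfocalSubgroup p := by
      rw [h]
      exact ⟨hxP, hxO⟩
    refine (Subgroup.closure_le ((autInducedBy (T₁ ⊓ T₂) Q).comap f)).2 ?_ hmem
    rintro y ⟨R, α, z, hR, -, rfl⟩
    obtain ⟨-, hval, g, hg⟩ := autGroup_hom_mem hR α.2
    have e : (((α : MulAut R) z : R) : G₀) = g * (z : G₀) * g⁻¹ := hg z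
    rw [SetLike.mem_coe, Subgroup.mem_comap, e]
    refine hfocal _ g (hR z.2) ?_
    rw [← e]
    exact hR ((α : MulAut R) z).2
  rintro u ⟨⟨u', hu', rfl⟩, huS⟩
  -- `f` maps `O^p(G₀)` onto `O^p(X)`
  let f' : G₀ →* X := f.codRestrict X hfX
  have hsurj : pResidual p X ≤ (pResidual p G₀).map f' := by
    haveI : ((pResidual p G₀).map f').Normal := Subgroup.Normal.map inferInstance f' fun a => by
      obtain ⟨g, hg⟩ := hfsurj _ a.2
      exact ⟨g, Subtype.ext hg⟩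
    refine Transfer.pResidual_le_iff.2 fun a ha => ?_
    obtain ⟨g, hg⟩ := hfsurj _ a.2
    obtain ⟨k, hk⟩ := Transfer.exists_pow_coprime (p := p) g
    obtain ⟨m, hm⟩ := exists_pow_eq_self_of_coprime (Nat.Coprime.pow_right k ha).symm
    refine ⟨(g ^ p ^ k) ^ m, pow_mem (Transfer.mem_pResidual_of_coprime hk) m, ?_⟩
    have e : f' g = a := Subtype.ext hg
    rw [map_pow, map_pow, e, hm]
  obtain ⟨g₀, hg₀, hg₀u⟩ := hsurj hu'
  -- Sylow subgroups of the image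
  let O' : Subgroup (MulAut Q) := (pResidual p X).map X.subtype
  have hOimg : ((pResidual p G₀).map f) = O' := by
    refine le_antisymm ?_ ?_
    · rintro _ ⟨g, hg, rfl⟩
      exact ⟨f' g, Transfer.map_pResidual_le f' ⟨g, hg, rfl⟩, rfl⟩
    · rintro _ ⟨a, ha, rfl⟩
      obtain ⟨g, hg, e⟩ := hsurj ha
      exact ⟨g, hg, congrArg Subtype.val e⟩
  have hPO' : IsSylowIn p ((P ⊓ O).subgroupOf G₀) (pResidual p G₀) := by
    refine ⟨fun x hx => ?_, hPO.2.1.comap_subtype, ?_⟩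
    · obtain ⟨x', hx', e⟩ := hx.2
      exact (Subtype.ext e : x' = x) ▸ hx'
    · have e : pResidual p G₀ = O.subgroupOf G₀ :=
        (Subgroup.comap_map_eq_self_of_injective G₀.subtype_injective _).symm
      rw [e, Subgroup.relIndex_subgroupOf hOG]
      exact hPO.2.2
  have himg := hPO'.map f
  rw [hOimg] at himg
  have hle : ((P ⊓ O).subgroupOf G₀).map f ≤ autInducedBy S Q ⊓ O' := by
    refine le_inf ?_ himg.1
    rintro _ ⟨x, hx, rfl⟩
    obtain ⟨n, hnW, hn, hnx⟩ := mem_autInducedBy_normalizer.1 hx.1.1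
    refine mem_autInducedBy.2 ⟨n, hn.1, fun y => ?_⟩
    rw [hf, show (x : MulAut W) = conjAut W n hnW from hnx]
    rfl
  haveI : Finite O' := inferInstance
  have heq := himg.eq_of_le ((isPGroup_autInducedBy hS).to_le inf_le_left) inf_le_right hle
  obtain ⟨x, hx, hxu⟩ := heq.ge ⟨huS, ⟨u', hu', rfl⟩⟩
  rw [← hxu]
  refine hhyp x hx.1 ?_
  obtain ⟨x', hx', e⟩ := hx.2
  exact (Subtype.ext e : x' = x) ▸ hx'

/-- An extension of order prime to `p` of an automorphism extendable in `E` lies in `E`. -/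
theorem mem_autGroup_of_extension [Fact p.Prime] [Finite S] (hS : IsPGroup p S)
    {V Q N : Subgroup Ω} (hTS : T ≤ S) (hEF : E.IsSubsystemOf F)
    (hstr : StronglyInvariant E F) (hQN : Q ≤ N) (hNT : N ≤ T)
    (hNV : N ≤ V) (hNn : N ≤ Subgroup.normalizer (Q : Set Ω)) (hQc : centralizerIn V Q ≤ Q)
    {b b' : MulAut N} (hb : b ∈ stabAut F N Q) (hco : (orderOf b).Coprime p)
    (hb' : b' ∈ E.autGroup N)
    (hag : ∀ x : N, (x : Ω) ∈ Q → b x = b' x) : b ∈ E.autGroup N := by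
  classical
  have hNS := hNT.trans hTS
  haveI : Finite N := finite_of_le hNS
  haveI := finite_mulAut (S := S) hNS
  let G : Subgroup (MulAut N) := stabAut F N Q
  let H : Subgroup G := (E.autGroup N).subgroupOf G
  haveI : H.Normal := ⟨fun h hh g =>
    conj_mem_autGroup_of_stronglyInvariant hTS hstr hNT g.2.1 hh⟩
  have hb'G : b' ∈ G := by
    refine ⟨autGroup_mono hEF N hb', fun x => ?_⟩
    constructor
    · intro hx
      obtain ⟨z, hz⟩ := b.surjective (b' x)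
      have hzQ : (z : Ω) ∈ Q := (hb.2 z).1 (by rw [hz]; exact hx)
      rw [hag z hzQ] at hz
      exact b'.injective hz ▸ hzQ
    · intro hx
      rw [← hag x hx]
      exact (hb.2 x).2 hx
  let k : G := ⟨b, hb⟩ * ⟨b', hb'G⟩⁻¹
  -- `k` is a `p`-element
  let Δ : Subgroup (MulAut N) := stabAut F N Q ⊓ fixSub N Q
  have hkΔ : (k : MulAut N) ∈ Δ := by
    refine ⟨k.2, fun x hx => ?_⟩
    obtain ⟨z, rfl⟩ := b'.surjective x
    show b (b'⁻¹ (b' z)) = b' z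
    rw [MulAut.inv_apply_self]
    exact hag z ((hb'G.2 z).1 hx)
  have hΔp : IsPGroup p Δ := by
    refine Fusion87.isPGroup_of_coprime_trivial fun u hu => ?_
    rw [← Subgroup.orderOf_coe] at hu
    refine Subtype.ext (MulEquiv.ext fun y => ?_)
    have hfix := u.2.2
    refine Fusion87.fix_of_step (p := p) _ hu y ?_ ((hS.to_le hNS) _)
    refine hfix _ (hQc ⟨hNV (SetLike.coe_mem _), fun z hz => ?_⟩)
    have hz' : (y : Ω) * z * (y : Ω)⁻¹ ∈ Q := (Subgroup.mem_normalizer_iff.1 (hNn y.2) z).1 hz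
    have h1 : (u : MulAut N) (y * ⟨z, hQN hz⟩ * y⁻¹) = ⟨_, hQN hz'⟩ := by
      rw [show y * (⟨z, hQN hz⟩ : N) * y⁻¹ = ⟨_, hQN hz'⟩ from Subtype.ext rfl]
      exact hfix ⟨_, hQN hz'⟩ hz'
    rw [map_mul, map_mul, map_inv, hfix ⟨z, hQN hz⟩ hz] at h1
    have h2 : ((u : MulAut N) y : Ω) * z * ((u : MulAut N) y : Ω)⁻¹ =
        (y : Ω) * z * (y : Ω)⁻¹ := congrArg Subtype.val h1
    show z * ((y : Ω)⁻¹ * ((u : MulAut N) y : Ω)) = (y : Ω)⁻¹ * ((u : MulAut N) y : Ω) * z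
    calc z * ((y : Ω)⁻¹ * ((u : MulAut N) y : Ω))
        = (y : Ω)⁻¹ * ((y : Ω) * z * (y : Ω)⁻¹) * ((u : MulAut N) y : Ω) := by group
      _ = (y : Ω)⁻¹ * (((u : MulAut N) y : Ω) * z * ((u : MulAut N) y : Ω)⁻¹) *
          ((u : MulAut N) y : Ω) := by rw [h2]
      _ = _ := by group
  obtain ⟨i, hi⟩ := hΔp ⟨_, hkΔ⟩
  have hki : k ^ p ^ i = 1 := Subtype.ext (congrArg (Subtype.val : Δ → MulAut N) hi)
  have e : (⟨b, hb⟩ : G) = k * ⟨b', hb'G⟩ := (inv_mul_cancel_right _ _).symm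
  have h1 : QuotientGroup.mk' H ⟨b, hb⟩ = QuotientGroup.mk' H k := by
    rw [e, map_mul, show QuotientGroup.mk' H ⟨b', hb'G⟩ = 1 from
      (QuotientGroup.eq_one_iff _).2 hb', mul_one]
  have h2 : orderOf (QuotientGroup.mk' H ⟨b, hb⟩) = 1 := by
    refine Nat.eq_one_of_dvd_coprimes (Nat.Coprime.pow_right i hco) ?_ ?_
    · refine (orderOf_map_dvd _ _).trans ?_
      rw [← Subgroup.orderOf_coe]
    · rw [h1]
      exact (orderOf_map_dvd _ _).trans (orderOf_dvd_of_pow_eq_one hki)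
  exact Subgroup.mem_subgroupOf.1 ((QuotientGroup.eq_one_iff _).1 (orderOf_eq_one_iff.1 h2) :
    (⟨b, hb⟩ : G) ∈ H)

end Cfsg.Agent.Lib.Fusion
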