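/-
A quasisimple system is its own `p'`-residual; a saturated system has a layer.
-/
import Cfsg.Agent.Lib.Fusion.Wedge.Saturated
import Cfsg.Agent.Lib.Fusion.WeaklyNormalResidual
import Cfsg.Agent.Lib.Fusion.Components
import Cfsg.Agent.Lib.Fusion.CentralFunctor

set_option autoImplicit false
set_option linter.style.haveILetI false

namespace Cfsg.Agent.Lib.Fusion.LayerExists

open Cfsg Cfsg.FusionSystem
open Cfsg.Agent.Lib.FusionFactor (exists_factorSystem isCentral_center preimageAlong_le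
  mem_preimageAlong)

universe u

variable {Ω : Type u} [Group Ω] {S : Subgroup Ω} {p : ℕ}

/-- A quasisimple system is contained in its `p'`-residual. -/
theorem quasisimple_le_residual [Fact p.Prime] [Finite S] (hS : IsPGroup p S)
    {C : FusionSystem S} (hq : C.Quasisimple p) : C.IsSubsystemOf (pPrimeResidualSystem C p) := by
  classical
  obtain ⟨hC, -, hsimple⟩ := hq
  set Z := C.center with hZdef
  have hZ : C.IsCentral Z := isCentral_center C
  have hZsc := stronglyClosed_of_isCentral' hZ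
  set θ := QuotientGroup.mk' (Z.subgroupOf S) with hθ
  have hker : ∀ s : S, θ s = 1 ↔ (s : Ω) ∈ Z := fun s => QuotientGroup.eq_one_iff s
  have hrange : θ.range = (⊤ : Subgroup (S ⧸ Z.subgroupOf S)) :=
    MonoidHom.range_eq_top.2 (QuotientGroup.mk'_surjective _)
  obtain ⟨E, hE⟩ := exists_factorSystem θ C hZsc hker hrange
  have hEs := hsimple E hE
  have hp' : IsPGroup p (⊤ : Subgroup (S ⧸ Z.subgroupOf S)) := (hS.to_quotient _).to_subgroup _
  haveI : Finite (⊤ : Subgroup (S ⧸ Z.subgroupOf S)) := inferInstance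
  set D := pPrimeResidualSystem C p with hD
  have hDC : D.IsSubsystemOf C := fun _ _ h => h.1
  have hDs := isSaturated_pPrimeResidualSystem hS hC
  have hDp : ∀ {P : Subgroup Ω}, P ≤ S → ∀ {γ : MulAut P}, γ ∈ C.autGroup P →
      (∃ k, γ ^ p ^ k = 1) → autHom γ ∈ D.Hom P := fun hP γ hγ hk =>
    autHom_mem_of_hasPAut hS hC (hasPAut_pPrimeResidualSystem C p) hP hγ hk
  -- the image of the residual
  have hZD : D.StronglyClosed Z := stronglyClosed_of_subsystem hDC hZsc hZ.1
  obtain ⟨Db, hDb⟩ := exists_factorSystem θ D hZD hker hrange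
  have hDbs := isSaturated_of_isFactorSystem hS hDs hZD hDb
  have hsub : Db.IsSubsystemOf E := fun P' φ' h => by
    obtain ⟨hle, φ, hφ, hind⟩ := (hDb.2.2.2 P' φ').1 h
    exact (hE.2.2.2 P' φ').2 ⟨hle, φ, hDC _ hφ, hind⟩
  have hpaut : HasPAut Db E p := by
    intro P' hP' α hα hk
    obtain ⟨k, hk⟩ := hk
    obtain ⟨-, φ, hφ, hQS, hφS, hmem, hind⟩ :=
      (hE.2.2.2 P' _).1 (autGroup_hom_mem hP'.1 hα)
    set Q := preimageAlong θ P' with hQ
    haveI : Finite Q := finite_of_le hQS
    haveI := finite_mulAut (S := S) hQS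
    obtain ⟨γ, hγ, hγx⟩ := exists_aut_of_hom hφ fun x =>
      (mem_preimageAlong θ).2 ⟨hφS x, by rw [← hind x]; exact SetLike.coe_mem _⟩
    have h1 : ∀ x : Q, θ ⟨(γ x : Ω), hQS (γ x).2⟩ = (α ⟨_, hmem x⟩ : S ⧸ Z.subgroupOf S) :=
      fun x => (congrArg θ (Subtype.ext (hγx x))).trans (hind x).symm
    have hit : ∀ (j : ℕ) (x : Q), θ ⟨((γ ^ j) x : Ω), hQS ((γ ^ j) x).2⟩ =
        ((α ^ j) ⟨_, hmem x⟩ : S ⧸ Z.subgroupOf S) := by
      intro j
      induction j with
      | zero => intro x; rfl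
      | succ j ih =>
        intro x
        simp only [pow_succ', MulAut.mul_apply]
        refine (h1 ((γ ^ j) x)).trans ?_
        exact congrArg (fun z : P' => (α z : S ⧸ Z.subgroupOf S)) (Subtype.ext (ih x))
    obtain ⟨k₀, hk₀⟩ := Transfer.exists_pow_coprime (p := p) γ
    set m := orderOf (γ ^ p ^ k₀) with hm
    obtain ⟨n, hn⟩ := exists_pow_eq_self_of_coprime (x := α) (n := m)
      (Nat.Coprime.coprime_dvd_right (orderOf_dvd_of_pow_eq_one hk) (Nat.Coprime.pow_right k hk₀))
    have hγp : ((γ ^ m) ^ n) ^ p ^ k₀ = 1 := by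
      rw [← pow_mul, ← pow_mul, show m * (n * p ^ k₀) = p ^ k₀ * m * n by ring, pow_mul, pow_mul, hm,
        pow_orderOf_eq_one, one_pow]
    have hmemD := hDp hQS (pow_mem (pow_mem hγ m) n) ⟨k₀, hγp⟩
    refine (hDb.2.2.2 P' _).2 ⟨hP'.1, _, hmemD, hQS, fun x => hQS (SetLike.coe_mem _), hmem,
      fun x => ?_⟩
    refine Eq.trans ?_ ((hit (m * n) x).symm.trans ?_)
    · rw [pow_mul, hn]
      rfl
    · exact congrArg θ (Subtype.ext (by rw [pow_mul]; rfl))
  -- the quotient is its own residual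
  have hres := (hEs.2.2 _ _
    (isNormalIn_pPrimeResidualSystem hp' (isWeaklyNormalIn_self hEs.1))).resolve_left hEs.2.1
  have hED : ∀ P', E.Hom P' ⊆ Db.Hom P' := fun P' φ' h =>
    pPrimeResidualSystem_le hp' hEs.1 hDbs
      (hasPrimeToPIndexIn_of_hasPAut hp' hEs.1 hsub hpaut) P' (by rw [hres.2]; exact h)
  -- automorphisms of `S`
  have hAut : ∀ α ∈ C.autGroup S, autHom α ∈ D.Hom S := by
    intro α hα
    have hαm := autGroup_hom_mem le_rfl hα
    obtain ⟨φ', hφ', hPS, hφS, hmem, hind⟩ :=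
      (isSurjectiveMorphism_of_isFactorSystem hS hC hZsc hE).1.2 S _ hαm
    obtain ⟨-, φd, hφd, hdP, hdS, hdmem, hdind⟩ := (hDb.2.2.2 _ _).1 (hED _ hφ')
    have hpre : S ≤ preimageAlong θ (imageAlong θ S) := fun x hx =>
      (mem_preimageAlong θ).2 ⟨hx, hmem ⟨x, hx⟩⟩
    haveI := finite_mulAut (S := S) (le_refl S)
    obtain ⟨d, hd, hdx⟩ := exists_aut_of_hom (restrict_mem hφd hpre) fun x => hdS _
    have hcong : ∀ x : S, θ (d x) = θ (α x) := fun x => by
      refine Eq.trans ?_ (hind x)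
      refine Eq.trans ?_ (hdind (Subgroup.inclusion hpre x)).symm
      exact congrArg θ (Subtype.ext (hdx x))
    set δ := d⁻¹ * α with hδ
    have hfixd : ∀ z : S, (z : Ω) ∈ Z → d z = z := fun z hz =>
      Subtype.ext (apply_of_isCentral hZ (hDC _ (autGroup_hom_mem le_rfl hd)) hz z.2)
    have hfixα : ∀ z : S, (z : Ω) ∈ Z → α z = z := fun z hz =>
      Subtype.ext (apply_of_isCentral hZ hαm hz z.2)
    have hfix : ∀ z : S, (z : Ω) ∈ Z → δ z = z := fun z hz => by
      rw [hδ, MulAut.mul_apply, hfixα z hz]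
      conv_lhs => rw [← hfixd z hz]
      exact MulAut.inv_apply_self _ d z
    have hmv : ∀ x : S, ((x⁻¹ * δ x : S) : Ω) ∈ Z := fun x => by
      have h1 : θ (d (x⁻¹ * δ x)) = 1 := by
        rw [map_mul d, map_inv d, hδ, MulAut.mul_apply, MulAut.apply_inv_self, map_mul θ,
          map_inv θ, ← hcong x, inv_mul_cancel]
      have h2 := (hker _).1 h1
      have h3 : d (x⁻¹ * δ x) = x⁻¹ * δ x := d.injective (hfixd _ h2)
      rwa [h3] at h2
    have hit : ∀ (n : ℕ) (x : S), (δ ^ n) x = x * (x⁻¹ * δ x) ^ n := by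
      intro n
      induction n with
      | zero => intro x; simp
      | succ n ih =>
        intro x
        rw [pow_succ' δ, MulAut.mul_apply, ih, map_mul, map_pow, hfix _ (hmv x), pow_succ' _ n,
          ← mul_assoc, mul_inv_cancel_left]
    obtain ⟨k, hk⟩ := IsPGroup.iff_card.1 hS
    have hδp : δ ^ p ^ k = 1 := MulEquiv.ext fun x => by
      show (δ ^ p ^ k) x = x
      rw [hit, ← hk, pow_card_eq_one', mul_one]
    have hδD := (mem_autGroup le_rfl).2
      (hDp le_rfl (Subgroup.mul_mem _ (Subgroup.inv_mem _ (autGroup_mono hDC S hd)) hα) ⟨k, hδp⟩)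
    have h := Subgroup.mul_mem _ hd hδD
    rw [mul_inv_cancel_left] at h
    exact autGroup_hom_mem le_rfl h
  intro P φ hφ
  obtain ⟨a, ha, φ₀, hφ₀, hx⟩ := exists_decomp hS hC (hasPAut_pPrimeResidualSystem C p) hφ
  exact comp_of_apply hφ₀ (hAut a ha) fun x => ⟨val_mem hφ₀ x, hx x _⟩

/-- The residual of a subnormal system lies in every normal subsystem over a subgroup containing
its underlying group. -/
theorem residual_le_of_subnormal {T S : Subgroup Ω} {C : FusionSystem T} {F : FusionSystem S}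
    (h : C.IsSubnormalIn F p) : p.Prime → IsPGroup p S → Finite S →
    ∀ (U : Subgroup Ω) (D : FusionSystem U), D.IsNormalIn F p → T ≤ U →
      (pPrimeResidualSystem C p).IsSubsystemOf D := by
  induction h with
  | refl F p =>
    intro hp hS hfin U D hD hTU
    haveI : Fact p.Prime := ⟨hp⟩
    obtain rfl := le_antisymm hD.1.2.2.2.1.1 hTU
    exact pPrimeResidual_subsystem hS (isWeaklyNormalIn_self hD.1.2.1)
      (isPPrimeResidual_pPrimeResidualSystem hS hD.1.2.1) hD.1
  | @step V S C X F p hCX hX ih =>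
    intro hp hS hfin U D hD hTU
    haveI : Fact p.Prime := ⟨hp⟩
    have hVS : V ≤ S := hX.1.2.2.2.1.1
    haveI : Finite V := finite_of_le hVS
    have hVp : IsPGroup p V := hS.to_le hVS
    obtain ⟨hW₁, -⟩ := Wedge.isWeaklyNormalIn_wedge_sub hS hX hD
    have hY := isNormalIn_pPrimeResidualSystem hVp hW₁
    have h := ih hp hVp inferInstance _ _ hY (le_inf (Components.le_of_subnormal hCX) hTU)
    intro P φ hφ
    exact Wedge.wedgeSystem_le_right P (h P hφ).1

/-- A component lies in every normal subsystem over a subgroup containing its underlying group. -/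
theorem component_le_of_le [Fact p.Prime] [Finite S] (hS : IsPGroup p S) {F : FusionSystem S}
    {T U : Subgroup Ω} {C : FusionSystem T} (hC : C.IsComponentIn F p) {D : FusionSystem U}
    (hD : D.IsNormalIn F p) (hTU : T ≤ U) : C.IsSubsystemOf D := fun P φ hφ => by
  have hTS := Components.le_of_subnormal hC.1
  haveI : Finite T := finite_of_le hTS
  exact residual_le_of_subnormal hC.1 Fact.out hS inferInstance U D hD hTU P
    (quasisimple_le_residual (hS.to_le hTS) hC.2 P hφ)

/-- The whole system is normal in itself. -/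
theorem isNormalIn_self [Fact p.Prime] [Finite S] {F : FusionSystem S} (hF : F.IsSaturated p) :
    F.IsNormalIn F p := by
  refine ⟨isWeaklyNormalIn_self hF, fun α hα => ?_⟩
  have hle : S ⊔ centralizerIn S S ≤ S := sup_le le_rfl inf_le_left
  haveI : Finite (S ⊔ centralizerIn S S : Subgroup Ω) := finite_of_le hle
  obtain ⟨β, hβ, hβx⟩ := exists_aut_of_hom
    (restrict_mem (autGroup_hom_mem le_rfl hα) hle) fun x => Subgroup.mem_sup_left (α _).2
  refine ⟨β, hβ, fun x => (hβx _).trans rfl, fun c hc => ?_⟩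
  have hm : (β c : Ω) ∈ centralizerIn S S := by
    refine ⟨hle (β c).2, fun s hs => ?_⟩
    obtain ⟨t, ht⟩ := α.surjective ⟨s, hs⟩
    rw [hβx, show s = autHom α t from congrArg Subtype.val ht.symm]
    show autHom α t * autHom α ⟨c, hle c.2⟩ = autHom α ⟨c, hle c.2⟩ * autHom α t
    rw [← map_mul, ← map_mul]
    exact congrArg (autHom α) (Subtype.ext (hc.2 t t.2))
  exact ⟨S.mul_mem (S.inv_mem hc.1) hm.1,
    Subgroup.mul_mem _ (Subgroup.inv_mem _ hc.2) hm.2⟩

/-- A saturated system has a layer. -/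
theorem exists_layer [Fact p.Prime] [Finite S] (hS : IsPGroup p S) {F : FusionSystem S}
    (hF : F.IsSaturated p) : ∃ (T : Subgroup Ω) (E : FusionSystem T), E.IsLayerOf F p := by
  classical
  -- subgroups carrying a normal subsystem containing every component
  have hself := isNormalIn_self hF
  let Carrier : Subgroup Ω → Prop := fun T =>
    (∃ D : FusionSystem T, D.IsNormalIn F p) ∧
      ∀ (U : Subgroup Ω) (C : FusionSystem U), C.IsComponentIn F p → U ≤ T
  have hex : ∃ n, ∃ T, Carrier T ∧ Nat.card T = n :=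
    ⟨_, S, ⟨⟨F, hself⟩, fun U C hC => Components.le_of_subnormal hC.1⟩, rfl⟩
  obtain ⟨T, ⟨⟨D, hD⟩, hcomp⟩, hcard⟩ := Nat.find_spec hex
  have hTS : T ≤ S := hD.1.2.2.2.1.1
  haveI : Finite T := finite_of_le hTS
  have hE := isNormalIn_pPrimeResidualSystem hS hD.1
  refine ⟨T, pPrimeResidualSystem D p, hE, fun U C hC => component_le_of_le hS hC hE (hcomp U C hC),
    fun R D' hD' hall => ?_⟩
  have hR : ∀ (U : Subgroup Ω) (C : FusionSystem U), C.IsComponentIn F p → U ≤ R := fun U C hC =>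
    le_of_isSubsystemOf (hall U C hC)
  have hW := Wedge.isWeaklyNormalIn_wedge hS hE hD'
  have hmin : Nat.card T ≤ Nat.card (T ⊓ R : Subgroup Ω) := hcard.le.trans
    (Nat.find_le ⟨_, ⟨⟨_, isNormalIn_pPrimeResidualSystem hS hW⟩,
      fun U C hC => le_inf (hcomp U C hC) (hR U C hC)⟩, rfl⟩)
  have hTR : T ≤ R := by
    have h := Subgroup.eq_of_le_of_card_ge (inf_le_left : T ⊓ R ≤ T) hmin
    exact h.ge.trans inf_le_right
  obtain ⟨hW₁, -⟩ := Wedge.isWeaklyNormalIn_wedge_sub hS hE hD'
  -- transport the wedge to the same subgroup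
  have key : ∀ (V : Subgroup Ω), V = T → ∀ W : FusionSystem V, W.IsWeaklyNormalIn F p →
      (pPrimeResidualSystem D p).IsSubsystemOf W := by
    rintro V rfl W hW'
    exact pPrimeResidual_subsystem hS hD.1
      (isPPrimeResidual_pPrimeResidualSystem (hS.to_le hTS) hD.1.1) hW'
  exact fun P φ hφ => Wedge.wedgeSystem_le_right P (key _ (inf_eq_left.2 hTR) _ hW P hφ)

end Cfsg.Agent.Lib.Fusion.LayerExists
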