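/-
Images of weakly normal subsystems in quotients by central subgroups; a normal subsystem over a
proper subgroup of a quasisimple system is central.
-/
import Cfsg.Agent.Lib.Fusion.Solvable
import Cfsg.Agent.Lib.Fusion.Quotient
import Cfsg.Agent.Lib.Fusion.QuasisimpleBasic
import Cfsg.Agent.Lib.Fusion.WeaklyNormalResidual
import Cfsg.Agent.Lib.Fusion.LayerExists
import Cfsg.Agent.Lib.Fusion87.Central
import Cfsg.Agent.S5119

set_option autoImplicit false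

namespace Cfsg.Agent.Lib.Fusion.QuotientNormal

open Cfsg Cfsg.FusionSystem
open Cfsg.Agent.Lib.FusionFactor (exists_factorSystem isCentral_center preimageAlong_le
  mem_preimageAlong mem_imageAlong exists_preimage)

universe u

variable {Ω : Type u} [Group Ω] {S W Z : Subgroup Ω} {F : FusionSystem S} {N : FusionSystem W}
  {p : ℕ} {Ω' : Type u} [Group Ω'] {S' : Subgroup Ω'} {θ : S →* Ω'} {Fb : FusionSystem S'}

theorem apply_eq_of_central (hZ : F.IsCentral Z) {P : Subgroup Ω} {φ : P →* Ω} (hφ : φ ∈ F.Hom P)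
    (x : P) (hx : (x : Ω) ∈ Z) : φ x = x := by
  obtain ⟨ψ, -, hψP, hψZ⟩ := hZ.2 P φ hφ
  rw [← hψP x]
  exact (congrArg ψ (Subtype.ext rfl)).trans (hψZ ⟨x, hx⟩)

/-- The image of a weakly normal subsystem in the quotient by a central subgroup. -/
theorem exists_image_weaklyNormal [Fact p.Prime] [Finite S] (hS : IsPGroup p S)
    (hN : N.IsWeaklyNormalIn F p) (hZ : F.IsCentral Z) (hFb : F.IsFactorSystem Z θ Fb) :
    ∃ Nb : FusionSystem (imageAlong θ W), Nb.IsWeaklyNormalIn Fb p := by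
  classical
  obtain ⟨hNs, hF, hinv⟩ := id hN
  have hWc : F.StronglyClosed W := hinv.2.1
  have hWS := hWc.1
  haveI : Finite W := finite_of_le hWS
  have hWp : IsPGroup p W := hS.to_le hWS
  have hZc := stronglyClosed_of_isCentral' hZ
  have hstr := (S5119.result p hS F hF N hinv.1 hWc).1 hinv
  set θW : W →* Ω' := θ.comp (Subgroup.inclusion hWS) with hθW
  have hker : ∀ s : W, θW s = 1 ↔ (s : Ω) ∈ W ⊓ Z := fun s =>
    ⟨fun h => ⟨s.2, (hFb.2.1 _).1 h⟩, fun h => (hFb.2.1 _).2 h.2⟩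
  have hrange : θW.range = imageAlong θ W := by
    refine le_antisymm ?_ ?_
    · rintro _ ⟨w, rfl⟩
      exact (mem_imageAlong θ).2 ⟨w, hWS w.2, w.2, rfl⟩
    · rintro _ hy
      obtain ⟨x, hxS, hxW, rfl⟩ := (mem_imageAlong θ).1 hy
      exact ⟨⟨x, hxW⟩, rfl⟩
  have hsc : N.StronglyClosed (W ⊓ Z) := ⟨inf_le_left, fun R hR φ hφ x => by
    rw [apply_eq_of_central hZ (hinv.1 R hφ) x (hR x.2).2]
    exact hR x.2⟩
  obtain ⟨Nb, hNb⟩ := exists_factorSystem θW N hsc hker hrange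
  have hmorF := (isSurjectiveMorphism_of_isFactorSystem hS hF hZc hFb).1.2
  have hmorN := (isSurjectiveMorphism_of_isFactorSystem hWp hNs hsc hNb).1.2
  haveI : Finite S' := finite_of_isFactorSystem hFb
  have hS'p : IsPGroup p S' := isPGroup_of_isFactorSystem hS hFb
  have hFbs := isSaturated_of_isFactorSystem hS hF hZc hFb
  -- maps of `Nb` are maps of `Fb`
  have hsub : Nb.IsSubsystemOf Fb := by
    intro P' φ' hφ'
    obtain ⟨hP', φ, hφ, hPW, hφW, hmem, hind⟩ := (hNb.2.2.2 P' φ').1 hφ'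
    obtain ⟨φ₁, hφ₁, hPS, hφS, hmem₁, hind₁⟩ := hmorF _ φ (hinv.1 _ hφ)
    have hpt : ∀ y : P', ∃ x : preimageAlong θW P',
        θW ⟨x, preimageAlong_le θW P' x.2⟩ = (y : Ω') :=
      exists_preimage θW (hP'.trans hrange.ge)
    have hle : P' ≤ imageAlong θ (preimageAlong θW P') := fun y hy => by
      obtain ⟨x, hx⟩ := hpt ⟨y, hy⟩
      exact (mem_imageAlong θ).2 ⟨x, hPS x.2, x.2, hx⟩
    refine mem_of_restrict hφ₁ hle fun y => ?_
    obtain ⟨x, hx⟩ := hpt y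
    rw [show (⟨(y : Ω'), hle y.2⟩ : imageAlong θ (preimageAlong θW P')) =
        ⟨θ ⟨x, hPS x.2⟩, hmem₁ x⟩ from Subtype.ext hx.symm,
      show y = ⟨θW ⟨x, hPW x.2⟩, hmem x⟩ from Subtype.ext hx.symm, hind, hind₁]
    rfl
  -- strong closure
  have hclosed : Fb.StronglyClosed (imageAlong θ W) := by
    refine ⟨?_, fun R hR φ' hφ' y => ?_⟩
    · rintro _ ⟨s, -, rfl⟩
      exact hFb.2.2.1.le ⟨s, rfl⟩
    obtain ⟨hRS, φ, hφ, hPS, hφS, hmem, hind⟩ := (hFb.2.2.2 R φ').1 hφ'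
    obtain ⟨x, hxS, hxW, hxy⟩ := (mem_imageAlong θ).1 (hR y.2)
    have hxP : x ∈ preimageAlong θ R := (mem_preimageAlong θ).2 ⟨hxS, by rw [hxy]; exact y.2⟩
    rw [show φ' y = θ ⟨φ ⟨x, hxP⟩, hφS _⟩ from
      (congrArg φ' (Subtype.ext hxy.symm)).trans (hind ⟨x, hxP⟩)]
    exact (mem_imageAlong θ).2 ⟨_, _, hWc.2 _ inf_le_right _
      (restrict_mem hφ (inf_le_left : preimageAlong θ R ⊓ W ≤ _)) ⟨x, hxP, hxW⟩, rfl⟩
  refine ⟨Nb, isSaturated_of_isFactorSystem hWp hNs hsc hNb, hFbs,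
    (S5119.result p hS'p Fb hFbs Nb hsub hclosed).2 fun P' Q' hPQ hQW φ' hφ' hφQ ψ' hψ' => ?_⟩
  obtain ⟨-, φ, hφ, hPW, hφW, hmem, hind⟩ := (hNb.2.2.2 P' φ').1 hφ'
  obtain ⟨hQS', ψ, hψ, hQS, hψS, hmemQ, hindQ⟩ := (hFb.2.2.2 Q' ψ').1 hψ'
  have hQle : preimageAlong θW Q' ≤ preimageAlong θ Q' := fun x hx => by
    obtain ⟨hxW, hx'⟩ := (mem_preimageAlong θW).1 hx
    exact (mem_preimageAlong θ).2 ⟨hWS hxW, hx'⟩
  have hPQ' : preimageAlong θW P' ≤ preimageAlong θW Q' := fun x hx => by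
    obtain ⟨hxW, hx'⟩ := (mem_preimageAlong θW).1 hx
    exact (mem_preimageAlong θW).2 ⟨hxW, hPQ hx'⟩
  obtain ⟨χ, hχ, hχx⟩ := hstr (preimageAlong θW P') (preimageAlong θW Q') hPQ'
    (preimageAlong_le θW Q') φ hφ (fun x => (mem_preimageAlong θW).2 ⟨hφW x, by
      rw [← hind x]; exact hφQ _⟩) _ (restrict_mem hψ hQle)
  obtain ⟨χ', hχ', hχW, hχv, hχmem, hχind⟩ := hmorN _ χ hχ
  have hpt : ∀ y : P', ∃ x : preimageAlong θW P',
      θW ⟨x, preimageAlong_le θW P' x.2⟩ = (y : Ω') :=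
    exists_preimage θW ((hPQ.trans hQW).trans hrange.ge)
  -- the image of a point
  have key : ∀ x : preimageAlong θW P', ∀ hx : θW ⟨x, hPW x.2⟩ ∈ P',
      ∀ h : ψ ⟨x, hQle (hPQ' x.2)⟩ ∈ imgSub (ψ.comp (Subgroup.inclusion hQle))
        (preimageAlong θW P'),
      ψ' ⟨_, hPQ hx⟩ = θW ⟨_, hχW h⟩ := fun x hx h =>
    hindQ ⟨x, hQle (hPQ' x.2)⟩
  have hle : (P'.subgroupOf Q').map ψ' ≤
      imageAlong θW (imgSub (ψ.comp (Subgroup.inclusion hQle)) (preimageAlong θW P')) := by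
    rintro _ ⟨y, hy, rfl⟩
    obtain ⟨x, hx⟩ := hpt ⟨y, hy⟩
    have hm : ψ ⟨x, hQle (hPQ' x.2)⟩ ∈
        imgSub (ψ.comp (Subgroup.inclusion hQle)) (preimageAlong θW P') :=
      apply_mem_imgSub (ψ.comp (Subgroup.inclusion hQle)) ⟨x, hPQ' x.2⟩ x.2
    refine (mem_imageAlong θW).2 ⟨_, hχW hm, hm, ?_⟩
    rw [← key x (hmem x) hm]
    exact congrArg ψ' (Subtype.ext hx)
  refine ⟨_, restrict_mem hχ' hle, fun y hy => ?_⟩
  obtain ⟨x, hx⟩ := hpt y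
  have hm : ψ ⟨x, hQle (hPQ' x.2)⟩ ∈
      imgSub (ψ.comp (Subgroup.inclusion hQle)) (preimageAlong θW P') :=
    apply_mem_imgSub (ψ.comp (Subgroup.inclusion hQle)) ⟨x, hPQ' x.2⟩ x.2
  refine Eq.trans (congrArg χ' (Subtype.ext ?_ : _ = (⟨θW ⟨_, hχW hm⟩, hχmem ⟨_, hm⟩⟩ :
    imageAlong θW (imgSub (ψ.comp (Subgroup.inclusion hQle)) (preimageAlong θW P'))))) ?_
  · exact (congrArg ψ' (Subtype.ext hx.symm)).trans (key x (hmem x) hm)
  rw [hχind ⟨_, hm⟩]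
  have e : χ ⟨_, hm⟩ = ψ ⟨φ x, _⟩ := hχx x hm
  refine (congrArg θW (Subtype.ext e : (⟨χ ⟨_, hm⟩, hχv _⟩ : W) =
    ⟨ψ ⟨φ x, hQle ((mem_preimageAlong θW).2 ⟨hφW x, by rw [← hind x]; exact hφQ _⟩)⟩,
      e ▸ hχv _⟩)).trans ?_
  refine (hindQ _).symm.trans (congrArg ψ' (Subtype.ext ?_))
  show θW ⟨φ x, hφW x⟩ = φ' y
  rw [← hind x]
  exact congrArg φ' (Subtype.ext hx)

/-- A normal subsystem over a proper subgroup of a quasisimple system is central. -/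
theorem le_center_of_normal_quasisimple [Fact p.Prime] [Finite S] (hS : IsPGroup p S)
    (hq : F.Quasisimple p) (hN : N.IsWeaklyNormalIn F p) (hne : W ≠ S) : W ≤ F.center := by
  classical
  obtain ⟨hF, hhyp, hsimple⟩ := hq
  set C := F.center with hCdef
  have hC : F.IsCentral C := isCentral_center F
  set θ := QuotientGroup.mk' (C.subgroupOf S) with hθ
  obtain ⟨E, hE⟩ := exists_factorSystem θ F (stronglyClosed_of_isCentral' hC)
    (S' := (⊤ : Subgroup (S ⧸ C.subgroupOf S))) (fun s => QuotientGroup.eq_one_iff s)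
    (MonoidHom.range_eq_top.2 (QuotientGroup.mk'_surjective _))
  have hEs := hsimple E hE
  have hWc : F.StronglyClosed W := hN.2.2.2.1
  obtain ⟨Nb, hNb⟩ := exists_image_weaklyNormal hS hN hC hE
  obtain h | ⟨h, -⟩ := hEs.2.2 _ _
    (isNormalIn_pPrimeResidualSystem ((hS.to_quotient _).to_subgroup _) hNb)
  · intro x hx
    exact (hE.2.1 ⟨x, hWc.1 hx⟩).1 (Subgroup.mem_bot.1
      (h.le ((mem_imageAlong θ).2 ⟨x, hWc.1 hx, hx, rfl⟩)))
  · refine absurd (le_antisymm hWc.1 (hhyp.ge.trans ((Subgroup.closure_le _).2 ?_))) hne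
    rintro _ ⟨P, α, x, hP, -, rfl⟩
    obtain ⟨w, hwS, hwW, hwx⟩ := (mem_imageAlong θ).1 (h.ge (Subgroup.mem_top (θ ⟨x, hP x.2⟩)))
    -- `x = w c` with `c` central
    have hc : w⁻¹ * (x : Ω) ∈ C := (hE.2.1 (⟨w, hwS⟩⁻¹ * ⟨x, hP x.2⟩)).1 (by
      rw [map_mul, map_inv, hwx, inv_mul_cancel])
    obtain ⟨ψ, hψ, hψP, hψC⟩ := hC.2 P _ (autGroup_hom_mem hP α.2)
    have hwP : w ∈ (P ⊔ C) ⊓ W := by
      refine ⟨?_, hwW⟩
      rw [show w = (x : Ω) * (w⁻¹ * (x : Ω))⁻¹ by group]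
      exact Subgroup.mul_mem _ (Subgroup.mem_sup_left x.2)
        (Subgroup.mem_sup_right (C.inv_mem hc))
    have h1 := hWc.2 _ inf_le_right _ (restrict_mem hψ (inf_le_left : (P ⊔ C) ⊓ W ≤ _)) ⟨w, hwP⟩
    have h2 : ((α : MulAut P) x : Ω) = ψ ⟨w, hwP.1⟩ * (w⁻¹ * (x : Ω)) := by
      refine (hψP x).symm.trans ?_
      rw [show Subgroup.inclusion le_sup_left x =
        (⟨w, hwP.1⟩ : (P ⊔ C : Subgroup Ω)) * Subgroup.inclusion le_sup_right ⟨_, hc⟩ from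
          Subtype.ext (mul_inv_cancel_left w x).symm, map_mul, hψC]
    show (x : Ω)⁻¹ * ((α : MulAut P) x : Ω) ∈ W
    have hcS := hC.1 hc
    have hcc : w⁻¹ * (x : Ω) ∈ Subgroup.centralizer (S : Set Ω) := F.center_le_centralizer hc
    rw [h2, show (x : Ω)⁻¹ = (w⁻¹ * (x : Ω))⁻¹ * w⁻¹ by group]
    have hd : w⁻¹ * ψ ⟨w, hwP.1⟩ ∈ W := W.mul_mem (W.inv_mem hwW) h1
    have hcomm := Subgroup.mem_centralizer_iff.1 hcc _ (hWc.1 hd)
    rw [show (w⁻¹ * (x : Ω))⁻¹ * w⁻¹ * (ψ ⟨w, hwP.1⟩ * (w⁻¹ * (x : Ω))) =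
      (w⁻¹ * (x : Ω))⁻¹ * (w⁻¹ * ψ ⟨w, hwP.1⟩ * (w⁻¹ * (x : Ω))) by group, hcomm,
      inv_mul_cancel_left]
    exact hd

end Cfsg.Agent.Lib.Fusion.QuotientNormal
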