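import Cfsg.Agent.Lib.Fusion.Simple
import Cfsg.Agent.Lib.Fusion.Solvable
import Cfsg.Agent.Lib.Fusion87.Central

/-!
Isomorphisms of fusion systems, recorded as factor systems modulo `⊥`: composition, inversion,
transport of subgroups, maps, automorphism groups, strongly closed subgroups, the centre, the
hyperfocal subgroup, normal and subnormal subsystems, simple and quasisimple systems.
-/

set_option autoImplicit false

namespace Cfsg.Agent.Lib.Fusion.Iso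

open Cfsg Cfsg.FusionSystem
open Cfsg.Agent.Lib.FusionFactor (mem_preimageAlong mem_imageAlong preimageAlong_le exists_preimage
  exists_factorSystem)

section compose

variable {Ω : Type*} [Group Ω] {T : Subgroup Ω} {Ω' : Type*} [Group Ω'] {T' : Subgroup Ω'}
  {Ω'' : Type*} [Group Ω''] {T'' : Subgroup Ω''}

/-- Composition of a homomorphism into `T'` with one defined on `T'`. -/
def compAlong (θ : T →* Ω') (h : θ.range = T') (θ' : T' →* Ω'') : T →* Ω'' :=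
  θ'.comp (θ.codRestrict T' fun x => h.le ⟨x, rfl⟩)

theorem compAlong_apply (θ : T →* Ω') (h : θ.range = T') (θ' : T' →* Ω'') (x : T) :
    compAlong θ h θ' x = θ' ⟨θ x, h.le ⟨x, rfl⟩⟩ := rfl

theorem preimageAlong_compAlong (θ : T →* Ω') (h : θ.range = T') (θ' : T' →* Ω'')
    (P : Subgroup Ω'') :
    preimageAlong (compAlong θ h θ') P = preimageAlong θ (preimageAlong θ' P) := by
  ext x
  simp only [mem_preimageAlong]
  exact ⟨fun ⟨hx, hm⟩ => ⟨hx, h.le ⟨_, rfl⟩, hm⟩, fun ⟨hx, _, hm⟩ => ⟨hx, hm⟩⟩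

theorem range_compAlong (θ : T →* Ω') (h : θ.range = T') (θ' : T' →* Ω'') :
    (compAlong θ h θ').range = θ'.range := by
  ext y
  constructor
  · rintro ⟨x, rfl⟩; exact ⟨_, rfl⟩
  · rintro ⟨⟨z, hz⟩, rfl⟩
    obtain ⟨x, rfl⟩ := h.ge hz
    exact ⟨x, rfl⟩

/-- Factor systems compose. -/
theorem factor_comp {F : FusionSystem T} {E : FusionSystem T'} {E' : FusionSystem T''}
    {A : Subgroup Ω} {B : Subgroup Ω'} {θ : T →* Ω'} {θ' : T' →* Ω''}
    (hE : F.IsFactorSystem A θ E) (hE' : E.IsFactorSystem B θ' E')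
    (hinj : Function.Injective θ ∨ Function.Injective θ') :
    F.IsFactorSystem (preimageAlong θ B) (compAlong θ hE.2.2.1 θ') E' := by
  obtain ⟨-, -, hr, hHom⟩ := hE
  obtain ⟨-, hker', hr', hHom'⟩ := hE'
  refine ⟨preimageAlong_le θ B, fun s => ?_, (range_compAlong θ hr θ').trans hr', fun P φ'' => ?_⟩
  · rw [compAlong_apply, hker', mem_preimageAlong]
    exact ⟨fun hm => ⟨s.2, hm⟩, fun ⟨_, hm⟩ => hm⟩
  rw [hHom', preimageAlong_compAlong]
  refine and_congr_right fun hP => ⟨?_, ?_⟩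
  · rintro ⟨φ', hφ', hP', hφ'S, hmem', hind'⟩
    obtain ⟨-, φ, hφ, hPT, hφS, hmem, hind⟩ := (hHom _ _).1 hφ'
    refine ⟨φ, hφ, hPT, hφS, fun x => hmem' ⟨_, hmem x⟩, fun x => ?_⟩
    refine (hind' ⟨_, hmem x⟩).trans ?_
    exact congrArg θ' (Subtype.ext (hind x))
  · rintro ⟨φ, hφ, hPT, hφS, hmem'', hind''⟩
    have hP' : (preimageAlong θ' P) ≤ T' := preimageAlong_le θ' P
    have hmem : ∀ x : preimageAlong θ (preimageAlong θ' P), θ ⟨x, hPT x.2⟩ ∈ (preimageAlong θ' P) := fun x =>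
      ((mem_preimageAlong θ).1 x.2).2
    obtain ⟨φ', hφ'⟩ : ∃ φ' : (preimageAlong θ' P) →* Ω', ∀ x : preimageAlong θ (preimageAlong θ' P),
        φ' ⟨θ ⟨x, hPT x.2⟩, hmem x⟩ = θ ⟨φ x, hφS x⟩ := by
      refine exists_induced θ hPT φ hφS (fun x hx => ?_) hmem (exists_preimage θ (hP'.trans hr.ge))
      rcases hinj with hi | hi
      · have h0 : (⟨(x : Ω), hPT x.2⟩ : T) = 1 := hi (hx.trans (map_one θ).symm)
        rw [show x = 1 from Subtype.ext (congrArg (fun q : T => (q : Ω)) h0)]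
        rw [show (⟨φ 1, hφS 1⟩ : T) = 1 from Subtype.ext (map_one φ), map_one]
      · have e : compAlong θ hr θ' ⟨x, hPT x.2⟩ = 1 := by
          rw [compAlong_apply, show (⟨θ ⟨x, hPT x.2⟩, hr.le ⟨_, rfl⟩⟩ : T') = 1 from Subtype.ext hx,
            map_one]
        have h1 := hind'' x
        rw [show (⟨compAlong θ hr θ' ⟨x, hPT x.2⟩, hmem'' x⟩ : P) = 1 from Subtype.ext e, map_one,
          compAlong_apply] at h1
        exact congrArg Subtype.val (hi (h1.symm.trans (map_one θ').symm))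
    have hφ'E : φ' ∈ E.Hom (preimageAlong θ' P) :=
      (hHom _ _).2 ⟨hP', φ, hφ, hPT, hφS, hmem, hφ'⟩
    refine ⟨φ', hφ'E, hP', val_mem hφ'E, fun y => ((mem_preimageAlong θ').1 y.2).2, fun y => ?_⟩
    obtain ⟨x, hx⟩ := exists_preimage θ (hP'.trans hr.ge) y
    have hy : y = ⟨θ ⟨x, hPT x.2⟩, hmem x⟩ := Subtype.ext hx.symm
    subst hy
    refine (hind'' x).trans ?_
    rw [compAlong_apply]
    exact congrArg θ' (Subtype.ext (hφ' x).symm)

end compose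

section iso

variable {Ω : Type*} [Group Ω] {T : Subgroup Ω} {Ω' : Type*} [Group Ω'] {T' : Subgroup Ω'}
  {E : FusionSystem T} {E' : FusionSystem T'} {θ : T →* Ω'} (h : E.IsFactorSystem ⊥ θ E')
include h

theorem injective : Function.Injective θ := by
  rw [injective_iff_map_eq_one]
  exact fun x hx => Subtype.ext (Subgroup.mem_bot.1 ((h.2.1 x).1 hx))

theorem map_mem (x : T) : θ x ∈ T' := h.2.2.1.le ⟨x, rfl⟩

theorem imageAlong_le (P : Subgroup Ω) : imageAlong θ P ≤ T' := by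
  rintro _ ⟨x, -, rfl⟩; exact map_mem h x

theorem apply_mem_iff {P : Subgroup Ω} (x : T) : θ x ∈ imageAlong θ P ↔ (x : Ω) ∈ P := by
  refine ⟨fun ⟨y, hy, hyx⟩ => ?_, fun hx => ⟨x, hx, rfl⟩⟩
  rw [← injective h hyx]
  exact hy

theorem preimage_image {P : Subgroup Ω} (hP : P ≤ T) : preimageAlong θ (imageAlong θ P) = P := by
  ext x
  rw [mem_preimageAlong]
  exact ⟨fun ⟨hx, hm⟩ => (apply_mem_iff h ⟨x, hx⟩).1 hm,
    fun hx => ⟨hP hx, (apply_mem_iff h ⟨x, hP hx⟩).2 hx⟩⟩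

theorem image_preimage {P' : Subgroup Ω'} (hP : P' ≤ T') :
    imageAlong θ (preimageAlong θ P') = P' := by
  ext y
  constructor
  · rintro ⟨x, hx, rfl⟩
    obtain ⟨_, hm⟩ := (mem_preimageAlong θ).1 hx
    exact hm
  · intro hy
    obtain ⟨x, rfl⟩ := h.2.2.1.ge (hP hy)
    exact ⟨x, (mem_preimageAlong θ).2 ⟨x.2, hy⟩, rfl⟩

/-- The isomorphism of `P` with its image. -/
noncomputable def equivImage {P : Subgroup Ω} (hP : P ≤ T) : P ≃* imageAlong θ P :=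
  (MonoidHom.ofInjective (f := θ.comp (Subgroup.inclusion hP))
    ((injective h).comp (Subgroup.inclusion_injective hP))).trans (MulEquiv.subgroupCongr (by
      ext y
      exact ⟨fun ⟨x, hx⟩ => ⟨⟨x, hP x.2⟩, x.2, hx⟩, fun ⟨x, hx, e⟩ => ⟨⟨x, hx⟩, e⟩⟩))

theorem equivImage_apply {P : Subgroup Ω} (hP : P ≤ T) (x : P) :
    (equivImage h hP x : Ω') = θ ⟨x, hP x.2⟩ := rfl

theorem exists_map {P : Subgroup Ω} {φ : P →* Ω} (hφ : φ ∈ E.Hom P) :
    ∃ φ' ∈ E'.Hom (imageAlong θ P),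
      ∀ (x : P) (hx : θ ⟨x, src_le hφ x.2⟩ ∈ imageAlong θ P),
        φ' ⟨θ ⟨x, src_le hφ x.2⟩, hx⟩ = θ ⟨φ x, val_mem hφ x⟩ := by
  have hP := src_le hφ
  set φ' := (θ.comp (φ.codRestrict T (val_mem hφ))).comp (equivImage h hP).symm.toMonoidHom
  have key : ∀ (x : P) (hx : θ ⟨x, hP x.2⟩ ∈ imageAlong θ P),
      φ' ⟨θ ⟨x, hP x.2⟩, hx⟩ = θ ⟨φ x, val_mem hφ x⟩ := fun x hx => by
    show θ (φ.codRestrict T (val_mem hφ) ((equivImage h hP).symm ⟨_, hx⟩)) = _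
    rw [show (⟨θ ⟨x, hP x.2⟩, hx⟩ : imageAlong θ P) = equivImage h hP x from Subtype.ext rfl,
      MulEquiv.symm_apply_apply]
    rfl
  refine ⟨φ', (h.2.2.2 _ _).2 ⟨imageAlong_le h P, ?_⟩, key⟩
  have hle : preimageAlong θ (imageAlong θ P) ≤ P := (preimage_image h hP).le
  exact ⟨_, restrict_mem hφ hle, preimageAlong_le θ _, fun x => val_mem hφ _,
    fun x => ((mem_preimageAlong θ).1 x.2).2, fun x => key ⟨x, hle x.2⟩ _⟩

/-- A homomorphism whose transport is a map is a map. -/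
theorem mem_of_map {P : Subgroup Ω} (hP : P ≤ T) {φ : P →* Ω} (hφT : ∀ x, φ x ∈ T)
    {φ' : imageAlong θ P →* Ω'} (hφ' : φ' ∈ E'.Hom (imageAlong θ P))
    (hx : ∀ (x : P) (hx : θ ⟨x, hP x.2⟩ ∈ imageAlong θ P),
      φ' ⟨θ ⟨x, hP x.2⟩, hx⟩ = θ ⟨φ x, hφT x⟩) : φ ∈ E.Hom P := by
  obtain ⟨-, χ, hχ, hPT, hχT, hmem, hind⟩ := (h.2.2.2 _ _).1 hφ'
  refine mem_of_restrict hχ (preimage_image h hP).ge fun x => ?_
  have h1 := (hind ⟨x, (preimage_image h hP).ge x.2⟩).symm.trans (hx x _)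
  exact (congrArg (Subtype.val : T → Ω) (injective h h1)).symm

/-- The inverse homomorphism. -/
noncomputable def invHom : T' →* Ω :=
  T.subtype.comp ((MonoidHom.ofInjective (injective h)).trans
    (MulEquiv.subgroupCongr h.2.2.1)).symm.toMonoidHom

theorem invHom_mem (y : T') : invHom h y ∈ T := SetLike.coe_mem _

theorem invHom_apply (x : T) (hx : θ x ∈ T') : invHom h ⟨θ x, hx⟩ = x := by
  show (((MonoidHom.ofInjective (injective h)).trans (MulEquiv.subgroupCongr h.2.2.1)).symm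
    ⟨θ x, hx⟩ : Ω) = x
  rw [show (⟨θ x, hx⟩ : T') = ((MonoidHom.ofInjective (injective h)).trans
    (MulEquiv.subgroupCongr h.2.2.1)) x from Subtype.ext rfl, MulEquiv.symm_apply_apply]

theorem preimageAlong_invHom {P : Subgroup Ω} :
    preimageAlong (invHom h) P = imageAlong θ P := by
  ext y
  rw [mem_preimageAlong]
  constructor
  · rintro ⟨hy, hm⟩
    obtain ⟨x, rfl⟩ := h.2.2.1.ge hy
    rw [invHom_apply h] at hm
    exact ⟨x, hm, rfl⟩
  · rintro ⟨x, hx, rfl⟩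
    exact ⟨map_mem h x, by rw [invHom_apply h]; exact hx⟩

/-- The inverse isomorphism. -/
theorem symm : E'.IsFactorSystem ⊥ (invHom h) E := by
  refine ⟨bot_le, fun y => ?_, ?_, fun P φ => ?_⟩
  · obtain ⟨x, hx⟩ := h.2.2.1.ge y.2
    rw [show y = ⟨θ x, map_mem h x⟩ from Subtype.ext hx.symm, invHom_apply h, Subgroup.mem_bot]
    refine ⟨fun hx1 => ?_, fun h1 => ?_⟩
    · show θ x = 1
      rw [show x = 1 from Subtype.ext hx1, map_one]
    · exact congrArg Subtype.val (injective h (h1.trans (map_one θ).symm))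
  · ext x
    exact ⟨fun ⟨y, hy⟩ => hy ▸ invHom_mem h y,
      fun hx => ⟨⟨θ ⟨x, hx⟩, map_mem h _⟩, invHom_apply h _ _⟩⟩
  refine ⟨fun hφ => ⟨src_le hφ, ?_⟩, ?_⟩
  · obtain ⟨φ', hφ', hx⟩ := exists_map h hφ
    refine ⟨_, restrict_mem hφ' (preimageAlong_invHom h).le, preimageAlong_le _ _,
      fun y => val_mem hφ' _, fun y => ((mem_preimageAlong _).1 y.2).2, fun y => ?_⟩
    obtain ⟨x, hxP, hxy⟩ := (preimageAlong_invHom h).le y.2
    have e : (⟨(y : Ω'), preimageAlong_le _ _ y.2⟩ : T') = ⟨θ x, map_mem h x⟩ := Subtype.ext hxy.symm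
    have h1 : (φ'.comp (Subgroup.inclusion (preimageAlong_invHom h).le)) y =
        θ ⟨φ ⟨x, hxP⟩, val_mem hφ _⟩ :=
      (congrArg φ' (Subtype.ext hxy.symm)).trans (hx ⟨x, hxP⟩ ⟨x, hxP, rfl⟩)
    refine Eq.trans (congrArg φ (Subtype.ext (?_ : _ = (x : Ω)))) ?_ (b := φ ⟨x, hxP⟩)
    · exact (congrArg (invHom h) e).trans (invHom_apply h x _)
    · simp only [h1]
      exact (invHom_apply h ⟨φ ⟨x, hxP⟩, val_mem hφ _⟩ (map_mem h _)).symm
  · rintro ⟨hP, ψ, hψ, hψT, hψv, hmem, hind⟩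
    have hφT : ∀ x : P, φ x ∈ T := fun x => by
      have hx' : θ ⟨x, hP x.2⟩ ∈ preimageAlong (invHom h) P :=
        (preimageAlong_invHom h).ge ⟨⟨x, hP x.2⟩, x.2, rfl⟩
      have h1 := hind ⟨_, hx'⟩
      rw [show x = (⟨invHom h ⟨_, hψT hx'⟩, hmem ⟨_, hx'⟩⟩ : P) from
        Subtype.ext (invHom_apply h ⟨x, hP x.2⟩ _).symm, h1]
      exact invHom_mem h _
    refine mem_of_map h hP hφT (restrict_mem hψ (preimageAlong_invHom h).ge) fun x hx => ?_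
    have hx' := (preimageAlong_invHom h).ge hx
    have h1 := hind ⟨_, hx'⟩
    rw [show (⟨invHom h ⟨θ ⟨x, hP x.2⟩, hψT hx'⟩, hmem ⟨_, hx'⟩⟩ : P) = x from
      Subtype.ext (invHom_apply h ⟨x, hP x.2⟩ _)] at h1
    obtain ⟨z, hz⟩ := h.2.2.1.ge (val_mem hψ ⟨_, hx'⟩)
    show ψ ⟨_, hx'⟩ = _
    rw [← hz]
    refine congrArg θ (Subtype.ext ?_)
    show (z : Ω) = φ x
    rw [h1]
    exact ((congrArg (invHom h) (Subtype.ext hz.symm)).trans (invHom_apply h z (map_mem h z))).symm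

theorem imageAlong_invHom {P : Subgroup Ω'} : imageAlong (invHom h) P = preimageAlong θ P := by
  ext x
  rw [mem_preimageAlong]
  constructor
  · rintro ⟨y, hy, rfl⟩
    refine ⟨invHom_mem h y, ?_⟩
    obtain ⟨z, hz⟩ := h.2.2.1.ge y.2
    rw [show (⟨invHom h y, invHom_mem h y⟩ : T) = z from Subtype.ext
      ((congrArg (invHom h) (Subtype.ext hz.symm)).trans (invHom_apply h z (map_mem h z))), hz]
    exact hy
  · rintro ⟨hx, hm⟩
    exact ⟨⟨θ ⟨x, hx⟩, map_mem h _⟩, hm, invHom_apply h _ _⟩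

theorem autGroup_map_le {P : Subgroup Ω} (hP : P ≤ T) :
    (E.autGroup P).map (MulAut.congr (equivImage h hP)).toMonoidHom ≤
      E'.autGroup (imageAlong θ P) := by
  rintro _ ⟨α, hα, rfl⟩
  obtain ⟨φ', hφ', hx⟩ := exists_map h (autGroup_hom_mem hP hα)
  refine (mem_autGroup (imageAlong_le h P)).2 (mem_congr hφ' fun y => ?_)
  obtain ⟨x, rfl⟩ := (equivImage h hP).surjective y
  show (equivImage h hP (α ((equivImage h hP).symm (equivImage h hP x))) : Ω') = _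
  rw [MulEquiv.symm_apply_apply]
  exact (hx x (equivImage h hP x).2).symm

theorem mem_autGroup_iff {P : Subgroup Ω} (hP : P ≤ T) {α : MulAut P} :
    MulAut.congr (equivImage h hP) α ∈ E'.autGroup (imageAlong θ P) ↔ α ∈ E.autGroup P := by
  refine ⟨fun hα => ?_, fun hα => autGroup_map_le h hP ⟨α, hα, rfl⟩⟩
  refine (mem_autGroup hP).2 (mem_of_map h hP (fun x => hP (α x).2)
    (autGroup_hom_mem (imageAlong_le h P) hα) fun x hx => ?_)
  show (equivImage h hP (α ((equivImage h hP).symm (equivImage h hP x))) : Ω') = _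
  rw [MulEquiv.symm_apply_apply]
  rfl

theorem autGroup_map_eq {P : Subgroup Ω} (hP : P ≤ T) :
    (E.autGroup P).map (MulAut.congr (equivImage h hP)).toMonoidHom =
      E'.autGroup (imageAlong θ P) := by
  refine le_antisymm (autGroup_map_le h hP) fun β hβ => ?_
  obtain ⟨α, rfl⟩ := (MulAut.congr (equivImage h hP)).surjective β
  exact ⟨α, (mem_autGroup_iff h hP).1 hβ, rfl⟩

theorem isSaturated [Finite T] {p : ℕ} [Fact p.Prime] (hT : IsPGroup p T) (hE : E.IsSaturated p) :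
    E'.IsSaturated p := isSaturated_of_isFactorSystem hT hE stronglyClosed_bot h

theorem stronglyClosed {A : Subgroup Ω} (hA : E.StronglyClosed A) :
    E'.StronglyClosed (imageAlong θ A) := stronglyClosed_imageAlong h hA bot_le

/-- The image of a central subgroup is central. -/
theorem isCentral {A : Subgroup Ω} (hA : E.IsCentral A) : E'.IsCentral (imageAlong θ A) := by
  refine ⟨imageAlong_le h A, fun P' φ' hφ' => ?_⟩
  obtain ⟨hP', φ, hφ, hP, hφT, hmem, hind⟩ := (h.2.2.2 _ _).1 hφ'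
  obtain ⟨ψ, hψ, hψx, hψA⟩ := hA.2 _ φ hφ
  obtain ⟨ψ', hψ', hx⟩ := exists_map h hψ
  have e : P' ⊔ imageAlong θ A ≤ imageAlong θ (preimageAlong θ P' ⊔ A) := by
    refine sup_le ?_ (Subgroup.map_mono fun x hx => Subgroup.mem_sup_right hx)
    refine (image_preimage h hP').ge.trans (Subgroup.map_mono fun x hx => Subgroup.mem_sup_left hx)
  refine ⟨ψ'.comp (Subgroup.inclusion e), restrict_mem hψ' e, fun y => ?_, fun y => ?_⟩
  · obtain ⟨x, hxy⟩ := exists_preimage θ (hP'.trans h.2.2.1.ge) y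
    obtain rfl : y = ⟨θ ⟨x, hP x.2⟩, hmem x⟩ := Subtype.ext hxy.symm
    exact (hx (Subgroup.inclusion le_sup_left x) _).trans
      ((congrArg θ (Subtype.ext (hψx x))).trans (hind x).symm)
  · obtain ⟨_, ⟨x, hxA, rfl⟩⟩ := y
    exact (hx ⟨x, Subgroup.mem_sup_right hxA⟩ _).trans (congrArg θ (Subtype.ext (hψA ⟨x, hxA⟩)))

theorem center_le : imageAlong θ E.center ≤ E'.center := by
  rintro _ ⟨x, hx, rfl⟩
  have hle : E.center ≤ preimageAlong θ E'.center := sSup_le fun A hA y hy =>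
    (mem_preimageAlong θ).2 ⟨hA.1 hy,
      (le_sSup (show imageAlong θ A ∈ {Q | E'.IsCentral Q} from isCentral h hA) :
        imageAlong θ A ≤ E'.center) ⟨⟨y, hA.1 hy⟩, hy, rfl⟩⟩
  exact ((mem_preimageAlong θ).1 (hle hx)).2

theorem center_eq : imageAlong θ E.center = E'.center := by
  refine le_antisymm (center_le h) ?_
  have h1 := center_le (symm h)
  rw [imageAlong_invHom h] at h1
  have hle : E'.center ≤ T' := sSup_le fun A hA => hA.1
  exact (image_preimage h hle).ge.trans (Subgroup.map_mono fun x hx => h1 hx)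

theorem preimage_center : preimageAlong θ E'.center = E.center := by
  rw [← center_eq h]
  exact preimage_image h (P := E.center) (sSup_le fun A hA => hA.1)

theorem hyperfocal_le (p : ℕ) :
    imageAlong θ (E.hyperfocalSubgroup p) ≤ E'.hyperfocalSubgroup p := by
  rintro _ ⟨x, hx, rfl⟩
  have hle : E.hyperfocalSubgroup p ≤ preimageAlong θ (E'.hyperfocalSubgroup p) := by
    refine (Subgroup.closure_le _).2 ?_
    rintro _ ⟨P, α, y, hP, hα, rfl⟩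
    refine (mem_preimageAlong θ).2 ⟨mul_mem (inv_mem (hP y.2)) (hP (SetLike.coe_mem _)), ?_⟩
    let c : E.autGroup P ≃* E'.autGroup (imageAlong θ P) :=
      ((E.autGroup P).equivMapOfInjective _ (MulAut.congr (equivImage h hP)).injective).trans
        (MulEquiv.subgroupCongr (autGroup_map_eq h hP))
    refine Subgroup.subset_closure ⟨imageAlong θ P, c α, equivImage h hP y, imageAlong_le h P,
      (Transfer.map_pResidual_mulEquiv c).le ⟨α, hα, rfl⟩, ?_⟩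
    show θ ((⟨y, hP y.2⟩ : T)⁻¹ * ⟨((α : MulAut P) y : P), hP (SetLike.coe_mem _)⟩) =
      (equivImage h hP y : Ω')⁻¹ *
        (equivImage h hP ((α : MulAut P) ((equivImage h hP).symm (equivImage h hP y))) : Ω')
    rw [MulEquiv.symm_apply_apply, map_mul, map_inv]
    rfl
  exact ((mem_preimageAlong θ).1 (hle hx)).2

end iso

section transport

variable {Ω : Type*} [Group Ω] {T : Subgroup Ω} {Ω' : Type*} [Group Ω'] {T' : Subgroup Ω'}
  {E : FusionSystem T} {E' : FusionSystem T'} {θ : T →* Ω'} (h : E.IsFactorSystem ⊥ θ E')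
  {U : Subgroup Ω} {D : FusionSystem U} (hU : U ≤ T) {U' : Subgroup Ω'} {D' : FusionSystem U'}

theorem imageAlong_restr {P : Subgroup Ω} (hP : P ≤ U) :
    imageAlong (θ.comp (Subgroup.inclusion hU)) P = imageAlong θ P := by
  ext y
  exact ⟨fun ⟨x, hx, e⟩ => ⟨⟨x, hU x.2⟩, hx, e⟩, fun ⟨x, hx, e⟩ => ⟨⟨x, hP hx⟩, hx, e⟩⟩

theorem eq_imageAlong (hD : D.IsFactorSystem ⊥ (θ.comp (Subgroup.inclusion hU)) D') :
    U' = imageAlong θ U := by
  rw [← hD.2.2.1]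
  ext y
  exact ⟨fun ⟨x, e⟩ => ⟨⟨x, hU x.2⟩, x.2, e⟩, fun ⟨x, hx, e⟩ => ⟨⟨x, hx⟩, e⟩⟩

theorem exists_map_sub (hD : D.IsFactorSystem ⊥ (θ.comp (Subgroup.inclusion hU)) D')
    {P : Subgroup Ω} {φ : P →* Ω} (hφ : φ ∈ D.Hom P) :
    ∃ φ' ∈ D'.Hom (imageAlong θ P),
      ∀ (x : P) (hx : θ ⟨x, hU (src_le hφ x.2)⟩ ∈ imageAlong θ P),
        φ' ⟨θ ⟨x, hU (src_le hφ x.2)⟩, hx⟩ = θ ⟨φ x, hU (val_mem hφ x)⟩ := by
  obtain ⟨φ', hφ', hx⟩ := exists_map hD hφ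
  exact ⟨_, restrict_mem hφ' (imageAlong_restr hU (src_le hφ)).ge,
    fun x hx' => hx x ((imageAlong_restr hU (src_le hφ)).ge hx')⟩

include h

theorem exists_map_pre (hD : D.IsFactorSystem ⊥ (θ.comp (Subgroup.inclusion hU)) D')
    {P' : Subgroup Ω'} {φ' : P' →* Ω'} (hφ' : φ' ∈ D'.Hom P') :
    preimageAlong θ P' ≤ U ∧ ∃ φ ∈ D.Hom (preimageAlong θ P'),
      ∀ (x : preimageAlong θ P') (hx : θ ⟨x, preimageAlong_le θ P' x.2⟩ ∈ P') (hφx : φ x ∈ T),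
        φ' ⟨θ ⟨x, preimageAlong_le θ P' x.2⟩, hx⟩ = θ ⟨φ x, hφx⟩ := by
  have hle : preimageAlong θ P' ≤ U := by
    intro x hx
    obtain ⟨hxT, hm⟩ := (mem_preimageAlong θ).1 hx
    exact (apply_mem_iff h ⟨x, hxT⟩).1 ((eq_imageAlong hU hD).le (src_le hφ' hm))
  obtain ⟨-, φ, hφ, hP, hφU, hmem, hind⟩ := (hD.2.2.2 _ _).1 hφ'
  have hsub : preimageAlong θ P' ≤ preimageAlong (θ.comp (Subgroup.inclusion hU)) P' := fun x hx =>
    (mem_preimageAlong _).2 ⟨hle hx, ((mem_preimageAlong θ).1 hx).2⟩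
  exact ⟨hle, _, restrict_mem hφ hsub, fun x hx hφx => hind ⟨x, hsub x.2⟩⟩

/-- A subsystem has an image system. -/
theorem exists_image [Finite T] (D : FusionSystem U) : ∃ D' : FusionSystem (imageAlong θ U),
    D.IsFactorSystem ⊥ (θ.comp (Subgroup.inclusion hU)) D' := by
  have := finite_of_le (S := T) hU
  exact exists_factorSystem (θ.comp (Subgroup.inclusion hU)) D stronglyClosed_bot
    (fun x => (h.2.1 ⟨x, hU x.2⟩)) (by
      ext y
      exact ⟨fun ⟨x, e⟩ => ⟨⟨x, hU x.2⟩, x.2, e⟩, fun ⟨x, hx, e⟩ => ⟨⟨x, hx⟩, e⟩⟩)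

theorem isSubsystemOf (hD : D.IsFactorSystem ⊥ (θ.comp (Subgroup.inclusion hU)) D')
    (hDE : D.IsSubsystemOf E) : D'.IsSubsystemOf E' := by
  intro P' φ' hφ'
  obtain ⟨-, φ, hφ, hx⟩ := exists_map_pre h hU hD hφ'
  exact (h.2.2.2 _ _).2 ⟨(src_le hφ').trans ((eq_imageAlong hU hD).le.trans (imageAlong_le h U)),
    φ, hDE _ hφ, preimageAlong_le θ _, val_mem (hDE _ hφ),
    fun x => ((mem_preimageAlong θ).1 x.2).2, fun x => hx x _ _⟩

/-- Transport of automorphisms. -/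
theorem exists_aut {P : Subgroup Ω} (hP : P ≤ T) {α : MulAut P} (hα : α ∈ E.autGroup P)
    {P' : Subgroup Ω'} (e : P' = imageAlong θ P) : ∃ α' ∈ E'.autGroup P',
      ∀ (x : P) (hx : θ ⟨x, hP x.2⟩ ∈ P'),
        ((α' ⟨θ ⟨x, hP x.2⟩, hx⟩ : P') : Ω') = θ ⟨α x, hP (α x).2⟩ := by
  subst e
  refine ⟨_, (mem_autGroup_iff h hP).2 hα, fun x hx => ?_⟩
  show (equivImage h hP (α ((equivImage h hP).symm (equivImage h hP x))) : Ω') = _
  rw [MulEquiv.symm_apply_apply]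
  rfl

/-- Pulling automorphisms back. -/
theorem exists_aut_pre {P : Subgroup Ω} (hP : P ≤ T) {P' : Subgroup Ω'} (e : P' = imageAlong θ P)
    {α' : MulAut P'} (hα : α' ∈ E'.autGroup P') : ∃ α ∈ E.autGroup P,
      ∀ (x : P) (hx : θ ⟨x, hP x.2⟩ ∈ P'),
        ((α' ⟨θ ⟨x, hP x.2⟩, hx⟩ : P') : Ω') = θ ⟨α x, hP (α x).2⟩ := by
  subst e
  obtain ⟨α, rfl⟩ := (MulAut.congr (equivImage h hP)).surjective α'
  refine ⟨α, (mem_autGroup_iff h hP).1 hα, fun x hx => ?_⟩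
  show (equivImage h hP (α ((equivImage h hP).symm (equivImage h hP x))) : Ω') = _
  rw [MulEquiv.symm_apply_apply]
  rfl

include hU in
theorem imageAlong_centralizerIn :
    imageAlong θ (centralizerIn T U) = centralizerIn T' (imageAlong θ U) := by
  ext y
  constructor
  · rintro ⟨x, hx, rfl⟩
    refine ⟨map_mem h x, ?_⟩
    rintro _ ⟨z, hz, rfl⟩
    rw [← map_mul, ← map_mul]
    exact congrArg θ (Subtype.ext (hx.2 z hz))
  · rintro ⟨hy, hc⟩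
    obtain ⟨x, rfl⟩ := h.2.2.1.ge hy
    refine ⟨x, ⟨x.2, fun z hz => ?_⟩, rfl⟩
    have h1 := hc _ ⟨⟨z, hU hz⟩, hz, rfl⟩
    rw [← map_mul, ← map_mul] at h1
    exact congrArg Subtype.val (injective h h1)

theorem isInvariantIn (hD : D.IsFactorSystem ⊥ (θ.comp (Subgroup.inclusion hU)) D')
    (hI : D.IsInvariantIn E) : D'.IsInvariantIn E' := by
  have hU' := eq_imageAlong hU hD
  obtain ⟨hsub, hsc, hinv, hfrat⟩ := hI
  refine ⟨isSubsystemOf h hU hD hsub, by rw [hU']; exact stronglyClosed h hsc, ?_, ?_⟩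
  · intro P' hP' φ' hφ' α' hα'
    obtain ⟨hPU, φ, hφ, hφx⟩ := exists_map_pre h hU hD hφ'
    obtain ⟨α, hα, hαx⟩ := exists_aut_pre h hU hU' hα'
    obtain ⟨χ, hχ, hχx⟩ := hinv _ hPU φ hφ α hα
    obtain ⟨χ', hχ', hχ'x⟩ := exists_map_sub hU hD hχ
    have hle : (P'.subgroupOf U').map (U'.subtype.comp α'.toMonoidHom) ≤
        imageAlong θ (((preimageAlong θ P').subgroupOf U).map (U.subtype.comp α.toMonoidHom)) := by
      rintro _ ⟨y, hy, rfl⟩
      obtain ⟨z, hz, hzy⟩ := hU'.le y.2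
      have hm : θ ⟨z, hU hz⟩ ∈ U' := hzy ▸ y.2
      obtain rfl : y = ⟨θ ⟨z, hU hz⟩, hm⟩ := Subtype.ext hzy.symm
      exact ⟨⟨α ⟨z, hz⟩, hU (α ⟨z, hz⟩).2⟩,
        ⟨⟨z, hz⟩, (mem_preimageAlong θ).2 ⟨hU hz, hy⟩, rfl⟩, (hαx ⟨z, hz⟩ hm).symm⟩
    refine ⟨_, restrict_mem hχ' hle, fun x' hφ'x hα'x => ?_⟩
    obtain ⟨z, hz, hzx⟩ := hU'.le (hP' x'.2)
    obtain ⟨x', hx'⟩ := x'
    obtain rfl : x' = θ ⟨z, hU hz⟩ := hzx.symm
    have hzP : (z : Ω) ∈ preimageAlong θ P' := (mem_preimageAlong θ).2 ⟨hU hz, hx'⟩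
    have hu : φ ⟨z, hzP⟩ ∈ U := val_mem hφ _
    have hαz : ((α ⟨z, hz⟩ : U) : Ω) ∈
        ((preimageAlong θ P').subgroupOf U).map (U.subtype.comp α.toMonoidHom) :=
      ⟨⟨z, hz⟩, hzP, rfl⟩
    have h1 := hχ'x ⟨_, hαz⟩ ⟨⟨_, hU (α ⟨z, hz⟩).2⟩, hαz, rfl⟩
    have e2 : φ' ⟨θ ⟨z, hU hz⟩, hx'⟩ = θ ⟨φ ⟨z, hzP⟩, hU hu⟩ := hφx ⟨z, hzP⟩ hx' (hU hu)
    have e3 : (⟨φ' ⟨θ ⟨z, hU hz⟩, hx'⟩, hφ'x⟩ : U') = ⟨θ ⟨φ ⟨z, hzP⟩, hU hu⟩, e2 ▸ hφ'x⟩ :=
      Subtype.ext e2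
    refine Eq.trans ?_ ((congrArg (fun q : U' => ((α' q : U') : Ω')) e3).trans
      (hαx ⟨_, hu⟩ (e2 ▸ hφ'x))).symm
    refine Eq.trans ?_ (h1.trans (congrArg θ (Subtype.ext (hχx ⟨z, hzP⟩ hu hαz))))
    exact congrArg χ' (Subtype.ext (hαx ⟨z, hz⟩ _))
  · intro P' hP' φ' hφ'
    obtain ⟨-, φ, hφ, hPT, hφT, hmem, hind⟩ := (h.2.2.2 _ _).1 hφ'
    have hPU : preimageAlong θ P' ≤ U := by
      intro x hx
      obtain ⟨hxT, hm⟩ := (mem_preimageAlong θ).1 hx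
      exact (apply_mem_iff h ⟨x, hxT⟩).1 (hU'.le (hP' hm))
    obtain ⟨α, hα, φ₀, hφ₀, hx⟩ := hfrat _ hPU φ hφ
    obtain ⟨α', hα', hαx⟩ := exists_aut h hU hα hU'
    obtain ⟨φ₀', hφ₀', hφ₀x⟩ := exists_map_sub hU hD hφ₀
    have hle : P' ≤ imageAlong θ (preimageAlong θ P') :=
      (image_preimage h (hP'.trans (hU'.le.trans (imageAlong_le h U)))).ge
    refine ⟨α', hα', _, restrict_mem hφ₀' hle, fun y hy => ?_⟩
    obtain ⟨x, hxy⟩ := exists_preimage θ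
      (hP'.trans (hU'.le.trans ((imageAlong_le h U).trans h.2.2.1.ge))) y
    obtain rfl : y = ⟨θ ⟨x, hPT x.2⟩, hmem x⟩ := Subtype.ext hxy.symm
    have hu : φ₀ x ∈ U := val_mem hφ₀ x
    have e1 : φ₀'.comp (Subgroup.inclusion hle) ⟨θ ⟨x, hPT x.2⟩, hmem x⟩ = θ ⟨φ₀ x, hU hu⟩ :=
      hφ₀x x _
    refine (hind x).trans ((congrArg θ (Subtype.ext (hx x hu) :
      (⟨φ x, hφT x⟩ : T) = ⟨α ⟨φ₀ x, hu⟩, hU (α ⟨φ₀ x, hu⟩).2⟩)).trans ?_)
    exact ((congrArg (fun q : U' => ((α' q : U') : Ω')) (Subtype.ext e1)).trans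
      (hαx ⟨φ₀ x, hu⟩ (e1 ▸ hy))).symm

theorem isNormalIn [Finite T] {p : ℕ} [Fact p.Prime] (hT : IsPGroup p T)
    (hD : D.IsFactorSystem ⊥ (θ.comp (Subgroup.inclusion hU)) D') (hN : D.IsNormalIn E p) :
    D'.IsNormalIn E' p := by
  obtain ⟨⟨hDs, hEs, hI⟩, hext⟩ := hN
  have := finite_of_le (S := T) hU
  refine ⟨⟨isSaturated hD (hT.to_le hU) hDs, isSaturated h hT hEs, isInvariantIn h hU hD hI⟩,
    fun α' hα' => ?_⟩
  have hU' := eq_imageAlong hU hD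
  obtain ⟨α, hα, hαx⟩ := exists_aut_pre hD le_rfl (by rw [imageAlong_restr hU le_rfl, hU']) hα'
  obtain ⟨β, hβ, hβU, hβc⟩ := hext α hα
  have hC : centralizerIn T U ≤ T := inf_le_left
  have hW : U ⊔ centralizerIn T U ≤ T := sup_le hU hC
  have e : U' ⊔ centralizerIn T' U' = imageAlong θ (U ⊔ centralizerIn T U) := by
    rw [hU', ← imageAlong_centralizerIn h hU, imageAlong, imageAlong, imageAlong,
      Subgroup.subgroupOf_sup hU hC, Subgroup.map_sup]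
  obtain ⟨β', hβ', hβx⟩ := exists_aut h hW hβ e
  refine ⟨β', hβ', fun y => ?_, fun c hc => ?_⟩
  · obtain ⟨z, hz, hzy⟩ := hU'.le y.2
    have hm : θ ⟨z, hU hz⟩ ∈ U' := hzy ▸ y.2
    obtain rfl : y = ⟨θ ⟨z, hU hz⟩, hm⟩ := Subtype.ext hzy.symm
    exact (hβx (Subgroup.inclusion le_sup_left ⟨z, hz⟩) (Subgroup.mem_sup_left hm)).trans
      ((congrArg θ (Subtype.ext (hβU ⟨z, hz⟩))).trans (hαx ⟨z, hz⟩ hm).symm)
  · obtain ⟨c, hcW⟩ := c
    have hc' : c ∈ imageAlong θ (centralizerIn T U) := by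
      rw [imageAlong_centralizerIn h hU, ← hU']; exact hc
    obtain ⟨z, hz, rfl⟩ := hc'
    have hzW : (z : Ω) ∈ U ⊔ centralizerIn T U := Subgroup.mem_sup_right hz
    have h1 := hβc ⟨z, hzW⟩ hz
    have h2 := hβx ⟨z, hzW⟩ hcW
    refine (Subgroup.mem_inf).2 ?_
    have e2 : (θ z)⁻¹ * ((β' ⟨θ z, hcW⟩ : ↥(U' ⊔ centralizerIn T' U')) : Ω') =
        θ (z⁻¹ * ⟨β ⟨z, hzW⟩, hW (SetLike.coe_mem _)⟩) := by
      rw [map_mul, map_inv]
      exact congrArg ((θ z)⁻¹ * ·) h2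
    show (θ z)⁻¹ * ((β' ⟨θ z, hcW⟩ : ↥(U' ⊔ centralizerIn T' U')) : Ω') ∈ U' ∧ _ ∈ _
    rw [e2]
    obtain ⟨hd, hdc⟩ := h1
    refine ⟨hU'.ge ⟨_, hd, rfl⟩, fun w hw => ?_⟩
    obtain ⟨v, hv, rfl⟩ := hU'.le hw
    rw [← map_mul, ← map_mul]
    exact congrArg θ (Subtype.ext (hdc v hv))

end transport

/-- Factor systems through one homomorphism are unique. -/
theorem factor_unique {Ω : Type*} [Group Ω] {T A : Subgroup Ω} {Ω' : Type*} [Group Ω']
    {T' : Subgroup Ω'} {F : FusionSystem T} {θ : T →* Ω'} {E₁ E₂ : FusionSystem T'}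
    (h₁ : F.IsFactorSystem A θ E₁) (h₂ : F.IsFactorSystem A θ E₂) : E₁ = E₂ :=
  fusionSystem_ext fun P => Set.ext fun φ => (h₁.2.2.2 P φ).trans (h₂.2.2.2 P φ).symm

/-- The identity is an isomorphism of a system with itself. -/
theorem factor_refl {Ω : Type*} [Group Ω] {T : Subgroup Ω} (F : FusionSystem T) :
    F.IsFactorSystem ⊥ T.subtype F := by
  have hpre : ∀ P : Subgroup Ω, preimageAlong T.subtype P ≤ P := fun P x hx => by
    obtain ⟨_, hm⟩ := (mem_preimageAlong _).1 hx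
    exact hm
  refine ⟨bot_le, fun s => ?_, T.range_subtype, fun P φ => ⟨fun hφ => ⟨src_le hφ, ?_⟩, ?_⟩⟩
  · exact ⟨fun h => Subgroup.mem_bot.2 h, fun h => Subgroup.mem_bot.1 h⟩
  · exact ⟨_, restrict_mem hφ (hpre P), preimageAlong_le _ _, fun x => val_mem hφ _,
      fun x => hpre P x.2, fun x => rfl⟩
  · rintro ⟨hP, ψ, hψ, hψT, hψv, hmem, hind⟩
    exact mem_of_restrict hψ (fun x hx => (mem_preimageAlong _).2 ⟨hP hx, hx⟩)
      fun x => hind ⟨x, (mem_preimageAlong _).2 ⟨hP x.2, x.2⟩⟩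

/-- Two factor systems modulo the same subgroup are isomorphic. -/
theorem factor_iso {Ω : Type*} [Group Ω] {T A : Subgroup Ω} {F : FusionSystem T}
    {Ω₁ : Type*} [Group Ω₁] {T₁ : Subgroup Ω₁} {E₁ : FusionSystem T₁} {θ₁ : T →* Ω₁}
    {Ω₂ : Type*} [Group Ω₂] {T₂ : Subgroup Ω₂} {E₂ : FusionSystem T₂} {θ₂ : T →* Ω₂}
    (hA : F.StronglyClosed A) (h₁ : F.IsFactorSystem A θ₁ E₁) (h₂ : F.IsFactorSystem A θ₂ E₂) :
    ∃ κ : T₁ →* Ω₂, (∀ (x : T) (hx : θ₁ x ∈ T₁), κ ⟨θ₁ x, hx⟩ = θ₂ x) ∧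
      E₁.IsFactorSystem ⊥ κ E₂ := by
  obtain ⟨hAT, hk₁, hr₁, hHom₁⟩ := h₁
  obtain ⟨-, hk₂, hr₂, hHom₂⟩ := h₂
  let g : T →* T₁ := θ₁.codRestrict T₁ fun x => hr₁.le ⟨x, rfl⟩
  have hg : Function.Surjective g := fun y =>
    (hr₁.ge y.2).imp fun x hx => Subtype.ext hx
  have hk : g.ker ≤ θ₂.ker := fun x hx =>
    MonoidHom.mem_ker.2 ((hk₂ x).2 ((hk₁ x).1 (congrArg Subtype.val (MonoidHom.mem_ker.1 hx))))
  let κ : T₁ →* Ω₂ := g.liftOfSurjective hg ⟨θ₂, hk⟩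
  have hκ : ∀ (x : T) (hx : θ₁ x ∈ T₁), κ ⟨θ₁ x, hx⟩ = θ₂ x := fun x hx =>
    MonoidHom.liftOfRightInverse_comp_apply g _ (Function.rightInverse_surjInv hg) ⟨θ₂, hk⟩ x
  refine ⟨κ, hκ, bot_le, fun y => ?_, ?_, fun P φ₂ => ?_⟩
  · obtain ⟨x, hx⟩ := hr₁.ge y.2
    obtain rfl : y = ⟨θ₁ x, hr₁.le ⟨x, rfl⟩⟩ := Subtype.ext hx.symm
    rw [hκ, hk₂, Subgroup.mem_bot, hk₁]
  · ext z
    refine ⟨fun ⟨y, hy⟩ => ?_, fun hz => ?_⟩
    · obtain ⟨x, hx⟩ := hr₁.ge y.2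
      obtain rfl : y = ⟨θ₁ x, hr₁.le ⟨x, rfl⟩⟩ := Subtype.ext hx.symm
      exact hy ▸ hr₂.le ⟨x, (hκ x _).symm⟩
    · obtain ⟨x, rfl⟩ := hr₂.ge hz
      exact ⟨⟨θ₁ x, hr₁.le ⟨x, rfl⟩⟩, hκ x _⟩
  have hpre : preimageAlong θ₁ (preimageAlong κ P) = preimageAlong θ₂ P := by
    ext x
    simp only [mem_preimageAlong]
    exact ⟨fun ⟨hx, hy, hm⟩ => ⟨hx, hκ ⟨x, hx⟩ hy ▸ hm⟩,
      fun ⟨hx, hm⟩ => ⟨hx, hr₁.le ⟨_, rfl⟩, (hκ ⟨x, hx⟩ _).symm ▸ hm⟩⟩
  have hP₁ : preimageAlong κ P ≤ T₁ := preimageAlong_le κ P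
  rw [hHom₂]
  refine and_congr_right fun hP => ⟨?_, ?_⟩
  · rintro ⟨φ, hφ, hPT, hφT, hmem, hind⟩
    have hm₁ : ∀ x : preimageAlong θ₂ P, θ₁ ⟨x, hPT x.2⟩ ∈ preimageAlong κ P := fun x => by
      obtain ⟨hx, hm⟩ := (mem_preimageAlong θ₁).1 (hpre.ge x.2)
      exact hm
    obtain ⟨φ₁, hφ₁⟩ := exists_induced θ₁ hPT φ hφT (fun x hx => (hk₁ _).2 (by
      have hxA : (x : Ω) ∈ A := (hk₁ _).1 hx
      exact stronglyClosed_map hA hφ x hxA)) hm₁ (fun y => by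
        obtain ⟨x, hx⟩ := hr₁.ge (hP₁ y.2)
        exact ⟨⟨x, hpre.le ((mem_preimageAlong θ₁).2 ⟨x.2, hx.symm ▸ y.2⟩)⟩, hx⟩)
    refine ⟨φ₁, (hHom₁ _ _).2 ⟨hP₁, _, restrict_mem hφ hpre.le, preimageAlong_le θ₁ _,
      fun x => hφT _, fun x => ((mem_preimageAlong θ₁).1 x.2).2, fun x => hφ₁ ⟨x, hpre.le x.2⟩⟩,
      hP₁, fun y => ?_, fun y => ((mem_preimageAlong κ).1 y.2).2, fun y => ?_⟩
    · obtain ⟨y, hy⟩ := y
      obtain ⟨x, rfl⟩ := hr₁.ge (hP₁ hy)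
      have hxP : (x : Ω) ∈ preimageAlong θ₂ P :=
        hpre.le ((mem_preimageAlong θ₁).2 ⟨x.2, hy⟩)
      exact (hφ₁ ⟨x, hxP⟩).symm ▸ hr₁.le ⟨_, rfl⟩
    · obtain ⟨y, hy⟩ := y
      obtain ⟨x, rfl⟩ := hr₁.ge (hP₁ hy)
      have hxP : (x : Ω) ∈ preimageAlong θ₂ P :=
        hpre.le ((mem_preimageAlong θ₁).2 ⟨x.2, hy⟩)
      refine Eq.trans (congrArg φ₂ (Subtype.ext (hκ x _))) ((hind ⟨x, hxP⟩).trans ?_)
      exact ((congrArg κ (Subtype.ext (hφ₁ ⟨x, hxP⟩))).trans (hκ _ (hr₁.le ⟨_, rfl⟩))).symm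
  · rintro ⟨φ₁, hφ₁, hP₁', hφ₁T, hmem₁, hind₁⟩
    obtain ⟨-, φ, hφ, hPT, hφT, hmem, hind⟩ := (hHom₁ _ _).1 hφ₁
    refine ⟨_, restrict_mem hφ hpre.ge, preimageAlong_le θ₂ _, fun x => hφT _,
      fun x => ((mem_preimageAlong θ₂).1 x.2).2, fun x => ?_⟩
    have h1 := hind₁ ⟨_, hmem ⟨x, hpre.ge x.2⟩⟩
    refine Eq.trans (congrArg φ₂ (Subtype.ext (hκ _ _).symm)) (h1.trans ?_)
    exact (congrArg κ (Subtype.ext (hind ⟨x, hpre.ge x.2⟩))).trans (hκ _ (hr₁.le ⟨_, rfl⟩))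

/-- An image of a subnormal subsystem is subnormal. -/
theorem isSubnormalIn {Ω : Type*} [Group Ω] {T U : Subgroup Ω} {Ω' : Type*} [Group Ω']
    {T' U' : Subgroup Ω'} {E : FusionSystem T} {E' : FusionSystem T'} {θ : T →* Ω'} [Finite T]
    {p : ℕ} [Fact p.Prime] (hT : IsPGroup p T) (h : E.IsFactorSystem ⊥ θ E')
    {D : FusionSystem U} (hU : U ≤ T) {D' : FusionSystem U'}
    (hD : D.IsFactorSystem ⊥ (θ.comp (Subgroup.inclusion hU)) D') (hN : D.IsSubnormalIn E p) :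
    D'.IsSubnormalIn E' p := by
  suffices H : ∀ {V T : Subgroup Ω} (C : FusionSystem V) (E : FusionSystem T) (q : ℕ),
      C.IsSubnormalIn E q → Finite T → Fact q.Prime → IsPGroup q T →
        ∀ (θ : T →* Ω') {T' : Subgroup Ω'} (E' : FusionSystem T'), E.IsFactorSystem ⊥ θ E' →
          ∀ (hV : V ≤ T) {V' : Subgroup Ω'} (C' : FusionSystem V'),
            C.IsFactorSystem ⊥ (θ.comp (Subgroup.inclusion hV)) C' → C'.IsSubnormalIn E' q from
    H D E p hN ‹_› ‹_› hT θ E' h hU D' hD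
  intro V T C E q hCE
  induction hCE with
  | refl F q =>
    intro _ _ _ θ T' E' h hV V' C' hC
    have hC' : F.IsFactorSystem ⊥ θ C' := hC
    obtain rfl : V' = T' := hC'.2.2.1.symm.trans h.2.2.1
    obtain rfl := factor_unique hC' h
    exact .refl _ _
  | @step U T C D E q hCD hDE ih =>
    intro hfin hq hT θ T' E' h hV V' C' hC
    have hU : U ≤ T := hDE.1.2.2.2.1.1
    obtain ⟨D', hD'⟩ := exists_image h hU D
    exact .step (ih (finite_of_le hU) hq (hT.to_le hU) _ D' hD'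
      (le_of_isSubsystemOf (isSubsystemOf_of_subnormal hCD)) C' hC) (isNormalIn h hU hT hD' hDE)

section simple

variable {Ω : Type*} [Group Ω] {T : Subgroup Ω} {Ω' : Type*} [Group Ω'] {T' : Subgroup Ω'}
  {E : FusionSystem T} {E' : FusionSystem T'} {θ : T →* Ω'} (h : E.IsFactorSystem ⊥ θ E')
include h

theorem finite_target [Finite T] : Finite T' :=
  Finite.of_surjective (fun x : T => (⟨θ x, map_mem h x⟩ : T'))
    fun y => (h.2.2.1.ge y.2).imp fun x hx => Subtype.ext hx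

theorem isPGroup_target {p : ℕ} (hT : IsPGroup p T) : IsPGroup p T' :=
  hT.of_surjective (θ.codRestrict T' (map_mem h))
    fun y => (h.2.2.1.ge y.2).imp fun x hx => Subtype.ext hx

/-- An isomorphic copy of a simple system is simple. -/
theorem isSimple [Finite T] {p : ℕ} [Fact p.Prime] (hT : IsPGroup p T) (hE : E.IsSimple p) :
    E'.IsSimple p := by
  obtain ⟨hs, hne, hsim⟩ := hE
  have := finite_target h
  have hT' := isPGroup_target h hT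
  have hi := symm h
  refine ⟨isSaturated h hT hs, fun h0 => hne ?_, fun U' D' hN => ?_⟩
  · rw [eq_bot_iff]
    intro x hx
    have h1 := map_mem h ⟨x, hx⟩
    rw [h0, Subgroup.mem_bot] at h1
    exact congrArg Subtype.val (injective h (h1.trans (map_one θ).symm))
  have hU' : U' ≤ T' := hN.1.2.2.2.1.1
  obtain ⟨D, hD⟩ := exists_image hi hU' D'
  rcases hsim _ D (isNormalIn hi hU' hT' hD hN) with h0 | ⟨hUT, hHom⟩
  · left
    rw [eq_bot_iff]
    intro y hy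
    have h1 : invHom h ⟨y, hU' hy⟩ ∈ imageAlong (invHom h) U' := ⟨_, hy, rfl⟩
    rw [h0, Subgroup.mem_bot] at h1
    exact congrArg Subtype.val (injective hi (h1.trans (map_one _).symm))
  · right
    refine ⟨le_antisymm hU' fun y hy => (apply_mem_iff hi ⟨y, hy⟩).1 (hUT.ge (invHom_mem h _)),
      fun P => Set.Subset.antisymm (hN.1.2.2.1 P) fun φ hφ => ?_⟩
    obtain ⟨ψ, hψ, hx⟩ := exists_map hi hφ
    have hPU : P ≤ U' := (src_le hφ).trans fun y hy =>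
      (apply_mem_iff hi ⟨y, hy⟩).1 (hUT.ge (invHom_mem h _))
    have hφU : ∀ x, φ x ∈ U' := fun x =>
      (apply_mem_iff hi ⟨φ x, val_mem hφ x⟩).1 (hUT.ge (invHom_mem h _))
    rw [← hHom] at hψ
    exact mem_of_map hD hPU hφU (restrict_mem hψ (imageAlong_restr hU' hPU).le)
      fun x hx' => hx x _

theorem hyperfocal_eq (p : ℕ) (hh : E.hyperfocalSubgroup p = T) :
    E'.hyperfocalSubgroup p = T' := by
  refine le_antisymm ((Subgroup.closure_le _).2 ?_) fun y hy => hyperfocal_le h p ?_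
  · rintro _ ⟨P, α, x, hP, -, rfl⟩
    exact mul_mem (inv_mem (hP x.2)) (hP (SetLike.coe_mem _))
  · obtain ⟨x, rfl⟩ := h.2.2.1.ge hy
    exact ⟨x, hh.ge x.2, rfl⟩

/-- An isomorphic copy of a quasisimple system is quasisimple. -/
theorem quasisimple [Finite T] {p : ℕ} [Fact p.Prime] (hT : IsPGroup p T)
    (hE : E.Quasisimple p) : E'.Quasisimple p := by
  obtain ⟨hs, hh, hsim⟩ := hE
  refine ⟨isSaturated h hT hs, hyperfocal_eq h p hh, fun Q' hQ' => ?_⟩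
  have hc : E.StronglyClosed E.center := Fusion87.stronglyClosed_center E
  have h2 := factor_comp h hQ' (Or.inl (injective h))
  rw [preimage_center h] at h2
  obtain ⟨Q, hQ⟩ := exists_factorSystem (QuotientGroup.mk' (E.center.subgroupOf T)) E hc
    (S' := ⊤) (fun s => (QuotientGroup.eq_one_iff s).trans Subgroup.mem_subgroupOf)
    (MonoidHom.range_eq_top.2 (QuotientGroup.mk'_surjective _))
  obtain ⟨κ, -, hκ⟩ := factor_iso hc hQ h2
  exact isSimple hκ ((hT.to_quotient _).of_equiv Subgroup.topEquiv.symm) (hsim Q hQ)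

end simple

section conjugate

variable {Ω : Type*} [Group Ω] {S U : Subgroup Ω} {F : FusionSystem S} {D : FusionSystem U}

/-- A system is invariant under the automorphisms of the group it lives on. -/
theorem conj_clause {α : MulAut S} (hα : α ∈ F.autGroup S) {P : Subgroup Ω} (hP : P ≤ S)
    {φ : P →* Ω} (hφ : φ ∈ F.Hom P) :
    ∃ χ ∈ F.Hom ((P.subgroupOf S).map (S.subtype.comp α.toMonoidHom)),
      ∀ (x : P) (hφx : φ x ∈ S)
        (hαx : ((α ⟨x, hP x.2⟩ : S) : Ω) ∈ (P.subgroupOf S).map (S.subtype.comp α.toMonoidHom)),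
        χ ⟨(α ⟨x, hP x.2⟩ : S), hαx⟩ = ((α ⟨φ x, hφx⟩ : S) : Ω) := by
  have hQ : (P.subgroupOf S).map (S.subtype.comp α.toMonoidHom) ≤ S := by
    rintro _ ⟨x, -, rfl⟩; exact SetLike.coe_mem _
  have h1 := restrict_mem (autGroup_hom_mem le_rfl (inv_mem hα)) hQ
  obtain ⟨μ, hμ, hμx⟩ := exists_comp h1 hφ (fun y => by
    obtain ⟨_, x, hx, rfl⟩ := y
    show ((α⁻¹ (α x) : S) : Ω) ∈ P
    rw [MulAut.inv_apply_self]
    exact hx)
  obtain ⟨χ, hχ, hχx⟩ := exists_comp hμ (autGroup_hom_mem le_rfl hα) fun y => val_mem hμ y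
  refine ⟨χ, hχ, fun x hφx hαx => ?_⟩
  rw [hχx]
  refine congrArg (fun q : S => ((α q : S) : Ω)) (Subtype.ext ?_)
  show μ _ = φ x
  rw [hμx]
  refine congrArg φ (Subtype.ext ?_)
  show ((α⁻¹ (α ⟨x, hP x.2⟩) : S) : Ω) = (x : Ω)
  rw [MulAut.inv_apply_self]

/-- An invariant system is carried to itself by an automorphism. -/
theorem aut_iso {A : Subgroup (MulAut U)} {α : MulAut U} (hα : α ∈ A)
    (hinv : ∀ (P : Subgroup Ω) (hP : P ≤ U) (φ : P →* Ω), φ ∈ D.Hom P → ∀ β ∈ A,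
      ∃ χ ∈ D.Hom ((P.subgroupOf U).map (U.subtype.comp β.toMonoidHom)),
        ∀ (x : P) (hφx : φ x ∈ U)
          (hβx : ((β ⟨x, hP x.2⟩ : U) : Ω) ∈ (P.subgroupOf U).map (U.subtype.comp β.toMonoidHom)),
          χ ⟨(β ⟨x, hP x.2⟩ : U), hβx⟩ = ((β ⟨φ x, hφx⟩ : U) : Ω)) :
    D.IsFactorSystem ⊥ (U.subtype.comp α.toMonoidHom) D := by
  refine ⟨bot_le, fun s => ?_, ?_, fun P φ' => ⟨fun hφ' => ?_, ?_⟩⟩
  · refine ⟨fun h => ?_, fun h => ?_⟩
    · have h1 : α s = 1 := Subtype.ext h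
      rw [Subgroup.mem_bot, (map_eq_one_iff _ α.injective).1 h1]
      rfl
    · show ((α s : U) : Ω) = 1
      rw [show s = 1 from Subtype.ext (Subgroup.mem_bot.1 h), map_one]
      rfl
  · rw [MonoidHom.range_comp, MonoidHom.range_eq_top.2 α.surjective, ← MonoidHom.range_eq_map,
      U.range_subtype]
  · have hP := src_le hφ'
    refine ⟨hP, ?_⟩
    obtain ⟨χ, hχ, hx⟩ := hinv P hP φ' hφ' α⁻¹ (inv_mem hα)
    have hle : preimageAlong (U.subtype.comp α.toMonoidHom) P ≤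
        (P.subgroupOf U).map (U.subtype.comp (α⁻¹ : MulAut U).toMonoidHom) := fun z hz => by
      obtain ⟨hzU, hm⟩ := (mem_preimageAlong _).1 hz
      refine ⟨α ⟨z, hzU⟩, hm, ?_⟩
      show ((α⁻¹ (α ⟨z, hzU⟩) : U) : Ω) = z
      rw [MulAut.inv_apply_self]
    refine ⟨_, restrict_mem hχ hle, preimageAlong_le _ _, fun z => val_mem hχ _,
      fun z => ((mem_preimageAlong _).1 z.2).2, fun z => ?_⟩
    obtain ⟨z, hz⟩ := z
    obtain ⟨hzU, hm⟩ := (mem_preimageAlong _).1 hz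
    have e : ((α⁻¹ (α ⟨z, hzU⟩) : U) : Ω) = z := by rw [MulAut.inv_apply_self]
    have h2 := hx ⟨_, hm⟩ (val_mem hφ' _) (e.symm ▸ hle hz)
    have h3 : χ ⟨z, hle hz⟩ = ((α⁻¹ ⟨φ' ⟨_, hm⟩, val_mem hφ' _⟩ : U) : Ω) :=
      (congrArg χ (Subtype.ext e.symm)).trans h2
    show φ' ⟨_, hm⟩ = ((α ⟨χ ⟨z, hle hz⟩, _⟩ : U) : Ω)
    simp only [h3]
    rw [show (⟨((α⁻¹ ⟨φ' ⟨_, hm⟩, val_mem hφ' _⟩ : U) : Ω), SetLike.coe_mem _⟩ : U) =
      α⁻¹ ⟨φ' ⟨_, hm⟩, val_mem hφ' _⟩ from rfl, MulAut.apply_inv_self]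
  · rintro ⟨hP, φ, hφ, hPU, hφU, hmem, hind⟩
    obtain ⟨χ, hχ, hx⟩ := hinv _ hPU φ hφ α hα
    have hle : P ≤ ((preimageAlong (U.subtype.comp α.toMonoidHom) P).subgroupOf U).map
        (U.subtype.comp α.toMonoidHom) := fun y hy => by
      obtain ⟨x, hx'⟩ := α.surjective ⟨y, hP hy⟩
      have e : ((α x : U) : Ω) = y := congrArg Subtype.val hx'
      refine ⟨x, (mem_preimageAlong _).2 ⟨x.2, ?_⟩, e⟩
      show ((α x : U) : Ω) ∈ P
      rw [e]; exact hy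
    refine mem_of_restrict hχ hle fun y => ?_
    obtain ⟨y, hy⟩ := y
    obtain ⟨x, hxP, rfl⟩ := hle hy
    exact (hind ⟨x, hxP⟩).trans (hx ⟨x, hxP⟩ (hφU _) (hle hy)).symm

/-- The image of a subnormal subsystem under a map on its group is subnormal. -/
theorem conj_isSubnormalIn [Finite S] {p : ℕ} [Fact p.Prime] (hS : IsPGroup p S)
    {T : Subgroup Ω} {C : FusionSystem T} (hC : C.IsSubnormalIn F p) {γ : T →* Ω}
    (hγ : γ ∈ F.Hom T) {R : Subgroup Ω} {E : FusionSystem R} (hE : C.IsFactorSystem ⊥ γ E) :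
    E.IsSubnormalIn F p := by
  suffices H : ∀ {T S : Subgroup Ω} (C : FusionSystem T) (F : FusionSystem S) (q : ℕ),
      C.IsSubnormalIn F q → Finite S → Fact q.Prime → IsPGroup q S → ∀ γ ∈ F.Hom T,
        ∀ {R : Subgroup Ω} (E : FusionSystem R), C.IsFactorSystem ⊥ γ E → E.IsSubnormalIn F q from
    H C F p hC ‹_› ‹_› hS γ hγ E hE
  intro T S C F q hC
  induction hC with
  | refl F q =>
    intro hfin _ _ γ hγ R E hE
    have := hfin
    obtain ⟨α, hα, hαx⟩ := exists_aut_of_hom hγ (val_mem hγ)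
    have hiso := aut_iso hα fun P hP φ hφ β hβ => conj_clause hβ hP hφ
    have e : (Subgroup.subtype _).comp α.toMonoidHom = γ := MonoidHom.ext hαx
    rw [e] at hiso
    obtain rfl : R = _ := hE.2.2.1.symm.trans hiso.2.2.1
    obtain rfl := factor_unique hE hiso
    exact .refl _ _
  | @step U S C D F q hCD hDF ih =>
    intro hfin hq hS γ hγ R E hE
    have := hfin
    obtain ⟨-, -, -, hUsc, hinv, hfrat⟩ := hDF.1
    have hTU : _ ≤ U := le_of_isSubsystemOf (isSubsystemOf_of_subnormal hCD)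
    obtain ⟨α, hα, γ₀, hγ₀, hx⟩ := hfrat _ hTU γ hγ
    have := finite_of_le (S := S) hUsc.1
    have := finite_of_le (S := U) hTU
    obtain ⟨E₀, hE₀⟩ := exists_factorSystem γ₀ C stronglyClosed_bot (S' := γ₀.range)
      (fun s => (map_eq_one_iff _ (D.injective_of_mem hγ₀)).trans
        ⟨fun h => by rw [h]; rfl, fun h => Subtype.ext (Subgroup.mem_bot.1 h)⟩) rfl
    have h0 := ih ‹_› hq (hS.to_le hUsc.1) γ₀ hγ₀ E₀ hE₀
    have hαD := aut_iso hα hinv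
    have hR₀ : γ₀.range ≤ U := range_le hγ₀
    obtain ⟨E₁, hE₁⟩ := exists_image hαD hR₀ E₀
    have h1 := isSubnormalIn (hS.to_le hUsc.1) hαD hR₀ hE₁ h0
    have h2 := factor_comp hE₀ hE₁ (Or.inl (D.injective_of_mem hγ₀))
    rw [show preimageAlong γ₀ (⊥ : Subgroup Ω) = ⊥ from by
      rw [eq_bot_iff]
      intro x hx
      obtain ⟨hxT, hm⟩ := (mem_preimageAlong γ₀).1 hx
      exact congrArg Subtype.val
        (D.injective_of_mem hγ₀ ((Subgroup.mem_bot.1 hm).trans (map_one γ₀).symm))] at h2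
    rw [show compAlong γ₀ hE₀.2.2.1
      ((U.subtype.comp α.toMonoidHom).comp (Subgroup.inclusion hR₀)) = γ from MonoidHom.ext fun x =>
      (hx x (val_mem hγ₀ x)).symm] at h2
    obtain rfl : R = _ := hE.2.2.1.symm.trans h2.2.2.1
    obtain rfl := factor_unique hE h2
    exact .step h1 hDF

end conjugate

end Cfsg.Agent.Lib.Fusion.Iso
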