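/-
The central product of a normal subgroup and a normal subsystem centralizing it is normal.
-/
import Cfsg.Agent.Lib.Fusion.CentralProduct
import Cfsg.Agent.Lib.Fusion.CentralizerNormal
import Cfsg.Agent.Lib.Fusion.Solvable
import Cfsg.Agent.Lib.Fusion.Normal
import Cfsg.Agent.Lib.Fusion.QuasisimpleBasic
import Cfsg.Agent.Lib.Fusion.PPowerNormal
import Cfsg.Agent.Lib.Fusion.TrivialAction
import Cfsg.Agent.Lib.Fusion87.Inner
import Cfsg.Agent.Lib.Fusion87.Central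
import Cfsg.Agent.S5119

set_option autoImplicit false

namespace Cfsg.Agent.Lib.Fusion.FittingProduct

open Cfsg Cfsg.FusionSystem
open Cfsg.Agent.Lib.FusionFactor (exists_productSystem exists_factorSystem)

universe u

variable {Ω : Type u} [Group Ω] {S T U R : Subgroup Ω} {F : FusionSystem S} {E : FusionSystem T}
  {D : FusionSystem U} {p : ℕ}

/-- A map of a system centralizing `R` fixes the elements of `R` in its source. -/
theorem apply_eq_of_mem (hc : ∀ P, E.Hom P ⊆ F.centralizerHom R P) {P : Subgroup Ω} {φ : P →* Ω}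
    (hφ : φ ∈ E.Hom P) (x : P) (hx : (x : Ω) ∈ R) : φ x = x := by
  obtain ⟨-, -, -, ψ, -, hψP, hψR⟩ := hc P hφ
  rw [← hψP x]
  exact (congrArg ψ (Subtype.ext rfl)).trans (hψR ⟨x, hx⟩)

theorem comm_of_centralizes (hc : ∀ P, E.Hom P ⊆ F.centralizerHom R P) {r t : Ω} (hr : r ∈ R)
    (ht : t ∈ T) : r * t = t * r :=
  Subgroup.mem_centralizer_iff.1 ((hc T (subtype_mem le_rfl)).2.1 ht).2 r hr

/-- `R ∩ T` is central in a saturated system over `T` centralizing `R`. -/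
theorem isCentral_inf [Fact p.Prime] [Finite T] (hT : IsPGroup p T) (hE : E.IsSaturated p)
    (hc : ∀ P, E.Hom P ⊆ F.centralizerHom R P) : E.IsCentral (R ⊓ T) := by
  refine isCentral_of_fixed hT hE inf_le_right fun x hx y hy => ?_
  obtain ⟨φ, hφ, rfl⟩ := hy
  exact apply_eq_of_mem hc hφ _ hx.1

/-- The central product exists. -/
theorem exists_centralProduct [Fact p.Prime] [Finite S] (hS : IsPGroup p S) (hRS : R ≤ S)
    (hTS : T ≤ S) (hE : E.IsSaturated p) (hc : ∀ P, E.Hom P ⊆ F.centralizerHom R P) :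
    ∃ D : FusionSystem (R ⊔ T), IsCentralProductOf (innerFusionSystem R) E D := by
  haveI : Finite R := finite_of_le hRS
  haveI : Finite T := finite_of_le hTS
  haveI : Finite (R.prod T : Subgroup (Ω × Ω)) :=
    Finite.of_equiv _ (Subgroup.prodEquiv R T).symm.toEquiv
  obtain ⟨D₀, hD₀⟩ := exists_productSystem (innerFusionSystem R) E
  let θ : ↥(R.prod T) →* Ω := MonoidHom.mk' (fun z => (z : Ω × Ω).1 * (z : Ω × Ω).2) (by
    rintro ⟨⟨a, b⟩, hab⟩ ⟨⟨a', b'⟩, hab'⟩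
    show a * a' * (b * b') = a * b * (a' * b')
    have h := comm_of_centralizes hc (Subgroup.mem_prod.1 hab').1 (Subgroup.mem_prod.1 hab).2
    calc a * a' * (b * b') = a * (a' * b) * b' := by group
      _ = a * (b * a') * b' := by rw [h]
      _ = a * b * (a' * b') := by group)
  set Z : Subgroup (Ω × Ω) := θ.ker.map (R.prod T).subtype with hZdef
  have hZle : Z ≤ R.prod T := Subgroup.map_subtype_le _
  have hZmem : ∀ x ∈ Z, x.1 ∈ R ∧ x.2 ∈ T ∧ x.2 = x.1⁻¹ := by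
    rintro _ ⟨⟨⟨a, b⟩, hab⟩, hk, rfl⟩
    have hk' : a * b = 1 := hk
    exact ⟨(Subgroup.mem_prod.1 hab).1, (Subgroup.mem_prod.1 hab).2,
      eq_inv_of_mul_eq_one_right hk'⟩
  have hker : ∀ s, θ s = 1 ↔ (s : Ω × Ω) ∈ Z := fun s =>
    ⟨fun h => ⟨s, h, rfl⟩, fun ⟨w, hw, hws⟩ => by rw [← Subtype.ext hws]; exact hw⟩
  have hcen : D₀.IsCentral Z := by
    refine isCentral_of_fixed (isPGroup_prod (hS.to_le hRS) (hS.to_le hTS))
      (isSaturated_product (hS.to_le hRS) (hS.to_le hTS)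
        (Fusion87.isSaturated_inner (hS.to_le hRS)) hE hD₀) hZle fun x hx y hy => ?_
    obtain ⟨φ, hφ, rfl⟩ := hy
    obtain ⟨-, φ₁, ⟨-, g, hg, hgx⟩, φ₂, hφ₂, heq⟩ := (hD₀ _ φ).1 hφ
    obtain ⟨ha, hb, hab⟩ := hZmem x hx
    rw [heq ⟨x, Subgroup.mem_zpowers x⟩ ⟨x, Subgroup.mem_zpowers x, rfl⟩
      ⟨x, Subgroup.mem_zpowers x, rfl⟩]
    refine Prod.ext ?_ (apply_eq_of_mem hc hφ₂ _ ?_)
    · have haT : x.1 ∈ T := by
        rw [hab] at hb
        exact Subgroup.inv_mem_iff T |>.1 hb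
      rw [hgx]
      show g * x.1 * g⁻¹ = x.1
      rw [comm_of_centralizes hc hg haT, mul_inv_cancel_right]
    · show x.2 ∈ R
      rw [hab]
      exact Subgroup.inv_mem _ ha
  have hrange : θ.range = R ⊔ T := by
    refine le_antisymm ?_ (sup_le (fun r hr => ?_) fun t ht => ?_)
    · rintro _ ⟨⟨⟨a, b⟩, hab⟩, rfl⟩
      exact Subgroup.mul_mem_sup (Subgroup.mem_prod.1 hab).1 (Subgroup.mem_prod.1 hab).2
    · exact ⟨⟨(r, 1), Subgroup.mem_prod.2 ⟨hr, T.one_mem⟩⟩, mul_one r⟩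
    · exact ⟨⟨(1, t), Subgroup.mem_prod.2 ⟨R.one_mem, ht⟩⟩, one_mul t⟩
  obtain ⟨D, hD⟩ := exists_factorSystem θ D₀ (stronglyClosed_of_isCentral' hcen) hker hrange
  refine ⟨D, D₀, hD₀, Z, θ, le_sSup hcen, ?_, ?_, fun x _ => mul_one x, fun y _ => one_mul y, hD⟩
  · rw [eq_bot_iff]
    rintro ⟨a, b⟩ ⟨hx, hx'⟩
    have hb : b = 1 := Subgroup.mem_bot.1 (Subgroup.mem_prod.1 hx').2
    have h := (hZmem _ hx).2.2
    subst hb
    rw [Subgroup.mem_bot, Prod.mk_eq_one]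
    exact ⟨inv_eq_one.1 h.symm, rfl⟩
  · rw [eq_bot_iff]
    rintro ⟨a, b⟩ ⟨hx, hx'⟩
    have ha : a = 1 := Subgroup.mem_bot.1 (Subgroup.mem_prod.1 hx').1
    have h := (hZmem _ hx).2.2
    subst ha
    rw [Subgroup.mem_bot, Prod.mk_eq_one]
    exact ⟨rfl, h.trans inv_one⟩

/-- The central product is saturated. -/
theorem isSaturated_centralProduct [Fact p.Prime] [Finite S] (hS : IsPGroup p S) (hRS : R ≤ S)
    (hTS : T ≤ S) (hE : E.IsSaturated p) (hcp : IsCentralProductOf (innerFusionSystem R) E D) :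
    D.IsSaturated p := by
  haveI : Finite R := finite_of_le hRS
  haveI : Finite T := finite_of_le hTS
  haveI : Finite (R.prod T : Subgroup (Ω × Ω)) :=
    Finite.of_equiv _ (Subgroup.prodEquiv R T).symm.toEquiv
  obtain ⟨D₀, hD₀, Z, θ, hZc, -, -, -, -, hfac⟩ := hcp
  refine isSaturated_of_isFactorSystem (isPGroup_prod (hS.to_le hRS) (hS.to_le hTS))
    (isSaturated_product (hS.to_le hRS) (hS.to_le hTS) (Fusion87.isSaturated_inner (hS.to_le hRS))
      hE hD₀) ⟨hfac.1, fun P hP φ hφ x => ?_⟩ hfac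
  rw [Fusion87.apply_eq_of_mem_center hφ x (hZc (hP x.2))]
  exact hP x.2

/-- Every map of the central product is a map of `F`. -/
theorem isSubsystemOf_centralProduct [Finite S] (hRS : R ≤ S) (hTS : T ≤ S)
    (hc : ∀ P, E.Hom P ⊆ F.centralizerHom R P)
    (hcp : IsCentralProductOf (innerFusionSystem R) E D) : D.IsSubsystemOf F := by
  haveI : Finite R := finite_of_le hRS
  haveI : Finite T := finite_of_le hTS
  obtain ⟨-, hcomm, -⟩ := CentralProduct.top_eq_and_comm hcp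
  intro P φ hφ
  obtain ⟨P₁, P₂, φ₁, φ₂, ⟨hP₁, g, hg, hgx⟩, hφ₂, hx⟩ := CentralProduct.exists_decomp hcp hφ
  obtain ⟨-, -, -, ψ, hψ, hψP, hψR⟩ := hc P₂ hφ₂
  obtain ⟨χ, hχ, hχx⟩ := exists_comp hψ (F.conj_mem le_rfl (hRS hg)) (val_mem hψ)
  have hle : P ≤ P₂ ⊔ R := fun x hx' => by
    obtain ⟨a, b, hab, -⟩ := hx ⟨x, hx'⟩
    rw [show x = a * b from hab]
    exact Subgroup.mul_mem _ (Subgroup.mem_sup_right (hP₁ a.2)) (Subgroup.mem_sup_left b.2)
  refine mem_of_restrict hχ hle fun x => ?_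
  obtain ⟨a, b, hab, hφab⟩ := hx x
  rw [hφab, hgx, hχx]
  have e : ψ ⟨x, hle x.2⟩ = (a : Ω) * φ₂ b := by
    rw [show (⟨x, hle x.2⟩ : (P₂ ⊔ R : Subgroup Ω)) =
      Subgroup.inclusion (le_sup_right : R ≤ P₂ ⊔ R) ⟨a, hP₁ a.2⟩ *
        Subgroup.inclusion (le_sup_left : P₂ ≤ P₂ ⊔ R) b from
      Subtype.ext hab, map_mul, hψR, hψP]
  show _ = g * ψ ⟨x, hle x.2⟩ * g⁻¹
  rw [e]
  calc g * (a : Ω) * g⁻¹ * φ₂ b = g * a * g⁻¹ * (φ₂ b * g * g⁻¹) := by group
    _ = g * a * g⁻¹ * (g * φ₂ b * g⁻¹) := by rw [hcomm g hg _ (val_mem hφ₂ b)]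
    _ = g * ((a : Ω) * φ₂ b) * g⁻¹ := by group

/-- A map of `F` with source `P ⊔ R` maps `R` into `R`, for `R` normal. -/
theorem exists_ext_of_isNormal (hR : F.IsNormal R) {P : Subgroup Ω} {φ : P →* Ω}
    (hφ : φ ∈ F.Hom P) :
    ∃ ψ ∈ F.Hom (P ⊔ R), (∀ x : P, ψ (Subgroup.inclusion le_sup_left x) = φ x) ∧
      ∀ r : R, ψ (Subgroup.inclusion le_sup_right r) ∈ R := by
  obtain ⟨ψ, hψ, hψP, hψR⟩ := hR.2 P φ hφ
  exact ⟨ψ, hψ, hψP, imgSub_le_of_isNormal_map hψR⟩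

/-- `RT` is strongly closed. -/
theorem stronglyClosed_centralProduct (hR : F.IsNormal R) (hT : F.StronglyClosed T)
    (hcp : IsCentralProductOf (innerFusionSystem R) E D) : F.StronglyClosed U := by
  obtain ⟨htop, -, hdec⟩ := CentralProduct.top_eq_and_comm hcp
  refine ⟨htop.ge.trans (sup_le hR.1 hT.1), fun P hP φ hφ x => ?_⟩
  obtain ⟨ψ, hψ, hψP, hψR⟩ := exists_ext_of_isNormal hR hφ
  obtain ⟨r, hr, t, ht, hrt⟩ := hdec x (hP x.2)
  have htm : t ∈ (P ⊔ R) ⊓ T := by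
    refine ⟨?_, ht⟩
    rw [show t = r⁻¹ * (x : Ω) by rw [hrt, inv_mul_cancel_left]]
    exact Subgroup.mul_mem _ (Subgroup.mem_sup_right (Subgroup.inv_mem _ hr))
      (Subgroup.mem_sup_left x.2)
  have h1 := hT.2 _ inf_le_right _ (restrict_mem hψ (inf_le_left : (P ⊔ R) ⊓ T ≤ P ⊔ R)) ⟨t, htm⟩
  rw [← hψP x, show Subgroup.inclusion le_sup_left x =
    Subgroup.inclusion le_sup_right (⟨r, hr⟩ : R) * ⟨t, htm.1⟩ from Subtype.ext hrt, map_mul]
  exact htop.le (Subgroup.mul_mem_sup (hψR _) h1)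

/-- The central product is weakly normal. -/
theorem isWeaklyNormalIn_centralProduct [Fact p.Prime] [Finite S] (hS : IsPGroup p S)
    (hR : F.IsNormal R) (hE : E.IsWeaklyNormalIn F p) (hc : ∀ P, E.Hom P ⊆ F.centralizerHom R P)
    (hcp : IsCentralProductOf (innerFusionSystem R) E D) : D.IsWeaklyNormalIn F p := by
  have hTS : T ≤ S := hE.2.2.2.1.1
  haveI : Finite R := finite_of_le hR.1
  haveI : Finite T := finite_of_le hTS
  obtain ⟨htop, hcomm, -⟩ := CentralProduct.top_eq_and_comm hcp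
  have hDF := isSubsystemOf_centralProduct hR.1 hTS hc hcp
  have hUc := stronglyClosed_centralProduct hR hE.2.2.2.1 hcp
  refine ⟨isSaturated_centralProduct hS hR.1 hTS hE.1 hcp, hE.2.1,
    (S5119.result p hS F hE.2.1 D hDF hUc).2 fun P Q hPQ hQU φ hφ hφQ ψ hψ => ?_⟩
  obtain ⟨Ψ, hΨ, hΨQ, hΨR⟩ := exists_ext_of_isNormal hR hψ
  obtain ⟨P₁, P₂, φ₁, φ₂, ⟨hP₁, g, hg, hgx⟩, hφ₂, hx⟩ := CentralProduct.exists_decomp hcp hφ
  set P₂' : Subgroup Ω :=
    (((Q ⊔ R).comap P₂.subtype) ⊓ ((Q ⊔ R).comap φ₂)).map P₂.subtype with hP₂'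
  have hle₂ : P₂' ≤ P₂ := Subgroup.map_subtype_le _
  have hle₃ : P₂' ≤ (Q ⊔ R) ⊓ T := by
    rintro _ ⟨w, hw, rfl⟩
    exact ⟨hw.1, src_le hφ₂ w.2⟩
  have hφ₂Q : ∀ w : P₂', φ₂.comp (Subgroup.inclusion hle₂) w ∈ (Q ⊔ R) ⊓ T := by
    rintro ⟨_, w, hw, rfl⟩
    exact ⟨hw.2, val_mem hφ₂ _⟩
  obtain ⟨χ₂, hχ₂, hχ₂x⟩ := (S5119.result p hS F hE.2.1 E hE.2.2.1 hE.2.2.2.1).1 hE.2.2
    P₂' _ hle₃ inf_le_right _ (restrict_mem hφ₂ hle₂) hφ₂Q _
    (restrict_mem hΨ (inf_le_left : (Q ⊔ R) ⊓ T ≤ Q ⊔ R))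
  set g' := Ψ (Subgroup.inclusion le_sup_right (⟨g, hg⟩ : R)) with hg'
  obtain ⟨θ, hθ, hθ1, hθ2⟩ := CentralProduct.exists_hom_sup hcp
    ((innerFusionSystem R).conj_mem le_rfl (hΨR ⟨g, hg⟩)) hχ₂
  have hb : ∀ (x : P) (a : P₁) (b : P₂), (x : Ω) = a * b → φ x = φ₁ a * φ₂ b →
      (b : Ω) ∈ Q ⊔ R ∧ φ₂ b ∈ Q ⊔ R := by
    intro x a b hab hφab
    constructor
    · rw [show (b : Ω) = (a : Ω)⁻¹ * x by rw [hab, inv_mul_cancel_left]]
      exact Subgroup.mul_mem _ (Subgroup.mem_sup_right (Subgroup.inv_mem _ (hP₁ a.2)))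
        (Subgroup.mem_sup_left (hPQ x.2))
    · rw [show φ₂ b = (φ₁ a)⁻¹ * φ x by rw [hφab, inv_mul_cancel_left], hgx]
      exact Subgroup.mul_mem _ (Subgroup.mem_sup_right (Subgroup.inv_mem _
        (Subgroup.mul_mem _ (Subgroup.mul_mem _ hg (hP₁ a.2)) (Subgroup.inv_mem _ hg))))
        (Subgroup.mem_sup_left (hφQ x))
  have key : ∀ x : P, ∃ w : ↥(R ⊔ (P₂'.subgroupOf ((Q ⊔ R) ⊓ T)).map
      (Ψ.comp (Subgroup.inclusion inf_le_left))), (w : Ω) = ψ (Subgroup.inclusion hPQ x) ∧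
      θ w = ψ ⟨φ x, hφQ x⟩ := by
    intro x
    obtain ⟨a, b, hab, hφab⟩ := hx x
    obtain ⟨hbQ, hφbQ⟩ := hb x a b hab hφab
    have hbP : (b : Ω) ∈ P₂' := ⟨b, ⟨hbQ, hφbQ⟩, rfl⟩
    have himg : Ψ ⟨b, hbQ⟩ ∈ (P₂'.subgroupOf ((Q ⊔ R) ⊓ T)).map
        (Ψ.comp (Subgroup.inclusion inf_le_left)) :=
      ⟨⟨b, hle₃ hbP⟩, hbP, rfl⟩
    refine ⟨Subgroup.inclusion le_sup_left
        (⟨Ψ (Subgroup.inclusion le_sup_right (⟨a, hP₁ a.2⟩ : R)), hΨR _⟩ : R) *
      Subgroup.inclusion le_sup_right ⟨Ψ ⟨b, hbQ⟩, himg⟩, ?_, ?_⟩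
    · rw [Subgroup.coe_mul, ← hΨQ]
      show Ψ _ * Ψ _ = Ψ _
      rw [← map_mul]
      exact congrArg Ψ (Subtype.ext hab.symm)
    · rw [map_mul, hθ1, hθ2, ← hΨQ]
      refine (congrArg₂ (· * ·) (rfl : g' * Ψ (Subgroup.inclusion le_sup_right
        (⟨a, hP₁ a.2⟩ : R)) * g'⁻¹ = _) (hχ₂x ⟨b, hbP⟩ himg)).trans ?_
      show g' * Ψ (Subgroup.inclusion le_sup_right (⟨a, hP₁ a.2⟩ : R)) * g'⁻¹ *
        Ψ ⟨φ₂ b, hφbQ⟩ = _
      rw [hg', ← map_inv, ← map_mul, ← map_mul, ← map_mul]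
      refine congrArg Ψ (Subtype.ext ?_)
      show g * (a : Ω) * g⁻¹ * φ₂ b = φ x
      rw [hφab, hgx]
  refine ⟨_, restrict_mem hθ (?_ : (P.subgroupOf Q).map ψ ≤ _), fun x hx' => ?_⟩
  · rintro _ ⟨y, hy, rfl⟩
    obtain ⟨w, hw, -⟩ := key ⟨y, hy⟩
    rw [show ψ y = (w : Ω) from hw.symm]
    exact w.2
  · obtain ⟨w, hw, hθw⟩ := key x
    rw [← hθw]
    exact congrArg θ (Subtype.ext hw.symm)

/-- Automorphisms of `T` in `E` extend to extendable automorphisms of `RT` fixing `R`. -/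
theorem exists_extendable [Fact p.Prime] [Finite S] (hS : IsPGroup p S) (hR : F.IsNormal R)
    (hE : E.IsNormalIn F p) (hc : ∀ P, E.Hom P ⊆ F.centralizerHom R P) {α : MulAut T}
    (hα : α ∈ E.autGroup T) :
    ∃ γ ∈ extendableAut F (R ⊔ T),
      (∀ r : R, (γ (Subgroup.inclusion le_sup_left r) : Ω) = r) ∧
      ∀ t : T, (γ (Subgroup.inclusion le_sup_right t) : Ω) = α t := by
  have hTS : T ≤ S := hE.1.2.2.2.1.1
  have hUS : R ⊔ T ≤ S := sup_le hR.1 hTS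
  haveI : Finite T := finite_of_le hTS
  haveI : Finite (R ⊔ T : Subgroup Ω) := finite_of_le hUS
  haveI := finite_mulAut (S := T) (le_refl T)
  let K : Submonoid (MulAut T) :=
    { carrier := {a | ∃ γ ∈ extendableAut F (R ⊔ T),
        (∀ r : R, (γ (Subgroup.inclusion le_sup_left r) : Ω) = r) ∧
        ∀ t : T, (γ (Subgroup.inclusion le_sup_right t) : Ω) = a t}
      one_mem' := ⟨1, ⟨1, one_mem _, fun x => rfl, fun c _ => by
        show (c : Ω)⁻¹ * (c : Ω) ∈ _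
        rw [inv_mul_cancel]; exact one_mem _⟩, fun r => rfl, fun t => rfl⟩
      mul_mem' := by
        rintro a b ⟨γ, hγ, hγR, hγT⟩ ⟨γ', hγ', hγ'R, hγ'T⟩
        refine ⟨γ * γ', extendableAut_mul hUS hγ hγ', fun r => ?_, fun t => ?_⟩
        · rw [MulAut.mul_apply, show γ' (Subgroup.inclusion le_sup_left r) =
            Subgroup.inclusion le_sup_left r from Subtype.ext (hγ'R r)]
          exact hγR r
        · rw [MulAut.mul_apply, show γ' (Subgroup.inclusion le_sup_right t) =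
            Subgroup.inclusion le_sup_right (b t) from Subtype.ext (hγ'T t)]
          exact hγT _ }
  let H : Subgroup (MulAut T) :=
    { K with
      inv_mem' := fun {a} ha => by
        obtain ⟨n, hn⟩ : a⁻¹ ∈ Submonoid.powers a :=
          mem_powers_iff_mem_zpowers.2 (inv_mem (Subgroup.mem_zpowers a))
        exact hn ▸ Submonoid.pow_mem K ha n }
  refine (?_ : E.autGroup T ≤ H) hα
  refine (autGroup_le_pResidual_sup (hS.to_le hTS) hE.1.1 (isFullyNormalized_top E)).trans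
    (sup_le ?_ ((Subgroup.closure_le _).2 ?_))
  · rintro _ ⟨⟨a, ha⟩, har, rfl⟩
    refine (Subgroup.closure_le (H.comap (E.autGroup T).subtype)).2 ?_ har
    rintro ⟨b, hbE⟩ hb
    have hco : (orderOf b).Coprime p := by
      rw [← Subgroup.orderOf_mk b hbE]; exact hb
    obtain ⟨β₀, hβ₀, hag₀⟩ := exists_trivLift_top hE hbE
    obtain ⟨β, ⟨hβF, hβi, hβd⟩, hβco, hag⟩ := exists_coprime_lift hβ₀ hag₀ hco
    have hRC : R ≤ centralizerIn S T := fun r hr => ⟨hR.1 hr,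
      Subgroup.mem_centralizer_iff.2 fun t ht => (comm_of_centralizes hc hr ht).symm⟩
    have hbfix : ∀ w : T, (w : Ω) ∈ R → (b w : Ω) = w := fun w hw =>
      apply_eq_of_mem hc (autGroup_hom_mem le_rfl hbE) w hw
    have hW : cenSup S T ≤ S := cenSup_le hTS
    have hRW : R ≤ cenSup S T := hRC.trans le_sup_right
    have hβRmem : ∀ r : R, (β (Subgroup.inclusion hRW r) : Ω) ∈ R :=
      (stronglyClosed_of_isNormal hR).2 R le_rfl _
        (restrict_mem (autGroup_hom_mem hW hβF) hRW)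
    have hβR : ∀ r : R, (β (Subgroup.inclusion hRW r) : Ω) = r := by
      intro r
      set w := Subgroup.inclusion hRW r with hw
      have hq : ((w⁻¹ * β w : cenSup S T) : Ω) ∈ R ⊓ T :=
        ⟨Subgroup.mul_mem _ (Subgroup.inv_mem _ r.2) (hβRmem r), hβd w (hRC r.2)⟩
      have hqfix : (β (w⁻¹ * β w) : Ω) = ((w⁻¹ * β w : cenSup S T) : Ω) := by
        rw [show w⁻¹ * β w = Subgroup.inclusion le_sup_left (⟨_, hq.2⟩ : T) from Subtype.ext rfl,
          hag]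
        exact hbfix _ hq.1
      have h1 := TrivialAction.map_eq_one_of_coprime (hS.to_le hW) (cenSup S T).subtype β hβco
        (fun v hv => by
          rw [show v = 1 from Subtype.ext hv, map_one]; rfl)
        (x := w) (q := w⁻¹ * β w) (by
          show (β w : Ω) = (w : Ω) * ((w : Ω)⁻¹ * (β w : Ω))
          rw [mul_inv_cancel_left]) hqfix
      exact (inv_mul_eq_one.1 h1).symm
    set V := R ⊔ T ⊔ centralizerIn S (R ⊔ T) with hV
    have hVW : V ≤ cenSup S T :=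
      sup_le (sup_le hRW le_sup_left) ((centralizerIn_anti le_sup_right).trans le_sup_right)
    haveI : Finite V := finite_of_le (hVW.trans hW)
    have hU : ∀ u : ↥(R ⊔ T),
        (β (Subgroup.inclusion (le_sup_left.trans hVW) u) : Ω) ∈ R ⊔ T :=
      hom_sup_mem ((autHom β).comp (Subgroup.inclusion (le_sup_left.trans hVW)))
        (fun r => Subgroup.mem_sup_left (hβRmem r)) fun t => by
          refine Subgroup.mem_sup_right ?_
          show (β _ : Ω) ∈ T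
          exact (hβi _).2 t.2
    have hd : ∀ c : cenSup S T, (c : Ω) ∈ centralizerIn S (R ⊔ T) →
        (c : Ω)⁻¹ * (β c : Ω) ∈ (R ⊔ T) ⊓ Subgroup.centralizer ((R ⊔ T : Subgroup Ω) : Set Ω) := by
      intro c hc'
      have hcT : (c : Ω) ∈ centralizerIn S T := centralizerIn_anti le_sup_right hc'
      have hzT := hβd c hcT
      have hzC : (c : Ω)⁻¹ * (β c : Ω) ∈ Subgroup.centralizer (T : Set Ω) :=
        Subgroup.mul_mem _ (Subgroup.inv_mem _ hcT.2)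
          (apply_mem_centralizerIn_of_iff hTS hβi c hcT).2
      refine ⟨Subgroup.mem_sup_right hzT, ?_⟩
      have hle : R ⊔ T ≤ Subgroup.centralizer {(c : Ω)⁻¹ * (β c : Ω)} := sup_le
        (fun r hr => Subgroup.mem_centralizer_iff.2 (by
          rintro _ rfl; exact (comm_of_centralizes hc hr hzT).symm))
        fun t ht => Subgroup.mem_centralizer_iff.2 (by
          rintro _ rfl; exact (Subgroup.mem_centralizer_iff.1 hzC t ht).symm)
      exact Subgroup.mem_centralizer_iff.2 fun u hu =>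
        (Subgroup.mem_centralizer_iff.1 (hle hu) _ rfl).symm
    have hVV : ∀ v : V, (autHom β).comp (Subgroup.inclusion hVW) v ∈ V := by
      refine hom_sup_mem _ (fun u => Subgroup.mem_sup_left (hU u)) fun c => ?_
      show (β _ : Ω) ∈ V
      rw [show (β (Subgroup.inclusion hVW (Subgroup.inclusion le_sup_right c)) : Ω) =
        (c : Ω) * ((c : Ω)⁻¹ *
          (β (Subgroup.inclusion hVW (Subgroup.inclusion le_sup_right c)) : Ω)) by
        rw [mul_inv_cancel_left]]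
      exact Subgroup.mul_mem _ (Subgroup.mem_sup_right c.2)
        (Subgroup.mem_sup_left
          (hd (Subgroup.inclusion hVW (Subgroup.inclusion le_sup_right c)) c.2).1)
    obtain ⟨β', hβ', hβ'x⟩ :=
      exists_aut_of_hom (restrict_mem (autGroup_hom_mem hW hβF) hVW) hVV
    obtain ⟨γ, -, hγx⟩ := exists_aut_of_hom
      (restrict_mem (autGroup_hom_mem hW hβF) (le_sup_left.trans hVW)) hU
    refine ⟨γ, ⟨β', hβ', fun u => (hβ'x _).trans (hγx u).symm, fun c hc' => ?_⟩,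
      fun r => (hγx _).trans (hβR r), fun t => (hγx _).trans (hag t)⟩
    rw [hβ'x]
    exact hd (Subgroup.inclusion hVW c) hc'
  · rintro a ⟨t, ht, hat⟩
    have htU : t ∈ R ⊔ T := Subgroup.mem_sup_right ht
    refine ⟨conjAut (R ⊔ T) t (Subgroup.le_normalizer htU), ⟨conjAut _ t
      (Subgroup.le_normalizer (Subgroup.mem_sup_left htU)), ?_, fun x => rfl, fun c hc' => ?_⟩,
      fun r => ?_, fun x => (hat x).symm⟩
    · exact autInducedBy_le_autGroup (sup_le hUS inf_le_left)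
        (mem_autInducedBy.2 ⟨t, hTS ht, fun _ => rfl⟩)
    · show (c : Ω)⁻¹ * (t * c * t⁻¹) ∈ _
      rw [Subgroup.mem_centralizer_iff.1 hc'.2 t htU, mul_inv_cancel_right, inv_mul_cancel]
      exact one_mem _
    · show t * (r : Ω) * t⁻¹ = r
      rw [← comm_of_centralizes hc r.2 ht, mul_inv_cancel_right]

/-- The central product of a normal subgroup and a normal subsystem centralizing it is normal. -/
theorem isNormalIn_centralProduct [Fact p.Prime] [Finite S] (hS : IsPGroup p S)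
    (hR : F.IsNormal R) (hE : E.IsNormalIn F p) (hc : ∀ P, E.Hom P ⊆ F.centralizerHom R P)
    (hcp : IsCentralProductOf (innerFusionSystem R) E D) : D.IsNormalIn F p := by
  have hTS : T ≤ S := hE.1.2.2.2.1.1
  haveI : Finite T := finite_of_le hTS
  refine ⟨isWeaklyNormalIn_centralProduct hS hR hE.1 hc hcp, ?_⟩
  obtain ⟨htop, hcomm, hdec⟩ := CentralProduct.top_eq_and_comm hcp
  subst htop
  have hUS : R ⊔ T ≤ S := sup_le hR.1 hTS
  intro α hα
  refine (?_ : α ∈ extendableAut F (R ⊔ T))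
  obtain ⟨P₁, P₂, φ₁, φ₂, ⟨hP₁, g, hg, hgx⟩, hφ₂, hx⟩ :=
    CentralProduct.exists_decomp hcp (autGroup_hom_mem le_rfl hα)
  obtain ⟨ψ₂, hψ₂, hψ₂P, hψ₂R⟩ :=
    (isCentral_inf (hS.to_le hTS) hE.1.1 hc).2 P₂ φ₂ hφ₂
  have hT : T ≤ P₂ ⊔ (R ⊓ T) := by
    intro t ht
    obtain ⟨a, b, hab, -⟩ := hx ⟨t, Subgroup.mem_sup_right ht⟩
    have hab' : t = a * b := hab
    rw [hab']
    refine Subgroup.mul_mem _ (Subgroup.mem_sup_right ⟨hP₁ a.2, ?_⟩) (Subgroup.mem_sup_left b.2)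
    rw [show (a : Ω) = t * (b : Ω)⁻¹ by rw [hab', mul_inv_cancel_right]]
    exact Subgroup.mul_mem _ ht (Subgroup.inv_mem _ (src_le hφ₂ b.2))
  obtain ⟨a₂, ha₂, ha₂x⟩ := exists_aut_of_hom (restrict_mem hψ₂ hT)
    fun x => val_mem hψ₂ _
  obtain ⟨γ, hγ, hγR, hγT⟩ := exists_extendable hS hR hE hc ha₂
  have hgU : g ∈ R ⊔ T := Subgroup.mem_sup_left hg
  have hcg : conjAut (R ⊔ T) g (Subgroup.le_normalizer hgU) ∈ extendableAut F (R ⊔ T) := by
    refine ⟨conjAut _ g (Subgroup.le_normalizer (Subgroup.mem_sup_left hgU)),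
      autInducedBy_le_autGroup (sup_le hUS inf_le_left)
        (mem_autInducedBy.2 ⟨g, hR.1 hg, fun _ => rfl⟩), fun x => rfl, fun c hc' => ?_⟩
    show (c : Ω)⁻¹ * (g * c * g⁻¹) ∈ _
    rw [Subgroup.mem_centralizer_iff.1 hc'.2 g hgU, mul_inv_cancel_right, inv_mul_cancel]
    exact one_mem _
  have heq : α = conjAut (R ⊔ T) g (Subgroup.le_normalizer hgU) * γ := by
    refine MulEquiv.ext fun x => Subtype.ext ?_
    obtain ⟨a, b, hab, hφab⟩ := hx x
    have hbT : (b : Ω) ∈ T := src_le hφ₂ b.2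
    have e : x = Subgroup.inclusion le_sup_left (⟨a, hP₁ a.2⟩ : R) *
        Subgroup.inclusion le_sup_right (⟨b, hbT⟩ : T) := Subtype.ext hab
    refine hφab.trans ?_
    rw [MulAut.mul_apply, conjAut_apply]
    conv_rhs => rw [e, map_mul, Subgroup.coe_mul, hγR, hγT, ha₂x]
    rw [hgx]
    have e2 : ψ₂.comp (Subgroup.inclusion hT) ⟨b, hbT⟩ = φ₂ b :=
      (congrArg ψ₂ (Subtype.ext rfl)).trans (hψ₂P b)
    rw [e2]
    calc g * (a : Ω) * g⁻¹ * φ₂ b = g * a * g⁻¹ * (φ₂ b * g * g⁻¹) := by group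
      _ = g * a * g⁻¹ * (g * φ₂ b * g⁻¹) := by rw [hcomm g hg _ (val_mem hφ₂ b)]
      _ = g * ((a : Ω) * φ₂ b) * g⁻¹ := by group
  rw [heq]
  exact extendableAut_mul hUS hcg hγ

end Cfsg.Agent.Lib.Fusion.FittingProduct
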