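/-
Components centralize the largest normal subgroup; the centralizer system of a normal subgroup.
-/
import Cfsg.Agent.Lib.Fusion.TrivialAction
import Cfsg.Agent.Lib.Fusion.Components
import Cfsg.Agent.Lib.Fusion.KNormalizer

set_option autoImplicit false
set_option linter.style.haveILetI false

namespace Cfsg.Agent.Lib.Fusion.ComponentCentralizer

open Cfsg Cfsg.FusionSystem
open Cfsg.Agent.Lib.FusionFactor (mem_preimageAlong preimageAlong_le exists_preimage
  exists_factorSystem isCentral_center)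
open Cfsg.Agent.Lib.Fusion.TrivialAction

universe u

variable {Ω : Type u} [Group Ω] {S T : Subgroup Ω} {F : FusionSystem S} {p : ℕ}

theorem isNormal_imageAlong [Finite S] {Ω' : Type u} [Group Ω'] {S' : Subgroup Ω'} {θ : S →* Ω'}
    {Z : Subgroup Ω} {E : FusionSystem S'} (hE : F.IsFactorSystem Z θ E)
    {W : Subgroup Ω} (hW : F.IsNormal W) : E.IsNormal (imageAlong θ W) := by
  have hS' : ∀ x : S, θ x ∈ S' := fun x => hE.2.2.1.le ⟨x, rfl⟩
  have hW' : imageAlong θ W ≤ S' := by rintro _ ⟨x, -, rfl⟩; exact hS' x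
  refine ⟨hW', fun P' φ' hφ' => ?_⟩
  obtain ⟨hP', φ, hφ, hPS, hφS, hmem, hind⟩ := (hE.2.2.2 _ _).1 hφ'
  obtain ⟨ψ, hψ, hψP, hψW⟩ := hW.2 _ φ hφ
  let M := preimageAlong θ P' ⊔ W
  have hMS : M ≤ S := sup_le (preimageAlong_le θ P') hW.1
  let K := P' ⊔ imageAlong θ W
  have hKS : K ≤ S' := sup_le hP' hW'
  have hMK : preimageAlong θ K ≤ M := by
    intro x hx
    obtain ⟨hxS, hxK⟩ := (mem_preimageAlong θ).1 hx
    have h : K ≤ (M.subgroupOf S).map θ := by
      refine sup_le (fun y hy => ?_) ?_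
      · obtain ⟨z, hz⟩ := exists_preimage θ (hP'.trans hE.2.2.1.ge) ⟨y, hy⟩
        exact ⟨⟨z, hPS z.2⟩, Subgroup.mem_sup_left z.2, hz⟩
      · exact Subgroup.map_mono fun z hz => Subgroup.mem_sup_right hz
    obtain ⟨m, hm, hmx⟩ := h hxK
    have hk : ((⟨x, hxS⟩ * m⁻¹ : S) : Ω) ∈ Z :=
      (hE.2.1 _).1 (by rw [map_mul, map_inv, hmx, mul_inv_cancel])
    have hkP : ((⟨x, hxS⟩ * m⁻¹ : S) : Ω) ∈ preimageAlong θ P' :=
      (mem_preimageAlong θ).2 ⟨(⟨x, hxS⟩ * m⁻¹ : S).2, by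
        rw [(hE.2.1 _).2 hk]; exact P'.one_mem⟩
    have h2 : ((⟨x, hxS⟩ * m⁻¹ : S) : Ω) ∈ M := Subgroup.mem_sup_left hkP
    have h3 := M.mul_mem h2 (show (m : Ω) ∈ M from hm)
    simpa using h3
  obtain ⟨ψ', hψ'⟩ : ∃ ψ' : K →* Ω', ∀ x : preimageAlong θ K,
      ψ' ⟨θ ⟨x, preimageAlong_le θ K x.2⟩, ((mem_preimageAlong θ).1 x.2).2⟩ =
        θ ⟨ψ (Subgroup.inclusion hMK x), val_mem hψ _⟩ := by
    refine exists_induced θ (preimageAlong_le θ K) (ψ.comp (Subgroup.inclusion hMK))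
      (fun x => val_mem hψ _) (fun x hx => ?_) _ (exists_preimage θ (hKS.trans hE.2.2.1.ge))
    have hZ := (hE.2.1 _).1 hx
    have hm' : (x : Ω) ∈ preimageAlong θ P' :=
      (mem_preimageAlong θ).2 ⟨preimageAlong_le θ K x.2, by rw [hx]; exact P'.one_mem⟩
    have e1 : ψ (Subgroup.inclusion hMK x) = φ ⟨x, hm'⟩ :=
      (congrArg ψ (Subtype.ext rfl)).trans (hψP ⟨x, hm'⟩)
    refine (congrArg θ (Subtype.ext e1 : (⟨_, val_mem hψ _⟩ : S) = ⟨_, hφS ⟨x, hm'⟩⟩)).trans ?_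
    rw [← hind ⟨x, hm'⟩, show (⟨θ ⟨x, hPS hm'⟩, hmem ⟨x, hm'⟩⟩ : P') = 1 from Subtype.ext hx,
      map_one]
  have hψ'E : ψ' ∈ E.Hom K := (hE.2.2.2 _ _).2 ⟨hKS, ψ.comp (Subgroup.inclusion hMK),
    restrict_mem hψ hMK, preimageAlong_le θ K, fun x => val_mem hψ _,
    fun x => ((mem_preimageAlong θ).1 x.2).2, hψ'⟩
  haveI : Finite S' := hE.2.2.1 ▸ Finite.of_surjective θ.rangeRestrict θ.rangeRestrict_surjective
  haveI : Finite (imageAlong θ W) := finite_of_le hW'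
  refine ⟨ψ', hψ'E, fun y => ?_, imgSub_eq_of_le_of_card hψ'E le_sup_right (fun y hy => ?_) le_rfl⟩
  · obtain ⟨x, hx⟩ := exists_preimage θ (hP'.trans hE.2.2.1.ge) y
    have hxK : (x : Ω) ∈ preimageAlong θ K :=
      (mem_preimageAlong θ).2 ⟨hPS x.2, Subgroup.mem_sup_left (hx.symm ▸ y.2)⟩
    have hy : y = ⟨θ ⟨x, hPS x.2⟩, hmem x⟩ := Subtype.ext hx.symm
    rw [hy, hind x]
    refine (hψ' ⟨x, hxK⟩).trans (congrArg θ (Subtype.ext ?_))
    exact (congrArg ψ (Subtype.ext rfl)).trans (hψP x)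
  · obtain ⟨u, hu, rfl⟩ := mem_imgSub.1 hy
    obtain ⟨x, hx, hxu⟩ := hu
    have hxK : (x : Ω) ∈ preimageAlong θ K :=
      (mem_preimageAlong θ).2 ⟨x.2, Subgroup.mem_sup_right ⟨x, hx, rfl⟩⟩
    refine ⟨⟨ψ ⟨x, Subgroup.mem_sup_right hx⟩, val_mem hψ _⟩,
      hψW.le (apply_mem_imgSub ψ ⟨x, Subgroup.mem_sup_right hx⟩ hx), ?_⟩
    exact (hψ' ⟨x, hxK⟩).symm.trans (congrArg ψ' (Subtype.ext hxu))

/-- A normal subgroup of a quasisimple system is central. -/
theorem le_center_of_quasisimple [Fact p.Prime] [Finite S] (hS : IsPGroup p S)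
    (hq : F.Quasisimple p) {W : Subgroup Ω} (hW : F.IsNormal W) : W ≤ F.center := by
  obtain ⟨hC, hhyp, hsimple⟩ := hq
  set Z := F.center with hZdef
  have hZ : F.IsCentral Z := isCentral_center F
  have hZsc := stronglyClosed_of_isCentral' hZ
  set θ := QuotientGroup.mk' (Z.subgroupOf S) with hθ
  obtain ⟨E, hE⟩ := exists_factorSystem θ F hZsc
    (S' := (⊤ : Subgroup (S ⧸ Z.subgroupOf S))) (fun s => QuotientGroup.eq_one_iff s)
    (MonoidHom.range_eq_top.2 (QuotientGroup.mk'_surjective _))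
  have hEs := hsimple E hE
  have hp' : IsPGroup p (⊤ : Subgroup (S ⧸ Z.subgroupOf S)) := (hS.to_quotient _).to_subgroup _
  haveI : Finite (⊤ : Subgroup (S ⧸ Z.subgroupOf S)) := inferInstance
  have hW'n := isNormal_imageAlong hE hW
  obtain h | ⟨-, hall⟩ := hEs.2.2 _ (innerFusionSystem (imageAlong θ W))
    (Fusion87.inner_isNormalIn hp' hEs.1 hW'n)
  · exact fun x hx => (hE.2.1 ⟨x, hW.1 hx⟩).1 (Subgroup.mem_bot.1 (h.le ⟨⟨x, hW.1 hx⟩, hx, rfl⟩))
  refine fun x hx => ?_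
  -- every map is inner modulo the centre: impossible
  exfalso
  refine hEs.2.1 (Subgroup.eq_bot_iff_forall _ |>.2 fun a _ => ?_)
  suffices hle : S ≤ Z by
    obtain ⟨y, rfl⟩ := QuotientGroup.mk'_surjective _ a
    exact (hE.2.1 y).2 (hle y.2)
  refine hhyp.ge.trans ((Subgroup.closure_le _).2 ?_)
  rintro _ ⟨P, α, x, hP, hα, rfl⟩
  have hsurj := isSurjectiveMorphism_of_isFactorSystem hS hC hZsc hE
  have hβ1 : ∀ β : F.autGroup P, (orderOf β).Coprime p → ∀ y : P,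
      (y : Ω)⁻¹ * ((β : MulAut P) y : Ω) ∈ Z := by
    intro β hβ y
    obtain ⟨φ', hφ', h1, h2, h3, hi⟩ := hsurj.1.2 P _ (autGroup_hom_mem hP β.2)
    rw [← hall] at hφ'
    obtain ⟨-, g, -, hg⟩ := hφ'
    let f : P →* S ⧸ Z.subgroupOf S := θ.comp (Subgroup.inclusion hP)
    have hb : ∀ z : P, f ((β : MulAut P) z) = g * f z * g⁻¹ := fun z =>
      (hi z).symm.trans (hg ⟨_, h3 z⟩)
    have hit : ∀ j : ℕ, ∀ z : P, f (((β : MulAut P) ^ j) z) = g ^ j * f z * (g ^ j)⁻¹ := by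
      intro j
      induction j with
      | zero => intro z; simp
      | succ j ih =>
        intro z
        rw [pow_succ' (β : MulAut P), MulAut.mul_apply, hb, ih z, pow_succ']
        group
    have hn : g ^ orderOf β * f y * (g ^ orderOf β)⁻¹ = f y := by
      rw [← hit, ← SubmonoidClass.coe_pow, pow_orderOf_eq_one]
      rfl
    obtain ⟨k, hk⟩ := hS.to_quotient (Z.subgroupOf S) g
    obtain ⟨m, hm⟩ := exists_pow_eq_self_of_coprime (x := g) (n := orderOf β)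
      (Nat.Coprime.coprime_dvd_right (orderOf_dvd_of_pow_eq_one hk) (hβ.pow_right k))
    have hg' : g * f y * g⁻¹ = f y := by
      have hc' : Commute (g ^ orderOf β) (f y) := mul_inv_eq_iff_eq_mul.1 hn
      have := hc'.pow_left m
      rw [hm] at this
      rw [this.eq, mul_inv_cancel_right]
    have h4 : f (y⁻¹ * (β : MulAut P) y) = 1 := by
      rw [map_mul, map_inv, hb, hg', inv_mul_cancel]
    exact (hE.2.1 _).1 h4
  have key : ∀ β ∈ pResidual p (F.autGroup P), ∀ y : P,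
      (y : Ω)⁻¹ * ((β : MulAut P) y : Ω) ∈ Z := by
    intro β hβ
    induction hβ using Subgroup.closure_induction with
    | mem β hβ => exact hβ1 β hβ
    | one => intro y; simp
    | mul a b _ _ ha hb =>
      intro y
      have := Z.mul_mem (hb y) (ha ((b : MulAut P) y))
      rwa [mul_assoc, mul_inv_cancel_left] at this
    | inv a _ ha =>
      intro y
      have := Z.inv_mem (ha (((a : MulAut P))⁻¹ y))
      rwa [MulAut.apply_inv_self, mul_inv_rev, inv_inv] at this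
  exact key α hα x

/-- The centralizer system of a normal subgroup is normal. -/
theorem isNormalIn_centralizerSystem [Fact p.Prime] [Finite S] (hS : IsPGroup p S)
    (hF : F.IsSaturated p) {R : Subgroup Ω} (hR : F.IsNormal R)
    {C : FusionSystem (centralizerIn S R)} (hC : F.IsCentralizerSystem R C) :
    C.IsNormalIn F p := by
  haveI : Finite R := finite_of_le hR.1
  let T := centralizerIn S R
  have hTS : T ≤ S := inf_le_left
  haveI : Finite T := finite_of_le hTS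
  have hTc : F.StronglyClosed T := stronglyClosed_centralizerIn hR
  have hRfn := isFullyNormalized_of_isNormal hR
  have hCs := isSaturated_centralizerSystem hS hF
    (isFullyCentralized_of_isFullyNormalized hS hF hRfn) hC
  have hCF : C.IsSubsystemOf F := fun P φ h => ((hC P).le h).1
  have hstr : StronglyInvariant C F := by
    intro P Q hPQ hQT φ hφ hφQ ψ hψ
    obtain ⟨hφF, hPT, -, Φ, hΦ, hΦφ, hΦR⟩ := (hC P).le hφ
    obtain ⟨χ, hχ, hχx⟩ := exists_transport hψ hφF hPQ hφQ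
    obtain ⟨Ψ, hΨ, hΨψ, hΨR⟩ := hR.2 Q ψ hψ
    obtain ⟨c, -, hcx⟩ := exists_aut_restrict hΨ le_sup_right (imgSub_le_of_isNormal_map hΨR)
    have hΦQ : ∀ x, Φ x ∈ Q ⊔ R := hom_sup_mem Φ
      (fun x => Subgroup.mem_sup_left ((hΦφ x).symm ▸ hφQ x))
      (fun x => Subgroup.mem_sup_right ((hΦR x).symm ▸ x.2))
    have hle : P ⊔ R ≤ Q ⊔ R := sup_le_sup_right hPQ R
    obtain ⟨Θ, hΘ, hΘx⟩ := exists_transport hΨ hΦ hle hΦQ
    have himg : ∀ q : Q, ψ q ∈ T := fun q => stronglyClosed_map hTc hψ q (hQT q.2)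
    have hsrc : imgSub ψ P ≤ T := fun y hy => by
      obtain ⟨x, -, rfl⟩ := mem_imgSub.1 hy
      exact himg x
    refine ⟨χ, ?_, fun x hx => hχx x hx⟩
    rw [hC]
    refine ⟨hχ, hsrc, fun x => stronglyClosed_map hTc hχ x (hsrc x.2), _,
      restrict_mem hΘ (imgSub_sup_le hPQ hΨψ hcx), ?_, fun x => ?_⟩
    · rintro ⟨y, hy⟩
      obtain ⟨x, hxP, rfl⟩ := mem_imgSub.1 hy
      refine Eq.trans ?_ (hχx ⟨x, hxP⟩ hy).symm
      have hm : Ψ (Subgroup.inclusion hle (Subgroup.inclusion le_sup_left ⟨(x : Ω), hxP⟩)) ∈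
          imgSub Ψ (P ⊔ R) := apply_mem_imgSub Ψ _ (Subgroup.mem_sup_left hxP)
      refine Eq.trans ?_ ((hΘx (Subgroup.inclusion le_sup_left ⟨x, hxP⟩) hm).trans ?_)
      · exact congrArg Θ (Subtype.ext (hΨψ x).symm)
      · refine Eq.trans ?_ (hΨψ ⟨φ ⟨x, hxP⟩, hφQ _⟩)
        exact congrArg Ψ (Subtype.ext (hΦφ ⟨x, hxP⟩))
    · obtain ⟨z, rfl⟩ := c.surjective x
      have hm : Ψ (Subgroup.inclusion hle (Subgroup.inclusion le_sup_right z)) ∈
          imgSub Ψ (P ⊔ R) := apply_mem_imgSub Ψ _ (Subgroup.mem_sup_right z.2)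
      refine Eq.trans ?_ ((hΘx (Subgroup.inclusion le_sup_right z) hm).trans ?_)
      · exact congrArg Θ (Subtype.ext (hcx z).symm)
      · refine Eq.trans ?_ (hcx z)
        exact congrArg Ψ (Subtype.ext (hΦR z))
  refine ⟨⟨hCs, hF, (Cfsg.Agent.S5119.result p hS F hF C hCF hTc).2 hstr⟩, fun α hα => ?_⟩
  obtain ⟨hαF, -, -, ψ, hψ, hψT, hψR⟩ := (hC T).le (autGroup_hom_mem le_rfl hα)
  let W := T ⊔ R
  have hWS : W ≤ S := sup_le hTS hR.1
  haveI : Finite W := finite_of_le hWS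
  have hWN : S ≤ Subgroup.normalizer (W : Set Ω) := fun s hs => conjSub_eq_self_iff.1 (by
    show conjSub s (T ⊔ R) = T ⊔ R
    rw [conjSub, Subgroup.map_sup, ← conjSub, ← conjSub,
      conjSub_eq_self_iff.2 (stronglyClosed_le_normalizer hTc hs),
      conjSub_eq_self_iff.2 (le_normalizer_of_isNormal hR hs)])
  have hψW : ψ.range = W := range_eq_self hψ (hom_sup_mem ψ
    (fun x => Subgroup.mem_sup_left ((hψT x).symm ▸ (α x).2))
    (fun x => Subgroup.mem_sup_right ((hψR x).symm ▸ x.2)))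
  haveI : Finite (normalizerIn S W) := finite_normalizerIn W
  have hWfn : F.IsFullyNormalized W := ⟨hWS, fun Q _ =>
    Subgroup.card_le_of_le (inf_le_left.trans (le_inf le_rfl hWN))⟩
  obtain ⟨Ψ, hΨ, hΨx⟩ := (isReceptive_of_isFullyNormalized hS hF hWfn).2 W ψ hψ hψW
  let A := T ⊔ centralizerIn S T
  have hRA : R ≤ centralizerIn S T := fun r hr => ⟨hR.1 hr, Subgroup.mem_centralizer_iff.2
    fun t ht => ((Subgroup.mem_centralizer_iff.1 (show t ∈ T from ht).2) r hr).symm⟩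
  have hext : A ≤ extender S W ψ := by
    refine sup_le (fun t ht => mem_extender.2 ⟨hTS ht, hWN (hTS ht), ψ ⟨t, Subgroup.mem_sup_left ht⟩,
      val_mem hψ _, fun x hx => ?_⟩) fun c hc => mem_extender.2 ⟨hc.1, hWN hc.1, c, hc.1, ?_⟩
    · rw [← map_inv, ← map_mul, ← map_mul]
      exact congrArg ψ (Subtype.ext rfl)
    intro x hx
    let f₁ : W →* Ω := ψ.comp ((conjAut W c (hWN hc.1)).toMonoidHom)
    let f₂ : W →* Ω := (MulAut.conj c).toMonoidHom.comp ψ
    have e : f₁ = f₂ := by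
      refine hom_sup_ext (fun t => ?_) fun r => ?_
      · show ψ (conjAut W c _ (Subgroup.inclusion le_sup_left t)) =
          c * ψ (Subgroup.inclusion le_sup_left t) * c⁻¹
        have e1 : conjAut W c (hWN hc.1) (Subgroup.inclusion le_sup_left t) =
            Subgroup.inclusion le_sup_left t := Subtype.ext (by
          show c * (t : Ω) * c⁻¹ = t
          rw [← Subgroup.mem_centralizer_iff.1 hc.2 t t.2, mul_inv_cancel_right])
        rw [e1, hψT, autHom_apply, ← Subgroup.mem_centralizer_iff.1 hc.2 (α t : Ω) (α t).2,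
          mul_inv_cancel_right]
      · show ψ (conjAut W c _ (Subgroup.inclusion le_sup_right r)) =
          c * ψ (Subgroup.inclusion le_sup_right r) * c⁻¹
        have hcr : c * (r : Ω) * c⁻¹ ∈ R :=
          (Subgroup.mem_normalizer_iff.1 (le_normalizer_of_isNormal hR hc.1) r).1 r.2
        have e1 : conjAut W c (hWN hc.1) (Subgroup.inclusion le_sup_right r) =
            Subgroup.inclusion le_sup_right ⟨_, hcr⟩ := Subtype.ext rfl
        rw [e1, hψR, hψR]
    exact (DFunLike.congr_fun e x :)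
  haveI : Finite A := finite_of_le (sup_le hTS inf_le_left)
  have hΨT : ∀ t : T, Ψ (Subgroup.inclusion hext (Subgroup.inclusion le_sup_left t)) = (α t : Ω) :=
    fun t => (hΨx t (Subgroup.mem_sup_left t.2) (hext (Subgroup.mem_sup_left t.2))).trans (hψT t)
  have hcent : ∀ c : centralizerIn S T,
      Ψ (Subgroup.inclusion hext (Subgroup.inclusion le_sup_right c)) ∈ centralizerIn S T := by
    intro c
    refine ⟨val_mem hΨ _, Subgroup.mem_centralizer_iff.2 fun y hy => ?_⟩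
    obtain ⟨t, ht⟩ := α.surjective ⟨y, hy⟩
    rw [show y = Ψ (Subgroup.inclusion hext (Subgroup.inclusion le_sup_left t)) from
      (congrArg Subtype.val ht).symm.trans (hΨT t).symm, ← map_mul Ψ, ← map_mul Ψ]
    congr 1
    apply Subtype.ext
    exact Subgroup.mem_centralizer_iff.1 c.2.2 t t.2
  obtain ⟨β, hβ, hβx⟩ := exists_aut_of_hom (restrict_mem hΨ hext) (hom_sup_mem
    (Ψ.comp (Subgroup.inclusion hext))
    (fun t => Subgroup.mem_sup_left ((hΨT t).symm ▸ (α t).2))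
    (fun c => Subgroup.mem_sup_right (hcent c)))
  refine ⟨β, hβ, fun x => (hβx _).trans (hΨT x), fun c hc => ?_⟩
  have hβc : (β c : Ω) = Ψ (Subgroup.inclusion hext c) := hβx c
  have hβC : (β c : Ω) ∈ centralizerIn S T := hβc.symm ▸ hcent ⟨c, hc⟩
  refine ⟨⟨S.mul_mem (S.inv_mem hc.1) hβC.1, Subgroup.mem_centralizer_iff.2 fun r hr => ?_⟩,
    Subgroup.mul_mem _ (Subgroup.inv_mem _ hc.2) hβC.2⟩
  -- both act alike on `R`
  have hrA : r ∈ A := Subgroup.mem_sup_right (hRA hr)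
  have hΨr : ∀ (r : Ω) (hr : r ∈ R), Ψ (Subgroup.inclusion hext ⟨r, Subgroup.mem_sup_right
      (hRA hr)⟩) = r := fun r hr =>
    (hΨx r (Subgroup.mem_sup_right hr) (hext (Subgroup.mem_sup_right (hRA hr)))).trans
      (hψR ⟨r, hr⟩)
  have hcr : (c : Ω) * r * (c : Ω)⁻¹ ∈ R :=
    (Subgroup.mem_normalizer_iff.1 (le_normalizer_of_isNormal hR hc.1) r).1 hr
  have e1 : (β c : Ω) * r * (β c : Ω)⁻¹ = (c : Ω) * r * (c : Ω)⁻¹ := by
    calc (β c : Ω) * r * (β c : Ω)⁻¹
        = Ψ (Subgroup.inclusion hext c) * Ψ (Subgroup.inclusion hext ⟨r, hrA⟩) *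
          (Ψ (Subgroup.inclusion hext c))⁻¹ := by rw [hβc, hΨr r hr]
      _ = Ψ (Subgroup.inclusion hext ⟨_, Subgroup.mem_sup_right (hRA hcr)⟩) := by
          rw [← map_inv, ← map_mul, ← map_mul]
          exact congrArg Ψ (Subtype.ext rfl)
      _ = _ := hΨr _ hcr
  calc r * ((c : Ω)⁻¹ * (β c : Ω))
      = (c : Ω)⁻¹ * ((c : Ω) * r * (c : Ω)⁻¹) * (β c : Ω) := by group
    _ = (c : Ω)⁻¹ * ((β c : Ω) * r * (β c : Ω)⁻¹) * (β c : Ω) := by rw [e1]
    _ = (c : Ω)⁻¹ * (β c : Ω) * r := by group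

/-- A quasisimple system in a saturated `D`, centralizing the part in `U'` of a normal subgroup
`R`, centralizes `R`. -/
theorem hom_le_centralizerHom_of_quasisimple [Fact p.Prime] [Finite S] (hS : IsPGroup p S)
    {U V : Subgroup Ω} {C : FusionSystem U} {D : FusionSystem V} (hq : C.Quasisimple p)
    (hD : D.IsNormalIn F p) {R : Subgroup Ω} (hR : F.IsNormal R)
    (hC : ∀ P, C.Hom P ⊆ D.centralizerHom (R ⊓ V) P) (P : Subgroup Ω) :
    C.Hom P ⊆ F.centralizerHom R P := by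
  obtain ⟨hCs, hhyp, -⟩ := hq
  have hDF : D.IsSubsystemOf F := hD.1.2.2.1
  have hVc := hD.1.2.2.2.1
  have hCF : C.IsSubsystemOf F := fun Q φ h => hDF _ (hC Q h).1
  have hUid := (hC U (subtype_mem (F := C) le_rfl))
  have hUY : U ≤ centralizerIn V (R ⊓ V) := hUid.2.1
  have hUV : U ≤ V := hUY.trans inf_le_left
  have hUS : U ≤ S := hUV.trans hVc.1
  haveI : Finite U := finite_of_le hUS
  haveI : Finite R := finite_of_le hR.1
  haveI := finite_mulAut (S := S) hUS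
  have hY := isNormal_inf_stronglyClosed hR hVc
  have hYc := stronglyClosed_of_isNormal hY
  have hn : R ≤ Subgroup.normalizer ((R ⊓ V : Subgroup Ω) : Set Ω) :=
    hR.1.trans (le_normalizer_of_isNormal hY)
  -- maps of `C` extend trivially on `R ⊓ V` and modulo it
  have hext : ∀ Q, C.Hom Q ⊆ extHom F R U (stab R (R ⊓ V) (R ⊓ V) hn) Q := by
    intro Q φ hφ
    obtain ⟨-, -, -, γ, hγ, hγφ, hγY⟩ := hC Q hφ
    obtain ⟨-, -, -, ψ, hψ, hψγ, k, ⟨-, hk2, hk3, hk4⟩, hψk⟩ := hom_le_extHom_stab hS hD hR hn _ hγ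
    have hle : Q ⊔ R ≤ Q ⊔ R ⊓ V ⊔ R := sup_le_sup_right le_sup_left R
    refine ⟨hCF _ hφ, src_le hφ, val_mem hφ, _, restrict_mem hψ hle, fun x => ?_, k,
      ⟨fun r hr => ?_, hk2, hk3, hk4⟩, fun x => ?_⟩
    · exact ((congrArg ψ (Subtype.ext rfl)).trans (hψγ (Subgroup.inclusion le_sup_left x))).trans
        (hγφ x)
    · exact (hψk r).symm.trans (((congrArg ψ (Subtype.ext rfl)).trans
        (hψγ (Subgroup.inclusion le_sup_right (⟨r, hr⟩ : (R ⊓ V : Subgroup Ω))))).trans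
          (hγY ⟨r, hr⟩))
    · exact (congrArg ψ (Subtype.ext rfl)).trans (hψk x)
  -- automorphisms of order prime to `p` extend fixing `R`
  have hfix : ∀ (Q : Subgroup Ω) (α : MulAut Q), α ∈ C.autGroup Q → Q ≤ U →
      (orderOf α).Coprime p → ∃ b ∈ F.Hom (Q ⊔ R),
        (∀ x : Q, b (Subgroup.inclusion le_sup_left x) = α x) ∧
          ∀ r : R, b (Subgroup.inclusion le_sup_right r) = r := by
    intro Q α hα hQU hco
    obtain ⟨-, -, -, ψ, hψ, hψα, k, ⟨hk1, hk2, hk3, hk4⟩, hψk⟩ :=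
      hext Q (autGroup_hom_mem hQU hα)
    have hW : Q ⊔ R ≤ S := sup_le (hQU.trans hUS) hR.1
    haveI : Finite (Q ⊔ R : Subgroup Ω) := finite_of_le hW
    haveI := finite_mulAut (S := S) hW
    obtain ⟨b₀, hb₀, hb₀x⟩ := exists_aut_of_hom hψ (hom_sup_mem ψ
      (fun x => Subgroup.mem_sup_left ((hψα x).symm ▸ (α x).2))
      (fun x => Subgroup.mem_sup_right ((hψk x).symm ▸ (k x).2)))
    obtain ⟨n, hbco, hbQ⟩ := exists_coprime_extension (p := p)
      (le_sup_left : Q ≤ Q ⊔ R) (α := α) (β := b₀) (fun x => (hb₀x _).trans (hψα x)) hco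
    have hit : ∀ (j : ℕ) (r : R), ((b₀ ^ j) (Subgroup.inclusion le_sup_right r) : Ω) =
        ((k ^ j) r : Ω) := by
      intro j
      induction j with
      | zero => intro r; rfl
      | succ j ih =>
        intro r
        rw [pow_succ', pow_succ', MulAut.mul_apply, MulAut.mul_apply,
          show (b₀ ^ j) (Subgroup.inclusion le_sup_right r) =
            Subgroup.inclusion le_sup_right ((k ^ j) r) from Subtype.ext (ih r), hb₀x, hψk]
    obtain ⟨hm1, -, -, hm4⟩ := Subgroup.pow_mem (stab R (R ⊓ V) (R ⊓ V) hn)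
      (⟨hk1, hk2, hk3, hk4⟩ : k ∈ stab R (R ⊓ V) (R ⊓ V) hn) n
    refine ⟨_, autGroup_hom_mem hW (pow_mem hb₀ n), fun x => hbQ x, fun r => ?_⟩
    set w : (Q ⊔ R : Subgroup Ω) := Subgroup.inclusion le_sup_right r with hw
    set q := w⁻¹ * (b₀ ^ n) w with hq
    have hqY : (q : Ω) ∈ R ⊓ V := by
      show (r : Ω)⁻¹ * ((b₀ ^ n) w : Ω) ∈ R ⊓ V
      rw [hit]
      exact hm4 r
    have hbq : (b₀ ^ n) q = q := Subtype.ext (by
      rw [show q = Subgroup.inclusion le_sup_right (⟨q, hqY.1⟩ : R) from Subtype.ext rfl, hit]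
      exact hm1 ⟨q, hqY.1⟩ hqY)
    have h1 : q = 1 := map_eq_one_of_coprime (hS.to_le hW) (MonoidHom.id _) (b₀ ^ n) hbco
      (fun v hv => by
        rw [MonoidHom.id_apply] at hv ⊢
        rw [hv, map_one])
      (x := w) (q := q) (by
        show (b₀ ^ n) w = w * q
        rw [hq, mul_inv_cancel_left])
      hbq
    rw [hq, inv_mul_eq_one] at h1
    exact congrArg Subtype.val h1.symm
  -- `U` centralizes `R`
  have hSR := le_normalizer_of_isNormal hR
  have hSV := stronglyClosed_le_normalizer hVc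
  have hU : U ≤ centralizerIn S R := by
    intro u hu
    rw [← hhyp] at hu
    revert u
    refine (Subgroup.closure_le (centralizerIn S R)).2 ?_
    rintro _ ⟨Q, α, x, hQ, hα, rfl⟩
    refine ⟨S.mul_mem (S.inv_mem (hUS (hQ x.2))) (hUS (hQ (SetLike.coe_mem _))),
      Subgroup.mem_centralizer_iff.2 fun r hr => ?_⟩
    have hcomm : ∀ y : Q, r * (y : Ω) * r⁻¹ * (y : Ω)⁻¹ ∈ R ⊓ V := fun y => by
      refine ⟨?_, V.mul_mem ((Subgroup.mem_normalizer_iff.1 (hSV (hR.1 hr)) _).1 (hUV (hQ y.2)))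
        (V.inv_mem (hUV (hQ y.2)))⟩
      rw [show r * (y : Ω) * r⁻¹ * (y : Ω)⁻¹ = r * ((y : Ω) * r⁻¹ * (y : Ω)⁻¹) by group]
      exact R.mul_mem hr ((Subgroup.mem_normalizer_iff.1 (hSR (hUS (hQ y.2))) _).1 (R.inv_mem hr))
    have key : ∀ β ∈ pResidual p (C.autGroup Q), ∀ y : Q,
        r * ((β : MulAut Q) y : Ω) * r⁻¹ * ((β : MulAut Q) y : Ω)⁻¹ =
          r * (y : Ω) * r⁻¹ * (y : Ω)⁻¹ := by
      intro β hβ
      induction hβ using Subgroup.closure_induction with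
      | mem β hβ =>
        intro y
        obtain ⟨b, hb, hbQ, hbR⟩ := hfix Q β β.2 hQ (by rwa [Subgroup.orderOf_coe])
        let rr : (Q ⊔ R : Subgroup Ω) := ⟨r, Subgroup.mem_sup_right hr⟩
        let yy : (Q ⊔ R : Subgroup Ω) := ⟨y, Subgroup.mem_sup_left y.2⟩
        have e1 : b (rr * yy * rr⁻¹ * yy⁻¹) =
            r * ((β : MulAut Q) y : Ω) * r⁻¹ * ((β : MulAut Q) y : Ω)⁻¹ := by
          rw [map_mul, map_mul, map_mul, map_inv, map_inv,
            show b rr = r from hbR ⟨r, hr⟩, show b yy = _ from hbQ y]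
        rw [← e1]
        exact (congrArg b (Subtype.ext rfl)).trans (hbR ⟨_, (hcomm y).1⟩)
      | one => intro y; rfl
      | mul a b _ _ ha hb =>
        intro y
        exact (ha ((b : MulAut Q) y)).trans (hb y)
      | inv a _ ha =>
        intro y
        have := ha (((a : MulAut Q))⁻¹ y)
        rw [MulAut.apply_inv_self] at this
        exact this.symm
    set a : Ω := (x : Ω) with hadef
    set b : Ω := ((α : MulAut Q) x : Ω) with hbdef
    have h1 : r * b * r⁻¹ * b⁻¹ = r * a * r⁻¹ * a⁻¹ := key α hα x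
    have hbU : a⁻¹ * b ∈ U := U.mul_mem (U.inv_mem (hQ x.2)) (hQ (SetLike.coe_mem _))
    set z := r * (a⁻¹ * b) * r⁻¹ * (a⁻¹ * b)⁻¹ with hz
    have hzY : z ∈ R ⊓ V := by
      refine ⟨?_, V.mul_mem ((Subgroup.mem_normalizer_iff.1 (hSV (hR.1 hr)) _).1 (hUV hbU))
        (V.inv_mem (hUV hbU))⟩
      rw [hz, show r * (a⁻¹ * b) * r⁻¹ * (a⁻¹ * b)⁻¹ =
        r * ((a⁻¹ * b) * r⁻¹ * (a⁻¹ * b)⁻¹) by group]
      exact R.mul_mem hr ((Subgroup.mem_normalizer_iff.1 (hSR (hUS hbU)) _).1 (R.inv_mem hr))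
    have hza : z * a = a * z := Subgroup.mem_centralizer_iff.1 (hUY (hQ x.2)).2 z hzY
    have h2 : r * b * r⁻¹ * b⁻¹ = r * a * r⁻¹ * a⁻¹ * (a * z * a⁻¹) := by
      rw [hz]; group
    rw [h1, left_eq_mul, ← hza, mul_inv_cancel_right] at h2
    rw [hz, mul_inv_eq_one, mul_inv_eq_iff_eq_mul] at h2
    exact h2
  -- all maps of `C` extend fixing `R`
  intro φ hφ
  have hUK : ∀ g ∈ U, ∃ k ∈ (⊥ : Subgroup (MulAut R)), ∀ x : R, (k x : Ω) = g * (x : Ω) * g⁻¹ :=
    exists_bot_conj_of_centralizes (hU.trans inf_le_right)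
  obtain ⟨hφF, hPU, hφU, ψ, hψ, hψφ, k, hk, hψk⟩ := hom_le_extHom hS hCs hCF hR hUS hUK
    (fun c _ k hk => by
      rw [Subgroup.mem_bot.1 hk, mul_one, mul_inv_cancel]; exact Subgroup.one_mem _)
    (fun α hα hco => by
      obtain ⟨b, hb, h1, h2⟩ := hfix U α hα le_rfl hco
      exact ⟨hCF _ (autGroup_hom_mem le_rfl hα), le_rfl, fun x => (α x).2, b, hb, h1, 1,
        Subgroup.one_mem _, h2⟩) P hφ
  rw [Subgroup.mem_bot.1 hk] at hψk
  exact ⟨hφF, hPU.trans hU, fun x => hU (hφU x), ψ, hψ, hψφ, hψk⟩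

/-- **Components centralize normal subgroups.** -/
theorem hom_le_centralizerHom {U S : Subgroup Ω} {C : FusionSystem U} {F : FusionSystem S}
    (h : C.IsSubnormalIn F p) : p.Prime → IsPGroup p S → Finite S → C.Quasisimple p →
      ∀ R : Subgroup Ω, F.IsNormal R → ∀ P, C.Hom P ⊆ F.centralizerHom R P := by
  induction h with
  | refl F p =>
    intro hp hS hfin hq R hR P φ hφ
    haveI : Fact p.Prime := ⟨hp⟩
    have hRZ := le_center_of_quasisimple hS hq hR
    obtain ⟨ψ, hψ, hψP, hψZ⟩ := (isCentral_center F).2 P φ hφ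
    have hle : P ⊔ R ≤ P ⊔ F.center := sup_le_sup_left hRZ P
    have hSc : ∀ s, s ∈ _ → s ∈ centralizerIn _ R := fun s hs => ⟨hs,
      Subgroup.mem_centralizer_iff.2 fun r hr => (F.center_le_centralizer (hRZ hr) s hs).symm⟩
    exact ⟨hφ, fun y hy => hSc y (src_le hφ hy), fun x => hSc _ (val_mem hφ x), _,
      restrict_mem hψ hle, fun x => (congrArg ψ (Subtype.ext rfl)).trans (hψP x),
      fun x => (congrArg ψ (Subtype.ext rfl)).trans (hψZ ⟨x, hRZ x.2⟩)⟩
  | @step V S C D F p _ hD ih =>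
    intro hp hS hfin hq R hR P
    haveI : Fact p.Prime := ⟨hp⟩
    have hVS : V ≤ S := hD.1.2.2.2.1.1
    refine hom_le_centralizerHom_of_quasisimple hS hq hD hR (fun Q => ?_) P
    exact ih hp (hS.to_le hVS) (finite_of_le hVS) hq _
      (isNormal_inf_of_subsystem hS hD.1.2.2.2.1 hD.1.1 hD.1.2.2.1 hR) Q

/-- The layer centralizes every normal subgroup. -/
theorem layer_hom_le_centralizerHom [Fact p.Prime] [Finite S] (hS : IsPGroup p S)
    (hF : F.IsSaturated p) {E : FusionSystem T} (hE : E.IsLayerOf F p) {R : Subgroup Ω}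
    (hR : F.IsNormal R) (P : Subgroup Ω) : E.Hom P ⊆ F.centralizerHom R P := by
  obtain ⟨C, hC⟩ := exists_centralizerSystem F hR.1
  intro φ hφ
  refine (hC P).le (hE.2.2 _ C (isNormalIn_centralizerSystem hS hF hR hC) (fun U D hD Q ψ hψ => ?_)
    P hφ)
  rw [hC]
  exact hom_le_centralizerHom hD.1 Fact.out hS inferInstance hD.2 R hR Q hψ

end Cfsg.Agent.Lib.Fusion.ComponentCentralizer
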