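import Cfsg.Agent.Lib.Fusion.InnerReduction

/-!
Control reductions: a fusion system on `S` contains a saturated system `F` once it contains the
constrained subsystems and the normalizers of the characteristic subgroups see everything below.
-/

set_option autoImplicit false
set_option linter.style.haveILetI false

namespace Cfsg.Agent.Lib.Fusion

open Cfsg Cfsg.FusionSystem

universe u

variable {Ω : Type u} [Group Ω] {S : Subgroup Ω} {F : FusionSystem S} {p : ℕ}

/-- On proper subgroups, the normalizers of characteristic subgroups control membership in `D`. -/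
def SmallControl (p : ℕ) (F D : FusionSystem S) : Prop :=
  ∀ (T : Subgroup Ω), T ≤ S → T ≠ S → S ⊓ Subgroup.centralizer (S : Set Ω) ≤ T →
    ∀ N : FusionSystem T, N.IsSaturated p →
    N.IsSubsystemOf F →
    (∀ Y : Subgroup Ω, Y ≤ T → Y ≠ ⊥ → (Y.subgroupOf T).Characteristic →
      ∀ P : Subgroup Ω, N.normalizerHom Y P ⊆ D.Hom P) →
    ∀ P : Subgroup Ω, N.Hom P ⊆ D.Hom P

/-- Normalizer systems of non-normal subgroups, by descent. -/
theorem normalizerHom_subset_of_charDescend [Finite S] [Fact p.Prime] (hS : IsPGroup p S)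
    (hF : F.IsSaturated p) (D : FusionSystem S) (hsmall : SmallControl p F D)
    (htop : ∀ X : Subgroup Ω, X ≠ ⊥ → X ≤ S → normalizerIn S X = S →
      ∀ P, F.normalizerHom X P ⊆ D.Hom P)
    {n : ℕ} (hbig : ∀ R : Subgroup Ω, n < Nat.card R → F.Hom R ⊆ D.Hom R) :
    ∀ X : Subgroup Ω, X ≠ ⊥ → F.IsFullyNormalized X → n < Nat.card (normalizerIn S X) →
      ∀ (P : Subgroup Ω) (φ : P →* Ω), φ ∈ F.normalizerHom X P → φ ∈ D.Hom P := by
  suffices H : ∀ k, ∀ X : Subgroup Ω, Nat.card S - Nat.card (normalizerIn S X) ≤ k → X ≠ ⊥ →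
      F.IsFullyNormalized X → n < Nat.card (normalizerIn S X) →
      ∀ (P : Subgroup Ω) (φ : P →* Ω), φ ∈ F.normalizerHom X P → φ ∈ D.Hom P from
    fun X hX hn hc => H _ X le_rfl hX hn hc
  intro k
  induction k using Nat.strong_induction_on with
  | _ k ih =>
    intro X hk hX hn hcard P φ hφ
    rcases eq_or_ne (normalizerIn S X) S with heq | hne
    · exact htop X hX hn.1 heq P hφ
    obtain ⟨N, hN⟩ := exists_normalizerSystem F hn.1
    rw [← hN P] at hφ
    haveI := finite_normalizerIn (S := S) X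
    have hTp : IsPGroup p (normalizerIn S X) := hS.to_le inf_le_left
    have hTS : normalizerIn S X ≤ S := inf_le_left
    have hNsub : N.IsSubsystemOf F := fun P φ hφ => by rw [hN P] at hφ; exact hφ.1
    have hZT : S ⊓ Subgroup.centralizer (S : Set Ω) ≤ normalizerIn S X := fun x hx =>
      ⟨hx.1, Subgroup.centralizer_le_normalizer _
        (Subgroup.centralizer_le (SetLike.coe_subset_coe.mpr hn.1) hx.2)⟩
    refine hsmall _ hTS hne hZT N (isSaturated_normalizerSystem hS hF hn hN) hNsub ?_ P hφ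
    clear hφ φ P
    intro Y hYT hY1 hYc P φ hφ
    obtain ⟨hφN, hPT, -, ψ, hψN, hψφ, hψY⟩ := hφ
    have hψF : ψ ∈ F.Hom (P ⊔ Y) := hNsub _ hψN
    have hψT : ∀ y, ψ y ∈ normalizerIn S X := val_mem hψN
    have hYS : Y ≤ S := hYT.trans hTS
    obtain ⟨X', ⟨χ₀, hχ₀, hr₀⟩, hn'⟩ := exists_isFullyNormalized_conj F hYS
    obtain ⟨χ, hχ, hχN, hχY⟩ := exists_map_to_fullyNormalized hS hF hn' ⟨χ₀, hχ₀, hr₀⟩
    have hNN : normalizerIn S (normalizerIn S X) ≤ normalizerIn S Y :=
      inf_le_inf_left _ (normalizer_le_normalizer_of_characteristic hYT hYc)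
    haveI := finite_normalizerIn (S := S) Y
    haveI := finite_normalizerIn (S := S) X'
    have hlt' : Nat.card (normalizerIn S X) < Nat.card (normalizerIn S Y) :=
      lt_of_lt_of_le (Fusion87.card_lt_normalizerIn hS hTS hne) (Subgroup.card_le_of_le hNN)
    have hcX' : Nat.card (normalizerIn S Y) ≤ Nat.card (normalizerIn S X') :=
      Nat.card_le_card_of_injective (fun x => (⟨χ x, hχN x⟩ : normalizerIn S X'))
        fun a b h => F.injective_of_mem hχ (congrArg Subtype.val h)
    have hX' : X' ≠ ⊥ := by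
      intro h
      have := card_range hχ₀
      rw [hr₀, h, Subgroup.card_bot] at this
      exact hY1 (Subgroup.card_eq_one.mp this.symm)
    have hle : Nat.card (normalizerIn S X') ≤ Nat.card S := Subgroup.card_le_of_le inf_le_left
    have hTY : normalizerIn S X ≤ normalizerIn S Y := (le_normalizerIn hTS).trans hNN
    have hU : P ⊔ Y ≤ normalizerIn S Y := (src_le hψN).trans hTY
    have hψY' : ∀ y, ψ y ∈ normalizerIn S Y := fun y => hTY (hψT y)
    obtain ⟨a, ha, har, ha1, -⟩ :=
      exists_inverse (restrict_mem hχ hU) (range_restrict χ hU)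
    obtain ⟨b, hb, hba⟩ := exists_comp ha hψF (fun y => har.le ⟨y, rfl⟩)
    obtain ⟨θ, hθ, hθb⟩ := exists_comp hb hχ (fun y => by rw [hba]; exact hψY' _)
    have hsub : X' ≤ imgSub χ (P ⊔ Y) := hχY ▸ imgSub_mono χ le_sup_right
    have hval : ∀ (u : Ω) (hu : u ∈ P ⊔ Y) (h1 : χ ⟨u, hU hu⟩ ∈ imgSub χ (P ⊔ Y)),
        θ ⟨χ ⟨u, hU hu⟩, h1⟩ = χ ⟨ψ ⟨u, hu⟩, hψY' _⟩ := by
      intro u hu h1
      rw [hθb]
      congr 1
      apply Subtype.ext
      show b _ = _
      rw [hba]
      congr 1
      exact Subtype.ext (ha1 ⟨u, hu⟩ h1)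
    have hθN : θ ∈ F.normalizerHom X' (imgSub χ (P ⊔ Y)) := by
      refine ⟨hθ, ?_, fun y => by rw [hθb]; exact hχN _,
        θ.comp (Subgroup.inclusion (sup_le le_rfl hsub)), restrict_mem hθ _, fun y => rfl, ?_⟩
      · intro y hy
        obtain ⟨z, -, rfl⟩ := mem_imgSub.1 hy
        exact hχN z
      · haveI : Finite X' := finite_of_le hn'.1
        refine Subgroup.eq_of_le_of_card_ge ?_ (le_of_eq (card_imgSub
          (F.injective_of_mem (restrict_mem hθ _)) le_sup_right).symm) (H := imgSub _ X')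
        intro z hz
        obtain ⟨y, hy, rfl⟩ := mem_imgSub.1 hz
        obtain ⟨v, hv, hve⟩ := mem_imgSub.1 (hχY.ge hy)
        have hvU : (v : Ω) ∈ P ⊔ Y := Subgroup.mem_sup_right hv
        show θ (Subgroup.inclusion (sup_le le_rfl hsub) y) ∈ X'
        have hey : (Subgroup.inclusion (sup_le le_rfl hsub) y : imgSub χ (P ⊔ Y)) =
            ⟨χ ⟨v, hU hvU⟩, apply_mem_imgSub χ _ hvU⟩ := Subtype.ext hve.symm
        rw [hey, hval v hvU (apply_mem_imgSub χ _ hvU)]
        refine hχY.le (apply_mem_imgSub χ _ ?_)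
        exact hψY.le ⟨⟨v, hvU⟩, hv, rfl⟩
    have hθD : θ ∈ D.Hom _ := ih (Nat.card S - Nat.card (normalizerIn S X')) (by omega) X' le_rfl
      hX' hn' (by omega) _ θ hθN
    have hχD : χ ∈ D.Hom _ := hbig _ (hcard.trans hlt') hχ
    obtain ⟨χi, hχi, -, hχi1, -⟩ := exists_inverse hχD (rfl : χ.range = χ.range)
    have hPN : P ≤ normalizerIn S Y := le_sup_left.trans hU
    have hmem : ∀ x : P, (χ.comp (Subgroup.inclusion hPN)) x ∈ imgSub χ (P ⊔ Y) := fun x =>
      apply_mem_imgSub χ (Subgroup.inclusion hPN x) (Subgroup.mem_sup_left x.2)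
    obtain ⟨c, hc, hce⟩ := exists_comp (restrict_mem hχD hPN) hθD hmem
    have hce' : ∀ x : P, c x = χ ⟨φ x, by rw [← hψφ]; exact hψY' _⟩ := by
      intro x
      rw [hce]
      refine (hval x (Subgroup.mem_sup_left x.2) (hmem x)).trans ?_
      congr 1
      exact Subtype.ext (hψφ x)
    refine comp_of_apply hc hχi fun x => ⟨⟨_, (hce' x).symm⟩, ?_⟩
    have hφY : φ x ∈ normalizerIn S Y := by rw [← hψφ]; exact hψY' _
    exact ((hχi1 ⟨φ x, hφY⟩ ⟨_, rfl⟩).symm.trans (congrArg χi (Subtype.ext (hce' x).symm)))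

/-- Maps between non-normal top normalizers. -/
def TopControlled (F D : FusionSystem S) : Prop :=
  ∀ X : Subgroup Ω, X ≤ S → normalizerIn S X = S → ¬ F.IsNormal X →
    ∀ P, F.normalizerHom X P ⊆ D.Hom P

theorem subset_of_proper [Finite S] {n : ℕ} {E D : FusionSystem S}
    (ih : ∀ E' : FusionSystem S, (maps E').ncard < n → E'.IsSaturated p → E'.IsSubsystemOf F →
      E' ≤ D)
    (hn : (maps E).ncard ≤ n) (hEF : E.IsSubsystemOf F) {T : Subgroup Ω} (hT : T = S)
    {N : FusionSystem T} (hN : N.IsSaturated p) (hNE : N.IsSubsystemOf E)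
    (hne : ∃ P, ¬ E.Hom P ⊆ N.Hom P) : ∀ P, N.Hom P ⊆ D.Hom P := by
  subst hT
  obtain ⟨P, hP⟩ := hne
  refine ih N (lt_of_lt_of_le (Set.ncard_lt_ncard ⟨fun x hx => hNE _ hx, fun hsub => ?_⟩
    (finite_maps E)) hn) hN fun P φ hφ => hEF _ (hNE _ hφ)
  exact hP fun φ hφ => hsub (a := ⟨P, φ⟩) hφ

/-- The control reduction. -/
theorem subset_of_reduction [Finite S] [Fact p.Prime] (hS : IsPGroup p S)
    (hF : F.IsSaturated p) (D : FusionSystem S) (hsmall : SmallControl p F D)
    (hcon : ∀ E : FusionSystem S, E.IsSaturated p → E.IsSubsystemOf F → E.IsConstrained p →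
      TopControlled E D → E ≤ D)
    (hfac : ∀ E : FusionSystem S, E.IsSaturated p → E.IsSubsystemOf F → ∀ Q : Subgroup Ω,
      E.IsNormal Q → Q ≠ ⊥ → ¬ centralizerIn S Q ≤ Q → (∀ X, E.IsNormal X → X ≤ Q) →
      (∀ P, E.Hom P ⊆ extHom E Q S (autInducedBy S Q) P) → TopControlled E D → E ≤ D) :
    F ≤ D := by
  suffices H : ∀ n, ∀ E : FusionSystem S, (maps E).ncard = n → E.IsSaturated p →
      E.IsSubsystemOf F → E ≤ D from H _ F rfl hF fun P φ hφ => hφ
  intro n
  induction n using Nat.strong_induction_on with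
  | _ n ih =>
    intro E hn hE hEF
    have htopN : TopControlled E D := by
      intro X hX hXS hXn P φ hφ
      obtain ⟨N, hN⟩ := exists_normalizerSystem E hX
      have hsub : N.IsSubsystemOf E := fun P φ hφ => by rw [hN P] at hφ; exact hφ.1
      refine subset_of_proper (fun E' h => ih _ h E' rfl) hn.le hEF hXS
        (isSaturated_normalizerSystem hS hE (isFullyNormalized_of_normalizerIn_eq hX hXS) hN)
        hsub ?_ P ((hN P).symm ▸ hφ)
      by_contra hcon'
      push_neg at hcon'
      refine hXn ⟨hX, fun P φ hφ => ?_⟩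
      have := hcon' P hφ
      rw [hN P] at this
      exact this.2.2.2
    by_cases hcore : E.core = ⊥
    · refine Fusion87.le_of_autGroup_centric_radical hS hE fun Q hQn hQc _ hbig α hα => ?_
      refine (mem_autGroup hQn.1).2 ?_
      have hαH := autGroup_hom_mem hQn.1 hα
      have htop : ∀ X : Subgroup Ω, X ≠ ⊥ → X ≤ S → normalizerIn S X = S →
          ∀ P, E.normalizerHom X P ⊆ D.Hom P := fun X hX hXS hXT =>
        htopN X hXS hXT fun h => hX (le_bot_iff.mp (hcore ▸ le_sSup h))
      have hαN : autHom α ∈ E.normalizerHom Q Q := by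
        refine ⟨hαH, le_normalizerIn hQn.1, fun x => le_normalizerIn hQn.1 (α x).2,
          (autHom α).comp (Subgroup.inclusion (sup_idem Q).le), restrict_mem hαH _,
          fun x => rfl, ?_⟩
        haveI : Finite Q := finite_of_le hQn.1
        refine Subgroup.eq_of_le_of_card_ge ?_ (card_imgSub
          (E.injective_of_mem (restrict_mem hαH (sup_idem Q).le)) le_sup_right).ge
        intro y hy
        obtain ⟨z, hz, rfl⟩ := mem_imgSub.1 hy
        exact (α _).2
      rcases eq_or_ne Q ⊥ with hQ0 | hQ0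
      · subst hQ0
        refine mem_congr (FusionFactor.subtype_mem D hQn.1) fun x => ?_
        show autHom α x = (x : Ω)
        rw [show x = 1 from Subtype.ext (Subgroup.mem_bot.mp x.2), map_one]
        rfl
      rcases eq_or_ne Q S with hQS | hQS
      · exact htop Q hQ0 hQn.1 (hQS ▸ normalizerIn_self S) Q hαN
      exact normalizerHom_subset_of_charDescend hS hE D
        (fun T hT hTne hZ N hN hNE h => hsmall T hT hTne hZ N hN (fun P φ hφ => hEF _ (hNE _ hφ)) h)
        htop hbig Q hQ0 hQn (Fusion87.card_lt_normalizerIn hS hQn.1 hQS) Q _ hαN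
    set Q := E.core with hQdef
    have hQ : E.IsNormal Q := FusionFactor.isNormal_core E
    have hmax : ∀ X, E.IsNormal X → X ≤ Q := fun X hX => le_sSup hX
    have hQn := isFullyNormalized_of_isNormal hQ
    have hSQ := le_normalizer_of_isNormal hQ
    by_cases hc : centralizerIn S Q ≤ Q
    · refine hcon E hE hEF ⟨hE, Q, hQ, hQ.1, fun R hR => ?_⟩ htopN
      obtain ⟨φ, hφ, rfl⟩ := hR
      haveI : Finite Q := finite_of_le hQ.1
      rw [range_eq_self hφ (fun x =>
        Fusion87.stronglyClosed_apply (stronglyClosed_of_isNormal hQ) hφ x x.2)]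
      exact hc
    have hK : ∀ g ∈ S, ∃ k ∈ autInducedBy S Q, ∀ x : Q, (k x : Ω) = g * (x : Ω) * g⁻¹ :=
      fun g hg => ⟨conjAut Q g (hSQ hg),
        mem_autInducedBy_normalizer.2 ⟨g, hSQ hg, hg, rfl⟩, fun x => rfl⟩
    let M := extSystem E Q S (autInducedBy S Q) hQ.1 le_rfl hK
    by_cases hME : ∀ P, E.Hom P ⊆ M.Hom P
    · exact hfac E hE hEF Q hQ hcore hc hmax hME htopN
    push_neg at hME
    have hMsat : M.IsSaturated p := by
      refine isSaturated_kNormalizer hS hE (isReceptive_of_isFullyNormalized hS hE hQn) ?_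
        (fun g => ⟨fun hg => ⟨hg, hK g hg⟩, fun h => h.1⟩) M (fun P => rfl)
      haveI : Finite Q := finite_of_le hQ.1
      rw [inf_idem, inf_eq_right.mpr (autInducedBy_le_autGroup hQ.1)]
      refine ⟨le_rfl, isPGroup_autInducedBy hS, ?_⟩
      rw [Subgroup.relIndex_self]
      exact (Fact.out : p.Prime).not_dvd_one
    have hMD := subset_of_proper (fun E' h => ih _ h E' rfl) hn.le hEF rfl hMsat
      (fun P φ hφ => hφ.1) hME
    set T := Q ⊔ centralizerIn S Q with hT
    have hTS : T ≤ S := sup_le hQ.1 inf_le_left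
    have hnT : normalizerIn S T = S := by
      refine le_antisymm inf_le_left (le_inf le_rfl fun g hg => ?_)
      have key : ∀ g ∈ S, ∀ x ∈ T, g * x * g⁻¹ ∈ T := by
        intro g hgS x hx
        have hgQ := hSQ hgS
        have : T ≤ T.comap (MulAut.conj g).toMonoidHom := by
          refine sup_le (fun q hq => Subgroup.mem_sup_left
            ((Subgroup.mem_normalizer_iff.mp hgQ q).mp hq))
            fun c hc => Subgroup.mem_sup_right ⟨mul_mem (mul_mem hgS hc.1) (S.inv_mem hgS),
              Subgroup.mem_centralizer_iff.mpr fun q hq => ?_⟩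
          have h3 : g⁻¹ * q * g ∈ Q :=
            (Subgroup.mem_normalizer_iff.mp hgQ _).mpr (by simpa [mul_assoc] using hq)
          have h4 := Subgroup.mem_centralizer_iff.mp hc.2 _ h3
          show q * (g * c * g⁻¹) = g * c * g⁻¹ * q
          calc q * (g * c * g⁻¹) = g * ((g⁻¹ * q * g) * c) * g⁻¹ := by group
            _ = g * (c * (g⁻¹ * q * g)) * g⁻¹ := by rw [h4]
            _ = g * c * g⁻¹ * q := by group
        exact this hx
      rw [Subgroup.mem_normalizer_iff]
      refine fun x => ⟨key g hg x, fun hx => ?_⟩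
      simpa [mul_assoc] using key _ (S.inv_mem hg) _ hx
    exact le_of_normal_decomposition hS hE hQ D
      (htopN T hTS hnT fun hn' => hc (le_sup_right.trans (hmax T hn'))) hMD

end Cfsg.Agent.Lib.Fusion
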