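import Cfsg.Agent.Lib.Fusion.ExtraspecialCentre

/-!
An abelian essential subgroup of a group of order `p ^ 4` as in `Setting`, with an automorphism
moving `Z`: it produces an automorphism of `S` inverting `Z`.
-/

set_option autoImplicit false

namespace Cfsg.Agent.Lib.Fusion.CentralCommutator

open Cfsg Cfsg.FusionSystem

/-- The action of `(a b⁻¹ a)²` for two opposite transvections. -/
theorem tau_apply {A : Type*} [CommGroup A] (a b : MulAut A) {z z' : A} (haz : a z = z)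
    (haz' : a z' = z' * z) (hbz : b z = z * z') (hbz' : b z' = z') :
    ((a * b⁻¹ * a) ^ 2) z = z⁻¹ ∧ ((a * b⁻¹ * a) ^ 2) z' = z'⁻¹ := by
  have h1 : b⁻¹ z' = z' := by
    conv_lhs => rw [← hbz']
    exact b.symm_apply_apply z'
  have h2 : b⁻¹ z = z * z'⁻¹ := by
    refine (MulEquiv.symm_apply_eq b).2 ?_
    rw [map_mul, map_inv, hbz, hbz', mul_inv_cancel_right]
  have h3 : (a * b⁻¹ * a) z = z'⁻¹ := by
    rw [MulAut.mul_apply, MulAut.mul_apply, haz, h2, map_mul, map_inv, haz, haz', mul_inv_rev,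
      mul_inv_cancel_left]
  have h4 : (a * b⁻¹ * a) z' = z := by
    rw [MulAut.mul_apply, MulAut.mul_apply, haz', map_mul, h1, h2, map_mul, map_mul, map_inv, haz,
      haz', mul_comm z, mul_inv_cancel_left]
  constructor
  · rw [pow_two, MulAut.mul_apply, h3, map_inv, h4]
  · rw [pow_two, MulAut.mul_apply, h4, h3]

/-- Decomposition along two opposite transvections. -/
theorem exists_common_fixed {A : Type*} [CommGroup A] (a b : MulAut A) {z z' : A} (haz : a z = z)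
    (haz' : a z' = z' * z) (hbz : b z = z * z') (x : A)
    (ha : ∃ j : ℤ, a x = x * z ^ j) (hb : ∀ y, a y = y → ∃ i : ℤ, b y = y * z' ^ i) :
    ∃ (i j : ℤ) (w : A), a w = w ∧ b w = w ∧ x = z ^ i * z' ^ j * w ∧ (a x = x → z ^ j = 1) := by
  obtain ⟨j, hj⟩ := ha
  have hy : a (x * (z' ^ j)⁻¹) = x * (z' ^ j)⁻¹ := by
    rw [map_mul, map_inv, map_zpow, haz', hj, mul_zpow, mul_inv_rev, ← mul_assoc,
      mul_inv_cancel_right]
  obtain ⟨i, hi⟩ := hb _ hy
  refine ⟨i, j, x * (z' ^ j)⁻¹ * (z ^ i)⁻¹, ?_, ?_, ?_, fun hx => ?_⟩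
  · rw [map_mul, hy, map_inv, map_zpow, haz]
  · rw [map_mul, hi, map_inv, map_zpow, hbz, mul_zpow, mul_inv_rev, mul_assoc, ← mul_assoc (z' ^ i),
      mul_inv_cancel, one_mul]
  · rw [mul_comm (z ^ i * z' ^ j), mul_assoc, mul_assoc, inv_mul_cancel_left, inv_mul_cancel,
      mul_one]
  · exact mul_eq_left.1 (hj.symm.trans hx)

variable {Ω : Type*} [Group Ω] {S : Subgroup Ω} {F : FusionSystem S} {p : ℕ} {Q : Subgroup Ω}
  [Finite S] [Fact p.Prime] {E : Subgroup Ω}

namespace Setting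

variable (s : Setting p S Q) (hF : F.IsSaturated p) (hp : Odd p) (hE : F.IsEssential p E)
  (hab : ∀ a ∈ E, ∀ b ∈ E, a * b = b * a) (hc : Nat.card Q = p ^ 3)

include s hF hp hE hab hc in
/-- An automorphism moving `Z` gives a good automorphism of `S` whose fixed points on `Z(S)` are
the elements carried into `Z(S)` by the inverse. -/
theorem exists_good {α : MulAut E} (hα : α ∈ F.autGroup E) {z₀ : E}
    (hz₀ : (z₀ : Ω) ∈ Q ⊓ Subgroup.centralizer (Q : Set Ω))
    (hmove : (α z₀ : Ω) ∉ Q ⊓ Subgroup.centralizer (Q : Set Ω)) :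
    ∃ β : MulAut S, Good F Q β ∧ ∀ (x : E) (hx : (x : Ω) ∈ S),
      (x : Ω) ∈ S ⊓ Subgroup.centralizer (S : Set Ω) →
        (β ⟨x, hx⟩ = ⟨x, hx⟩ ↔ (α⁻¹ x : Ω) ∈ S ⊓ Subgroup.centralizer (S : Set Ω)) := by
  let _ : CommGroup E :=
    { (inferInstance : Group E) with mul_comm := fun a b => Subtype.ext (hab a a.2 b b.2) }
  have hpair := s.pair hE
  have hZc := hpair.cardZ
  have hZE := hpair.leE
  have hn : ∀ g ∈ S, g ∈ Subgroup.normalizer (E : Set Ω) := fun g hg => hpair.mem_normalizer hg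
  have hcardA := s.autInducedBy_card hE hab hc
  obtain ⟨hE3, hS4⟩ := s.card_eq hE hab hc
  obtain ⟨g₀, hg₀, hg₀E⟩ : ∃ g ∈ S, g ∉ E := by
    by_contra hne
    push Not at hne
    rw [le_antisymm hE.1.1 hne, hS4] at hE3
    exact absurd (Nat.pow_right_injective (Fact.out : p.Prime).two_le hE3) (by norm_num)
  set a : MulAut E := conjAut E g₀ (hn g₀ hg₀) with ha
  have haA : a ∈ autInducedBy S E := mem_autInducedBy.2 ⟨g₀, hg₀, fun _ => rfl⟩
  have haG : a ∈ F.autGroup E := autInducedBy_le_autGroup hE.1.1 haA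
  have ha1 : a ≠ 1 := fun h1 => conjAut_not_inn hE hg₀ (hn g₀ hg₀) hg₀E (ha ▸ h1 ▸ one_mem _)
  have haC : a ∈ chainStab E (Q ⊓ Subgroup.centralizer (Q : Set Ω)) := conjAut_mem_chainStab hpair hg₀
  -- all conjugations are powers of `a`
  have hgen : ∀ b ∈ autInducedBy S E, ∃ k : ℤ, a ^ k = b := by
    intro b hb
    have h := zpowers_eq_top_of_prime_card (g := (⟨a, haA⟩ : autInducedBy S E)) hcardA
      fun h => ha1 (congrArg Subtype.val h)
    obtain ⟨k, hk⟩ := Subgroup.mem_zpowers_iff.1 (h ▸ Subgroup.mem_top (⟨b, hb⟩ : autInducedBy S E))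
    exact ⟨k, congrArg Subtype.val hk⟩
  have hfix : ∀ x : E, a x = x ↔ (x : Ω) ∈ S ⊓ Subgroup.centralizer (S : Set Ω) := by
    refine fun x => ⟨fun hx => ⟨hE.1.1 x.2, fun g hg => ?_⟩, fun hx => Subtype.ext ?_⟩
    · obtain ⟨k, hk⟩ := hgen _ (mem_autInducedBy.2 ⟨g, hg, fun _ => rfl⟩ :
        conjAut E g (hn g hg) ∈ autInducedBy S E)
      have h1 : (a ^ k) x = x := by
        have : a ∈ MulAction.stabilizer (MulAut E) x := hx
        exact Subgroup.zpow_mem _ this k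
      rw [hk] at h1
      exact mul_inv_eq_iff_eq_mul.1 (congrArg Subtype.val h1)
    · rw [ha, conjAut_apply, hx.2 g₀ hg₀, mul_inv_cancel_right]
  have hZfix : ∀ x : E, (x : Ω) ∈ Q ⊓ Subgroup.centralizer (Q : Set Ω) → a x = x := haC.1
  -- moved elements of `Z` leave `Z(S)`
  have hout : ∀ (α : MulAut E), α ∈ F.autGroup E → ∀ x : E,
      (x : Ω) ∈ Q ⊓ Subgroup.centralizer (Q : Set Ω) →
      (α x : Ω) ∉ Q ⊓ Subgroup.centralizer (Q : Set Ω) →
      (α x : Ω) ∉ S ⊓ Subgroup.centralizer (S : Set Ω) := by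
    intro α hα x hxZ hxn hxC
    have hx1 : (x : Ω) ≠ 1 := fun h1 => hxn (by
      rw [show x = 1 from Subtype.ext h1, map_one]; exact one_mem _)
    have hexp : ∀ u ∈ S ⊓ Subgroup.centralizer (S : Set Ω), u ^ p = 1 := by
      intro u hu
      obtain ⟨k, hk⟩ := s.centre_decomp hxC hxn hu
      have hxp : (α x : Ω) ^ p = 1 := by
        have h1 : x ^ p = 1 := Subtype.ext (by simpa using pow_eq_one hZc hxZ)
        rw [← Subgroup.coe_pow, ← map_pow, h1, map_one]; rfl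
      have hcom : Commute (u * ((α x : Ω) ^ k)⁻¹) ((α x : Ω) ^ k) :=
        (Commute.zpow_left (hk.2 |> fun _ => (hxC.2 _ (s.le hk.1)).symm) k).symm
      have h2 := hcom.mul_pow p
      rwa [inv_mul_cancel_right, pow_eq_one hZc hk, one_mul, ← zpow_natCast ((α x : Ω) ^ k),
        ← zpow_mul, mul_comm, zpow_mul, zpow_natCast, hxp, one_zpow] at h2
    set a' : MulAut E := α * a * α⁻¹ with ha'
    have ha'x : a' (α x) = α x := by
      show α (a (α⁻¹ (α x))) = α x
      rw [MulAut.inv_apply_self, hZfix x hxZ]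
    have hline : ∀ y : E, ∃ k : ℤ, a' y = y * α x ^ k := by
      intro y
      obtain ⟨k, hk⟩ := exists_zpow_eq hZc hxZ hx1 (haC.2 (α⁻¹ y))
      refine ⟨k, ?_⟩
      show α (a (α⁻¹ y)) = _
      rw [show a (α⁻¹ y) = α⁻¹ y * x ^ k from Subtype.ext (by
        simp only [Subgroup.coe_mul, Subgroup.coe_zpow, hk, mul_inv_cancel_left]),
        map_mul, map_zpow, MulAut.apply_inv_self]
    have hcen : ∀ y : E, (y : Ω) ∈ S ⊓ Subgroup.centralizer (S : Set Ω) →
        (a' y : Ω) ∈ S ⊓ Subgroup.centralizer (S : Set Ω) := fun y hy => by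
      obtain ⟨k, hk⟩ := hline y
      rw [hk, Subgroup.coe_mul, Subgroup.coe_zpow]
      exact mul_mem hy (zpow_mem hxC k)
    have hcen' : ∀ y : E, (y : Ω) ∈ S ⊓ Subgroup.centralizer (S : Set Ω) →
        (a'⁻¹ y : Ω) ∈ S ⊓ Subgroup.centralizer (S : Set Ω) := fun y hy => by
      obtain ⟨k, hk⟩ := hline (a'⁻¹ y)
      rw [MulAut.apply_inv_self] at hk
      rw [show a'⁻¹ y = y * (α x ^ k)⁻¹ from eq_mul_inv_of_mul_eq hk.symm, Subgroup.coe_mul,
        Subgroup.coe_inv, Subgroup.coe_zpow]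
      exact mul_mem hy (inv_mem (zpow_mem hxC k))
    have hle : autInducedBy S E ≤ chainStab E (S ⊓ Subgroup.centralizer (S : Set Ω)) := by
      intro b hb
      obtain ⟨k, rfl⟩ := hgen b hb
      exact zpow_mem (show a ∈ chainStab E (S ⊓ Subgroup.centralizer (S : Set Ω)) from
        ⟨fun y hy => (hfix y).2 hy, fun y => s.centre_le (haC.2 y)⟩) k
    have hexpL : ∀ b ∈ chainStab E (S ⊓ Subgroup.centralizer (S : Set Ω)), b ^ p = 1 := fun b hb =>
      MulEquiv.ext fun y => Subtype.ext (by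
        rw [chainStab_pow b hb y p, hexp _ (hb.2 y), mul_one]; rfl)
    have ha'G : a' ∈ F.autGroup E := mul_mem (mul_mem hα haG) (inv_mem hα)
    have hc'' := s.mem_of_pgroup hF hE hexpL hle (conj_mem_chainStab (hle haA) hcen hcen')
      (mul_mem (mul_mem ha'G haG) (inv_mem ha'G))
    obtain ⟨g, hgn, hgS, he⟩ := mem_autInducedBy_normalizer.1 hc''
    have hcZ : a' * a * a'⁻¹ ∈ chainStab E (Q ⊓ Subgroup.centralizer (Q : Set Ω)) :=
      he ▸ conjAut_mem_chainStab hpair hgS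
    -- so `a'` preserves `Z`, and is trivial
    obtain ⟨y, hy⟩ : ∃ y, a y ≠ y := by
      by_contra hne
      push Not at hne
      exact ha1 (MulEquiv.ext hne)
    have hu : (y⁻¹ * a y : E) ≠ 1 := fun h1 => hy (inv_mul_eq_one.1 h1).symm
    have huZ : ((y⁻¹ * a y : E) : Ω) ∈ Q ⊓ Subgroup.centralizer (Q : Set Ω) := haC.2 y
    have hu' : (a' (y⁻¹ * a y) : Ω) ∈ Q ⊓ Subgroup.centralizer (Q : Set Ω) := by
      have h1 := hcZ.2 (a' y)
      have e : (a' * a * a'⁻¹) (a' y) = a' (a y) := by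
        rw [← MulAut.mul_apply, inv_mul_cancel_right]; rfl
      rwa [e, ← Subgroup.coe_inv, ← Subgroup.coe_mul, ← map_inv, ← map_mul] at h1
    obtain ⟨k, hk⟩ := hline (y⁻¹ * a y)
    have hk1 : α x ^ k = 1 := by
      have h1 : ((α x : Ω) ^ k) ∈ Q ⊓ Subgroup.centralizer (Q : Set Ω) := by
        have := mul_mem (inv_mem huZ) hu'
        rwa [hk, ← Subgroup.coe_inv, ← Subgroup.coe_mul, inv_mul_cancel_left, Subgroup.coe_zpow] at this
      by_contra hk1
      have hxp : (α x : Ω) ^ p = 1 := hexp _ hxC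
      have hpk : ¬ (p : ℤ) ∣ k := fun ⟨m, hm⟩ => hk1 (Subtype.ext (by
        rw [Subgroup.coe_zpow, hm, zpow_mul, zpow_natCast, hxp, one_zpow]; rfl))
      obtain ⟨c, d, hcd⟩ := ((Nat.prime_iff_prime_int.1 Fact.out).coprime_iff_not_dvd).2 hpk
      refine hxn ?_
      rw [show (α x : Ω) = ((α x : Ω) ^ k) ^ d from ?_]
      · exact zpow_mem h1 d
      · rw [← zpow_mul]
        conv_lhs => rw [← zpow_one (α x : Ω), ← hcd, zpow_add, mul_comm c, zpow_mul, zpow_natCast,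
          hxp, one_zpow, one_mul, mul_comm]
    have hafix : a' (y⁻¹ * a y) = y⁻¹ * a y := by rw [hk, hk1, mul_one]
    have ha'L : a' ∈ chainStab E (S ⊓ Subgroup.centralizer (S : Set Ω)) := by
      refine ⟨fun t ht => ?_, fun t => ?_⟩
      · obtain ⟨i, hi⟩ := s.centre_decomp hxC hxn ht
        obtain ⟨j, hj⟩ := exists_zpow_eq hZc huZ (fun h1 => hu (Subtype.ext h1)) hi
        have ht' : t = (y⁻¹ * a y) ^ j * α x ^ i := Subtype.ext (by
          rw [Subgroup.coe_mul, Subgroup.coe_zpow, Subgroup.coe_zpow, hj, inv_mul_cancel_right])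
        rw [ht', map_mul, map_zpow, map_zpow, hafix, ha'x]
      · obtain ⟨k, hk⟩ := hline t
        rw [hk, Subgroup.coe_mul, Subgroup.coe_zpow, inv_mul_cancel_left]
        exact zpow_mem hxC k
    obtain ⟨g', hg'n, hg'S, he'⟩ := mem_autInducedBy_normalizer.1
      (s.mem_of_pgroup hF hE hexpL hle ha'L ha'G)
    have h1 : (α (y⁻¹ * a y) : Ω) ∈ Q ⊓ Subgroup.centralizer (Q : Set Ω) := by
      have h2 := (he'.symm ▸ conjAut_mem_chainStab hpair hg'S :
        a' ∈ chainStab E (Q ⊓ Subgroup.centralizer (Q : Set Ω))).2 (α y)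
      rwa [ha', MulAut.mul_apply, MulAut.mul_apply, MulAut.inv_apply_self, ← Subgroup.coe_inv,
        ← Subgroup.coe_mul, ← map_inv, ← map_mul] at h2
    obtain ⟨m, hm⟩ := exists_zpow_eq hZc huZ (fun h1 => hu (Subtype.ext h1)) hxZ
    refine hxn ?_
    rw [show x = (y⁻¹ * a y) ^ m from Subtype.ext (by simpa using hm.symm), map_zpow, Subgroup.coe_zpow]
    exact zpow_mem h1 m
  -- the two transvections
  set z' : E := α z₀ with hz'
  have hz'C : (z' : Ω) ∉ S ⊓ Subgroup.centralizer (S : Set Ω) := hout α hα z₀ hz₀ hmove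
  have hz'1 : (z' : Ω) ≠ 1 := fun h1 => hz'C (h1 ▸ one_mem _)
  have hz₀1 : (z₀ : Ω) ≠ 1 := fun h1 => hz'1 (by
    rw [hz', show z₀ = 1 from Subtype.ext h1, map_one]; rfl)
  set z : E := z'⁻¹ * a z' with hz
  have hzZ : (z : Ω) ∈ Q ⊓ Subgroup.centralizer (Q : Set Ω) := haC.2 z'
  have haz' : a z' = z' * z := (mul_inv_cancel_left _ _).symm
  have haz : a z = z := hZfix z hzZ
  have hz1 : (z : Ω) ≠ 1 := fun h1 => hz'C ((hfix z').1 (by
    rw [haz', show z = 1 from Subtype.ext h1, mul_one]))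
  set w₀ : E := α⁻¹ z with hw₀
  have hw₀Z : (w₀ : Ω) ∉ Q ⊓ Subgroup.centralizer (Q : Set Ω) := by
    intro hmem
    obtain ⟨k, hk⟩ := exists_zpow_eq hZc hmem (fun h1 => hz1 (by
      have h2 : α w₀ = z := α.apply_symm_apply z
      rw [← h2, show w₀ = 1 from Subtype.ext h1, map_one]; rfl)) hz₀
    refine hmove ?_
    rw [hz', show z₀ = w₀ ^ k from Subtype.ext (by simpa using hk.symm), map_zpow,
      show α w₀ = z from α.apply_symm_apply z, Subgroup.coe_zpow]
    exact zpow_mem hzZ k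
  have hw₀C : a w₀ ≠ w₀ := fun h1 => hout α⁻¹ (inv_mem hα) z hzZ hw₀Z ((hfix w₀).1 h1)
  obtain ⟨n, hn'⟩ := exists_pow_eq hZc (haC.2 w₀)
    (fun h1 => hw₀C (Subtype.ext (inv_mul_eq_one.1 h1).symm)) hz₀
  have hpn : ¬ p ∣ n := fun ⟨m, hm⟩ => hz₀1 (by
    rw [← hn', hm, pow_mul, pow_eq_one hZc (haC.2 w₀), one_pow])
  set b : MulAut E := α * a ^ n * α⁻¹ with hb
  have hbG : b ∈ F.autGroup E := mul_mem (mul_mem hα (pow_mem haG n)) (inv_mem hα)
  have hbz' : b z' = z' := by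
    show α ((a ^ n) (α⁻¹ (α z₀))) = α z₀
    rw [MulAut.inv_apply_self, (pow_mem haC n).1 z₀ hz₀]
  have hbz : b z = z * z' := by
    show α ((a ^ n) w₀) = _
    rw [show (a ^ n) w₀ = w₀ * z₀ from Subtype.ext (by
      rw [chainStab_pow a haC w₀ n, Subgroup.coe_mul, hn']), map_mul, hw₀, MulAut.apply_inv_self]
  have hdec : ∀ x : E, ∃ (i j : ℤ) (w : E), a w = w ∧ b w = w ∧ x = z ^ i * z' ^ j * w ∧
      (a x = x → z ^ j = 1) := by
    refine fun x => exists_common_fixed a b haz haz' hbz x ?_ fun y _ => ?_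
    · obtain ⟨j, hj⟩ := exists_zpow_eq hZc hzZ hz1 (haC.2 x)
      exact ⟨j, Subtype.ext (by
        simp only [Subgroup.coe_mul, Subgroup.coe_zpow, hj, mul_inv_cancel_left])⟩
    · obtain ⟨k, hk⟩ := exists_zpow_eq hZc hz₀ hz₀1 ((pow_mem haC n).2 (α⁻¹ y))
      refine ⟨k, ?_⟩
      show α ((a ^ n) (α⁻¹ y)) = _
      rw [show (a ^ n) (α⁻¹ y) = α⁻¹ y * z₀ ^ k from Subtype.ext (by
        simp only [Subgroup.coe_mul, Subgroup.coe_zpow, hk, mul_inv_cancel_left]),
        map_mul, map_zpow, MulAut.apply_inv_self]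
  obtain ⟨hτz, hτz'⟩ := tau_apply a b haz haz' hbz hbz'
  set τ : MulAut E := (a * b⁻¹ * a) ^ 2 with hτ
  have hτfix : ∀ w : E, a w = w → b w = w → τ w = w := fun w h1 h2 => by
    have h3 : a * b⁻¹ * a ∈ MulAction.stabilizer (MulAut E) w :=
      mul_mem (mul_mem h1 (inv_mem (show b ∈ MulAction.stabilizer (MulAut E) w from h2))) h1
    exact pow_mem h3 2
  have hcomm : τ * a = a * τ := MulEquiv.ext fun x => by
    obtain ⟨i, j, w, h1, h2, rfl, -⟩ := hdec x
    simp only [MulAut.mul_apply, map_mul, map_zpow, haz, haz', h1, hτz, hτz', hτfix w h1 h2, map_inv,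
      mul_inv_rev, mul_comm]
  have hτG : τ ∈ F.autGroup E := pow_mem (mul_mem (mul_mem haG (inv_mem hbG)) haG) 2
  obtain ⟨β, hβ, hβτ⟩ := exists_extension s.pgroup hF hE.2.1 hn hτG fun g hg => by
    have hgA : conjAut E g (hn g hg) ∈ autInducedBy S E := mem_autInducedBy.2 ⟨g, hg, fun _ => rfl⟩
    obtain ⟨k, hk⟩ := hgen _ hgA
    rw [← hk] at hgA ⊢
    rwa [(Commute.zpow_right hcomm k).eq, mul_inv_cancel_right]
  have hβx : ∀ (x : E) (hx : (x : Ω) ∈ S) (y : E), τ x = y → β ⟨x, hx⟩ = ⟨y, hE.1.1 y.2⟩ :=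
    fun x hx y e => Subtype.ext ((hβτ x hx).trans (congrArg Subtype.val e))
  refine ⟨β, ⟨hβ, fun u hu => ?_, ?_⟩, fun x hx hxC => ?_⟩
  · have huE : (u : Ω) ∈ E := hZE hu
    obtain ⟨k, hk⟩ := exists_zpow_eq hZc hzZ hz1 hu
    have hu' : (⟨u, huE⟩ : E) = z ^ k := Subtype.ext (by simpa using hk.symm)
    refine (hβx ⟨u, huE⟩ u.2 (z ^ k)⁻¹ ?_).trans (Subtype.ext (by simp [hk]))
    rw [hu', map_zpow, hτz, inv_zpow]
  · obtain ⟨x, hx, hxQ⟩ := s.out
    have hxE := s.centre_le_essential hE hx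
    obtain ⟨i, j, w, h1, h2, hxw, hj⟩ := hdec ⟨x, hxE⟩
    refine ⟨⟨w, hE.1.1 w.2⟩, (hfix w).1 h1, fun hwZ => hxQ ?_, hβx w _ w (hτfix w h1 h2)⟩
    have hj1 : z' ^ j = 1 := by
      have hzj := hj ((hfix ⟨x, hxE⟩).2 hx)
      have hpj : ((orderOf z : ℕ) : ℤ) ∣ j := orderOf_dvd_iff_zpow_eq_one.2 hzj
      refine orderOf_dvd_iff_zpow_eq_one.1 (dvd_trans (Int.natCast_dvd_natCast.2 ?_) hpj)
      rw [orderOf_eq_prime (Subtype.ext (by simpa using pow_eq_one hZc hzZ) : z ^ p = 1)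
        (fun h => hz1 (congrArg Subtype.val h)), hz']
      exact orderOf_dvd_of_pow_eq_one (by
        rw [← map_pow, show z₀ ^ p = 1 from Subtype.ext (by simpa using pow_eq_one hZc hz₀), map_one])
    have h := congrArg Subtype.val hxw
    rw [hj1, mul_one, Subgroup.coe_mul, Subgroup.coe_zpow] at h
    rw [show x = (z : Ω) ^ i * w from h]
    exact Q.mul_mem (Q.zpow_mem hzZ.1 i) hwZ.1
  · obtain ⟨i, j, w, h1, h2, hxw, hj⟩ := hdec x
    constructor
    · intro hfixβ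
      have hτx : τ x = x := Subtype.ext ((hβτ x hx).symm.trans (congrArg Subtype.val hfixβ))
      have hax := (hfix x).2 hxC
      have hzj := hj hax
      have hp2 : ¬ p ∣ 2 := fun hd => by
        have h2 := (Nat.prime_dvd_prime_iff_eq Fact.out Nat.prime_two).1 hd
        exact absurd (h2 ▸ hp) (by decide)
      have hsq : (z ^ i * z' ^ j) ^ 2 = 1 := by
        have h3 := hτx
        rw [hxw, map_mul, map_mul, map_zpow, map_zpow, hτz, hτz', hτfix w h1 h2, inv_zpow, inv_zpow,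
          ← mul_inv, mul_left_inj, inv_eq_iff_mul_eq_one, ← pow_two] at h3
        exact h3
      have hpp : (z ^ i * z' ^ j) ^ p = 1 := by
        have e1 : z ^ p = 1 := Subtype.ext (by simpa using pow_eq_one hZc hzZ)
        have e2 : z' ^ p = 1 := by
          rw [hz', ← map_pow, show z₀ ^ p = 1 from Subtype.ext (by simpa using pow_eq_one hZc hz₀),
            map_one]
        rw [mul_pow, ← zpow_natCast (z ^ i), zpow_comm z i, zpow_natCast, e1, one_zpow,
          ← zpow_natCast (z' ^ j), zpow_comm z' j, zpow_natCast, e2, one_zpow, one_mul]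
      have h4 := pow_gcd_eq_one.2 ⟨hsq, hpp⟩
      rw [Nat.Coprime.gcd_eq_one (Nat.Coprime.symm (((Fact.out : p.Prime).coprime_iff_not_dvd).2 hp2)),
        pow_one] at h4
      have hbx : b x = x := by rw [hxw, h4, one_mul, h2]
      have hafix : (a ^ n) (α⁻¹ x) = α⁻¹ x := α.injective (hbx.trans (α.apply_symm_apply x).symm)
      refine (hfix _).1 (Subtype.ext (inv_mul_eq_one.1 ?_).symm)
      refine eq_one_of_pow hZc (haC.2 _) hpn ?_
      have h5 := chainStab_pow a haC (α⁻¹ x) n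
      rw [hafix] at h5
      exact mul_eq_left.1 h5.symm
    · intro hαx
      have hax := (hfix x).2 hxC
      have hbx : b x = x := by
        show α ((a ^ n) (α⁻¹ x)) = x
        rw [show (a ^ n) (α⁻¹ x) = α⁻¹ x from pow_mem
          (show a ∈ MulAction.stabilizer (MulAut E) (α⁻¹ x) from (hfix _).2 hαx) n,
          MulAut.apply_inv_self]
      exact hβx x hx x (hτfix x hax hbx)

end Setting

end Cfsg.Agent.Lib.Fusion.CentralCommutator
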