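import Cfsg.Agent.Lib.Fusion.SylowCompute

/-!
The kernel certificate for simplicity of a 2-fusion system with a cheaper coset invariant: the sum over
the points of the squared number of elements of the coset fixing the point.
-/

set_option autoImplicit false

namespace Cfsg.Agent.Lib.Fusion.FixInvariant

open Cfsg.Agent.Lib.Compute Cfsg.Agent.Lib.Fusion

/-- The invariant of a coset. -/
noncomputable def fixSigCode (w n : ℕ) (l : List ℕ) : ℕ :=
  ((List.range n).map fun i => l.countP (fun h => Nat.beq (getP w h i) i) ^ 2).sum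

/-- The cosets of the subgroup of squares. -/
noncomputable def fixCosetCheck (w n : ℕ) (f : FusCert) : Bool :=
  Nat.beq f.PhiW.length f.Phi.length &&
  natsEq (f.PhiW.map fun ab => mulP w n (mulP w n ab.1.1 ab.1.1) (mulP w n ab.2.1 ab.2.1)) f.Phi &&
  f.PhiW.all (fun ab => pairCheck w n f.LP ab.1 && pairCheck w n f.LP ab.2) &&
  increasing f.Phi &&
  memCode (permOps w n).one f.Phi &&
  f.Phi.all (fun a => f.Phi.all fun b => forceNat (mulP w n a b) fun c => memCode c f.Phi) &&
  (elems (permOps w n) f.LP).all (fun c => forceNat c fun c => forceNat (mulP w n c c) fun d => memCode d f.Phi) &&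
  f.reps.all (fun r => pairCheck w n f.LP r) &&
  Nat.beq f.cosets.length f.reps.length &&
  (f.reps.zip f.cosets).all (fun rc => natsEq (f.Phi.map fun c => mulP w n rc.1.1 c) rc.2) &&
  f.reps.any (fun r => memCode r.1 f.Phi) &&
  f.PS.all (fun s => f.reps.all fun r => forceNat (mulP w n s.1 r.1) fun c => f.cosets.any fun l => memCode c l) &&
  natsEq (f.cosets.map fun l => fixSigCode w n l) f.sigs &&
  f.sigs.all (fun s => Nat.ble (f.sigs.countP fun t => Nat.beq s t) 2)

/-- The whole check. -/
noncomputable def fixFusCheck (w n : ℕ) (L : List Lvl) (f : FusCert) : Bool :=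
  sylowCheck w n L f && fusionCheck w n L f && fixCosetCheck w n f

variable {α : Type*} [Fintype α] [DecidableEq α] {n w : ℕ}

/-- The invariant of a list of permutations. -/
def fixSigPerm (l : List (Equiv.Perm α)) : ℕ :=
  ∑ i, l.countP (fun h => decide (h i = i)) ^ 2

theorem fixSigPerm_perm {l l' : List (Equiv.Perm α)} (hl : l.Perm l') :
    fixSigPerm l = fixSigPerm l' :=
  Finset.sum_congr rfl fun _ _ => congrArg (· ^ 2) (hl.countP_eq _)

theorem fixSigPerm_conj (g : Equiv.Perm α) (l : List (Equiv.Perm α)) :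
    fixSigPerm (l.map fun h => g * h * g⁻¹) = fixSigPerm l := by
  refine (Fintype.sum_equiv g _ _ fun i => ?_).symm
  rw [List.countP_map]
  refine congrArg (· ^ 2) (List.countP_congr fun h _ => ?_)
  simp

theorem fixSigCode_eq (hw : n ≤ 2 ^ w) (e : α ≃ Fin n) (l : List (Equiv.Perm α)) :
    fixSigCode w n (l.map (encP w e)) = fixSigPerm l := by
  unfold fixSigCode fixSigPerm
  rw [sum_map_range e]
  refine Finset.sum_congr rfl fun a _ => ?_
  rw [List.countP_map]
  refine congrArg (· ^ 2) (List.countP_congr fun h _ => ?_)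
  rw [Function.comp_apply, decide_eq_true_iff]
  exact getP_enc_eq_iff hw e h a a

/-- The certificate proves simplicity of the 2-fusion system. -/
theorem isSimple_of_fixFusCheck (e : α ≃ Fin n) (hw : n ≤ 2 ^ w) {GS : List (ℕ × ℕ)} {L : List Lvl}
    {f : FusCert} (hGS : GensOK (permCoding w e hw) GS)
    (hL : chainCheck (permOps w n) GS L = true) (hf : fixFusCheck w n L f = true)
    (H : Subgroup (Equiv.Perm α)) (hH : H = genGroup (permCoding w e hw) GS) (S : Sylow 2 H) :
    (Cfsg.groupFusionSystem (S : Subgroup H)).IsSimple 2 := by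
  haveI : Fact (Nat.Prime 2) := ⟨Nat.prime_two⟩
  set C := permCoding w e hw
  simp only [fixFusCheck, sylowCheck, fusionCheck, fixCosetCheck, Bool.and_eq_true] at hf
  obtain ⟨⟨⟨⟨⟨⟨⟨⟨⟨⟨hPS, hLP⟩, hsz⟩, ha⟩, hmod⟩, hodd⟩, hzP⟩, hzpc⟩, hcen⟩,
    ⟨⟨⟨hst, hTP⟩, hLT⟩, hszT⟩⟩,
    ⟨⟨⟨⟨⟨⟨⟨⟨⟨⟨⟨⟨⟨hlenW, hW⟩, hWP⟩, hinc⟩, hone⟩, hclosed⟩, hsq⟩, hreps⟩, hlenC⟩, hcos⟩, hrep1⟩, hgen⟩,
      hsig⟩, hclass⟩⟩ := hf
  obtain ⟨hPSok, hPH'⟩ := gensOK_of_pairCheck e hw hGS hL hPS
  set P := genGroup C f.PS
  have hPH : P ≤ H := hH ▸ hPH'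
  have hcardP : Nat.card P = 2 ^ f.a := by
    rw [card_genGroup C hPSok hLP, Nat.eq_of_beq_eq_true hsz]
  have hcardH : Nat.card H = chainSize L := by rw [hH, card_genGroup C hGS hL]
  have hPmem : ∀ c, sift (permOps w n) f.LP c = true → ∀ g, C.enc g = c → g ∈ P :=
    fun c hc g hg => good_of_sift C hPSok hLP (hg.symm ▸ hc)
  -- the Sylow subgroup
  have hcardS : Nat.card (P.subgroupOf H) = 2 ^ (Nat.card H).factorization 2 := by
    rw [Nat.card_congr (Subgroup.subgroupOfEquivOfLe hPH).toEquiv, hcardP, hcardH]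
    have h1 := Nat.div_add_mod (chainSize L) (2 ^ f.a)
    rw [Nat.eq_of_beq_eq_true hmod, add_zero] at h1
    have hm : (chainSize L / 2 ^ f.a) % 2 = 1 := Nat.eq_of_beq_eq_true hodd
    rw [← h1, Nat.factorization_mul (pow_ne_zero _ two_ne_zero) (by omega),
      Nat.Prime.factorization_pow Nat.prime_two]
    simp [Nat.factorization_eq_zero_of_not_dvd (show ¬ 2 ∣ chainSize L / 2 ^ f.a by omega)]
  let S₀ : Sylow 2 H := Sylow.ofCard (P.subgroupOf H) hcardS
  have hS₀ : ∀ x : H, x ∈ (S₀ : Subgroup H) ↔ (x : Equiv.Perm α) ∈ P := fun x => Iff.rfl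
  refine isSimple_groupFusion_of_sylow S S₀ ?_ ?_ ?_
  · intro h
    have : Nat.card (S₀ : Subgroup H) = 1 := by rw [h]; exact Subgroup.card_bot
    rw [show Nat.card (S₀ : Subgroup H) = 2 ^ f.a from
      (Nat.card_congr (Subgroup.subgroupOfEquivOfLe hPH).toEquiv).trans hcardP] at this
    have hpos : 0 < f.a := by simpa [Nat.blt_eq] using ha
    exact absurd this (Nat.one_lt_two_pow hpos.ne').ne'
  · -- fusion of the central involution
    intro z hz hzo hzc T hzT hTS hTconj
    have hz' : C.enc (z : Equiv.Perm α) = f.z.1 := by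
      have hzm := List.all_eq_true.1 hcen _ (enc_mem_elems C hPSok hLP ((hS₀ z).1 hz))
      rw [forceNat_eq] at hzm
      simp only [Bool.or_eq_true, Bool.not_eq_true'] at hzm
      rcases hzm with ((h | h) | h) | h
      · exact Nat.eq_of_beq_eq_true h
      · exfalso
        have : (z : Equiv.Perm α) = 1 := C.inj ((Nat.eq_of_beq_eq_true h).trans C.one_enc.symm)
        rw [show z = 1 from Subtype.ext this, orderOf_one] at hzo
        exact absurd hzo (by norm_num)
      · exfalso
        have h2 : (z : Equiv.Perm α) * z = 1 := by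
          rw [← Subgroup.coe_mul, ← sq, ← hzo, pow_orderOf_eq_one]; rfl
        have := C.mul_enc (z : Equiv.Perm α) z
        rw [h2, C.one_enc] at this
        change Nat.beq (mulP w n _ _) _ = false at h
        rw [show mulP w n (C.enc ↑z) (C.enc ↑z) = (permOps w n).one from this] at h
        simp at h
      · exfalso
        rw [List.all_eq_false] at h
        obtain ⟨s, hs, hs'⟩ := h
        obtain ⟨g, -, hg, -⟩ := hPSok s hs
        have hgP : g ∈ P := mem_genGroup_of_enc C hs hg
        have := congrArg Subtype.val (hzc ⟨g, hPH hgP⟩ hgP)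
        apply hs'
        rw [← hg, Nat.beq_eq]
        show (permOps w n).mul _ _ = (permOps w n).mul _ _
        rw [C.mul_enc, C.mul_enc]
        exact congrArg C.enc this.symm
    set T' := T.map H.subtype
    have hT := pairsEq_eq hst
    have hz2 : (z : Equiv.Perm α)⁻¹ = z := by
      apply inv_eq_of_mul_eq_one_right
      rw [← Subgroup.coe_mul, ← sq, ← hzo, pow_orderOf_eq_one]; rfl
    have hzpair : PairOK C T' f.z := by
      obtain ⟨g, -, g1, g2⟩ : PairOK C ⊤ f.z := by
        have h' : [f.z].all (pairCheck w n L) = true := by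
          simp only [List.all_cons, List.all_nil, Bool.and_true]
          exact hzpc
        exact (gensOK_of_pairCheck e hw hGS hL h').1 f.z (List.mem_singleton_self _)
      have hgz : g = z := C.inj (g1.trans hz'.symm)
      exact ⟨z, ⟨z, hzT, rfl⟩, hgz ▸ g1, hgz ▸ g2⟩
    have hall := stepList_ok e hw hGS hL hH P T' (fun g hg t ht htA => by
        obtain ⟨t₀, ht₀, rfl⟩ := ht
        exact ⟨⟨g, hg⟩ * t₀ * ⟨g, hg⟩⁻¹, hTconj _ _ ht₀ htA, rfl⟩) f.steps [f.z]
      (by
        rw [hT]
        intro p hp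
        obtain ⟨g, -, g1, -⟩ : PairOK C ⊤ p := by
          have hmem : p ∈ stepList (permOps w n) L f.steps [f.z] := hT.symm ▸ hp
          exact stepList_good e hw hGS hL f.steps [f.z]
            (fun q hq => by rw [List.mem_singleton.1 hq]; exact PairOK.mono C le_top hzpair) p hmem
        exact ⟨g, hPmem _ (List.all_eq_true.1 hTP p hp) g g1, g1⟩)
      (fun q hq => (List.mem_singleton.1 hq) ▸ hzpair)
    rw [hT] at hall
    obtain ⟨hTok, hTle⟩ := gensOK_of_pairs C hall
    have hTP' : genGroup C f.T ≤ P := by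
      refine (Subgroup.closure_le _).2 ?_
      rintro g ⟨p, hp, hg⟩
      exact hPmem _ (List.all_eq_true.1 hTP p hp) g hg
    have heq : genGroup C f.T = P := by
      refine Subgroup.eq_of_le_of_card_ge hTP' ?_
      rw [hcardP, card_genGroup C hTok hLT, Nat.eq_of_beq_eq_true hszT]
    intro x hx
    obtain ⟨y, hy, hyx⟩ := hTle (heq.ge ((hS₀ x).1 hx))
    rwa [← Subtype.ext hyx]
  · -- elements of odd order in the normalizer
    intro g hg hgo
    set σ : Equiv.Perm α → Equiv.Perm α := fun x => (g : Equiv.Perm α) * x * (g : Equiv.Perm α)⁻¹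
    have hσP : ∀ {x}, x ∈ P ↔ σ x ∈ P := by
      intro x
      constructor
      · intro hx
        exact (hS₀ _).1 ((Subgroup.mem_normalizer_iff.1 hg ⟨x, hPH hx⟩).1 hx)
      · intro hx
        have hxH : x ∈ H := by
          have := mul_mem (mul_mem (inv_mem g.2) (hPH hx)) g.2
          simpa [σ, mul_assoc] using this
        exact (hS₀ ⟨x, hxH⟩).1 ((Subgroup.mem_normalizer_iff.1 hg ⟨x, hxH⟩).2 hx)
    have hW' := natsEq_eq hW
    -- decoding
    let dec : ℕ → Equiv.Perm α := Function.invFun C.enc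
    have hdec : ∀ x, dec (C.enc x) = x := Function.leftInverse_invFun C.inj
    set Φ := Subgroup.closure {y : Equiv.Perm α | ∃ x ∈ P, x * x = y}
    have helem : ∀ c ∈ elems (permOps w n) f.LP, ∃ x ∈ P, C.enc x = c :=
      fun c hc => exists_of_mem_elems C hPSok hLP hc
    have hΦP : Φ ≤ P := (Subgroup.closure_le _).2 (by rintro _ ⟨x, hx, rfl⟩; exact mul_mem hx hx)
    have hphimem : ∀ c ∈ f.Phi, ∃ x ∈ Φ, C.enc x = c := by
      intro c hc
      rw [← hW'] at hc
      obtain ⟨ab, hab, rfl⟩ := List.mem_map.1 hc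
      have h2 := List.all_eq_true.1 hWP ab hab
      simp only [Bool.and_eq_true] at h2
      obtain ⟨a, ha', hae⟩ := exists_of_pairCheck e hw hPSok hLP h2.1
      obtain ⟨b, hb', hbe⟩ := exists_of_pairCheck e hw hPSok hLP h2.2
      refine ⟨a * a * (b * b), mul_mem (Subgroup.subset_closure ⟨a, ha', rfl⟩)
        (Subgroup.subset_closure ⟨b, hb', rfl⟩), ?_⟩
      show C.enc _ = (permOps w n).mul ((permOps w n).mul _ _) ((permOps w n).mul _ _)
      rw [← hae, ← hbe, C.mul_enc, C.mul_enc, C.mul_enc]
    have hΦcode : ∀ x ∈ Φ, C.enc x ∈ f.Phi := by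
      intro x hx
      rw [← Subgroup.mem_toSubmonoid, Subgroup.closure_toSubmonoid_of_finite] at hx
      induction hx using Submonoid.closure_induction with
      | mem y hy =>
        obtain ⟨x, hxP, rfl⟩ := hy
        have h := List.all_eq_true.1 hsq _ (enc_mem_elems C hPSok hLP hxP)
        rw [forceNat_eq, forceNat_eq, memCode_iff] at h
        rw [← C.mul_enc]
        exact h
      | one =>
        rw [C.one_enc]
        exact memCode_iff.1 hone
      | mul x y _ _ hx hy =>
        have h := List.all_eq_true.1 (List.all_eq_true.1 hclosed _ hx) _ hy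
        rw [forceNat_eq, memCode_iff] at h
        rw [← C.mul_enc]
        exact h
    set phis := f.Phi.map dec with hphis
    have hphisenc : phis.map C.enc = f.Phi := by
      rw [hphis, List.map_map]
      conv_rhs => rw [← List.map_id f.Phi]
      refine List.map_congr_left fun c hc => ?_
      obtain ⟨x, -, rfl⟩ := hphimem c hc
      simp [hdec]
    have hphis_mem : ∀ x, x ∈ phis ↔ x ∈ Φ := by
      intro x
      constructor
      · intro hx
        obtain ⟨c, hc, rfl⟩ := List.mem_map.1 hx
        obtain ⟨y, hy, rfl⟩ := hphimem c hc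
        rwa [hdec]
      · intro hx
        exact List.mem_map.2 ⟨_, hΦcode x hx, hdec x⟩
    have hphis_nodup : phis.Nodup := by
      refine List.Nodup.of_map C.enc ?_
      rw [hphisenc]
      exact nodup_of_increasing hinc
    have hσΦ : ∀ {x}, x ∈ Φ ↔ σ x ∈ Φ := by
      intro x
      have key : ∀ k : Equiv.Perm α, (∀ y ∈ P, k * y * k⁻¹ ∈ P) → ∀ y ∈ Φ, k * y * k⁻¹ ∈ Φ := by
        intro k hk y hy
        induction hy using Subgroup.closure_induction with
        | mem y hy =>
          obtain ⟨u, hu, rfl⟩ := hy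
          exact Subgroup.subset_closure ⟨k * u * k⁻¹, hk u hu, by group⟩
        | one => simp
        | mul a b _ _ ha hb => rw [← conj_mul]; exact mul_mem ha hb
        | inv a _ ha => rw [← conj_inv]; exact inv_mem ha
      constructor
      · exact key _ (fun y hy => hσP.1 hy) x
      · intro h
        have := key (g : Equiv.Perm α)⁻¹ (fun y hy => hσP.2 (by simpa [σ, mul_assoc] using hy)) _ h
        simpa [σ, mul_assoc] using this
    -- representatives
    have hrsP : ∀ c ∈ f.reps, C.enc (dec c.1) = c.1 ∧ dec c.1 ∈ P := by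
      intro c hc
      obtain ⟨x, hx, hxe⟩ := exists_of_pairCheck e hw hPSok hLP (List.all_eq_true.1 hreps c hc)
      rw [← hxe, hdec]
      exact ⟨rfl, hx⟩
    let R : Equiv.Perm α → Equiv.Perm α → Prop := fun x y => x⁻¹ * y ∈ Φ
    have Rsymm : ∀ {x y}, R x y → R y x := fun {x y} h => by
      show y⁻¹ * x ∈ Φ
      simpa using inv_mem h
    have Rtrans : ∀ {x y z}, R x y → R y z → R x z := fun {x y z} h h' => by
      show x⁻¹ * z ∈ Φ
      simpa [mul_assoc] using mul_mem h h'
    have Rσ : ∀ {x y}, R x y ↔ R (σ x) (σ y) := fun {x y} => by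
      show x⁻¹ * y ∈ Φ ↔ _
      rw [hσΦ]
      simp [R, σ, mul_assoc]
    have hlenC' := Nat.eq_of_beq_eq_true hlenC
    have hcos' : ∀ i (hi : i < f.reps.length),
        f.cosets[i]'(hlenC'.symm ▸ hi) = (phis.map (dec f.reps[i].1 * ·)).map C.enc := by
      intro i hi
      have hmem : (f.reps[i], f.cosets[i]'(hlenC'.symm ▸ hi)) ∈ f.reps.zip f.cosets := by
        rw [List.mem_iff_getElem]
        exact ⟨i, by simp [hlenC', hi], by simp⟩
      have hcm := natsEq_eq (List.all_eq_true.1 hcos _ hmem)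
      simp only at hcm
      rw [← hcm, hphis, List.map_map, List.map_map]
      refine List.map_congr_left fun c hc => ?_
      obtain ⟨x, -, rfl⟩ := hphimem c hc
      show (permOps w n).mul f.reps[i].1 (C.enc x) = C.enc (dec f.reps[i].1 * dec (C.enc x))
      rw [hdec, ← C.mul_enc, (hrsP _ (List.getElem_mem hi)).1]
    have hcover : ∀ x ∈ P, ∃ c ∈ f.reps, R (dec c.1) x := by
      intro x hx
      change x ∈ Subgroup.closure _ at hx
      rw [← Subgroup.mem_toSubmonoid, Subgroup.closure_toSubmonoid_of_finite] at hx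
      induction hx using Submonoid.closure_induction_left with
      | one =>
        obtain ⟨c, hc, hc'⟩ := List.any_eq_true.1 hrep1
        refine ⟨c, hc, ?_⟩
        show (dec c.1)⁻¹ * 1 ∈ Φ
        obtain ⟨y, hy, hye⟩ := hphimem c.1 (memCode_iff.1 hc')
        rw [← hye, hdec, mul_one]
        exact inv_mem hy
      | mul_left s hs y _ ih =>
        obtain ⟨p, hp, hsp⟩ := hs
        obtain ⟨c, hc, hcy⟩ := ih
        have h := List.all_eq_true.1 (List.all_eq_true.1 hgen p hp) c hc
        rw [forceNat_eq, List.any_eq_true] at h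
        obtain ⟨l, hl, hl'⟩ := h
        obtain ⟨i, hi, rfl⟩ := List.getElem_of_mem hl
        rw [memCode_iff, hcos' i (hlenC' ▸ hi)] at hl'
        simp only [List.map_map, List.mem_map, Function.comp_apply] at hl'
        obtain ⟨u, hu, hu'⟩ := hl'
        have hsc : s * dec c.1 = dec f.reps[i].1 * u := by
          apply C.inj
          rw [hu', ← C.mul_enc, hsp, (hrsP c hc).1]
          rfl
        refine ⟨_, List.getElem_mem (hlenC' ▸ hi), ?_⟩
        show (dec f.reps[i].1)⁻¹ * (s * y) ∈ Φ
        rw [show (dec f.reps[i].1)⁻¹ * (s * y) = (dec f.reps[i].1)⁻¹ * (s * dec c.1) * ((dec c.1)⁻¹ * y) by group,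
          hsc, inv_mul_cancel_left]
        exact mul_mem ((hphis_mem u).1 hu) hcy
    -- the invariant
    let inv' : Equiv.Perm α → ℕ := fun x => fixSigPerm (phis.map (x * ·))
    have hRinv : ∀ {x y}, R x y → inv' x = inv' y := by
      intro x y h
      refine fixSigPerm_perm ?_
      refine (List.perm_ext_iff_of_nodup (hphis_nodup.map (mul_right_injective x))
        (hphis_nodup.map (mul_right_injective y))).2 fun u => ?_
      simp only [List.mem_map, hphis_mem]
      constructor
      · rintro ⟨v, hv, rfl⟩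
        refine ⟨y⁻¹ * (x * v), ?_, mul_inv_cancel_left _ _⟩
        rw [show y⁻¹ * (x * v) = (x⁻¹ * y)⁻¹ * v by group]
        exact mul_mem (inv_mem h) hv
      · rintro ⟨v, hv, rfl⟩
        refine ⟨x⁻¹ * (y * v), ?_, mul_inv_cancel_left _ _⟩
        rw [← mul_assoc]
        exact mul_mem h hv
    have hσinv : ∀ x, inv' (σ x) = inv' x := by
      intro x
      show fixSigPerm _ = fixSigPerm _
      rw [← fixSigPerm_conj (g : Equiv.Perm α) (phis.map (x * ·))]
      have hperm : phis.Perm (phis.map σ) := by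
        refine (List.perm_ext_iff_of_nodup hphis_nodup (hphis_nodup.map ?_)).2 fun u => ?_
        · exact fun a b h => mul_left_cancel (mul_right_cancel h)
        · simp only [List.mem_map, hphis_mem]
          constructor
          · intro hu
            refine ⟨(g : Equiv.Perm α)⁻¹ * u * g, hσΦ.2 ?_, ?_⟩
            · simpa [σ, mul_assoc] using hu
            · simp [σ, mul_assoc]
          · rintro ⟨v, hv, rfl⟩
            exact hσΦ.1 hv
      refine fixSigPerm_perm ?_
      refine (hperm.map (σ x * ·)).trans ?_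
      rw [List.map_map, List.map_map]
      rw [hphis, List.map_map, List.map_map]
      refine List.Perm.of_eq (List.map_congr_left fun u _ => ?_)
      simp [σ, Function.comp, mul_assoc]
    have hsigs : ∀ i (hi : i < f.reps.length), ∃ hi' : i < f.sigs.length,
        f.sigs[i] = inv' (dec f.reps[i].1) := by
      intro i hi
      have hs := natsEq_eq hsig
      have hlen : f.sigs.length = f.reps.length := by rw [← hs, List.length_map, hlenC']
      refine ⟨hlen ▸ hi, ?_⟩
      simp only [← hs, List.getElem_map]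
      rw [hcos' i hi]
      exact fixSigCode_eq hw e _
    have hthree : ∀ x ∈ P, R (σ x) x ∨ R (σ (σ x)) (σ x) ∨ R (σ (σ x)) x := by
      intro x hx
      obtain ⟨c₀, hc₀, r₀⟩ := hcover x hx
      obtain ⟨c₁, hc₁, r₁⟩ := hcover _ (hσP.1 hx)
      obtain ⟨c₂, hc₂, r₂⟩ := hcover _ (hσP.1 (hσP.1 hx))
      obtain ⟨i₀, hi₀, rfl⟩ := List.getElem_of_mem hc₀
      obtain ⟨i₁, hi₁, rfl⟩ := List.getElem_of_mem hc₁
      obtain ⟨i₂, hi₂, rfl⟩ := List.getElem_of_mem hc₂
      obtain ⟨k₀, s₀⟩ := hsigs i₀ hi₀
      obtain ⟨k₁, s₁⟩ := hsigs i₁ hi₁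
      obtain ⟨k₂, s₂⟩ := hsigs i₂ hi₂
      by_cases h01 : i₀ = i₁
      · subst h01
        exact Or.inl (Rtrans (Rsymm r₁) r₀)
      by_cases h12 : i₁ = i₂
      · subst h12
        exact Or.inr (Or.inl (Rtrans (Rsymm r₂) r₁))
      by_cases h02 : i₀ = i₂
      · subst h02
        exact Or.inr (Or.inr (Rtrans (Rsymm r₂) r₀))
      exfalso
      have e0 : f.sigs[i₁] = f.sigs[i₀] := by
        rw [s₀, s₁, hRinv r₀, hRinv r₁, hσinv]
      have e1 : f.sigs[i₂] = f.sigs[i₀] := by
        rw [s₀, s₂, hRinv r₀, hRinv r₂, hσinv, hσinv]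
      have hle : f.sigs.countP (fun t => Nat.beq f.sigs[i₀] t) ≤ 2 := by
        simpa [Nat.ble_eq] using List.all_eq_true.1 hclass _ (List.getElem_mem k₀)
      have h3 : 3 ≤ f.sigs.countP (fun t => Nat.beq f.sigs[i₀] t) :=
        three_le_countP _ _ k₀ k₁ k₂ h01 h12 h02 (by simp) (by simp [e0]) (by simp [e1])
      omega
    obtain ⟨k, hk⟩ : ∃ k, orderOf g = 2 * k + 1 :=
      ⟨orderOf g / 2, by have := Nat.coprime_two_right.1 hgo; rw [Nat.odd_iff] at this; omega⟩
    have hpow : ∀ (m : ℕ) x, σ^[m] x = (g : Equiv.Perm α) ^ m * x * ((g : Equiv.Perm α) ^ m)⁻¹ := by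
      intro m
      induction m with
      | zero => simp
      | succ m ih => intro x; rw [Function.iterate_succ_apply', ih, pow_succ']; simp [σ, mul_assoc]
    have hfix : ∀ x ∈ P, R (σ x) x := by
      intro x hx
      refine rel_of_pairs R Rsymm Rtrans σ (fun {a b} h => Rσ.1 h) (fun {a b} h => Rσ.2 h) (k := k)
        ?_ ?_ (hthree x hx)
      · show x⁻¹ * x ∈ Φ
        simp
      · rw [hpow, ← hk, ← Subgroup.orderOf_coe g, pow_orderOf_eq_one]
        simp
    have hPnorm : ∀ u ∈ P, ∀ y ∈ Φ, u * y * u⁻¹ ∈ Φ := by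
      intro u hu y hy
      induction hy using Subgroup.closure_induction with
      | mem y hy =>
        obtain ⟨v, hv, rfl⟩ := hy
        exact Subgroup.subset_closure ⟨u * v * u⁻¹, mul_mem (mul_mem hu hv) (inv_mem hu), by group⟩
      | one => simp
      | mul a b _ _ ha hb => rw [← conj_mul]; exact mul_mem ha hb
      | inv a _ ha => rw [← conj_inv]; exact inv_mem ha
    have hpowfix : ∀ (m : ℕ), ∀ x ∈ P, R (σ^[m] x) x ∧ σ^[m] x ∈ P := by
      intro m
      induction m with
      | zero =>
        intro x hx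
        exact ⟨show x⁻¹ * x ∈ Φ by simp, hx⟩
      | succ m ih =>
        intro x hx
        obtain ⟨h1, h2⟩ := ih x hx
        rw [Function.iterate_succ_apply']
        exact ⟨Rtrans (hfix _ h2) h1, hσP.1 h2⟩
    -- coprime action
    have hP2 : IsPGroup 2 P := IsPGroup.of_card hcardP
    set A := Subgroup.zpowers (g : Equiv.Perm α)
    have hAcard : Nat.card A = orderOf g := by rw [Nat.card_zpowers, Subgroup.orderOf_coe]
    have hAP : A ≤ Subgroup.normalizer (P : Set (Equiv.Perm α)) :=
      Subgroup.zpowers_le.mpr (Subgroup.mem_normalizer_iff.2 fun x => hσP)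
    have hcen' : A ≤ Subgroup.centralizer (P : Set (Equiv.Perm α)) := by
      refine Coprime.le_centralizer_of_frattini hAP ?_ ?_
      · rw [hAcard]
        obtain ⟨j, hj⟩ := IsPGroup.iff_card.mp (hP2.to_subgroup (frattini P))
        rw [hj]
        exact hgo.pow_right j
      · intro a ha x hx
        obtain ⟨m, rfl⟩ := (mem_powers_iff_mem_zpowers.2 ha)
        show _ ∈ (frattini P).map P.subtype
        have hΦle : Φ ≤ (frattini P).map P.subtype := by
          refine (Subgroup.closure_le _).2 ?_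
          rintro _ ⟨v, hv, rfl⟩
          refine ⟨(⟨v, hv⟩ : P) ^ 2, PFrattini.pow_mem_frattini hP2 _, ?_⟩
          rw [sq]
          rfl
        refine hΦle ?_
        obtain ⟨h1, h2⟩ := hpowfix m x hx
        have h3 := hPnorm _ h2 _ h1
        have h4 := inv_mem h3
        rw [hpow] at h4
        simpa [R, mul_assoc] using h4
    intro y hy
    exact Subtype.ext (hcen' (Subgroup.mem_zpowers _) (y : Equiv.Perm α) ((hS₀ y).1 hy))


end Cfsg.Agent.Lib.Fusion.FixInvariant
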