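import Cfsg.Agent.Lib.Fusion.Realized
import Cfsg.Agent.Lib.Fusion.Normal

/-!
A normal subgroup of a system lies in the `p`-core of a model.
-/

set_option autoImplicit false
set_option linter.style.haveILetI false

namespace Cfsg.Agent.Lib.Fusion

open Cfsg Cfsg.FusionSystem

variable {Ω : Type*} [Group Ω] {S : Subgroup Ω} {F : FusionSystem S} {p : ℕ}
variable {G : Type*} [Group G] {ι : S →* G}

/-- A normal subgroup of a system lies in the `p`-core of every model. -/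
theorem map_le_pCore_of_isNormal [Finite S] [Fact p.Prime] (hS : IsPGroup p S)
    (hM : F.IsModel p G ι) {Q : Subgroup Ω} (hQ : F.IsNormal Q) :
    (Q.subgroupOf S).map ι ≤ pCore p G := by
  haveI : Finite G := hM.1
  have hr := hM.2.1
  set M := modelCore p ι with hMdef
  have hMS : M ≤ S := Subgroup.map_subtype_le _
  have hR : M ⊔ Q ≤ S := sup_le hMS hQ.1
  haveI : Finite Q := finite_of_le hQ.1
  set U := (Q.subgroupOf S).map ι with hU
  -- conjugation stabilises `U` modulo the centralizer of the core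
  have hstab : ∀ l : G, ∀ u ∈ U, l * u * l⁻¹ ∈ U := by
    intro l
    haveI := pCore_normal (p := p) (G := G)
    have hl : ∀ x : M, l * ι ⟨x, hMS x.2⟩ * l⁻¹ ∈ ι.range := fun x =>
      pCore_le_range hM.2.2.1
        ((inferInstance : (pCore p G).Normal).conj_mem _ ((mem_modelCore (hMS x.2)).1 x.2) l)
    obtain ⟨φ, hφ, hφS, hφe⟩ := exists_hom_of_conj hr hMS hl
    obtain ⟨ψ, hψ, hψe, hψQ⟩ := hQ.2 M φ hφ
    obtain ⟨g, hg⟩ := exists_conj_of_hom hr hψ
    have hz : g⁻¹ * l ∈ pCore p G := by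
      refine hM.2.2.2 (Subgroup.mem_centralizer_iff.mpr fun w hw => ?_)
      obtain ⟨s, hs⟩ := pCore_le_range hM.2.2.1 hw
      have hsM : (s : Ω) ∈ M := (mem_modelCore s.2).2 (hs ▸ hw)
      have h1 := hg (Subgroup.inclusion le_sup_left ⟨(s : Ω), hsM⟩)
      rw [show (⟨ψ (Subgroup.inclusion le_sup_left ⟨(s : Ω), hsM⟩), val_mem hψ _⟩ : S) =
        ⟨φ ⟨s, hsM⟩, hφS _⟩ from Subtype.ext (hψe _)] at h1
      have h2 : g * w * g⁻¹ = l * w * l⁻¹ := by
        rw [← hs]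
        exact h1.symm.trans (hφe ⟨s, hsM⟩)
      calc w * (g⁻¹ * l) = g⁻¹ * (g * w * g⁻¹) * l := by group
        _ = g⁻¹ * (l * w * l⁻¹) * l := by rw [h2]
        _ = g⁻¹ * l * w := by group
    have hzU : ∀ u ∈ U, (g⁻¹ * l) * u * (g⁻¹ * l)⁻¹ ∈ U := by
      rintro _ ⟨q, hq, rfl⟩
      obtain ⟨t, ht⟩ := pCore_le_range hM.2.2.1 hz
      refine ⟨t * q * t⁻¹, ?_, by rw [map_mul, map_mul, map_inv, ht]⟩
      exact (Subgroup.mem_normalizer_iff.mp (le_normalizer_of_isNormal hQ t.2) _).mp hq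
    intro u hu
    obtain ⟨q, hq, hqe⟩ := hzU u hu
    refine ⟨⟨ψ (Subgroup.inclusion le_sup_right ⟨(q : Ω), hq⟩), val_mem hψ _⟩,
      hψQ.le ⟨_, hq, rfl⟩, ?_⟩
    rw [hg (Subgroup.inclusion le_sup_right ⟨(q : Ω), hq⟩),
      show g * ι ⟨_, hR (Subgroup.inclusion le_sup_right (⟨(q : Ω), hq⟩ : Q)).2⟩ * g⁻¹ =
        g * ι q * g⁻¹ from rfl, hqe]
    group
  haveI hUn : U.Normal := ⟨fun u hu l => hstab l u hu⟩
  exact PSolvable.le_pCore ((hS.to_subgroup (Q.subgroupOf S)).map ι)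

end Cfsg.Agent.Lib.Fusion
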