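import Cfsg.Agent.Lib.Fusion.BisetTransfer

/-!
Transfer with a homomorphism that is invariant only on a subgroup `Z`: the transferred map is a
power prime to `p` of the original one on `Z`.
-/

set_option autoImplicit false

namespace Cfsg.Agent.Lib.Fusion

open Cfsg Cfsg.FusionSystem
open Marks

universe u v

variable {Ω : Type u} [Group Ω] {S : Subgroup Ω} {F : FusionSystem S}
variable {X : Type u} [MulAction (↥S × ↥S) X]
variable {A : Type v} [CommGroup A]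

/-- A homomorphism invariant on `Z` has a section equivariant under `Z × S`. -/
theorem exists_partialSection (hX : IsLeftCharBiset F X) (π : ↥S →* A) (Z : Subgroup ↥S)
    (hπ : ∀ (P : Subgroup Ω) (φ : P →* Ω) (hφ : φ ∈ F.Hom P) (u : P),
      (⟨φ u, val_mem hφ u⟩ : ↥S) ∈ Z → π ⟨φ u, val_mem hφ u⟩ = π ⟨u, src_le hφ u.2⟩) :
    ∃ h : X → A, ∀ (a b : ↥S) (x : X), a ∈ Z → h ((a, b) • x) = π a * (π b)⁻¹ * h x := by
  classical
  set H : Subgroup (↥S × ↥S) := Z.prod ⊤ with hH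
  have hq : ∀ x : X, ∃ z : H,
      z • (Quotient.mk'' x : Quotient (MulAction.orbitRel H X)).out = x := by
    intro x
    have h : x ∈ MulAction.orbit H (Quotient.mk'' x : Quotient (MulAction.orbitRel H X)).out := by
      have := Quotient.mk_out (s := MulAction.orbitRel H X) x
      exact MulAction.mem_orbit_symm.mp this
    exact h
  choose σ hσ using hq
  refine ⟨fun x => π (σ x : ↥S × ↥S).1 * (π (σ x : ↥S × ↥S).2)⁻¹, fun a b x ha => ?_⟩
  let z : H := ⟨(a, b), ha, Subgroup.mem_top b⟩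
  have hxy : (Quotient.mk'' ((a, b) • x) : Quotient (MulAction.orbitRel H X)) =
      Quotient.mk'' x := Quotient.sound' ⟨z, rfl⟩
  set r := (Quotient.mk'' x : Quotient (MulAction.orbitRel H X)).out
  have h1 : (σ ((a, b) • x) : ↥S × ↥S) • r = (a, b) • x := by
    have := hσ ((a, b) • x)
    rw [hxy] at this
    exact this
  have h2 : (σ x : ↥S × ↥S) • r = x := hσ x
  have hstab : (σ ((a, b) • x) : ↥S × ↥S)⁻¹ * ((a, b) * (σ x : ↥S × ↥S)) ∈
      MulAction.stabilizer (↥S × ↥S) r := by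
    rw [MulAction.mem_stabilizer_iff, mul_smul, mul_smul, h2, inv_smul_eq_iff, h1]
  obtain ⟨P, φ, hφ, e⟩ := hX.twisted r
  rw [e] at hstab
  obtain ⟨hb, he⟩ := hstab
  have h4 : (⟨φ ⟨_, hb⟩, val_mem hφ _⟩ : ↥S) =
      ((σ ((a, b) • x) : ↥S × ↥S)⁻¹ * ((a, b) * (σ x : ↥S × ↥S))).1 := Subtype.ext he
  have hZ : ((σ ((a, b) • x) : ↥S × ↥S)⁻¹ * ((a, b) * (σ x : ↥S × ↥S))).1 ∈ Z :=
    mul_mem (inv_mem (σ ((a, b) • x)).2.1) (mul_mem ha (σ x).2.1)
  have h3 := hπ P φ hφ ⟨_, hb⟩ (h4 ▸ hZ)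
  rw [h4] at h3
  simp only [Prod.fst_mul, Prod.fst_inv, map_mul, map_inv, Subtype.coe_eta, Prod.snd_mul,
    Prod.snd_inv] at h3
  show π (σ ((a, b) • x) : ↥S × ↥S).1 * (π (σ ((a, b) • x) : ↥S × ↥S).2)⁻¹ =
    π a * (π b)⁻¹ * (π (σ x : ↥S × ↥S).1 * (π (σ x : ↥S × ↥S).2)⁻¹)
  generalize π (σ ((a, b) • x) : ↥S × ↥S).1 = A₁, π (σ ((a, b) • x) : ↥S × ↥S).2 = A₂,
    π (σ x : ↥S × ↥S).1 = B₁, π (σ x : ↥S × ↥S).2 = B₂, π a = a₁, π b = b₁ at h3 ⊢
  have h4 : A₁ = a₁ * B₁ * (A₂⁻¹ * (b₁ * B₂))⁻¹ := by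
    rw [← h3, mul_inv_rev, inv_inv]
    simp [mul_assoc]
  rw [h4, mul_inv_rev A₂⁻¹, inv_inv, mul_assoc (a₁ * B₁), mul_inv_cancel_right, mul_inv_rev,
    mul_comm B₂⁻¹, mul_mul_mul_comm]

/-- Transfer of a homomorphism invariant on `Z`. -/
theorem exists_transfer_on [Finite S] {p : ℕ} [Fact p.Prime] (hS : IsPGroup p S)
    (hF : F.IsSaturated p) (π : ↥S →* A) (Z : Subgroup ↥S)
    (hπ : ∀ (P : Subgroup Ω) (φ : P →* Ω) (hφ : φ ∈ F.Hom P) (u : P),
      (⟨φ u, val_mem hφ u⟩ : ↥S) ∈ Z → π ⟨φ u, val_mem hφ u⟩ = π ⟨u, src_le hφ u.2⟩) :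
    ∃ (n : ℕ) (τ : ↥S →* A), ¬ p ∣ n ∧
      (∀ (P : Subgroup Ω) (φ : P →* Ω) (hφ : φ ∈ F.Hom P) (u : P),
        τ ⟨φ u, val_mem hφ u⟩ = τ ⟨u, src_le hφ u.2⟩) ∧
      ∀ z ∈ Z, τ z = π z ^ n := by
  classical
  obtain ⟨X, _, _, hX⟩ := exists_leftCharBiset hS hF
  obtain ⟨h, hb⟩ := exists_partialSection hX π Z hπ
  have hh : IsRightSection π h := fun b x => by rw [hb 1 b x (one_mem Z), map_one, one_mul]
  refine ⟨Nat.card (Quotient (rightSetoid S X)), (transferAlong hh).comp (bisetEmbed S X),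
    hX.not_dvd_card_quotient hS hF, fun P φ hφ u => hX.apply_map (transferAlong hh) hφ u,
    fun z hz => ?_⟩
  letI := Fintype.ofFinite (Quotient (rightSetoid S X))
  rw [MonoidHom.comp_apply, transferAlong_apply, Nat.card_eq_fintype_card, ← Finset.card_univ]
  refine Finset.prod_eq_pow_card fun q _ => ?_
  induction q using Quotient.inductionOn' with
  | h x =>
    rw [transferTerm_mk, bisetEmbed_apply, hb _ _ _ hz, map_one, inv_one, mul_one,
      mul_div_cancel_right]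

end Cfsg.Agent.Lib.Fusion
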