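import Cfsg.Agent.Lib.Fusion.KTransfer
import Cfsg.Agent.Lib.Fusion.PartialTransfer
import Cfsg.Agent.Lib.Fusion.ModelNormal
import Cfsg.Agent.Lib.Fusion.ControlReduction

/-!
A functor with the local transfer condition controls transfer in saturated fusion systems.
-/

set_option autoImplicit false
set_option linter.style.haveILetI false

namespace Cfsg.Agent.Lib.Fusion

open Cfsg Cfsg.FusionSystem
open scoped commutatorElement

universe u

variable {Ω : Type u} [Group Ω] {S : Subgroup Ω} {F : FusionSystem S} {p : ℕ}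

theorem focalSubgroup_le_self (F : FusionSystem S) : F.focalSubgroup ≤ S :=
  (Subgroup.closure_le _).2 (by
    rintro _ ⟨P, φ, x, hφ, rfl⟩
    exact S.mul_mem (S.inv_mem (src_le hφ x.2)) (val_mem hφ x))

theorem focalSubgroup_le_of_displace {K : Subgroup Ω} {hK : ⁅S, S⁆ ≤ K}
    (h : F ≤ displaceSystem S K hK F) : F.focalSubgroup ≤ K :=
  (Subgroup.closure_le _).2 (by
    rintro _ ⟨P, φ, x, hφ, rfl⟩
    exact (h P hφ).2 x)

/-- Elements of the focal subgroup lying in a normal subgroup on which the system acts through `S`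
lie in `[S, S]`. -/
theorem mem_commutator_of_focal_of_inner [Finite S] [Fact p.Prime] (hS : IsPGroup p S)
    (hF : F.IsSaturated p) {Q : Subgroup Ω} (hQ : F.IsNormal Q)
    (hin : ∀ P, F.Hom P ⊆ extHom F Q S (autInducedBy S Q) P) {q : Ω} (hq : q ∈ Q)
    (hf : q ∈ F.focalSubgroup) : q ∈ ⁅S, S⁆ := by
  set C := ⁅S, S⁆ with hC
  have hconj : ∀ g ∈ S, ∀ x ∈ S, (x : Ω)⁻¹ * (g * x * g⁻¹) ∈ C := fun g hg x hx => by
    have := Subgroup.commutator_mem_commutator (S.inv_mem hx) hg
    simpa [commutatorElement_def, mul_assoc] using this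
  haveI hCn : (C.subgroupOf S).Normal := ⟨fun c hc g => by
    rw [Subgroup.mem_subgroupOf] at hc ⊢
    have h1 := hconj g g.2 c c.2
    have := C.mul_mem hc h1
    rwa [mul_inv_cancel_left] at this⟩
  let Q₀ := ↥S ⧸ C.subgroupOf S
  letI : CommGroup Q₀ := { (inferInstance : Group Q₀) with
    mul_comm := fun a b => by
      obtain ⟨a, rfl⟩ := QuotientGroup.mk_surjective a
      obtain ⟨b, rfl⟩ := QuotientGroup.mk_surjective b
      rw [← QuotientGroup.mk_mul, ← QuotientGroup.mk_mul, QuotientGroup.eq, Subgroup.mem_subgroupOf]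
      have := Subgroup.commutator_mem_commutator (S.inv_mem b.2) (S.inv_mem a.2)
      simpa [commutatorElement_def, mul_assoc] using this }
  let π : ↥S →* Q₀ := QuotientGroup.mk' (C.subgroupOf S)
  have hQsc := stronglyClosed_of_isNormal hQ
  have hπQ : ∀ (P : Subgroup Ω) (φ : P →* Ω) (hφ : φ ∈ F.Hom P) (u : P),
      (⟨φ u, val_mem hφ u⟩ : ↥S) ∈ Q.subgroupOf S →
      π ⟨φ u, val_mem hφ u⟩ = π ⟨u, src_le hφ u.2⟩ := by
    intro P φ hφ u hu
    obtain ⟨χ, hχ, -, hχe, -⟩ := exists_inverse hφ (rfl : φ.range = φ.range)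
    have huQ : (u : Ω) ∈ Q := by
      have h1 := Fusion87.stronglyClosed_apply hQsc hχ ⟨φ u, u, rfl⟩ hu
      have h2 := hχe u ⟨u, rfl⟩
      rwa [h2] at h1
    obtain ⟨-, -, -, ψ, -, hψe, k, hk, hψk⟩ := hin P hφ
    obtain ⟨g, hg, hge⟩ := mem_autInducedBy.1 hk
    have hφu : φ u = g * (u : Ω) * g⁻¹ := by
      rw [← hψe, ← hge ⟨u, huQ⟩, ← hψk]
      rfl
    refine (QuotientGroup.eq.mpr ?_).symm
    rw [Subgroup.mem_subgroupOf]
    show (u : Ω)⁻¹ * φ u ∈ C
    rw [hφu]
    exact hconj g hg u (src_le hφ u.2)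
  obtain ⟨n, τ, hn, hτ, hτZ⟩ := exists_transfer_on hS hF π (Q.subgroupOf S) hπQ
  have hker : F.focalSubgroup ≤ τ.ker.map S.subtype := by
    refine (Subgroup.closure_le _).2 ?_
    rintro _ ⟨P, φ, x, hφ, rfl⟩
    refine ⟨⟨x, src_le hφ x.2⟩⁻¹ * ⟨φ x, val_mem hφ x⟩, ?_, rfl⟩
    show τ _ = 1
    rw [map_mul, map_inv, hτ P φ hφ x, inv_mul_cancel]
  obtain ⟨s, hs, rfl⟩ := hker hf
  have h1 : π s ^ n = 1 := (hτZ s hq).symm.trans hs
  have h2 : π s = 1 := by
    obtain ⟨j, hj⟩ := hS s
    have h3 : π s ^ p ^ j = 1 := by rw [← map_pow, hj, map_one]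
    refine orderOf_eq_one_iff.1 (Nat.eq_one_of_dvd_coprimes ?_
      (orderOf_dvd_of_pow_eq_one h3) (orderOf_dvd_of_pow_eq_one h1))
    exact ((Nat.Prime.coprime_iff_not_dvd Fact.out).2 hn).pow_left j
  exact (QuotientGroup.eq_one_iff s).mp h2

/-- **Control of transfer by a functor.** -/
theorem le_displaceSystem_of_functor [Fact p.Prime] (W : ∀ (Q : Type u) [Group Q], Subgroup Q)
    (hW1 : IsPositive W p) (hW2 : IsFunctorial W p)
    (hT : ∀ (G : Type u) [Group G] [Finite G] (P : Sylow p G),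
      Subgroup.centralizer ((Cfsg.pCore p G : Subgroup G) : Set G) ≤ Cfsg.pCore p G →
      ∀ x ∈ Cfsg.pCore p G, x ∈ commutator G →
        x ∈ ⁅Subgroup.normalizer (wSub W (P : Subgroup G) : Set G),
          Subgroup.normalizer (wSub W (P : Subgroup G) : Set G)⁆)
    {Ω : Type u} [Group Ω] {S : Subgroup Ω} [Finite S] (hS : IsPGroup p S) {F : FusionSystem S}
    (hF : F.IsSaturated p) {K : Subgroup Ω} (hK : ⁅S, S⁆ ≤ K)
    (hN : ∀ (P : Subgroup Ω) (φ : P →* Ω), φ ∈ F.normalizerHom (wSub W S) P →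
      ∀ x : P, (x : Ω)⁻¹ * φ x ∈ K) : F ≤ displaceSystem S K hK F := by
  suffices H : ∀ n : ℕ, ∀ {Ω : Type u} [Group Ω] {S : Subgroup Ω} [Finite S],
      IsPGroup p S → Nat.card S = n → ∀ (F : FusionSystem S), F.IsSaturated p →
      ∀ (K : Subgroup Ω) (hK : ⁅S, S⁆ ≤ K),
      (∀ (P : Subgroup Ω) (φ : P →* Ω), φ ∈ F.normalizerHom (wSub W S) P →
        ∀ x : P, (x : Ω)⁻¹ * φ x ∈ K) → F ≤ displaceSystem S K hK F from
    H _ hS rfl F hF K hK hN
  intro n
  induction n using Nat.strong_induction_on with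
  | _ n ih =>
    intro Ω _ S _ hS hn F hF K hK hN
    subst hn
    -- reduction modulo a normal subgroup
    have key : ∀ E : FusionSystem S, E.IsSaturated p → E.IsSubsystemOf F → ∀ Q : Subgroup Ω,
        E.IsNormal Q → Q ≠ ⊥ → (∀ X, E.IsNormal X → X ≤ Q) →
        (∀ q ∈ Q, q ∈ E.focalSubgroup → q ∈ K) →
        TopControlled E (displaceSystem S K hK F) → E ≤ displaceSystem S K hK F := by
      intro E hE hEF Q hQ hQ1 hmax hQK htop P φ hφ
      have hSQ := le_normalizer_of_isNormal hQ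
      haveI hQnor : (Q.subgroupOf S).Normal := ⟨fun n hn g =>
        ((Subgroup.mem_normalizer_iff.mp (hSQ g.2)) n).mp hn⟩
      let θ : S →* ↥S ⧸ Q.subgroupOf S := QuotientGroup.mk' _
      set U := (⊤ : Subgroup (↥S ⧸ Q.subgroupOf S)) with hUdef
      have hθ : ∀ x : S, θ x = 1 ↔ (x : Ω) ∈ Q := fun x => QuotientGroup.eq_one_iff x
      have hrange : θ.range = ⊤ :=
        MonoidHom.range_eq_top_of_surjective θ (QuotientGroup.mk'_surjective _)
      obtain ⟨E', hE'⟩ := FusionFactor.exists_factorSystem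
        (S' := U) θ E (stronglyClosed_of_isNormal hQ) hθ hrange
      have hm := isSurjectiveMorphism_of_isFactorSystem hS hE (stronglyClosed_of_isNormal hQ) hE'
      have hsat : E'.IsSaturated p := isSaturated_of_surjectiveMorphism hS hE hm
      have hS' : IsPGroup p U := (hS.to_quotient _).to_subgroup ⊤
      have hQ2 : 1 < Nat.card Q := by
        haveI : Finite Q := finite_of_le hQ.1
        haveI : Nontrivial Q := (Subgroup.nontrivial_iff_ne_bot Q).mpr hQ1
        exact Finite.one_lt_card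
      have hidx : (Q.subgroupOf S).index * Nat.card Q = Nat.card S := by
        rw [← Nat.card_congr (Subgroup.subgroupOfEquivOfLe hQ.1).toEquiv, mul_comm]
        exact Subgroup.card_mul_index _
      have hlt : Nat.card U < Nat.card S := by
        rw [Subgroup.card_top, ← Subgroup.index_eq_card, ← hidx]
        exact lt_mul_of_one_lt_right (Nat.pos_of_ne_zero Subgroup.index_ne_zero_of_finite) hQ2
      set K₁ := K ⊓ E.focalSubgroup with hK₁
      set K' := (K₁.subgroupOf S).map θ with hK'def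
      have hK' : ⁅U, U⁆ ≤ K' := by
        rw [Subgroup.commutator_le]
        intro a _ b _
        obtain ⟨a, rfl⟩ := QuotientGroup.mk'_surjective _ a
        obtain ⟨b, rfl⟩ := QuotientGroup.mk'_surjective _ b
        refine ⟨⁅a, b⁆, ?_, map_commutatorElement θ a b⟩
        have h1 : (((⁅a, b⁆ : S)) : Ω) ∈ ⁅S, S⁆ := Subgroup.commutator_mem_commutator a.2 b.2
        exact ⟨hK h1, commutator_le_focalSubgroup E h1⟩
      have hle : E' ≤ displaceSystem U K' hK' E' := by
        refine ih _ hlt hS' rfl E' hsat K' hK' ?_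
        rintro P' φ' ⟨-, -, -, ψ', hψ', hψe, hψY⟩ x'
        set Y := wSub W U with hY
        obtain ⟨hsrc, ψ, hψ, hPs, hψS, hPimg, hind⟩ := (hE'.2.2.2 _ _).mp hψ'
        obtain ⟨s, hsx⟩ := QuotientGroup.mk'_surjective (Q.subgroupOf S) (x' : ↥S ⧸ Q.subgroupOf S)
        have hsP : (s : Ω) ∈ preimageAlong θ (P' ⊔ Y) :=
          ⟨s, show θ s ∈ P' ⊔ Y from hsx.symm ▸ Subgroup.mem_sup_left x'.2, rfl⟩
        have hval : (x' : ↥S ⧸ Q.subgroupOf S)⁻¹ * φ' x' =
            θ (s⁻¹ * ⟨ψ ⟨s, hsP⟩, hψS _⟩) := by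
          rw [map_mul, map_inv, ← hψe, ← hind ⟨s, hsP⟩]
          have e : (⟨θ ⟨(s : Ω), hPs hsP⟩, hPimg ⟨s, hsP⟩⟩ :
              (P' ⊔ Y : Subgroup (↥S ⧸ Q.subgroupOf S))) =
              Subgroup.inclusion le_sup_left x' := Subtype.ext hsx
          rw [e]
          congr 1
          exact congrArg Inv.inv hsx.symm
        rw [hval]
        refine ⟨_, ⟨?_, Subgroup.subset_closure ⟨_, ψ, ⟨s, hsP⟩, hψ, rfl⟩⟩, rfl⟩
        let X := preimageAlong θ Y
        have hXS : X ≤ S := Subgroup.map_subtype_le _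
        have hXU : X ≤ preimageAlong θ (P' ⊔ Y) :=
          Subgroup.map_mono (Subgroup.comap_mono le_sup_right)
        by_cases hU : U = ⊥
        · have h1 : (s : Ω) ∈ Q := (hθ s).mp (Subgroup.mem_bot.mp (hU ▸ Subgroup.mem_top _))
          exact hQK _ (Q.mul_mem (Q.inv_mem h1)
            (Fusion87.stronglyClosed_apply (stronglyClosed_of_isNormal hQ) hψ ⟨s, hsP⟩ h1))
            (Subgroup.subset_closure ⟨_, ψ, ⟨s, hsP⟩, hψ, rfl⟩)
        have hYn : normalizerIn U Y = U :=
          normalizerIn_eq_self_of_characteristic (wSub_le W _) (wSub_characteristic hW2 hS')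
        have hXnor : normalizerIn S X = S := by
          refine le_antisymm inf_le_left (le_inf le_rfl fun g hg => ?_)
          have key : ∀ g ∈ S, ∀ x ∈ X, g * x * g⁻¹ ∈ X := by
            rintro g hgS _ ⟨x, hx, rfl⟩
            refine ⟨⟨g, hgS⟩ * x * ⟨g, hgS⟩⁻¹, ?_, rfl⟩
            show θ _ ∈ Y
            rw [map_mul, map_mul, map_inv]
            exact (Subgroup.mem_normalizer_iff.mp
              (hYn.ge (Subgroup.mem_top (θ ⟨g, hgS⟩))).2 _).mp hx
          rw [Subgroup.mem_normalizer_iff]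
          refine fun x => ⟨key g hg x, fun hx => ?_⟩
          simpa [mul_assoc] using key _ (S.inv_mem hg) _ hx
        have hXn : ¬ E.IsNormal X := by
          intro h
          refine wSub_ne_bot hW1 hS' hU (eq_bot_iff.mpr fun w hw => ?_)
          obtain ⟨x, rfl⟩ := QuotientGroup.mk'_surjective _ w
          exact Subgroup.mem_bot.mpr ((hθ x).mpr (hmax _ h ⟨x, hw, rfl⟩))
        have hψN : ψ ∈ E.normalizerHom X (preimageAlong θ (P' ⊔ Y)) := by
          refine ⟨hψ, by rw [hXnor]; exact hPs, fun x => by rw [hXnor]; exact hψS x,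
            ψ.comp (Subgroup.inclusion (sup_le le_rfl hXU)), restrict_mem hψ _, fun x => rfl, ?_⟩
          haveI : Finite X := finite_of_le hXS
          refine Subgroup.eq_of_le_of_card_ge ?_ (card_imgSub
            (E.injective_of_mem (restrict_mem hψ (sup_le le_rfl hXU))) le_sup_right).ge
          intro w hw
          obtain ⟨v, hv, rfl⟩ := mem_imgSub.1 hw
          obtain ⟨t, ht, htv⟩ := hv
          refine ⟨⟨_, hψS _⟩, ?_, rfl⟩
          show θ _ ∈ Y
          rw [← hind (Subgroup.inclusion (sup_le le_rfl hXU) v)]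
          refine hψY.le ⟨_, ?_, rfl⟩
          show θ _ ∈ Y
          rwa [show (⟨_, hPs (Subgroup.inclusion (sup_le le_rfl hXU) v).2⟩ : S) = t from
            Subtype.ext htv.symm]
        exact (htop X hXS hXnor hXn _ hψN).2 ⟨s, hsP⟩
      refine ⟨hEF _ hφ, fun x => ?_⟩
      obtain ⟨φ', hφ', hP, hφS, hP', he⟩ := hm.1.2 P φ hφ
      have h1 := (hle _ hφ').2 ⟨_, hP' x⟩
      rw [he x] at h1
      obtain ⟨k, hk, hke⟩ := h1
      set w : S := ⟨x, hP x.2⟩⁻¹ * ⟨φ x, hφS x⟩ with hw
      have hwf : (w : Ω) ∈ E.focalSubgroup := Subgroup.subset_closure ⟨P, φ, x, hφ, rfl⟩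
      have hq : (k⁻¹ * w : Ω) ∈ Q := by
        refine (hθ (k⁻¹ * w)).mp ?_
        rw [map_mul, map_inv, hke, hw, map_mul, map_inv, inv_mul_cancel]
      have h2 : (k : Ω) * ((k : Ω)⁻¹ * (w : Ω)) ∈ K := K.mul_mem hk.1 (hQK _ hq
        (E.focalSubgroup.mul_mem (E.focalSubgroup.inv_mem hk.2) hwf))
      rw [mul_inv_cancel_left] at h2
      exact h2
    refine subset_of_reduction hS hF (displaceSystem S K hK F) ?_ ?_ ?_
    · intro T hTS hTne _ N hNs hNF hY P φ hφ
      haveI : Finite T := finite_of_le hTS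
      have hlt : Nat.card T < Nat.card S := lt_of_le_of_ne (Subgroup.card_le_of_le hTS) fun h =>
        hTne (Subgroup.eq_of_le_of_card_ge hTS h.ge)
      have hTp := hS.to_le hTS
      have hKT : ⁅T, T⁆ ≤ K ⊓ T :=
        le_inf ((Subgroup.commutator_mono hTS hTS).trans hK) T.commutator_le_self
      refine ⟨hNF _ hφ, fun x => ((ih _ hlt hTp rfl N hNs (K ⊓ T) hKT ?_ P hφ).2 x).1⟩
      intro P φ hφ x
      refine ⟨?_, T.mul_mem (T.inv_mem (src_le hφ.1 x.2)) (val_mem hφ.1 x)⟩
      rcases eq_or_ne T ⊥ with hT0 | hT0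
      · have hx : x = 1 := Subtype.ext (Subgroup.mem_bot.mp (hT0 ▸ src_le hφ.1 x.2))
        rw [hx, map_one]
        simp
      exact (hY (wSub W T) (wSub_le W T) (wSub_ne_bot hW1 hTp hT0)
        (wSub_characteristic hW2 hTp) P hφ).2 x
    · intro E hE hEF hEc htop
      obtain ⟨L, _, _, ι, hm⟩ := exists_model_of_isConstrained hS hEc
      obtain ⟨T, hTr⟩ := hm.2.2.1
      have hι := hm.2.1
      rcases eq_or_ne E.core ⊥ with hcore | hcore
      · -- then `S` is trivial
        have hM : modelCore p ι ≤ ⊥ :=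
          le_trans (le_sSup (isNormal_modelCore hm) : modelCore p ι ≤ E.core) hcore.le
        have hO : pCore p L = ⊥ := by
          refine eq_bot_iff.mpr fun w hw => ?_
          obtain ⟨s, rfl⟩ := pCore_le_range hm.2.2.1 hw
          have : (s : Ω) = 1 := Subgroup.mem_bot.mp (hM ((mem_modelCore s.2).2 hw))
          rw [show s = 1 from Subtype.ext this, map_one]
          exact one_mem _
        intro P φ hφ
        refine ⟨hEF _ hφ, fun x => ?_⟩
        have h1 : ι ⟨x, src_le hφ x.2⟩ = 1 := by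
          have hc := hm.2.2.2 (x := ι ⟨x, src_le hφ x.2⟩) (by
            rw [hO]
            exact Subgroup.mem_centralizer_iff.mpr fun w hw => by
              rw [Subgroup.mem_bot.mp hw, one_mul, mul_one])
          rwa [hO, Subgroup.mem_bot] at hc
        have h2 : (⟨x, src_le hφ x.2⟩ : S) = 1 := hι.1 (h1.trans (map_one ι).symm)
        have hx : x = 1 := Subtype.ext (congrArg Subtype.val h2 :)
        rw [hx, map_one]
        simp
      refine key E hE hEF E.core (FusionFactor.isNormal_core E) hcore (fun X hX => le_sSup hX)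
        (fun q hq hqf => ?_) htop
      have hqS : q ∈ S := (FusionFactor.isNormal_core E).1 hq
      have hqO : ι ⟨q, hqS⟩ ∈ pCore p L :=
        map_le_pCore_of_isNormal hS hm (FusionFactor.isNormal_core E) ⟨_, hq, rfl⟩
      have hqL : ι ⟨q, hqS⟩ ∈ commutator L := by
        have hle : E.focalSubgroup ≤ ((commutator L).comap ι).map S.subtype := by
          refine (Subgroup.closure_le _).2 ?_
          rintro _ ⟨P, φ, x, hφ, rfl⟩
          refine ⟨⟨x, src_le hφ x.2⟩⁻¹ * ⟨φ x, val_mem hφ x⟩, ?_, rfl⟩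
          obtain ⟨g, hg⟩ := exists_conj_of_hom hι hφ
          show ι _ ∈ commutator L
          rw [map_mul, map_inv, hg x, commutator_def]
          have := Subgroup.commutator_mem_commutator (Subgroup.mem_top (ι ⟨x, src_le hφ x.2⟩)⁻¹)
            (Subgroup.mem_top g)
          simpa [commutatorElement_def, mul_assoc] using this
        obtain ⟨s, hs, hse⟩ := hle hqf
        rwa [show (⟨q, hqS⟩ : S) = s from Subtype.ext hse.symm]
      have hqN := hT L T hm.2.2.2 _ hqO hqL
      set w := wSub W S with hw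
      have hwι : (W ↥S).map ι = wSub W (T : Subgroup L) := map_wSub hW2 hS ι hι.1 hTr.symm
      have hPN : (T : Subgroup L) ≤ Subgroup.normalizer (wSub W (T : Subgroup L) : Set L) :=
        Subgroup.le_normalizer.trans (normalizer_le_normalizer_wSub hW2 T.2)
      have hwn : normalizerIn S w = S := le_antisymm inf_le_left
        (le_inf le_rfl (Subgroup.le_normalizer.trans (normalizer_le_normalizer_wSub hW2 hS)))
      have hfoc : (T : Subgroup L) ⊓ ⁅Subgroup.normalizer (wSub W (T : Subgroup L) : Set L),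
          Subgroup.normalizer (wSub W (T : Subgroup L) : Set L)⁆ ≤ (K.subgroupOf S).map ι := by
        refine Functor.inf_commutator_le_of_focal (p := p)
          ⟨hPN, T.2, fun h => T.not_dvd_index
            (h.trans (Subgroup.relIndex_dvd_index_of_le hPN))⟩ ?_
        intro y hy n hn hny
        obtain ⟨s, rfl⟩ := hTr.le hy
        obtain ⟨t, ht⟩ := hTr.le hny
        have hU : Subgroup.zpowers (s : Ω) ⊔ w ≤ S :=
          sup_le (Subgroup.zpowers_le.mpr s.2) (wSub_le _ _)
        have hval : ∀ u : ↥(Subgroup.zpowers (s : Ω) ⊔ w), n * ι ⟨u, hU u.2⟩ * n⁻¹ ∈ ι.range := by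
          intro u
          have hle : Subgroup.zpowers (s : Ω) ⊔ w ≤
              ((ι.range.comap ((MulAut.conj n).toMonoidHom.comp ι)).map S.subtype) := by
            refine sup_le (Subgroup.zpowers_le.mpr ⟨s, ⟨t, ht⟩, rfl⟩) ?_
            rintro _ ⟨a, ha, rfl⟩
            refine ⟨a, ?_, rfl⟩
            obtain ⟨b, -, hb⟩ := hwι.ge ((Subgroup.mem_normalizer_iff.mp hn _).mp
              (hwι.le ⟨a, ha, rfl⟩))
            exact ⟨b, hb⟩
          obtain ⟨u', hu', hu''⟩ := hle u.2
          rw [show (⟨(u : Ω), hU u.2⟩ : S) = u' from Subtype.ext hu''.symm]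
          exact hu'
        obtain ⟨ψ, hψ, hψS, hψe⟩ := exists_hom_of_conj hι hU (g := n) hval
        have hψw : imgSub ψ w = w := by
          haveI : Finite (w : Subgroup Ω) := finite_of_le (wSub_le _ S)
          refine Subgroup.eq_of_le_of_card_ge ?_
            (card_imgSub (E.injective_of_mem hψ) le_sup_right).ge
          intro z hz
          obtain ⟨u, hu, rfl⟩ := mem_imgSub.1 hz
          obtain ⟨a, ha, hau⟩ := hu
          obtain ⟨b, hb, hb'⟩ := hwι.ge ((Subgroup.mem_normalizer_iff.mp hn _).mp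
            (hwι.le ⟨a, ha, rfl⟩))
          refine ⟨b, hb, ?_⟩
          have := hψe u
          rw [show (⟨(u : Ω), hU u.2⟩ : S) = a from Subtype.ext hau.symm, ← hb'] at this
          exact (congrArg Subtype.val (hι.1 this)).symm
        have hs := hN _ ψ ⟨hEF _ hψ, hwn.symm ▸ hU, fun u => hwn.symm ▸ hψS u,
          ψ.comp (Subgroup.inclusion (sup_le le_rfl le_sup_right)),
          hEF _ (restrict_mem hψ _), fun u => rfl,
          (imgSub_comp_inclusion ψ _ le_sup_right).trans hψw⟩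
          ⟨s, Subgroup.mem_sup_left (Subgroup.mem_zpowers _)⟩
        refine ⟨s⁻¹ * ⟨_, hψS ⟨s, Subgroup.mem_sup_left (Subgroup.mem_zpowers _)⟩⟩, hs, ?_⟩
        rw [map_mul, map_inv, hψe]
      obtain ⟨z, hz, hze⟩ := hfoc ⟨hTr.ge ⟨_, rfl⟩, hqN⟩
      have e := congrArg Subtype.val (hι.1 hze)
      exact Eq.subst (motive := fun v => v ∈ K) (e : (z : Ω) = q) hz
    · intro E hE hEF Q hQ hQ1 _ hmax hin htop
      exact key E hE hEF Q hQ hQ1 hmax
        (fun q hq hf => hK (mem_commutator_of_focal_of_inner hS hE hQ hin hq hf)) htop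

end Cfsg.Agent.Lib.Fusion
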