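import Cfsg.Agent.Lib.Fusion.ThompsonF
import Cfsg.Agent.Lib.Fusion.CentralFunctor
import Cfsg.Agent.Lib.CentralElement.Weak

/-!
Glauberman's theorem on the centre of the normalizer of `J(S)`, in constrained groups.
-/

set_option autoImplicit false
set_option linter.style.haveILetI false

namespace Cfsg.Agent.Lib.Fusion

open Cfsg Subgroup

universe u

variable {p : ℕ}

theorem isFunctorial_thompsonA (p : ℕ) :
    IsFunctorial (fun Q [Group Q] => thompsonSubgroupA Q) p := by
  intro Q R _ _ _ _ φ
  exact map_thompsonSubgroupA φ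

theorem isPositive_thompsonA (p : ℕ) [Fact p.Prime] :
    IsPositive (fun Q [Group Q] => thompsonSubgroupA Q) p := by
  intro Q _ _ hQ hne h
  exact isPositive_zjA p Q hQ hne (le_bot_iff.mp (inf_le_left.trans h.le))

/-- In a constrained group an element centralised by `N(J(P))` is central, if `p` is odd, or it is a
`p`-th power in `Z(P)`, or `S₄` is not involved. -/
theorem central_of_thompsonA [Fact p.Prime] {L : Type u} [Group L] [Finite L] (P : Sylow p L)
    (hc : centralizer (pCore p L : Set L) ≤ pCore p L) {x y : L}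
    (hy : y ∈ (P : Subgroup L) ⊓ centralizer ((P : Subgroup L) : Set L)) (hxy : x ∈ zpowers y)
    (h : p ≠ 2 ∨ y ^ p = x ∨ ¬ Involves (Equiv.Perm (Fin 4)) L)
    (hN : ∀ g ∈ normalizer (thompsonSubgroupAOf (P : Subgroup L) : Set L), g * x = x * g) (g : L) :
    g * x = x * g := by
  suffices H : ∀ (n : ℕ) (K : Subgroup L), Nat.card K = n → (P : Subgroup L) ≤ K →
      K ≤ centralizer ({x} : Set L) from
    mem_centralizer_singleton_iff.mp (H _ ⊤ rfl le_top (mem_top g))
  intro n
  induction n using Nat.strong_induction_on with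
  | _ n ih =>
    intro K hn hPK
    by_cases hJ : K ≤ normalizer (thompsonSubgroupAOf (P : Subgroup L) : Set L)
    · exact fun k hk => mem_centralizer_singleton_iff.mpr (hN k (hJ hk))
    have hQP : pCore p L ≤ (P : Subgroup L) := PSolvable.pCore_le_sylow P
    haveI : (pCore p L).Characteristic := PSolvable.pCore_characteristic
    haveI : (pCore p L).Normal := Subgroup.normal_of_characteristic _
    have hQK : pCore p L ≤ pCoreOf p K := CharP.le_pCoreOf (hQP.trans hPK)
      PSolvable.pCore_isPGroup (by rw [normalizer_eq_top]; exact le_top)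
    have hT : Functor.IsSylowIn p K (P : Subgroup L) :=
      ⟨hPK, P.2, fun hd => P.not_dvd_index (hd.trans (relIndex_dvd_index_of_le hPK))⟩
    refine CentralElement.le_centralizer_local h hxy hT ?_ ?_ hJ fun M hM hPM => ?_
    · exact le_centralizer_iff.mp (zpowers_le.mpr hy.2)
    · exact zpowers_le.mpr (hQK (hc (centralizer_le (SetLike.coe_subset_coe.mpr hQP) hy.2)))
    · exact ih _ (hn ▸ lt_of_le_of_ne (card_le_of_le hM.le)
        fun e => hM.ne (eq_of_le_of_card_ge hM.le e.ge)) M rfl hPM

end Cfsg.Agent.Lib.Fusion
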