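import Cfsg.Agent.Lib.Fusion.Iso

/-!
Transport of the simplicity of the fusion system on a Sylow subgroup along a group isomorphism.
-/

set_option autoImplicit false

namespace Cfsg.Agent.Lib.Fusion.GroupTransport

open Cfsg Cfsg.FusionSystem

variable {H G : Type*} [Group H] [Group G]

/-- A group isomorphism carries the fusion system on `S` to the one on the image of `S`. -/
theorem isFactorSystem_map (e : H ≃* G) (S : Subgroup H) :
    (groupFusionSystem S).IsFactorSystem ⊥ (e.toMonoidHom.comp S.subtype)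
      (groupFusionSystem (S.map e.toMonoidHom)) := by
  refine ⟨bot_le, fun s => ?_, ?_, fun P' φ' => ?_⟩
  · simp [Subgroup.mem_bot]
  · rw [MonoidHom.range_comp, Subgroup.range_subtype]
  constructor
  · rintro ⟨hP', hφS, g, hg⟩
    have hP : preimageAlong (e.toMonoidHom.comp S.subtype) P' ≤ S :=
      Lib.FusionFactor.preimageAlong_le _ _
    have hm : ∀ x : preimageAlong (e.toMonoidHom.comp S.subtype) P', e (x : H) ∈ P' := fun x => by
      obtain ⟨_, h⟩ := (Lib.FusionFactor.mem_preimageAlong _).1 x.2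
      exact h
    have hval : ∀ x : preimageAlong (e.toMonoidHom.comp S.subtype) P',
        e.symm g * (x : H) * (e.symm g)⁻¹ ∈ S := fun x => by
      obtain ⟨y, hy, hye⟩ := Subgroup.mem_map.1 (hφS ⟨e x, hm x⟩)
      rw [hg] at hye
      have : e.symm g * (x : H) * (e.symm g)⁻¹ = y := by
        apply e.injective
        simp only [MulEquiv.coe_toMonoidHom] at hye
        simp [hye]
      rw [this]
      exact hy
    refine ⟨hP', conjHom _ (e.symm g), ⟨hP, hval, e.symm g, fun _ => rfl⟩, hP, hval, hm, fun x => ?_⟩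
    show φ' ⟨e x, hm x⟩ = e (e.symm g * (x : H) * (e.symm g)⁻¹)
    rw [hg]
    simp
  · rintro ⟨hP', φ, ⟨-, -, g, hg⟩, hP, hφS, hm, hind⟩
    have key : ∀ y : P', ∃ x : preimageAlong (e.toMonoidHom.comp S.subtype) P',
        e (x : H) = y := fun y => by
      obtain ⟨s, hs, hse⟩ := Subgroup.mem_map.1 (hP' y.2)
      refine ⟨⟨s, (Lib.FusionFactor.mem_preimageAlong _).2 ⟨hs, ?_⟩⟩, hse⟩
      show e s ∈ P'
      exact (show e s = y from hse) ▸ y.2
    have hval : ∀ y : P', φ' y = e g * (y : G) * (e g)⁻¹ := fun y => by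
      obtain ⟨x, hx⟩ := key y
      obtain rfl : y = ⟨_, hm x⟩ := Subtype.ext hx.symm
      refine (hind x).trans ?_
      show e (φ x) = e g * e x * (e g)⁻¹
      rw [hg]
      simp
    refine ⟨hP', fun y => ?_, e g, hval⟩
    obtain ⟨x, hx⟩ := key y
    rw [hval, ← hx]
    refine Subgroup.mem_map.2 ⟨φ x, hφS x, ?_⟩
    show e (φ x) = _
    rw [hg]
    simp

/-- Simplicity of the fusion system on every Sylow subgroup passes to isomorphic groups. -/
theorem isSimple_of_mulEquiv [Finite G] {p : ℕ} [Fact p.Prime] (e : H ≃* G)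
    (h : ∀ S : Sylow p H, (groupFusionSystem (S : Subgroup H)).IsSimple p) (S : Sylow p G) :
    (groupFusionSystem (S : Subgroup G)).IsSimple p := by
  haveI : Finite H := Finite.of_equiv G e.toEquiv.symm
  let S₀ : Sylow p H := S.comapOfInjective e.toMonoidHom e.injective (by
    intro x _
    exact ⟨e.symm x, e.apply_symm_apply x⟩)
  have hmap : (S₀ : Subgroup H).map e.toMonoidHom = (S : Subgroup G) := by
    rw [show (S₀ : Subgroup H) = (S : Subgroup G).comap e.toMonoidHom from rfl]
    exact Subgroup.map_comap_eq_self_of_surjective e.surjective _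
  have := Iso.isSimple (isFactorSystem_map e (S₀ : Subgroup H)) S₀.2 (h S₀)
  rwa [hmap] at this

end Cfsg.Agent.Lib.Fusion.GroupTransport
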