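import Cfsg.Agent.Lib.Fusion.ControlReduction
import Cfsg.Agent.Lib.Fusion.ModelComplement

/-!
Criteria for inner systems given by the normalizers of characteristic subgroups.
-/

set_option autoImplicit false
set_option linter.style.haveILetI false

namespace Cfsg.Agent.Lib.Fusion

open Cfsg Cfsg.FusionSystem

universe u

variable {Ω : Type u} [Group Ω] {S : Subgroup Ω} {F : FusionSystem S} {p : ℕ}

/-- Normalizers in a factor system of subgroups with controlled preimage are inner. -/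
theorem hasInnerNormalizer_factor [Finite S] {Q : Subgroup Ω} (hmax : ∀ X, F.IsNormal X → X ≤ Q)
    (htop : TopControlled F (innerFusionSystem S)) {Ω' : Type u} [Group Ω'] {S' : Subgroup Ω'}
    {θ : S →* Ω'} {E : FusionSystem S'} (hE : F.IsFactorSystem Q θ E) {Y : Subgroup Ω'}
    (hYS : Y ≤ S') (hY1 : Y ≠ ⊥) (hYn : normalizerIn S' Y = S') : HasInnerNormalizer E Y := by
  obtain ⟨hQS, hθ, hrange, hmem⟩ := hE
  let V := preimageAlong θ Y
  have hVS : V ≤ S := Subgroup.map_subtype_le _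
  have hθS : ∀ s : S, θ s ∈ S' := fun s => hrange ▸ ⟨s, rfl⟩
  have hVnor : normalizerIn S V = S := by
    refine le_antisymm inf_le_left (le_inf le_rfl fun g hg => ?_)
    have key : ∀ g ∈ S, ∀ x ∈ V, g * x * g⁻¹ ∈ V := by
      rintro g hgS _ ⟨x, hx, rfl⟩
      refine ⟨⟨g, hgS⟩ * x * ⟨g, hgS⟩⁻¹, ?_, rfl⟩
      show θ _ ∈ Y
      rw [map_mul, map_mul, map_inv]
      exact (Subgroup.mem_normalizer_iff.mp (hYn.ge (hθS ⟨g, hgS⟩)).2 _).mp hx
    rw [Subgroup.mem_normalizer_iff]
    refine fun x => ⟨key g hg x, fun hx => ?_⟩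
    simpa [mul_assoc] using key _ (S.inv_mem hg) _ hx
  have hVn : ¬ F.IsNormal V := by
    intro h
    refine hY1 (eq_bot_iff.mpr fun y hy => ?_)
    obtain ⟨x, rfl⟩ := hrange.ge (hYS hy)
    exact Subgroup.mem_bot.mpr ((hθ x).mpr (hmax _ h ⟨x, hy, rfl⟩))
  intro M hM
  refine isInnerSystem_of_le fun P' φ' hφ' => ?_
  rw [hM P'] at hφ'
  obtain ⟨-, hP'N, -, ψ', hψ', hψe', hψY⟩ := hφ'
  obtain ⟨hsrc, ψ, hψ, hPs, hψS, hPimg, hind⟩ := (hmem _ _).mp hψ'
  have hVU : V ≤ preimageAlong θ (P' ⊔ Y) :=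
    Subgroup.map_mono (Subgroup.comap_mono le_sup_right)
  have hψV : ∀ v : preimageAlong θ (P' ⊔ Y), (v : Ω) ∈ V → ψ v ∈ V := by
    rintro v ⟨s, hs, hsv⟩
    refine ⟨⟨ψ v, hψS v⟩, ?_, rfl⟩
    show θ _ ∈ Y
    rw [← hind v]
    refine hψY.le ⟨_, ?_, rfl⟩
    show θ _ ∈ Y
    rwa [show (⟨(v : Ω), hPs v.2⟩ : S) = s from Subtype.ext hsv.symm]
  have hψN : ψ ∈ F.normalizerHom V (preimageAlong θ (P' ⊔ Y)) := by
    refine ⟨hψ, by rw [hVnor]; exact hPs, fun x => by rw [hVnor]; exact hψS x,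
      ψ.comp (Subgroup.inclusion (sup_le le_rfl hVU)), restrict_mem hψ _, fun x => rfl, ?_⟩
    haveI : Finite V := finite_of_le hVS
    refine Subgroup.eq_of_le_of_card_ge ?_ (card_imgSub
      (F.injective_of_mem (restrict_mem hψ (sup_le le_rfl hVU))) le_sup_right).ge
    intro y hy
    obtain ⟨z, hz, rfl⟩ := mem_imgSub.1 hy
    exact hψV _ hz
  obtain ⟨-, g, hg, hgψ⟩ := htop V hVS hVnor hVn _ hψN
  refine ⟨hP'N, θ ⟨g, hg⟩, hYn.symm ▸ hθS _, fun x => ?_⟩
  obtain ⟨s, hs⟩ := hrange.ge ((hP'N x.2).1 : (x : Ω') ∈ S')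
  have hsU : (s : Ω) ∈ preimageAlong θ (P' ⊔ Y) :=
    ⟨s, show θ s ∈ P' ⊔ Y from Subgroup.mem_sup_left (by rw [hs]; exact x.2), rfl⟩
  rw [← hψe' x, show Subgroup.inclusion le_sup_left x =
    (⟨θ ⟨(s : Ω), hPs hsU⟩, hPimg ⟨s, hsU⟩⟩ : ↥(P' ⊔ Y)) from Subtype.ext hs.symm,
    hind ⟨s, hsU⟩, ← hs, ← map_inv, ← map_mul, ← map_mul]
  congr 1
  exact Subtype.ext (hgψ ⟨s, hsU⟩)

/-- Automizers inside the inner system of `S` are `p`-groups. -/
theorem isInner_of_subset_inner [Finite S] [Fact p.Prime] (hS : IsPGroup p S) {T : Subgroup Ω}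
    (hTS : T ≤ S) {N : FusionSystem T} (hN : N.IsSaturated p)
    (h : ∀ P, N.Hom P ⊆ (innerFusionSystem S).Hom P) : IsInnerSystem N := by
  haveI : Finite T := finite_of_le hTS
  refine isInner_of_automizers (hS.to_le hTS) hN fun Q hQ _ _ => ?_
  refine (isPGroup_autGroup_of_isInner hS (F := innerFusionSystem S) (fun _ => rfl)
    (hQ.1.trans hTS)).to_le ?_
  exact autGroup_mono h Q

/-- Induction for an inner criterion. -/
theorem isInner_of_criterion [Fact p.Prime]
    (Free : ∀ {Ω : Type u} [Group Ω] {S : Subgroup Ω}, FusionSystem S → Prop)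
    (Crit : ∀ {Ω : Type u} [Group Ω] {S : Subgroup Ω}, FusionSystem S → Prop)
    (hsub : ∀ {Ω : Type u} [Group Ω] {S T : Subgroup Ω} {F : FusionSystem S} {E : FusionSystem T},
      T ≤ S → E.IsSubsystemOf F → Free F → Free E)
    (hquot : ∀ {Ω : Type u} [Group Ω] {S : Subgroup Ω} [Finite S] {F : FusionSystem S}
      {Q : Subgroup Ω} {Ω' : Type u} [Group Ω'] {S' : Subgroup Ω'} {θ : S →* Ω'}
      {E : FusionSystem S'}, F.IsFactorSystem Q θ E → Free F → Free E)
    (hcrit : ∀ {Ω : Type u} [Group Ω] {S : Subgroup Ω} [Finite S] {F : FusionSystem S},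
      IsPGroup p S → F.IsSaturated p → S ≠ ⊥ →
      (∀ Y : Subgroup Ω, Y ≤ S → Y ≠ ⊥ → (Y.subgroupOf S).Characteristic →
        HasInnerNormalizer F Y) → Crit F)
    (hmono : ∀ {Ω : Type u} [Group Ω] {S : Subgroup Ω} [Finite S] {F E : FusionSystem S},
      IsPGroup p S → E.IsSaturated p → E.IsSubsystemOf F → Crit F → Crit E)
    (hcon : ∀ {Ω : Type u} [Group Ω] {S : Subgroup Ω} [Finite S] {F : FusionSystem S},
      IsPGroup p S → F.IsConstrained p → Free F → Crit F → S ≠ ⊥ →
      TopControlled F (innerFusionSystem S) →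
      (∀ {Ω' : Type u} [Group Ω'] {S' : Subgroup Ω'} [Finite S'] (E : FusionSystem S'),
        IsPGroup p S' → Nat.card S' < Nat.card S → E.IsSaturated p → Free E → Crit E →
        IsInnerSystem E) → IsInnerSystem F)
    {Ω : Type u} [Group Ω] {S : Subgroup Ω} [Finite S] (hS : IsPGroup p S) {F : FusionSystem S}
    (hF : F.IsSaturated p) (hfree : Free F) (hC : Crit F) : IsInnerSystem F := by
  suffices H : ∀ n : ℕ, ∀ {Ω : Type u} [Group Ω] {S : Subgroup Ω} [Finite S] (F : FusionSystem S),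
      IsPGroup p S → Nat.card S = n → F.IsSaturated p → Free F → Crit F → IsInnerSystem F from
    H _ F hS rfl hF hfree hC
  intro n
  induction n using Nat.strong_induction_on with
  | _ n ih =>
    intro Ω _ S _ F hS hn hF hfree hC
    subst hn
    rcases eq_or_ne S ⊥ with h0 | h0
    · refine isInner_of_automizers hS hF fun Q hQ _ _ => ?_
      have : Subsingleton Q := ⟨fun a b => Subtype.ext (by
        have ha : (a : Ω) ∈ S := hQ.1 a.2
        have hb : (b : Ω) ∈ S := hQ.1 b.2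
        rw [h0, Subgroup.mem_bot] at ha hb
        rw [ha, hb])⟩
      intro α
      exact ⟨0, Subtype.ext (MulEquiv.ext fun x => Subsingleton.elim _ _)⟩
    have hIH : ∀ {Ω' : Type u} [Group Ω'] {S' : Subgroup Ω'} [Finite S'] (E : FusionSystem S'),
        IsPGroup p S' → Nat.card S' < Nat.card S → E.IsSaturated p → Free E → Crit E →
        IsInnerSystem E := fun E h1 h2 h3 h4 h5 => ih _ h2 E h1 rfl h3 h4 h5
    refine isInnerSystem_of_le (subset_of_reduction hS hF (innerFusionSystem S) ?_ ?_ ?_)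
    · intro T hTS hTne _ N hN hNF hY P φ hφ
      haveI : Finite T := finite_of_le hTS
      have hlt : Nat.card T < Nat.card S := lt_of_le_of_ne (Subgroup.card_le_of_le hTS) fun h =>
        hTne (Subgroup.eq_of_le_of_card_ge hTS h.ge)
      have hT0 : T = ⊥ ∨ T ≠ ⊥ := em _
      rcases hT0 with hT0 | hT0
      · have hPS := src_le hφ
        refine ⟨hPS.trans hTS, 1, S.one_mem, fun x => ?_⟩
        have hx : (x : Ω) = 1 := Subgroup.mem_bot.mp (hT0 ▸ hPS x.2)
        rw [show x = 1 from Subtype.ext hx, map_one]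
        simp
      have hNin : IsInnerSystem N := by
        refine hIH N (hS.to_le hTS) hlt hN (hsub hTS hNF hfree)
          (hcrit (hS.to_le hTS) hN hT0 fun Y hYT hY1 hYc M hM => ?_)
        haveI := finite_normalizerIn (S := T) Y
        have hYn : N.IsFullyNormalized Y :=
          isFullyNormalized_of_normalizerIn_eq hYT (normalizerIn_eq_self_of_characteristic hYT hYc)
        exact isInner_of_subset_inner hS (inf_le_left.trans hTS)
          (isSaturated_normalizerSystem (hS.to_le hTS) hN hYn hM)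
          fun P φ hφ => hY Y hYT hY1 hYc P ((hM P) ▸ hφ)
      obtain ⟨hPT, g, hg, hx⟩ := (hNin P).le hφ
      exact ⟨hPT.trans hTS, g, hTS hg, hx⟩
    · intro E hE hEF hEc htop P φ hφ
      exact (hcon hS hEc (hsub le_rfl hEF hfree) (hmono hS hE hEF hC) h0 htop hIH P).le hφ
    · intro E hE hEF Q hQ hQ1 hc hmax hin htop P φ hφ
      suffices hEin : IsInnerSystem E from (hEin P).le hφ
      have hSQ := le_normalizer_of_isNormal hQ
      have hQS : Q < S := lt_of_le_of_ne hQ.1 fun h => hc (h ▸ inf_le_left)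
      haveI hQnor : (Q.subgroupOf S).Normal := ⟨fun n hn g =>
        ((Subgroup.mem_normalizer_iff.mp (hSQ g.2)) n).mp hn⟩
      let θ : S →* ↥S ⧸ Q.subgroupOf S := QuotientGroup.mk' _
      have hθ : ∀ x : S, θ x = 1 ↔ (x : Ω) ∈ Q := fun x => QuotientGroup.eq_one_iff x
      have hrange : θ.range = ⊤ :=
        MonoidHom.range_eq_top_of_surjective θ (QuotientGroup.mk'_surjective _)
      obtain ⟨E', hE'⟩ := FusionFactor.exists_factorSystem
        (S' := (⊤ : Subgroup (↥S ⧸ Q.subgroupOf S))) θ E (stronglyClosed_of_isNormal hQ) hθ hrange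
      refine isInner_of_factor hS hE hQ hin hE' ?_
      have hsat : E'.IsSaturated p := isSaturated_of_surjectiveMorphism hS hE
        (isSurjectiveMorphism_of_isFactorSystem hS hE (stronglyClosed_of_isNormal hQ) hE')
      have hS' : IsPGroup p (⊤ : Subgroup (↥S ⧸ Q.subgroupOf S)) :=
        (hS.to_quotient _).to_subgroup ⊤
      have hQ2 : 1 < Nat.card Q := by
        haveI : Finite Q := finite_of_le hQ.1
        haveI : Nontrivial Q := (Subgroup.nontrivial_iff_ne_bot Q).mpr hQ1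
        exact Finite.one_lt_card
      have hidx : (Q.subgroupOf S).index * Nat.card Q = Nat.card S := by
        rw [← Nat.card_congr (Subgroup.subgroupOfEquivOfLe hQ.1).toEquiv, mul_comm]
        exact Subgroup.card_mul_index _
      have hlt : Nat.card (⊤ : Subgroup (↥S ⧸ Q.subgroupOf S)) < Nat.card S := by
        rw [Subgroup.card_top, ← Subgroup.index_eq_card, ← hidx]
        exact lt_mul_of_one_lt_right (Nat.pos_of_ne_zero Subgroup.index_ne_zero_of_finite) hQ2
      have htop' : (⊤ : Subgroup (↥S ⧸ Q.subgroupOf S)) ≠ ⊥ := by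
        intro h
        apply hQS.ne
        refine le_antisymm hQ.1 fun x hx => (hθ ⟨x, hx⟩).mp ?_
        exact Subgroup.mem_bot.mp (h ▸ Subgroup.mem_top (θ ⟨x, hx⟩))
      refine hIH E' hS' hlt hsat (hquot hE' (hsub le_rfl hEF hfree))
        (hcrit hS' hsat htop' fun Y hY hY1 hYc => ?_)
      exact hasInnerNormalizer_factor hmax htop hE' hY hY1
        (normalizerIn_eq_self_of_characteristic hY hYc)

end Cfsg.Agent.Lib.Fusion
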