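/-
Subsystems of index prime to `p` given by a group of automorphisms of `S`; the largest normal
subsystem inside the intersection of two normal subsystems.
-/
import Cfsg.Agent.Lib.Fusion.Wedge.Saturated
import Cfsg.Agent.Lib.Fusion.WeaklyNormalResidual
import Cfsg.Agent.Lib.Fusion.PPowerNormal
import Cfsg.Agent.Lib.Fusion.Terminating

set_option autoImplicit false
set_option linter.style.haveILetI false

namespace Cfsg.Agent.Lib.Fusion.LargestMeet

open Cfsg Cfsg.FusionSystem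

universe u

variable {Ω : Type u} [Group Ω] {S T T₁ T₂ : Subgroup Ω} {F : FusionSystem S} {E : FusionSystem T}
  {E₁ : FusionSystem T₁} {E₂ : FusionSystem T₂} {p : ℕ}

/-- Such a system is saturated when it contains the centric automorphisms. -/
theorem isSaturated_primeIndexSystem [Fact p.Prime] [Finite S] (hS : IsPGroup p S)
    (hF : F.IsSaturated p) {A : Subgroup (MulAut S)} (hA : A ≤ F.autGroup S)
    (hA₀ : centricAutS F p ≤ A) : (primeIndexSystem F p A hA).IsSaturated p := by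
  set E := primeIndexSystem F p A hA with hE
  have hEF : ∀ {P : Subgroup Ω} {φ : P →* Ω}, φ ∈ E.Hom P → φ ∈ F.Hom P := fun h => h.1
  have hconjF : ∀ {P Q : Subgroup Ω}, E.IsConj P Q → F.IsConj P Q :=
    fun ⟨φ, hφ, hr⟩ => ⟨φ, hEF hφ, hr⟩
  have hpA : pAutSystem F p ≤ E := fun _ φ hφ =>
    ⟨hφ.1, 1, Subgroup.one_mem _, φ, hφ, fun _ _ => rfl⟩
  have hpaut : HasPAut E F p := fun P hP α hα hk => hpA P (hasPAut_pAutSystem F p P hP α hα hk)
  refine isSaturated_of_generated (F := E) hS (ℋ := {P | F.IsCentric P})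
    (fun P hP Q hQ => isCentric_of_isConj hP (hconjF hQ)) (fun P hP => ?_) (fun G hG => ?_)
    (fun P hP hPH => absurd (isCentric_of_hasPAut hS hF hpaut hP) hPH)
  · obtain ⟨Q, hPQ, hQ⟩ := exists_isFullyNormalized_conj E hP.1
    have hQc : F.IsCentric Q := isCentric_of_isConj hP (hconjF hPQ)
    have hQF : F.IsFullyNormalized Q := by
      refine ⟨hQ.1, ?_⟩
      rintro R ⟨φ, hφ, rfl⟩
      obtain ⟨a, ha, φ₀, hφ₀, hx⟩ := exists_decomp hS hF (hasPAut_pAutSystem F p) hφ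
      have h₀ : E.IsConj Q φ₀.range :=
        ⟨φ₀, hpA Q hφ₀, rfl⟩
      refine le_trans ?_ (hQ.2 _ h₀)
      have ha' := autGroup_hom_mem le_rfl (Subgroup.inv_mem _ ha)
      have hNS : normalizerIn S φ.range ≤ S := normalizerIn_le _
      have hres := restrict_mem ha' hNS
      have himg : imgSub ((autHom a⁻¹).comp (Subgroup.inclusion hNS)) φ.range = φ₀.range := by
        have hval : ∀ x : Q, (a⁻¹ ⟨φ x, val_mem hφ x⟩ : Ω) = φ₀ x := fun x => by
          rw [show (⟨φ x, val_mem hφ x⟩ : S) = a ⟨φ₀ x, val_mem hφ₀ x⟩ from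
            Subtype.ext (hx x _), MulAut.inv_apply_self]
        ext y
        rw [mem_imgSub]
        constructor
        · rintro ⟨z, hz, rfl⟩
          obtain ⟨x, hxz⟩ := hz
          refine ⟨x, (hval x).symm.trans ?_⟩
          exact congrArg (fun w : S => (a⁻¹ w : Ω)) (Subtype.ext hxz)
        · rintro ⟨x, rfl⟩
          exact ⟨⟨φ x, le_normalizerIn (range_le hφ) ⟨x, rfl⟩⟩, ⟨x, rfl⟩, hval x⟩
      haveI := finite_normalizerIn (S := S) φ₀.range
      refine Nat.card_le_card_of_injective (fun z =>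
        (⟨((autHom a⁻¹).comp (Subgroup.inclusion hNS)) z, ?_⟩ : normalizerIn S φ₀.range))
        fun u v huv => F.injective_of_mem hres
          (congrArg (fun w : normalizerIn S φ₀.range => (w : Ω)) huv)
      have h := apply_mem_normalizerIn hres z z.2.2 (P := φ.range)
      rwa [himg] at h
    obtain ⟨-, hsyl⟩ := isFullyAutomized_iff.1 (isFullyAutomized_of_isFullyNormalized hS hF hQF)
    refine ⟨Q, hPQ, isFullyAutomized_iff.2 ⟨hQ.1, hsyl.of_le (autInducedBy_le_autGroup hQ.1)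
      ((Subgroup.closure_le _).2 fun α hα => Subgroup.subset_closure (hEF hα))⟩,
      hQ.1, fun R φ hφ hr => ?_⟩
    obtain ⟨ψ, hψ, hag⟩ := (isReceptive_of_isFullyNormalized hS hF hQF).2 R φ hφ.1 hr
    obtain ⟨c, hc, ψ₀, hψ₀, hψx⟩ := exists_decomp hS hF (hasPAut_pAutSystem F p) hψ
    obtain ⟨hφF, a, ha, φ₀, hφ₀, hx⟩ := hφ
    refine ⟨ψ, ⟨hψ, c, ?_, ψ₀, hψ₀, hψx⟩, hag⟩
    have hRN : R ≤ extender S R φ := le_extender hφF
    have hψ₀R := restrict_mem hψ₀ hRN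
    obtain ⟨τ, hτ, hτr, hτx, -⟩ := exists_inverse hψ₀R rfl
    obtain ⟨μ, hμ, hμx⟩ := exists_comp hτ hφ₀ fun y => hτr.le ⟨y, rfl⟩
    have hmem : a⁻¹ * c ∈ centricAutS F p := by
      refine Subgroup.subset_closure ⟨Subgroup.mul_mem _
        (Subgroup.inv_mem _ (hA ha)) hc, _, μ,
        isCentric_of_isConj (isCentric_of_isConj hQc (isConj_symm ⟨φ, hφF, hr⟩))
          (isConj_range hψ₀R.1), hμ, ?_⟩
      rintro ⟨_, x, rfl⟩ h
      rw [hμx]
      refine (congrArg φ₀ (Subtype.ext (hτx x ⟨x, rfl⟩))).trans ?_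
      have h1 : (c ⟨ψ₀ (Subgroup.inclusion hRN x), val_mem hψ₀ _⟩ : Ω) =
          (a ⟨φ₀ x, val_mem hφ₀ x⟩ : Ω) := by
        rw [← hψx, ← hx]
        exact hag x x.2 (hRN x.2)
      show φ₀ x = (a⁻¹ (c ⟨ψ₀ (Subgroup.inclusion hRN x), h⟩) : Ω)
      rw [show c ⟨ψ₀ (Subgroup.inclusion hRN x), h⟩ = a ⟨φ₀ x, val_mem hφ₀ x⟩ from
        Subtype.ext h1, MulAut.inv_apply_self]
    have h := Subgroup.mul_mem _ ha (hA₀ hmem)
    rwa [mul_inv_cancel_left] at h
  · have hS' : F.IsCentric S := isCentric_top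
    have hGp : HasPAut G F p := fun P hP α hα hk => hG P hP (hpaut P hP α hα hk)
    rintro P φ ⟨hφ, a, ha, φ₀, hφ₀, hx⟩
    exact comp_of_apply (hφ₀.2 G hGp) (hG S hS' (⟨autGroup_hom_mem le_rfl (hA ha), a, ha, _, subtype_mem le_rfl, fun _ _ => rfl⟩ :
      autHom a ∈ E.Hom S))
      fun x => ⟨val_mem hφ₀ x, hx x _⟩

/-- Such a system inside a weakly normal subsystem is normal when its group of automorphisms is
stable and extendable. -/
theorem isNormalIn_primeIndexSystem [Fact p.Prime] [Finite S] (hS : IsPGroup p S)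
    (hE : E.IsWeaklyNormalIn F p) {A : Subgroup (MulAut T)} (hA : A ≤ E.autGroup T)
    (hA₀ : centricAutS E p ≤ A) (hconj : ∀ a ∈ F.autGroup T, ∀ h ∈ A, a * h * a⁻¹ ∈ A)
    (hext : ∀ a ∈ A, a ∈ extendableAut F T) : (primeIndexSystem E p A hA).IsNormalIn F p := by
  obtain ⟨hEs, hF, hinv⟩ := id hE
  have hEF := hinv.1
  have hTc := hinv.2.1
  have hTS := hTc.1
  haveI : Finite T := finite_of_le hTS
  have hTp : IsPGroup p T := hS.to_le hTS
  have hact := actInvariant_of_stronglyInvariant hTS (stronglyInvariant_of_isWeaklyNormalIn hS hE)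
  refine ⟨⟨isSaturated_primeIndexSystem hTp hEs hA hA₀, hF, fun P φ hφ => hEF P hφ.1, hTc,
    fun P hP φ hφ a ha => ?_, fun P hP φ hφ => ?_⟩, fun α hα => hext α ?_⟩
  · obtain ⟨hφE, b, hb, φ₀, hφ₀, hx⟩ := hφ
    obtain ⟨χ, hχ, hχx⟩ := hact a ha P φ hφE
    obtain ⟨χ₀, hχ₀, hχ₀x⟩ := actInvariant_pAutSystem hTS hinv hact a ha P φ₀ hφ₀
    refine ⟨χ, ⟨hχ, a * b * a⁻¹, hconj a ha b hb, χ₀, hχ₀, ?_⟩, fun x hφx hαx => hχx x⟩
    rintro ⟨y, hy⟩ hyT
    obtain ⟨z, hzT, rfl⟩ := exists_of_mem_imgSub_act hy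
    refine (hχx z).trans ?_
    rw [MulAut.mul_apply, MulAut.mul_apply]
    refine congrArg (fun w : T => (a w : Ω)) (Subtype.ext ?_)
    refine (hx z (val_mem hφ₀ z)).trans ?_
    refine congrArg (fun w : T => (b w : Ω)) ?_
    exact ((congrArg (fun w : T => a⁻¹ w) (Subtype.ext (hχ₀x z))).trans
      (MulAut.inv_apply_self _ a _)).symm
  · obtain ⟨a, ha, φ₀, hφ₀, hx⟩ := hinv.2.2.2 P hP φ hφ
    obtain ⟨a', ha', φ₁, hφ₁, hx'⟩ := exists_decomp hTp hEs (hasPAut_pAutSystem E p) hφ₀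
    refine ⟨a * a', mul_mem ha (autGroup_mono hEF T ha'), φ₁,
      ⟨hφ₁.1, 1, one_mem _, φ₁, hφ₁, fun _ _ => rfl⟩, fun x hxT => ?_⟩
    rw [MulAut.mul_apply, hx x (val_mem hφ₀ x)]
    exact congrArg (fun w : T => (a w : Ω)) (Subtype.ext (hx' x hxT))
  · obtain ⟨hαE, b, hb, φ₀, hφ₀, hx⟩ := autGroup_hom_mem le_rfl hα
    have h : b⁻¹ * α ∈ centricAutS E p := by
      refine Subgroup.subset_closure ⟨mul_mem (inv_mem (hA hb))
        ((mem_autGroup le_rfl).2 hαE), T, φ₀, isCentric_top, hφ₀, fun x h => ?_⟩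
      rw [MulAut.mul_apply, show α ⟨x, h⟩ = b ⟨φ₀ x, val_mem hφ₀ x⟩ from Subtype.ext (hx x _),
        MulAut.inv_apply_self]
    have := mul_mem hb (hA₀ h)
    rwa [mul_inv_cancel_left] at this

/-- The automorphisms in the residual are extendable. -/
theorem centricAutS_extendable [Fact p.Prime] [Finite S] (hS : IsPGroup p S)
    (hE : E.IsWeaklyNormalIn F p) {a : MulAut T} (ha : a ∈ centricAutS E p) :
    a ∈ extendableAut F T :=
  (isNormalIn_pPrimeResidualSystem hS hE).2 a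
    ((mem_autGroup le_rfl).2 (centricAutS_le_pPrimeResidualSystem E p ha))

/-- Conjugates by automorphisms of a larger system of extendable automorphisms are extendable. -/
theorem conj_mem_extendableAut [Fact p.Prime] [Finite S] (hS : IsPGroup p S)
    (hF : F.IsSaturated p) {W : Subgroup Ω} {X : FusionSystem T} (hX : X.IsInvariantIn F)
    (hW : F.StronglyClosed W) (hWT : W ≤ T) {a α : MulAut W} (ha : a ∈ F.autGroup W)
    (hα : α ∈ extendableAut X W) : a * α * a⁻¹ ∈ extendableAut X W := by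
  obtain ⟨β, hβ, hβx, hβc⟩ := hα
  have hWS := hW.1
  have hTS := hX.2.1.1
  haveI : Finite W := finite_of_le hWS
  have hWfc : F.IsFullyCentralized W := by
    refine ⟨hWS, fun R hR => ?_⟩
    obtain ⟨φ, hφ, rfl⟩ := hR
    rw [range_eq_self hφ fun x => hW.2 W le_rfl φ hφ x]
  obtain ⟨g, hg, hgW, hga⟩ := exists_lift_aut hS hF hWfc ha
  have hCT : centralizerIn T W ≤ centralizerIn S W := inf_le_inf_right _ hTS
  have hle : cenSup T W ≤ cenSup S W := sup_le_sup_left hCT W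
  have hgm : ∀ y, (autHom g).comp (Subgroup.inclusion hle) y ∈ cenSup T W := by
    refine hom_sup_mem _ (fun w => ?_) fun c => ?_
    · show (g _ : Ω) ∈ cenSup T W
      exact Subgroup.mem_sup_left ((hgW _).2 w.2)
    · show (g _ : Ω) ∈ cenSup T W
      exact Subgroup.mem_sup_right ⟨stronglyClosed_map hX.2.1
        (autGroup_hom_mem (cenSup_le hWS) hg) _ c.2.1,
        (apply_mem_centralizerIn_of_iff hWS hgW _ (hCT c.2)).2⟩
  haveI : Finite (cenSup T W : Subgroup Ω) := finite_of_le (hle.trans (cenSup_le hWS))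
  obtain ⟨γ, hγ, hγx⟩ :=
    exists_aut_of_hom (restrict_mem (autGroup_hom_mem (cenSup_le hWS) hg) hle) hgm
  have hγa : ∀ w : W, (γ (Subgroup.inclusion le_sup_left w) : Ω) = a w := fun w =>
    (hγx _).trans (hga w)
  have hai : ∀ w : W, γ⁻¹ (Subgroup.inclusion le_sup_left w) =
      Subgroup.inclusion le_sup_left (a⁻¹ w) := fun w => γ.injective (by
    rw [MulAut.apply_inv_self]
    exact Subtype.ext (by rw [hγa, MulAut.apply_inv_self]; rfl))
  have hγW : ∀ x, (γ x : Ω) ∈ W ↔ (x : Ω) ∈ W := fun x => by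
    rw [hγx]; exact hgW _
  refine ⟨γ * β * γ⁻¹, conj_mem_autGroup_of_invariant hX (cenSup_le hWT) hγ hβ,
    fun w => ?_, fun c hc => ?_⟩
  · rw [MulAut.mul_apply, MulAut.mul_apply, hai,
      show β (Subgroup.inclusion le_sup_left (a⁻¹ w)) =
        Subgroup.inclusion le_sup_left (α (a⁻¹ w)) from Subtype.ext (hβx _), hγa]
    rfl
  · have hi : ∀ x, (γ⁻¹ x : Ω) ∈ W ↔ (x : Ω) ∈ W := fun x => by
      have h := hγW (γ⁻¹ x)
      rw [MulAut.apply_inv_self] at h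
      exact h.symm
    have hcC := apply_mem_centralizerIn_of_iff hWT hi c hc
    obtain ⟨hd, hdc⟩ := hβc _ hcC
    set d := (γ⁻¹ c)⁻¹ * β (γ⁻¹ c) with hd'
    have e : ((c : Ω))⁻¹ * ((γ * β * γ⁻¹) c : Ω) = (γ d : Ω) := by
      rw [hd', map_mul, map_inv, MulAut.apply_inv_self]
      rfl
    have hdT : (d : Ω) ∈ centralizerIn T W := ⟨cenSup_le hWT d.2, hdc⟩
    rw [e]
    exact ⟨(hγW d).2 hd, (apply_mem_centralizerIn_of_iff hWT hγW d hdT).2⟩

/-- A normal subsystem in two normal subsystems lies in their wedge. -/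
theorem le_wedge [Fact p.Prime] [Finite S] (hS : IsPGroup p S) (h₁ : E₁.IsNormalIn F p)
    {D' : FusionSystem (T₁ ⊓ T₂)} (hD : D'.IsWeaklyNormalIn F p) (hD₁ : D'.IsSubsystemOf E₁)
    (hD₂ : D'.IsSubsystemOf E₂) : D'.IsSubsystemOf (Wedge.wedgeSystem F E₁ E₂ p) := by
  haveI : Finite (T₁ ⊓ T₂ : Subgroup Ω) := finite_of_le (inf_le_left.trans h₁.1.2.2.2.1.1)
  have hTp : IsPGroup p (T₁ ⊓ T₂ : Subgroup Ω) := hS.to_le (inf_le_left.trans h₁.1.2.2.2.1.1)
  intro P φ hφ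
  refine ⟨⟨⟨hD₁ P hφ, src_le hφ, val_mem hφ⟩, hD₂ P hφ, src_le hφ, val_mem hφ⟩, fun G hG => ?_⟩
  have key : ∀ Q : Subgroup Ω, D'.IsCentric Q → D'.IsFullyNormalized Q →
      D'.autGroup Q ≤ G.autGroup Q := by
    intro Q hQc hQn
    refine (autGroup_le_pResidual_sup hTp hD.1 hQn).trans
      (sup_le ?_ (autInducedBy_le_autGroup hQn.1))
    rintro _ ⟨⟨a, ha⟩, har, rfl⟩
    refine (Subgroup.closure_le ((G.autGroup Q).comap (D'.autGroup Q).subtype)).2 ?_ har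
    rintro ⟨b, hb⟩ hco
    exact (mem_autGroup hQn.1).2 (hG Q (tCentric_of_isCentric hD.2.2 hQc) b
      ⟨autGroup_mono hD₁ Q hb, autGroup_mono hD₂ Q hb⟩ (by
        rw [← Subgroup.orderOf_mk b hb]; exact hco))
  exact le_of_autGroup_le hTp hD.1 G
    (key _ isCentric_top (isFullyNormalized_top D'))
    (fun Q hQ => key Q hQ.1 hQ.2.1) P hφ

/-- The largest subsystem on `T₁ ∩ T₂` normal in `F` and in the two normal subsystems. -/
theorem exists_largest [Fact p.Prime] [Finite S] (hS : IsPGroup p S) (h₁ : E₁.IsNormalIn F p)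
    (h₂ : E₂.IsNormalIn F p) :
    ∃ D : FusionSystem (T₁ ⊓ T₂), (D.IsNormalIn F p ∧ D.IsNormalIn E₁ p ∧ D.IsNormalIn E₂ p) ∧
      ∀ D' : FusionSystem (T₁ ⊓ T₂), D'.IsNormalIn F p → D'.IsNormalIn E₁ p →
        D'.IsNormalIn E₂ p → D'.IsSubsystemOf D := by
  have h₁c := h₁.1.2.2.2.1
  have h₂c := h₂.1.2.2.2.1
  haveI : Finite T₁ := finite_of_le h₁c.1
  haveI : Finite T₂ := finite_of_le h₂c.1
  have hWc := Wedge.stronglyClosed_wedge h₁ h₂
  haveI : Finite (T₁ ⊓ T₂ : Subgroup Ω) := finite_of_le hWc.1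
  haveI := finite_mulAut (S := S) hWc.1
  have hWp : IsPGroup p (T₁ ⊓ T₂ : Subgroup Ω) := hS.to_le hWc.1
  have hw := Wedge.isWeaklyNormalIn_wedge hS h₁ h₂
  obtain ⟨hw₁, hw₂⟩ := Wedge.isWeaklyNormalIn_wedge_sub hS h₁ h₂
  set Ew := Wedge.wedgeSystem F E₁ E₂ p with hEw
  let K : Submonoid (MulAut (T₁ ⊓ T₂ : Subgroup Ω)) :=
    { carrier := {a | a ∈ Ew.autGroup (T₁ ⊓ T₂) ∧ a ∈ extendableAut F (T₁ ⊓ T₂) ∧
        a ∈ extendableAut E₁ (T₁ ⊓ T₂) ∧ a ∈ extendableAut E₂ (T₁ ⊓ T₂)}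
      one_mem' := ⟨one_mem _, centricAutS_extendable hS hw (one_mem _),
        centricAutS_extendable (hS.to_le h₁c.1) hw₁ (one_mem _),
        centricAutS_extendable (hS.to_le h₂c.1) hw₂ (one_mem _)⟩
      mul_mem' := fun {a b} ha hb => ⟨mul_mem ha.1 hb.1, extendableAut_mul hWc.1 ha.2.1 hb.2.1,
        extendableAut_mul inf_le_left ha.2.2.1 hb.2.2.1,
        extendableAut_mul inf_le_right ha.2.2.2 hb.2.2.2⟩ }
  let A : Subgroup (MulAut (T₁ ⊓ T₂ : Subgroup Ω)) :=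
    { K with
      inv_mem' := fun {a} ha => by
        obtain ⟨n, hn⟩ : a⁻¹ ∈ Submonoid.powers a :=
          mem_powers_iff_mem_zpowers.2 (inv_mem (Subgroup.mem_zpowers a))
        exact hn ▸ Submonoid.pow_mem K ha n }
  have hA : A ≤ Ew.autGroup (T₁ ⊓ T₂) := fun a ha => ha.1
  have hA₀ : centricAutS Ew p ≤ A := fun a ha => ⟨centricAutS_le Ew p ha,
    centricAutS_extendable hS hw ha, centricAutS_extendable (hS.to_le h₁c.1) hw₁ ha,
    centricAutS_extendable (hS.to_le h₂c.1) hw₂ ha⟩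
  have hF := h₁.1.2.1
  have hconj : ∀ a ∈ F.autGroup (T₁ ⊓ T₂), ∀ h ∈ A, a * h * a⁻¹ ∈ A := fun a ha h hh =>
    ⟨conj_mem_autGroup_of_invariant hw.2.2 le_rfl ha hh.1,
      conj_mem_extendableAut hS hF (isWeaklyNormalIn_self hF).2.2 hWc hWc.1 ha hh.2.1,
      conj_mem_extendableAut hS hF h₁.1.2.2 hWc inf_le_left ha hh.2.2.1,
      conj_mem_extendableAut hS hF h₂.1.2.2 hWc inf_le_right ha hh.2.2.2⟩
  refine ⟨primeIndexSystem Ew p A hA,
    ⟨isNormalIn_primeIndexSystem hS hw hA hA₀ hconj fun a ha => ha.2.1,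
      isNormalIn_primeIndexSystem (hS.to_le h₁c.1) hw₁ hA hA₀
        (fun a ha => hconj a (autGroup_mono h₁.1.2.2.1 _ ha)) fun a ha => ha.2.2.1,
      isNormalIn_primeIndexSystem (hS.to_le h₂c.1) hw₂ hA hA₀
        (fun a ha => hconj a (autGroup_mono h₂.1.2.2.1 _ ha)) fun a ha => ha.2.2.2⟩,
    fun D' hD hD₁ hD₂ P φ hφ => ?_⟩
  have hle := le_wedge hS h₁ hD.1 hD₁.1.2.2.1 hD₂.1.2.2.1
  have hpaut : HasPAut (pAutSystem Ew p) D' p := fun Q hQ α hα hk =>
    hasPAut_pAutSystem Ew p Q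
      ((tCentric_of_isCentric hD.1.2.2 hQ).isCentric hw.2.2.1) α (autGroup_mono hle Q hα) hk
  obtain ⟨a, ha, φ₀, hφ₀, hx⟩ := exists_decomp hWp hD.1.1 hpaut hφ
  exact ⟨hle P hφ, a, ⟨autGroup_mono hle _ ha, hD.2 a ha, hD₁.2 a ha, hD₂.2 a ha⟩, φ₀, hφ₀, hx⟩

end Cfsg.Agent.Lib.Fusion.LargestMeet
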