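import Cfsg.Agent.Lib.Fusion.KNormalizer
import Cfsg.Agent.Lib.Fusion.ModelUnique
import Cfsg.Agent.Lib.Fusion87.Stabilizer

/-!
Normalizer systems of fully normalized centric radical subgroups.
-/

set_option autoImplicit false

namespace Cfsg.Agent.Lib.Fusion

open Cfsg Cfsg.FusionSystem

variable {Ω : Type*} [Group Ω] {S : Subgroup Ω} {F : FusionSystem S} {p : ℕ} {R : Subgroup Ω}
  {E : FusionSystem (normalizerIn S R)}

theorem isNormal_in_normalizerSystem (hR : R ≤ S) (hE : F.IsNormalizerSystem R E) :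
    E.IsNormal R := by
  refine ⟨le_normalizerIn hR, fun P φ hφ => ?_⟩
  obtain ⟨-, hP, -, ψ, hψ, ha, hb⟩ : φ ∈ F.normalizerHom R P := (hE P) ▸ hφ
  have hle : P ⊔ R ≤ normalizerIn S R := sup_le hP (le_normalizerIn hR)
  have hsup : P ⊔ R ⊔ R ≤ P ⊔ R := sup_le le_rfl le_sup_right
  refine ⟨ψ, ?_, ha, hb⟩
  rw [hE]
  refine ⟨hψ, hle, fun x => ?_, ψ.comp (Subgroup.inclusion hsup), restrict_mem hψ hsup,
    fun x => rfl, ?_⟩
  · have h := apply_mem_normalizerIn hψ x (hle x.2).2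
    rwa [show imgSub ψ R = R from hb] at h
  · refine le_antisymm ?_ fun y hy => ?_
    · rintro _ ⟨x, hx, rfl⟩
      exact hb.le ⟨Subgroup.inclusion hsup x, hx, rfl⟩
    · obtain ⟨x, hx, rfl⟩ := hb.ge hy
      exact ⟨⟨x, Subgroup.mem_sup_right hx⟩, hx, rfl⟩

theorem isConstrained_normalizerSystem [Finite S] [Fact p.Prime] (hS : IsPGroup p S)
    (hF : F.IsSaturated p) (hn : F.IsFullyNormalized R) (hc : F.IsCentric R)
    (hE : F.IsNormalizerSystem R E) : E.IsConstrained p := by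
  have hRn := isNormal_in_normalizerSystem hc.1 hE
  have := finite_of_le hc.1
  refine ⟨isSaturated_normalizerSystem hS hF hn hE, R, hRn, hRn.1, fun Q hQ => ?_⟩
  obtain ⟨φ, hφ, rfl⟩ := hQ
  rw [range_eq_self hφ fun x => (stronglyClosed_of_isNormal hRn).2 R le_rfl φ hφ x]
  exact fun x hx => centralizerIn_le_of_isCentric hc ⟨hx.1.1, hx.2⟩

theorem isNormal_le_of_radical [Finite S] [Fact p.Prime] (hS : IsPGroup p S) (hc : F.IsCentric R)
    (hr : F.IsRadical p R) (hE : F.IsNormalizerSystem R E) {M : Subgroup Ω} (hM : E.IsNormal M) :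
    M ≤ R := by
  intro g hg
  have hgN := hM.1 hg
  let K : Subgroup (F.autGroup R) := (autInducedBy M R).subgroupOf (F.autGroup R)
  have hMS : M ≤ S := hM.1.trans inf_le_left
  have hKn : K.Normal := by
    refine ⟨fun a ha b => ?_⟩
    obtain ⟨m, hm, hmx⟩ := mem_autInducedBy.1 (Subgroup.mem_subgroupOf.1 ha)
    have hb := autGroup_hom_mem hc.1 b.2
    have hle : R ⊔ R ≤ R := sup_le le_rfl le_rfl
    have hbE : autHom (b : MulAut R) ∈ E.Hom R := by
      rw [hE]
      refine ⟨hb, le_normalizerIn hc.1, fun x => le_normalizerIn hc.1 ((b : MulAut R) x).2,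
        (autHom (b : MulAut R)).comp (Subgroup.inclusion hle), restrict_mem hb hle, fun x => rfl, ?_⟩
      refine le_antisymm ?_ fun y hy => ?_
      · rintro _ ⟨x, -, rfl⟩
        exact ((b : MulAut R) (Subgroup.inclusion hle x)).2
      · exact ⟨⟨((b : MulAut R).symm ⟨y, hy⟩ : Ω), Subgroup.mem_sup_left (SetLike.coe_mem _)⟩,
          SetLike.coe_mem ((b : MulAut R).symm ⟨y, hy⟩),
          (congrArg (fun t => ((b : MulAut R) t : Ω)) (Subtype.ext rfl)).trans
            (congrArg Subtype.val ((b : MulAut R).apply_symm_apply ⟨y, hy⟩))⟩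
    obtain ⟨ψ, -, hψa, hψM⟩ := hM.2 R _ hbE
    have hmU : m ∈ R ⊔ M := Subgroup.mem_sup_right hm
    refine Subgroup.mem_subgroupOf.2 (mem_autInducedBy.2 ⟨ψ ⟨m, hmU⟩, hψM.le ⟨⟨m, hmU⟩, hm, rfl⟩,
      fun x => ?_⟩)
    obtain ⟨z, rfl⟩ := (b : MulAut R).surjective x
    show (((b : MulAut R) * (a : MulAut R) * (b : MulAut R)⁻¹) ((b : MulAut R) z) : Ω) = _
    rw [MulAut.mul_apply, MulAut.mul_apply, MulAut.inv_apply_self]
    have h1 := hψa ((a : MulAut R) z)
    have h2 := hψa z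
    rw [autHom_apply] at h1 h2
    rw [← h1, ← h2, ← map_mul, ← map_inv, ← map_mul]
    exact congrArg ψ (Subtype.ext (hmx z))
  have hKp : IsPGroup p K :=
    (isPGroup_autInducedBy (hS.to_le hMS)).comap_subtype
  exact Fusion87.mem_of_radical hc hr K hKp hgN.1 hgN.2 fun a ha =>
    Subgroup.mem_subgroupOf.2 (ha ▸ mem_autInducedBy.2 ⟨g, hg, fun x => rfl⟩)

theorem pCore_eq_of_isModel [Finite S] [Fact p.Prime] (hS : IsPGroup p S) (hc : F.IsCentric R)
    (hr : F.IsRadical p R) (hE : F.IsNormalizerSystem R E) {G : Type*} [Group G]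
    {ι : normalizerIn S R →* G} (hM : E.IsModel p G ι) :
    (pCore p G : Subgroup G) = (R.subgroupOf (normalizerIn S R)).map ι := by
  have hcore : modelCore p ι = R :=
    le_antisymm (isNormal_le_of_radical hS hc hr hE (isNormal_modelCore hM))
      (le_modelCore_of_isNormal hM (isNormal_in_normalizerSystem hc.1 hE))
  obtain ⟨hfin, -, hT, -⟩ := hM
  have hsub : R.subgroupOf (normalizerIn S R) = (pCore p G).comap ι := Subgroup.ext fun x => by
    rw [Subgroup.mem_subgroupOf, Subgroup.mem_comap]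
    exact (SetLike.ext_iff.1 hcore (x : Ω)).symm.trans (mem_modelCore x.2)
  rw [hsub, Subgroup.map_comap_eq_self (pCore_le_range hT)]

end Cfsg.Agent.Lib.Fusion
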