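/-
Normalizer systems in constrained systems are constrained; constrained normalizer systems from
constrained centralizers of subgroups of order `p`.
-/
import Cfsg.Agent.Lib.Fusion.Components
import Cfsg.Agent.Lib.Fusion.Iso
import Cfsg.Agent.Lib.Fusion.ModelSystems
import Cfsg.Agent.Lib.Fusion.LocalGlobal
import Cfsg.Agent.Lib.Fusion.NormalizerRadical
import Cfsg.Agent.Lib.Core.Nilpotent
import Cfsg.Agent.Lib.CharP.Basic

set_option autoImplicit false
set_option linter.style.haveILetI false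

namespace Cfsg.Agent.Lib.Fusion.LocalConstrained

open Cfsg Cfsg.FusionSystem
open Cfsg.Agent.Lib.FusionFactor (mem_preimageAlong preimageAlong_le exists_preimage exists_factorSystem)

universe u

variable {Ω : Type u} [Group Ω] {S : Subgroup Ω} {F : FusionSystem S} {p : ℕ}

/-- The normalizer system of a fully normalized subgroup of a constrained system is constrained. -/
theorem isConstrained_normalizerSystem_of_constrained [Fact p.Prime] [Finite S] (hS : IsPGroup p S)
    (hF : F.IsConstrained p) {U : Subgroup Ω} (hU : F.IsFullyNormalized U)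
    {N : FusionSystem (normalizerIn S U)} (hN : F.IsNormalizerSystem U N) : N.IsConstrained p := by
  obtain ⟨G, _, _, ι, -, hι, ⟨T, hT⟩, hC⟩ := exists_model_of_isConstrained hS hF
  set U' := (U.subgroupOf S).map ι with hU'
  set H := Subgroup.normalizer (U' : Set G)
  have hUp : IsPGroup p U' := (hS.to_subgroup _).map ι
  have hTN : normalizerIn S U ≤ S := inf_le_left
  have hmemU : ∀ (x : Ω) (hx : x ∈ S), ι ⟨x, hx⟩ ∈ U' ↔ x ∈ U := fun x hx => by
    refine ⟨fun ⟨y, hy, he⟩ => ?_, fun h => ⟨⟨x, hx⟩, h, rfl⟩⟩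
    rw [← show (y : Ω) = x from congrArg Subtype.val (hι.1 he)]
    exact hy
  have hH : ∀ x : normalizerIn S U, ι ⟨x, hTN x.2⟩ ∈ H := fun x => by
    refine Subgroup.mem_normalizer_iff.2 fun y => ⟨?_, fun h => ?_⟩
    · rintro ⟨z, hz, rfl⟩
      rw [← map_inv, ← map_mul, ← map_mul, hmemU]
      exact (Subgroup.mem_normalizer_iff.1 x.2.2 z).1 hz
    · obtain ⟨z, hz, he⟩ := h
      have hy : y = ι (⟨x, hTN x.2⟩⁻¹ * z * ⟨x, hTN x.2⟩) := by
        rw [map_mul, map_mul, map_inv, he]; group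
      rw [hy, hmemU]
      refine (Subgroup.mem_normalizer_iff.1 x.2.2 _).2 ?_
      show (x : Ω) * ((x : Ω)⁻¹ * z * x) * (x : Ω)⁻¹ ∈ U
      convert (show (z : Ω) ∈ U from hz) using 1
      group
  let ι₁ : normalizerIn S U →* H := (ι.comp (Subgroup.inclusion hTN)).codRestrict H hH
  have hinj : Function.Injective ι₁ := fun a b h =>
    Subgroup.inclusion_injective hTN (hι.1 (congrArg Subtype.val h))
  refine isConstrained_of_isModel (G := H) (ι := ι₁) ⟨inferInstance, ⟨hinj, ?_⟩, ?_,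
    CharP.centralizer_pCore_normalizer_le hC hUp⟩
  · intro P hP φ hφ
    have hPS := hP.trans hTN
    rw [hN P]
    constructor
    · rintro ⟨-, -, -, ψ, hψ, hψP, hψU⟩
      obtain ⟨g, hg⟩ := exists_conj_of_hom hι hψ
      have hfin : Finite U' := inferInstance
      have hgU : g ∈ H := by
        have hle : U'.map (MulAut.conj g).toMonoidHom ≤ U' := by
          rintro _ ⟨_, ⟨z, hz, rfl⟩, rfl⟩
          show g * ι z * g⁻¹ ∈ U'
          have e := hg ⟨z, Subgroup.mem_sup_right hz⟩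
          rw [← show ι ⟨ψ ⟨z, Subgroup.mem_sup_right hz⟩, val_mem hψ _⟩ = g * ι z * g⁻¹ from e]
          exact (hmemU _ _).2 (hψU.le (apply_mem_imgSub ψ ⟨z, Subgroup.mem_sup_right hz⟩ hz))
        have heq := Subgroup.eq_of_le_of_card_ge hle
          (Subgroup.card_map_of_injective (MulAut.conj g).injective).ge
        refine Subgroup.mem_normalizer_iff.2 fun y => ⟨fun hy => heq.le ⟨y, hy, rfl⟩, fun hy => ?_⟩
        obtain ⟨z, hz, he⟩ := heq.ge hy
        rwa [← (MulAut.conj g).injective (a₁ := z) (a₂ := y) he]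
      refine ⟨⟨g, hgU⟩, fun x => Subtype.ext ?_⟩
      show ι ⟨φ x, hTN (hφ x)⟩ = g * ι ⟨x, hPS x.2⟩ * g⁻¹
      have e := hg (Subgroup.inclusion le_sup_left x)
      refine Eq.trans ?_ e
      exact congrArg ι (Subtype.ext (hψP x).symm)
    · rintro ⟨⟨g, hg⟩, hx⟩
      have hx' : ∀ x : P, ι ⟨φ x, hTN (hφ x)⟩ = g * ι ⟨x, hPS x.2⟩ * g⁻¹ :=
        fun x => congrArg Subtype.val (hx x)
      have hsup : P ⊔ U ≤ S := sup_le hPS hU.1
      have hle : P ⊔ U ≤ ((ι.range).comap ((MulAut.conj g).toMonoidHom.comp ι)).map S.subtype :=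
        sup_le (fun y hy => ⟨⟨y, hPS hy⟩, ⟨_, hx' ⟨y, hy⟩⟩, rfl⟩) fun y hy =>
          ⟨⟨y, hU.1 hy⟩, by
            obtain ⟨z, -, hz⟩ := (Subgroup.mem_normalizer_iff.1 hg _).1 ((hmemU y (hU.1 hy)).2 hy)
            exact ⟨z, hz⟩, rfl⟩
      obtain ⟨ψ, hψ, hψS, hψv⟩ := exists_hom_of_conj hι hsup (g := g) fun x => by
        obtain ⟨y, hy, hyx⟩ := hle x.2
        rw [show (⟨(x : Ω), hsup x.2⟩ : S) = y from Subtype.ext hyx.symm]
        exact hy
      have hψP : ∀ x : P, ψ (Subgroup.inclusion le_sup_left x) = φ x := fun x =>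
        congrArg Subtype.val (hι.1 (show
          ι ⟨_, hψS (Subgroup.inclusion le_sup_left x)⟩ = ι ⟨φ x, hTN (hφ x)⟩ by
            rw [hψv, hx']; rfl))
      haveI : Finite U := finite_of_le hU.1
      have hψU : imgSub ψ U = U := imgSub_eq_of_le_of_card hψ le_sup_right (fun y hy => by
        obtain ⟨x, hxU, rfl⟩ := mem_imgSub.1 hy
        rw [← hmemU _ (hψS x), hψv]
        exact (Subgroup.mem_normalizer_iff.1 hg _).1 ((hmemU _ _).2 hxU)) le_rfl
      exact ⟨mem_of_restrict hψ le_sup_left fun x => (hψP x).symm, hP, hφ, ψ, hψ, hψP, hψU⟩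
  · obtain ⟨R, hR⟩ := ((hS.to_le hTN).to_subgroup ⊤).map ι₁ |>.exists_le_sylow
    refine ⟨R, le_antisymm ?_ (by rw [MonoidHom.range_eq_map]; exact hR)⟩
    set R' := (R : Subgroup H).map H.subtype with hR'
    have hR'p : IsPGroup p R' := R.2.map _
    obtain ⟨T₁, hT₁⟩ := hR'p.exists_le_sylow
    obtain ⟨g, hg⟩ := MulAction.exists_smul_eq G T₁ T
    have hgR : ∀ x ∈ R', g * x * g⁻¹ ∈ ι.range := fun x hx => by
      rw [← hT, ← hg]
      exact Subgroup.smul_mem_pointwise_smul x (MulAut.conj g) _ (hT₁ hx)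
    have hιR : ∀ x : normalizerIn S U, ι ⟨x, hTN x.2⟩ ∈ R' := fun x =>
      ⟨ι₁ x, hR ⟨x, trivial, rfl⟩, rfl⟩
    have hUT : U ≤ normalizerIn S U := le_normalizerIn hU.1
    obtain ⟨φ, hφ, hφS, hφv⟩ := exists_hom_of_conj hι hU.1 (g := g)
      fun x => hgR _ (hιR ⟨x, hUT x.2⟩)
    set Q := φ.range
    let j : R' →* S := (MonoidHom.ofInjective hι.1).symm.toMonoidHom.comp
      (((MulAut.conj g).toMonoidHom.comp R'.subtype).codRestrict ι.range fun x => hgR _ x.2)
    have hj : ∀ x, ι (j x) = g * (x : G) * g⁻¹ := fun x =>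
      congrArg Subtype.val ((MonoidHom.ofInjective hι.1).apply_symm_apply _)
    haveI : Finite Q := finite_of_le (range_le hφ)
    have hjN : ∀ x, (j x : Ω) ∈ normalizerIn S Q := fun x => by
      refine ⟨(j x).2, Subgroup.mem_normalizer_fintype fun y hy => ?_⟩
      obtain ⟨u, rfl⟩ := hy
      obtain ⟨z, hz, he⟩ := (Subgroup.mem_normalizer_iff.1
        (show (x : G) ∈ H from Subgroup.map_subtype_le _ x.2) _).1 ((hmemU u (hU.1 u.2)).2 u.2)
      refine ⟨⟨z, hz⟩, ?_⟩
      refine congrArg Subtype.val (hι.1 (?_ : ι ⟨_, hφS ⟨z, hz⟩⟩ = ι (j x * ⟨φ u, hφS u⟩ * (j x)⁻¹)))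
      rw [hφv, map_mul, map_mul, map_inv, hφv, hj]
      show g * ι z * g⁻¹ = _
      rw [he]
      group
    have hinjj : Function.Injective (fun x : R' => (⟨(j x : Ω), hjN x⟩ : normalizerIn S Q)) :=
      fun a b h => Subtype.ext (by
        have h' := congrArg (fun y : S => ι y) (Subtype.ext (congrArg Subtype.val h :) : j a = j b)
        simpa [hj] using h')
    haveI : Finite (normalizerIn S Q) := finite_normalizerIn Q
    haveI : Finite R := inferInstance
    refine (Subgroup.eq_of_le_of_card_ge (by rw [MonoidHom.range_eq_map]; exact hR) ?_).ge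
    calc Nat.card R = Nat.card R' := (Subgroup.card_map_of_injective H.subtype_injective).symm
      _ ≤ Nat.card (normalizerIn S Q) := Nat.card_le_card_of_injective _ hinjj
      _ ≤ Nat.card (normalizerIn S U) := hU.2 Q ⟨φ, hφ, rfl⟩
      _ = Nat.card ι₁.range := Nat.card_congr (MonoidHom.ofInjective hinj).toEquiv

/-- Constrained systems are preserved by isomorphisms. -/
theorem isConstrained_of_iso [Fact p.Prime] [Finite S] (hS : IsPGroup p S) {Ω' : Type u} [Group Ω']
    {S' : Subgroup Ω'} {E : FusionSystem S'} {θ : S →* Ω'} (h : F.IsFactorSystem ⊥ θ E)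
    (hF : F.IsConstrained p) : E.IsConstrained p := by
  haveI := Iso.finite_target h
  have hS' := Iso.isPGroup_target h hS
  have hE := Iso.isSaturated h hS hF.1
  refine (Components.isConstrained_iff_no_component hS' hE).2 ?_
  rintro ⟨T, C, hC, hCq⟩
  refine (Components.isConstrained_iff_no_component hS hF.1).1 hF ?_
  have hT := Components.le_of_subnormal hC
  haveI : Finite T := finite_of_le hT
  obtain ⟨D, hD⟩ := Iso.exists_image (Iso.symm h) hT C
  exact ⟨_, D, Iso.isSubnormalIn hS' (Iso.symm h) hT hD hC,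
    Iso.quasisimple hD (hS'.to_le hT) hCq⟩

/-- `N_F(U)` is constrained if `C_F(X)` is, for `X ≤ U` centralized by `N_S(U)`. -/
theorem isConstrained_normalizerSystem_of_central [Fact p.Prime] [Finite S] (hS : IsPGroup p S)
    (hF : F.IsSaturated p) {U X : Subgroup Ω} (hU : F.IsFullyNormalized U) (hXU : X ≤ U)
    (hT : normalizerIn S U ≤ centralizerIn S X) {C : FusionSystem (centralizerIn S X)}
    (hC : F.IsCentralizerSystem X C) (hCc : C.IsConstrained p)
    {E : FusionSystem (normalizerIn S U)} (hE : F.IsNormalizerSystem U E) :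
    E.IsConstrained p := by
  let T := normalizerIn S U
  let CX := centralizerIn S X
  haveI : Finite CX := finite_of_le inf_le_left
  haveI : Finite (centralizerIn S X) := finite_of_le inf_le_left
  haveI : Finite (S ⊓ Subgroup.centralizer (X : Set Ω) : Subgroup Ω) := finite_of_le inf_le_left
  have hTS : T ≤ S := inf_le_left
  haveI : Finite T := finite_of_le hTS
  have hTp : IsPGroup p T := hS.to_le hTS
  have hEs := isSaturated_normalizerSystem hS hF hU hE
  have hUn : E.IsNormal U := isNormal_in_normalizerSystem hU.1 hE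
  have hUT : U ≤ T := hUn.1
  have hEF : E.IsSubsystemOf F := fun P φ h => ((hE P).le h).1
  have hCF : C.IsSubsystemOf F := fun P φ h => ((hC P).le h).1
  have hle : normalizerIn CX U ≤ T := inf_le_inf_right _ inf_le_left
  have hge : T ≤ normalizerIn CX U := le_inf hT inf_le_right
  have hUC : C.IsFullyNormalized U := by
    refine ⟨hUT.trans hT, fun Q ⟨φ, hφ, hr⟩ => ?_⟩
    haveI : Finite (normalizerIn S Q) := finite_normalizerIn Q
    haveI : Finite (S ⊓ Subgroup.normalizer (Q : Set Ω) : Subgroup Ω) := finite_normalizerIn Q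
    haveI : Finite (normalizerIn CX U) := finite_of_le (hle.trans hTS)
    exact ((Subgroup.card_le_of_le (inf_le_inf_right _ inf_le_left)).trans
      (hU.2 Q ⟨φ, hCF _ hφ, hr⟩)).trans (Subgroup.card_le_of_le hge)
  obtain ⟨N, hN⟩ := exists_normalizerSystem C hUC.1
  haveI : Finite (normalizerIn CX U) := finite_of_le (hle.trans hTS)
  have hNc := isConstrained_normalizerSystem_of_constrained (hS.to_le inf_le_left) hCc hUC hN
  have hNE : N.IsSubsystemOf E := fun P φ h => by
    obtain ⟨hφ, hP, hv, ψ, hψ, h1, h2⟩ : φ ∈ C.normalizerHom U P := (hN P).le h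
    rw [hE P]
    exact ⟨hCF _ hφ, hP.trans hle, fun x => hle (hv x), ψ, hCF _ hψ, h1, h2⟩
  have hI := Cfsg.Agent.Lib.Fusion87.inner_isNormalIn hTp hEs hUn
  obtain ⟨D, hD, hDh⟩ := exists_centralizerSubsystem hTp hI hUT
  let A := centFix E (innerFusionSystem U) p hUT
  have hAT : A ≤ T := centFix_le
  haveI : Finite A := finite_of_le hAT
  have hAcl : E.StronglyClosed A := stronglyClosed_centFix hTp hI
  have hY : centralizerIn T U ≤ A := by
    refine le_centFix hTp hI le_rfl fun P φ hφ => ?_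
    obtain ⟨hP, g, hg, hx⟩ := hφ
    have hgT := hUT hg
    have hPT := hP.trans hUT
    have hsup : P ⊔ centralizerIn T U ≤ T := sup_le hPT inf_le_left
    have hc := E.conj_mem hsup hgT
    refine ⟨mem_of_restrict (E.conj_mem hPT hgT) le_rfl fun x => hx x, fun x hx' => ?_,
      fun x => ?_, _, hc, fun x => (hx x).symm, fun y => ?_⟩
    · exact ⟨hPT hx', Subgroup.mem_centralizer_iff.2 fun y hy =>
        ((Subgroup.mem_centralizer_iff.1 hy.2) x (hP hx')).symm⟩
    · rw [hx x]
      exact ⟨T.mul_mem (T.mul_mem hgT (hPT x.2)) (T.inv_mem hgT),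
        Subgroup.mem_centralizer_iff.2 fun y hy => ((Subgroup.mem_centralizer_iff.1 hy.2) _
          (U.mul_mem (U.mul_mem hg (hP x.2)) (U.inv_mem hg))).symm⟩
    · show g * (y : Ω) * g⁻¹ = y
      rw [(Subgroup.mem_centralizer_iff.1 y.2.2) g hg, mul_inv_cancel_right]
  have hXT : X ≤ T := hXU.trans hUT
  have hDN : D.IsSubsystemOf N := by
    intro P φ hφ
    obtain ⟨hφE, hP, hv, ψ, hψ, h1, h2⟩ := hDh P hφ
    have hψT := src_le hψ
    haveI : Finite U := finite_of_le hU.1
    have hψU : imgSub ψ U = U := imgSub_eq_of_le_of_card hψ le_sup_right (fun y hy => by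
      obtain ⟨x, hx, rfl⟩ := mem_imgSub.1 hy
      rw [show x = Subgroup.inclusion le_sup_right (⟨x, hx⟩ : U) from Subtype.ext rfl, h2]
      exact hx) le_rfl
    have hψC : ψ ∈ C.Hom (P ⊔ U) := by
      rw [hC]
      refine ⟨hEF _ hψ, hψT.trans hT, fun x => hT (val_mem hψ x), ?_⟩
      have hsub : (P ⊔ U) ⊔ X ≤ P ⊔ U := sup_le le_rfl (hXU.trans le_sup_right)
      refine ⟨_, restrict_mem (hEF _ hψ) hsub, fun x => rfl, fun x => ?_⟩
      exact h2 ⟨x, hXU x.2⟩
    rw [hN]
    exact ⟨mem_of_restrict hψC le_sup_left fun x => (h1 x).symm, (hP.trans inf_le_left).trans hge,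
      fun x => hge (hv x).1, ψ, hψC, h1, hψU⟩
  have hDc : D.IsConstrained p := isConstrained_of_stronglyClosed (hS.to_le (hle.trans hTS)) hNc
    (stronglyClosed_of_subsystem hNE hAcl (hAT.trans hge)) D hD.1.1 hDN
  set R := D.core with hR
  have hRn : E.IsNormal R := isNormal_core_of_isInvariantIn hTp hEs hD.1.2.2
  have hUR := le_core (Cfsg.Agent.Lib.FusionFactor.isNormal_sup E hUn hRn)
  refine isConstrained_of_centralizerIn_core hEs fun x hx => ?_
  have hxU : x ∈ centralizerIn T U :=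
    ⟨hx.1, Subgroup.centralizer_le (SetLike.coe_subset_coe.2 (le_sup_left.trans hUR)) hx.2⟩
  exact (le_sup_right.trans hUR) (centralizerIn_core_of_isConstrained hDc
    ⟨hY hxU, Subgroup.centralizer_le (SetLike.coe_subset_coe.2 (le_sup_right.trans hUR)) hx.2⟩)

/-- `N_F(U)` is constrained if the centralizer systems of the fully normalized subgroups of order
`p` are. -/
theorem isConstrained_normalizerSystem [Fact p.Prime] [Finite S] (hS : IsPGroup p S)
    (hF : F.IsSaturated p)
    (hc : ∀ X : Subgroup Ω, Nat.card X = p → F.IsFullyNormalized X →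
      ∀ C : FusionSystem (centralizerIn S X), F.IsCentralizerSystem X C → C.IsConstrained p)
    {U : Subgroup Ω} (hU1 : U ≠ ⊥) (hU : F.IsFullyNormalized U)
    {E : FusionSystem (normalizerIn S U)} (hE : F.IsNormalizerSystem U E) :
    E.IsConstrained p := by
  let T := normalizerIn S U
  have hTS : T ≤ S := inf_le_left
  haveI : Finite T := finite_of_le hTS
  have hTp : IsPGroup p T := hS.to_le hTS
  have hUT : U ≤ T := le_normalizerIn hU.1
  haveI := hTp.isNilpotent
  haveI : (U.subgroupOf T).Normal := by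
    refine ⟨fun n hn g => ?_⟩
    exact (Subgroup.mem_normalizer_iff.1 g.2.2 _).1 hn
  obtain ⟨X, hXcard, hXU, hXc⟩ : ∃ X : Subgroup Ω, Nat.card X = p ∧ X ≤ U ∧
      T ≤ centralizerIn S X := by
    have hne : U.subgroupOf T ⊓ Subgroup.center T ≠ ⊥ := by
      refine Nilp.inf_center_ne_bot_of_normal fun h => hU1 ?_
      rw [Subgroup.subgroupOf_eq_bot] at h
      exact disjoint_self.1 (h.mono_right hUT)
    obtain ⟨z, hz, hz1⟩ := (U.subgroupOf T ⊓ Subgroup.center T).ne_bot_iff_exists_ne_one.1 hne |>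
      fun ⟨z, h⟩ => (⟨z.1, z.2, fun e => h (Subtype.ext e)⟩ :
        ∃ z, z ∈ U.subgroupOf T ⊓ Subgroup.center T ∧ z ≠ 1)
    have hd : p ∣ orderOf z := hTp.dvd_orderOf hz1
    set x := z ^ (orderOf z / p) with hx
    have hox : orderOf x = p := by
      rw [hx, orderOf_pow_orderOf_div (orderOf_pos z).ne' hd]
    obtain ⟨hxU, hxc⟩ := Subgroup.pow_mem _ hz (orderOf z / p)
    refine ⟨Subgroup.zpowers (x : Ω), ?_, Subgroup.zpowers_le.2 hxU, fun t ht => ⟨hTS ht, ?_⟩⟩
    · rw [Nat.card_zpowers, Subgroup.orderOf_coe, hox]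
    · refine Subgroup.mem_centralizer_iff.2 fun y hy => ?_
      obtain ⟨n, rfl⟩ := hy
      have := Subgroup.mem_center_iff.1 (Subgroup.zpow_mem _ hxc n) ⟨t, ht⟩
      exact (congrArg Subtype.val this).symm
  have hXS : X ≤ S := hXU.trans hU.1
  obtain ⟨X', hX', hX'n⟩ := exists_isFullyNormalized_conj F hXS
  obtain ⟨χ, hχ, hχN, hχX⟩ := exists_map_to_fullyNormalized hS hF hX'n hX'
  have hX'card : Nat.card X' = p := by
    rw [← hχX, card_imgSub (F.injective_of_mem hχ) (le_normalizerIn hXS), hXcard]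
  have hTN : T ≤ normalizerIn S X :=
    hXc.trans (inf_le_inf_left _ (Subgroup.centralizer_le_normalizer _))
  set θ : T →* Ω := χ.comp (Subgroup.inclusion hTN) with hθ
  have hθF : θ ∈ F.Hom T := restrict_mem hχ hTN
  have hθi : Function.Injective θ := F.injective_of_mem hθF
  set U' := imgSub θ U with hU'
  haveI : Finite U := finite_of_le hU.1
  have hU'S : U' ≤ S := fun y hy => by
    obtain ⟨x, -, rfl⟩ := mem_imgSub.1 hy
    exact val_mem hθF x
  haveI : Finite U' := finite_of_le hU'S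
  have hmap : ∀ t, θ t ∈ normalizerIn S U' := fun t => by
    refine ⟨val_mem hθF t, Subgroup.mem_normalizer_fintype fun y hy => ?_⟩
    obtain ⟨u, hu, rfl⟩ := mem_imgSub.1 hy
    rw [← map_inv, ← map_mul, ← map_mul]
    exact apply_mem_imgSub θ _ ((Subgroup.mem_normalizer_iff.1 t.2.2 _).1 hu)
  have hconj : F.IsConj U U' := ⟨_, restrict_mem hθF hUT, range_restrict θ hUT⟩
  haveI : Finite (normalizerIn S U') := finite_normalizerIn U'
  haveI : Finite (S ⊓ Subgroup.normalizer (U' : Set Ω) : Subgroup Ω) := finite_normalizerIn U'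
  have hrange : θ.range = normalizerIn S U' := by
    refine Subgroup.eq_of_le_of_card_ge (by rintro _ ⟨t, rfl⟩; exact hmap t) ?_
    rw [← Nat.card_congr (MonoidHom.ofInjective hθi).toEquiv]
    exact hU.2 U' hconj
  have hU'n : F.IsFullyNormalized U' := by
    refine ⟨hU'S, fun Q hQ => (hU.2 Q (isConj_trans hconj hQ)).trans ?_⟩
    rw [← hrange, ← Nat.card_congr (MonoidHom.ofInjective hθi).toEquiv]
  have hX'U : X' ≤ U' := fun y hy => by
    obtain ⟨x, hx, rfl⟩ := mem_imgSub.1 (hχX.ge hy)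
    exact mem_imgSub.2 ⟨⟨x, hUT (hXU hx)⟩, hXU hx, rfl⟩
  have hT' : normalizerIn S U' ≤ centralizerIn S X' := by
    rw [← hrange]
    rintro _ ⟨t, rfl⟩
    refine ⟨val_mem hθF t, Subgroup.mem_centralizer_iff.2 fun y hy => ?_⟩
    obtain ⟨x, hx, rfl⟩ := mem_imgSub.1 (hχX.ge hy)
    show χ x * χ _ = χ _ * χ x
    rw [← map_mul, ← map_mul]
    exact congrArg χ (Subtype.ext (Subgroup.mem_centralizer_iff.1 (hXc t.2).2 x hx))
  obtain ⟨C, hC⟩ := exists_centralizerSystem F hX'n.1
  obtain ⟨E', hE'⟩ := exists_normalizerSystem F hU'S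
  have hE'c := isConstrained_normalizerSystem_of_central hS hF hU'n hX'U hT' hC
    (hc X' hX'card hX'n C hC) hE'
  obtain ⟨E'', hfac⟩ := exists_factorSystem θ E stronglyClosed_bot
    (fun t => by rw [Subgroup.mem_bot]; exact ⟨fun h => congrArg Subtype.val
      (hθi (h.trans (map_one θ).symm)), fun h => by
        rw [show t = 1 from Subtype.ext h, map_one]⟩) hrange
  have hEF : E.IsSubsystemOf F := fun P φ h => ((hE P).le h).1
  have hEs := isSaturated_normalizerSystem hS hF hU hE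
  have hUn : E.IsNormal U := isNormal_in_normalizerSystem hU.1 hE
  have hF'' : E''.IsSubsystemOf F := by
    intro P φ' hφ'
    obtain ⟨hP, φ, hφ, hPT, hv, hmem, hi⟩ := (hfac.2.2.2 _ _).1 hφ'
    obtain ⟨f, hf, hfv⟩ := exists_transport hθF (hEF _ hφ) hPT hv
    have hP' : P ≤ imgSub θ (preimageAlong θ P) := fun y hy => by
      obtain ⟨x, hx⟩ := exists_preimage θ (hP.trans hrange.ge) ⟨y, hy⟩
      exact mem_imgSub.2 ⟨⟨x, hPT x.2⟩, x.2, hx⟩
    refine mem_of_restrict hf hP' fun y => ?_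
    obtain ⟨x, hx⟩ := exists_preimage θ (hP.trans hrange.ge) y
    have hy : y = ⟨θ ⟨x, hPT x.2⟩, hmem x⟩ := Subtype.ext hx.symm
    rw [hy, hi x]
    exact (hfv x _).symm
  have hn'' : E''.IsNormal U' := by
    refine ⟨fun y hy => ?_, fun P φ' hφ' => ?_⟩
    · obtain ⟨x, -, rfl⟩ := mem_imgSub.1 hy
      exact hmap x
    obtain ⟨hP, φ, hφ, hPT, hv, hmem, hi⟩ := (hfac.2.2.2 _ _).1 hφ'
    obtain ⟨ψ, hψ, hψP, hψU⟩ := hUn.2 _ φ hφ
    obtain ⟨ψ', hψ', hψv⟩ := Iso.exists_map hfac hψ
    have hle : P ⊔ U' ≤ imageAlong θ (preimageAlong θ P ⊔ U) := by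
      refine sup_le ?_ ?_
      · exact (Iso.image_preimage hfac hP).ge.trans
          (Subgroup.map_mono (fun x hx => Subgroup.mem_sup_left hx))
      · exact Subgroup.map_mono (fun x hx => Subgroup.mem_sup_right hx)
    haveI : Finite U' := finite_of_le hU'S
    refine ⟨_, restrict_mem hψ' hle, fun y => ?_,
      imgSub_eq_of_le_of_card (restrict_mem hψ' hle) le_sup_right (fun y hy => ?_) le_rfl⟩
    · obtain ⟨x, hx⟩ := exists_preimage θ (hP.trans hrange.ge) y
      have hy : y = ⟨θ ⟨x, hPT x.2⟩, hmem x⟩ := Subtype.ext hx.symm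
      rw [hy, hi x]
      refine (hψv (Subgroup.inclusion le_sup_left x)
        ⟨⟨x, hPT x.2⟩, Subgroup.mem_sup_left x.2, rfl⟩).trans ?_
      exact congrArg θ (Subtype.ext (hψP x))
    · obtain ⟨u, hu, rfl⟩ := mem_imgSub.1 hy
      obtain ⟨x, hx, hxu⟩ := mem_imgSub.1 hu
      refine mem_imgSub.2 ⟨⟨ψ ⟨x, Subgroup.mem_sup_right hx⟩, val_mem hψ _⟩,
        hψU.le (apply_mem_imgSub ψ ⟨x, Subgroup.mem_sup_right hx⟩ hx), ?_⟩
      refine (hψv ⟨x, Subgroup.mem_sup_right hx⟩ ⟨x, Subgroup.mem_sup_right hx, rfl⟩).symm.trans ?_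
      exact congrArg ψ' (Subtype.ext hxu)
  have hsub : E''.IsSubsystemOf E' := by
    intro P φ' hφ'
    rw [hE' P]
    obtain ⟨ψ, hψ, h1, h2⟩ := hn''.2 P φ' hφ'
    exact ⟨hF'' _ hφ', src_le hφ', val_mem hφ', ψ, hF'' _ hψ, h1, h2⟩
  have hE''s : E''.IsSaturated p := Iso.isSaturated hfac hTp hEs
  have hE''c := isConstrained_of_stronglyClosed (hS.to_le inf_le_left) hE'c
    ⟨le_rfl, fun R _ φ hφ x => val_mem hφ x⟩ E'' hE''s hsub
  exact isConstrained_of_iso (hS.to_le inf_le_left) (Iso.symm hfac) hE''c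

end Cfsg.Agent.Lib.Fusion.LocalConstrained
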