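/-
Normal subsystems of the fusion system of a group with `C_G(O_p(G)) ≤ O_p(G)` come from exactly
one normal subgroup.
-/
import Cfsg.Agent.S5119
import Cfsg.Agent.Lib.Fusion.PPowerIndex
import Cfsg.Agent.Lib.Fusion.GroupFusion
import Cfsg.Agent.Lib.Fusion87.NormalSubgroup
import Cfsg.Agent.Lib.PSolvable.Core
import Cfsg.Agent.Lib.Transfer.Criteria

set_option autoImplicit false

namespace Cfsg.Agent.Lib.Fusion

open Cfsg Cfsg.FusionSystem
open scoped Pointwise

/-- An element of order prime to `p` that moves `x` by an element of `p`-power order commuting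
with it fixes `x`. -/
theorem eq_one_of_coprime_shift {G : Type*} [Group G] {p : ℕ} [Fact p.Prime] {g x r : G}
    (h : g * x * g⁻¹ = r * x) (hgr : Commute g r) (hg : (orderOf g).Coprime p)
    (hr : ∃ k, r ^ p ^ k = 1) : r = 1 := by
  have hit : ∀ i : ℕ, g ^ i * x * (g ^ i)⁻¹ = r ^ i * x := by
    intro i
    induction i with
    | zero => simp
    | succ i ih =>
      calc g ^ (i + 1) * x * (g ^ (i + 1))⁻¹ = g * (g ^ i * x * (g ^ i)⁻¹) * g⁻¹ := by
            rw [pow_succ']; group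
        _ = g * r ^ i * x * g⁻¹ := by rw [ih]; group
        _ = r ^ i * g * x * g⁻¹ := by rw [(hgr.pow_right i).eq]
        _ = r ^ i * (g * x * g⁻¹) := by group
        _ = r ^ (i + 1) * x := by rw [h, pow_succ, mul_assoc]
  have h1 := hit (orderOf g)
  rw [pow_orderOf_eq_one, one_mul, inv_one, mul_one, eq_comm, mul_eq_right] at h1
  obtain ⟨k, hk⟩ := hr
  rw [← orderOf_eq_one_iff]
  exact Nat.eq_one_of_dvd_coprimes (hg.pow_right k) (orderOf_dvd_of_pow_eq_one h1)
    (orderOf_dvd_of_pow_eq_one hk)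

/-- An automorphism of `p`-power order is, up to a map of the system, induced by an element of
the underlying `p`-group. -/
theorem exists_conj_pAut {Ω : Type*} [Group Ω] {T : Subgroup Ω} {D : FusionSystem T} {p : ℕ}
    [Fact p.Prime] [Finite T] (hT : IsPGroup p T) (hD : D.IsSaturated p) {P : Subgroup Ω}
    (hP : P ≤ T) {α : MulAut P} (hα : α ∈ D.autGroup P) (hk : ∃ k, α ^ p ^ k = 1) :
    ∃ ψ ∈ D.Hom P, ∃ t ∈ T, ∀ x : P, ψ (α x) = t * ψ x * t⁻¹ := by
  obtain ⟨k, hk⟩ := hk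
  obtain ⟨Q, ⟨φ, hφ, hr⟩, hQ⟩ := exists_isFullyNormalized_conj D hP
  haveI := finite_mulAut hQ.1
  set e := isoOnto φ (D.injective_of_mem hφ) hr with he
  have hem : Q.subtype.comp e.toMonoidHom ∈ D.Hom P := mem_congr hφ fun x => rfl
  have hb := congr_mem_autGroup e hem hα
  obtain ⟨-, hsyl⟩ := isFullyAutomized_iff.1 (isFullyAutomized_of_isFullyNormalized hT hD hQ)
  have hk' : (MulAut.congr e α) ^ p ^ k = 1 :=
    (map_pow (MulAut.congr e) α (p ^ k)).symm.trans
      ((congrArg (MulAut.congr e) hk).trans (map_one (MulAut.congr e)))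
  obtain ⟨i, -, hi⟩ := (Nat.dvd_prime_pow Fact.out).1 (orderOf_dvd_of_pow_eq_one hk')
  obtain ⟨δ, hδ, hle⟩ := hsyl.exists_conj_le (IsPGroup.of_card (n := i)
    ((Nat.card_zpowers _).trans hi)) (Subgroup.zpowers_le.2 hb)
  obtain ⟨s, hs, hsx⟩ := mem_autInducedBy.1 (hle ⟨_, Subgroup.mem_zpowers _, rfl⟩)
  obtain ⟨ψ, hψ, hψx⟩ := exists_comp hem (autGroup_hom_mem hQ.1 hδ) fun x => (e x).2
  have hψe : ∀ x, ψ x = (δ (e x) : Ω) := fun x => hψx x
  refine ⟨ψ, hψ, s, hs, fun x => ?_⟩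
  have h := hsx (δ (e x))
  rw [hψe, hψe, ← h]
  show _ = (δ ((MulAut.congr e α) (δ⁻¹ (δ (e x)))) : Ω)
  rw [MulAut.inv_apply_self]
  exact congrArg (fun y => (δ (e (α y)) : Ω)) (e.symm_apply_apply x).symm

universe u

variable {G : Type u} [Group G] [Finite G] {p : ℕ} [Fact p.Prime] {S : Sylow p G} {T : Subgroup G}
  {E : FusionSystem T}

/-- The elements acting trivially on `O_p(G)` modulo a normal subgroup `R`. -/
def actTrivialSub (p : ℕ) (R : Subgroup G) [R.Normal] : Subgroup G :=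
  (Subgroup.centralizer
    (((pCore p G).map (QuotientGroup.mk' R) : Subgroup (G ⧸ R)) : Set (G ⧸ R))).comap
      (QuotientGroup.mk' R)

omit [Finite G] [Fact p.Prime] in
theorem mem_actTrivialSub {R : Subgroup G} [R.Normal] {g : G} :
    g ∈ actTrivialSub p R ↔ ∀ x ∈ pCore p G, g * x * g⁻¹ * x⁻¹ ∈ R := by
  simp only [actTrivialSub, Subgroup.mem_comap, Subgroup.mem_centralizer_iff, Subgroup.coe_map,
    Set.forall_mem_image, SetLike.mem_coe]
  refine forall₂_congr fun x _ => ?_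
  rw [← QuotientGroup.eq_one_iff]
  show _ ↔ QuotientGroup.mk' R (g * x * g⁻¹ * x⁻¹) = 1
  rw [map_mul, map_mul, map_mul, map_inv, map_inv, mul_inv_eq_one, mul_inv_eq_iff_eq_mul,
    eq_comm]

theorem stronglyClosed_conjElt (hT : (groupFusionSystem (S : Subgroup G)).StronglyClosed T) {t : G}
    (ht : t ∈ T) {g : G} (hg : g * t * g⁻¹ ∈ (S : Subgroup G)) : g * t * g⁻¹ ∈ T := by
  have hle : Subgroup.zpowers t ≤ T := Subgroup.zpowers_le.2 ht
  refine hT.2 _ hle (conjHom (Subgroup.zpowers t) g) ⟨hle.trans hT.1, ?_, g, fun _ => rfl⟩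
    ⟨t, Subgroup.mem_zpowers t⟩
  rintro ⟨x, hx⟩
  obtain ⟨n, rfl⟩ := Subgroup.mem_zpowers_iff.1 hx
  show g * t ^ n * g⁻¹ ∈ (S : Subgroup G)
  rw [← conj_zpow]
  exact Subgroup.zpow_mem _ hg n

/-- Normal subsystems of a group whose `p`-core is self-centralizing are fusion systems of
uniquely determined normal subgroups. -/
theorem exists_unique_normal_subgroup
    (hG : Subgroup.centralizer ((pCore p G : Subgroup G) : Set G) ≤ pCore p G)
    (hTS : T ≤ (S : Subgroup G))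
    (hE : E.IsNormalIn (groupFusionSystem (S : Subgroup G)) p) :
    ∃ H : Subgroup G, (∃ hTH : T ≤ H, H.Normal ∧
      (∃ R : Sylow p H, (R : Subgroup H) = T.subgroupOf H) ∧
        ∀ P : Subgroup G, E.Hom P = (fusionSystemOfSubgroup H T hTH).Hom P) ∧
      ∀ H' : Subgroup G, (∃ hTH' : T ≤ H', H'.Normal ∧
        (∃ R : Sylow p H', (R : Subgroup H') = T.subgroupOf H') ∧
          ∀ P : Subgroup G, E.Hom P = (fusionSystemOfSubgroup H' T hTH').Hom P) → H' = H := by
  classical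
  obtain ⟨⟨hEs, hFs, hEinv⟩, hext⟩ := hE
  have hEF := hEinv.1
  have hTc := hEinv.2.1
  set F := groupFusionSystem (S : Subgroup G) with hF
  have hSp : IsPGroup p (S : Subgroup G) := S.2
  have hTp : IsPGroup p T := hSp.to_le hTS
  have hstr : StronglyInvariant E F :=
    (Cfsg.Agent.S5119.result p hSp F hFs E hEF hTc).1 hEinv
  have hTnorm : ∀ s ∈ (S : Subgroup G), ∀ t ∈ T, s * t * s⁻¹ ∈ T := fun s hs t ht =>
    stronglyClosed_conjElt hTc ht (mul_mem (mul_mem hs (hTS ht)) (Subgroup.inv_mem _ hs))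
  haveI hQn : (pCore p G).Normal := pCore_normal p G
  have hQS : pCore p G ≤ (S : Subgroup G) := PSolvable.pCore_le_sylow S
  -- `R = Q ∩ T`
  set R := pCore p G ⊓ T with hR
  have hRT : R ≤ T := inf_le_right
  have hRS : R ≤ (S : Subgroup G) := hRT.trans hTS
  haveI hRn : R.Normal := ⟨fun x hx g => by
    have h1 : g * x * g⁻¹ ∈ pCore p G := hQn.conj_mem x hx.1 g
    exact ⟨h1, stronglyClosed_conjElt hTc hx.2 (hQS h1)⟩⟩
  set K := actTrivialSub p R with hK
  haveI hKn : K.Normal :=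
    haveI : ((pCore p G).map (QuotientGroup.mk' R)).Normal :=
      hQn.map _ (QuotientGroup.mk'_surjective R)
    Subgroup.Normal.comap inferInstance _
  have hTK : T ≤ K := fun t ht => mem_actTrivialSub.2 fun x hx =>
    ⟨mul_mem (hQn.conj_mem x hx t) (Subgroup.inv_mem _ hx), by
      have e : t * x * t⁻¹ * x⁻¹ = t * (x * t⁻¹ * x⁻¹) := by group
      rw [e]
      exact mul_mem ht (hTnorm x (hQS hx) t⁻¹ (Subgroup.inv_mem _ ht))⟩
  set N := K ⊓ Subgroup.centralizer (R : Set G) with hN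
  have hNQ : N ≤ pCore p G := by
    haveI : N.Normal := Subgroup.normal_inf_normal _ _
    refine PSolvable.le_pCore fun g => ?_
    obtain ⟨k, hk⟩ := Transfer.exists_pow_coprime (p := p) (g : G)
    refine ⟨k, Subtype.ext ?_⟩
    set g' := (g : G) ^ p ^ k
    have hg' : g' ∈ N := pow_mem g.2 _
    have hcQ : g' ∈ Subgroup.centralizer ((pCore p G : Subgroup G) : Set G) := by
      intro x hx
      have hr := mem_actTrivialSub.1 hg'.1 x hx
      have h1 := eq_one_of_coprime_shift (g := g') (x := x) (r := g' * x * g'⁻¹ * x⁻¹)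
        (by group) (hg'.2 _ hr).symm hk (by
          obtain ⟨j, hj⟩ := hSp ⟨_, hRS hr⟩
          exact ⟨j, congrArg Subtype.val hj⟩)
      rw [mul_inv_eq_one, mul_inv_eq_iff_eq_mul] at h1
      exact h1.symm
    have hgQ := hQS (hG hcQ)
    show g' = 1
    obtain ⟨j, hj⟩ := hSp ⟨g', hgQ⟩
    rw [← orderOf_eq_one_iff]
    exact Nat.eq_one_of_dvd_coprimes (hk.pow_right j) dvd_rfl
      (orderOf_dvd_of_pow_eq_one (congrArg Subtype.val hj))
  -- the elements of `K` inducing automorphisms of `E` on `R`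
  have hconjR : ∀ (g : G), ∀ x : R, g * (x : G) * g⁻¹ ∈ R := fun g x => hRn.conj_mem x x.2 g
  let actR : G →* MulAut R := MulAut.conjNormal
  set Hp := K ⊓ (E.autGroup R).comap actR with hHp
  haveI hHpn : Hp.Normal := by
    refine ⟨fun h hh g => ⟨hKn.conj_mem h hh.1 g, ?_⟩⟩
    obtain ⟨χ, hχ, hχx⟩ := hstr R R le_rfl hRT (autHom (actR h))
      (autGroup_hom_mem hRT hh.2) (fun x => (actR h x).2) (conjHom R g)
      ⟨hRS, fun x => hRS (hconjR g x), g, fun _ => rfl⟩
    have hr : imgSub (conjHom R g) R = R := by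
      rw [imgSub_self, range_eq_conjSub (fun x : R => conjHom_apply R g x)]
      exact conjSub_eq_self_iff.2 (by rw [Subgroup.normalizer_eq_top]; exact Subgroup.mem_top g)
    refine (mem_autGroup hRT).2 (mem_of_restrict hχ hr.ge fun y => ?_)
    have hy : conjHom R g (Subgroup.inclusion le_rfl (actR g⁻¹ y)) = (y : G) := by
      show g * (g⁻¹ * (y : G) * g⁻¹⁻¹) * g⁻¹ = (y : G)
      group
    refine Eq.trans ?_ ((congrArg χ (Subtype.ext hy.symm)).trans
      (hχx (actR g⁻¹ y) (hy.symm ▸ hr.ge y.2))).symm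
    show g * h * g⁻¹ * (y : G) * (g * h * g⁻¹)⁻¹ = g * (h * (g⁻¹ * (y : G) * g⁻¹⁻¹) * h⁻¹) * g⁻¹
    group
  have hTHp : T ≤ Hp := fun t ht => ⟨hTK ht, (mem_autGroup hRT).2
    (mem_of_conj hRT ht fun x => rfl)⟩
  -- `Hp ∩ S = T N`
  have hRfn : E.IsFullyNormalized R := by
    have hTN : normalizerIn T R = T := inf_eq_left.2 fun t ht => by
      rw [Subgroup.normalizer_eq_top]; exact Subgroup.mem_top t
    refine ⟨hRT, fun Q hQ => ?_⟩
    rw [hTN]
    exact Subgroup.card_le_of_le inf_le_left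
  have hAS : ∀ s ∈ Hp ⊓ (S : Subgroup G), ∃ t ∈ T, ∃ n ∈ N, s = t * n := by
    intro s hs
    haveI := finite_mulAut (S := T) hRT
    obtain ⟨-, hsyl⟩ := isFullyAutomized_iff.1 (isFullyAutomized_of_isFullyNormalized hTp hEs hRfn)
    have heq := hsyl.eq_of_le (L := autInducedBy (S : Subgroup G) R ⊓ E.autGroup R)
      ((isPGroup_autInducedBy hSp).to_le inf_le_left) inf_le_right
      (le_inf (autInducedBy_mono hTS) hsyl.1)
    have h1 : actR s ∈ autInducedBy T R := heq.ge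
      ⟨mem_autInducedBy.2 ⟨s, hs.2, fun x => rfl⟩, hs.1.2⟩
    obtain ⟨t, ht, htx⟩ := mem_autInducedBy.1 h1
    refine ⟨t, ht, t⁻¹ * s, ⟨mul_mem (Subgroup.inv_mem _ (hTK ht)) hs.1.1, fun x hx => ?_⟩, by group⟩
    have h2 : s * x * s⁻¹ = t * x * t⁻¹ := htx ⟨x, hx⟩
    calc x * (t⁻¹ * s) = t⁻¹ * (t * x * t⁻¹) * s := by group
      _ = t⁻¹ * s * x := by rw [← h2]; group
  -- the Sylow subgroup of `Hp` and the focal subgroup
  set A := (S : Subgroup G) ⊓ Hp with hA
  have hAsyl : IsSylowIn p A Hp := Fusion87.isSylowIn_inf_normal S Hp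
  set L := (pResidual p Hp).map Hp.subtype with hL
  haveI hLn : L.Normal :=
    haveI := Transfer.pResidual_characteristic (G := Hp) (p := p)
    ConjAct.normal_of_characteristic_of_normal
  have hLHp : L ≤ Hp := Subgroup.map_subtype_le _
  have hLS : ∀ z ∈ L, z ∈ (S : Subgroup G) → z ∈ T := by
    rintro _ ⟨z, hz, rfl⟩ hzS
    have h1 := Transfer.pResidual_inf_le_focalSubgroup hAsyl.toSylow
      ⟨hz, show z ∈ A.subgroupOf Hp from Subgroup.mem_subgroupOf.2 ⟨hzS, z.2⟩⟩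
    rw [Subgroup.focalSubgroup_def] at h1
    refine (Subgroup.closure_le (T.subgroupOf Hp)).2 ?_ h1
    rintro w ⟨hwA, x, hxA, v, rfl⟩
    rw [IsSylowIn.coe_toSylow, Subgroup.mem_subgroupOf] at hwA hxA
    refine Subgroup.mem_subgroupOf.2 ?_
    push_cast [commutatorElement_def] at hwA ⊢
    obtain ⟨t₀, ht₀, n₀, hn₀, hx⟩ := hAS ((x : G)⁻¹) ⟨Subgroup.inv_mem _ hxA.2, Subgroup.inv_mem _ hxA.1⟩
    set r := (v : G) * n₀ * (v : G)⁻¹ * n₀⁻¹ with hr
    have hrT : r ∈ T := (mem_actTrivialSub.1 v.2.1 n₀ (hNQ hn₀)).2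
    set y := (v : G) * (x : G)⁻¹ * (v : G)⁻¹ with hy
    have hyS : y ∈ (S : Subgroup G) := by
      have e : y = (x : G)⁻¹ * ((x : G) * v * (x : G)⁻¹ * (v : G)⁻¹) := by rw [hy]; group
      rw [e]
      exact mul_mem (Subgroup.inv_mem _ hxA.1) hwA.1
    have hn₀S : n₀ ∈ (S : Subgroup G) := hQS (hNQ hn₀)
    have hvT : (v : G) * t₀ * (v : G)⁻¹ ∈ T := by
      have e : (v : G) * t₀ * (v : G)⁻¹ = y * n₀⁻¹ * r⁻¹ := by
        rw [hy, hr, hx]; group
      refine stronglyClosed_conjElt hTc ht₀ ?_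
      rw [e]
      exact mul_mem (mul_mem hyS (Subgroup.inv_mem _ hn₀S)) (Subgroup.inv_mem _ (hTS hrT))
    have e : (x : G) * v * (x : G)⁻¹ * (v : G)⁻¹ =
        n₀⁻¹ * (t₀⁻¹ * ((v : G) * t₀ * (v : G)⁻¹) * r) * n₀ := by
      have ex : (x : G) = n₀⁻¹ * t₀⁻¹ := by rw [← inv_inv (x : G), hx, mul_inv_rev]
      calc (x : G) * v * (x : G)⁻¹ * (v : G)⁻¹ = (x : G) * y := by rw [hy]; group
        _ = _ := by rw [hy, hr, hx, ex]; group
    rw [e]
    have h2 := hTnorm n₀⁻¹ (Subgroup.inv_mem _ hn₀S) _ (mul_mem (mul_mem (Subgroup.inv_mem _ ht₀) hvT) hrT)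
    rwa [inv_inv] at h2
  -- the normal subgroup
  set H := T ⊔ L with hH
  have hHHp : H ≤ Hp := sup_le hTHp hLHp
  have hnormH : ∀ g : G, (∀ t ∈ T, g * t * g⁻¹ ∈ H) → ∀ z ∈ H, g * z * g⁻¹ ∈ H := by
    intro g hg z hz
    have hle : H ≤ H.comap (MulAut.conj g).toMonoidHom :=
      sup_le hg fun l hl => Subgroup.mem_sup_right (hLn.conj_mem l hl g)
    exact hle hz
  have hsurjA : Hp = L ⊔ A := by
    have h1 := congrArg (Subgroup.map Hp.subtype)
      (Transfer.pResidual_sup_sylow hAsyl.toSylow)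
    rw [Subgroup.map_sup, IsSylowIn.coe_toSylow, Subgroup.subgroupOf_map_subtype,
      inf_eq_left.2 hAsyl.1, ← MonoidHom.range_eq_map, Subgroup.range_subtype] at h1
    exact h1.symm
  have hnorm₁ : ∀ h ∈ Hp, ∀ z ∈ H, h * z * h⁻¹ ∈ H := by
    have hle : Hp ≤ Subgroup.normalizer (H : Set G) := by
      rw [hsurjA]
      refine sup_le ((le_sup_right : L ≤ H).trans Subgroup.le_normalizer) fun s hs => ?_
      have hboth : ∀ u ∈ (S : Subgroup G), ∀ z ∈ H, u * z * u⁻¹ ∈ H := fun u hu =>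
        hnormH u fun t ht => Subgroup.mem_sup_left (hTnorm u hu t ht)
      rw [Subgroup.mem_normalizer_iff]
      refine fun z => ⟨hboth s hs.1 z, fun h => ?_⟩
      have h1 := hboth s⁻¹ (Subgroup.inv_mem _ hs.1) _ h
      simpa [mul_assoc] using h1
    exact fun h hh z hz => (Subgroup.mem_normalizer_iff.1 (hle hh) z).1 hz
  haveI hHn : H.Normal := by
    refine ⟨fun z hz g => ?_⟩
    have htop := Sylow.normalizer_sup_eq_top hAsyl.toSylow
    rw [IsSylowIn.coe_toSylow, Subgroup.subgroupOf_map_subtype, inf_eq_left.2 hAsyl.1] at htop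
    obtain ⟨n, hn, h, hh, rfl⟩ :=
      Subgroup.mem_sup_of_normal_right.1 (htop.ge (Subgroup.mem_top g))
    have e : n * h * z * (n * h)⁻¹ = n * (h * z * h⁻¹) * n⁻¹ := by group
    rw [e]
    refine hnormH n (fun t ht => ?_) _ (hnorm₁ h hh z hz)
    exact Subgroup.mem_sup_left (stronglyClosed_conjElt hTc ht
      ((Subgroup.mem_normalizer_iff.1 hn t).1 ⟨hTS ht, hTHp ht⟩).1)
  have hHS : (S : Subgroup G) ⊓ H = T := by
    refine le_antisymm (fun z hz => ?_) (le_inf hTS le_sup_left)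
    obtain ⟨t, ht, l, hl, rfl⟩ := Subgroup.mem_sup_of_normal_right.1 hz.2
    refine mul_mem ht (hLS l hl ?_)
    have e : l = t⁻¹ * (t * l) := by group
    rw [e]
    exact mul_mem (Subgroup.inv_mem _ (hTS ht)) hz.1
  have hTH : T ≤ H := le_sup_left
  have hHsyl : IsSylowIn p T H := hHS ▸ Fusion87.isSylowIn_inf_normal S H
  set E' := fusionSystemOfSubgroup H T hTH with hE'
  have hE's : E'.IsSaturated p := isSaturated_fusionOfSubgroup hHsyl
  have hE'F : E'.IsSubsystemOf F := fun P φ ⟨hP, hv, g, _, hg⟩ =>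
    ⟨hP.trans hTS, fun x => hTS (hv x), g, hg⟩
  -- automorphisms of `T` in `E` are induced by `H`
  have haut : ∀ α ∈ E.autGroup T, ∃ h ∈ H, ∀ x : T, (α x : G) = h * x * h⁻¹ := by
    haveI := finite_mulAut (S := T) (le_refl T)
    let B : Subgroup (MulAut T) := autInducedBy H T
    suffices hle : E.autGroup T ≤ B from fun α hα => mem_autInducedBy.1 (hle hα)
    refine (autGroup_le_pResidual_sup hTp hEs (isFullyNormalized_top E)).trans
      (sup_le ?_ (autInducedBy_mono hTH))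
    rintro _ ⟨⟨a, ha⟩, har, rfl⟩
    refine (Subgroup.closure_le (B.comap (E.autGroup T).subtype)).2 ?_ har
    intro b hb
    set α := (b : MulAut T) with hα
    set U := T ⊔ centralizerIn (S : Subgroup G) T with hU
    obtain ⟨β, hβ, hβT, hβc⟩ := hext α b.2
    have hUS : U ≤ (S : Subgroup G) := sup_le hTS inf_le_left
    obtain ⟨-, -, g, hg⟩ := autGroup_hom_mem hUS hβ
    have hgT : ∀ x : T, (α x : G) = g * x * g⁻¹ := fun x =>
      (hβT x).symm.trans (hg (Subgroup.inclusion le_sup_left x))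
    -- `g` centralizes `Q ∩ U` modulo `R`
    have hgU : ∀ u ∈ pCore p G, u ∈ U → Commute (QuotientGroup.mk' R g)
        (QuotientGroup.mk' R u) := by
      intro u huQ huU
      have h1 : g * u * g⁻¹ * u⁻¹ ∈ R := by
        refine ⟨mul_mem (hQn.conj_mem u huQ g) (Subgroup.inv_mem _ huQ), ?_⟩
        have hle : centralizerIn (S : Subgroup G) T ≤ Subgroup.normalizer (T : Set G) :=
          inf_le_right.trans (centralizer_le_normalizer' T)
        have hu' : u ∈ (T : Set G) * (centralizerIn (S : Subgroup G) T : Set G) := by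
          rw [← Subgroup.coe_mul_of_right_le_normalizer_left T _ hle]
          exact huU
        obtain ⟨t, ht, c, hc, rfl⟩ := hu'
        have h2 := hβc ⟨c, Subgroup.mem_sup_right hc⟩ hc
        rw [show ((β ⟨c, Subgroup.mem_sup_right hc⟩ : U) : G) = g * c * g⁻¹ from hg ⟨c, Subgroup.mem_sup_right hc⟩] at h2
        have h2' : c⁻¹ * (g * c * g⁻¹) ∈ T := h2.1
        have h3 : g * t * g⁻¹ ∈ T := hgT ⟨t, ht⟩ ▸ SetLike.coe_mem _
        have e : g * (t * c) * g⁻¹ * (t * c)⁻¹ =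
            g * t * g⁻¹ * (c * (c⁻¹ * (g * c * g⁻¹)) * c⁻¹) * t⁻¹ := by group
        rw [e]
        exact mul_mem (mul_mem h3 (hTnorm c hc.1 _ h2')) (Subgroup.inv_mem _ ht)
      show QuotientGroup.mk' R g * QuotientGroup.mk' R u =
        QuotientGroup.mk' R u * QuotientGroup.mk' R g
      have h4 : QuotientGroup.mk' R (g * u * g⁻¹ * u⁻¹) = 1 := (QuotientGroup.eq_one_iff _).2 h1
      rwa [map_mul, map_mul, map_mul, map_inv, map_inv, mul_inv_eq_one,
        mul_inv_eq_iff_eq_mul] at h4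
    -- a power of `g` of order prime to `p` inducing `α`
    obtain ⟨k, hk⟩ := Transfer.exists_pow_coprime (p := p) g
    have hco : (orderOf α).Coprime (p ^ k) := by
      refine Nat.Coprime.pow_right k ?_
      rw [hα, Subgroup.orderOf_coe]; exact hb
    obtain ⟨m, hm⟩ := exists_pow_eq_self_of_coprime hco.symm
    have hpowT : ∀ (n : ℕ) (x : T), ((α ^ n) x : G) = g ^ n * x * (g ^ n)⁻¹ := by
      intro n
      induction n with
      | zero => intro x; simp
      | succ n ih =>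
        intro x
        rw [pow_succ', MulAut.mul_apply, hgT, ih, pow_succ']
        group
    set n := p ^ k * m with hn
    set g' := g ^ n with hg'
    have hαn : α ^ n = α := by rw [hn, pow_mul]; exact hm
    have hg'T : ∀ x : T, (α x : G) = g' * x * g'⁻¹ := fun x => by
      have := hpowT n x
      rwa [hαn] at this
    have hg'co : (orderOf g').Coprime p := by
      rw [hg', hn, pow_mul]
      exact Nat.Coprime.coprime_dvd_left (orderOf_pow_dvd m) hk
    -- `g'` moves `Q` inside `Q ∩ U`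
    have hmove : ∀ x ∈ pCore p G, g' * x * g'⁻¹ * x⁻¹ ∈ U := by
      intro x hx
      have hxS := hQS hx
      have hxN : x ∈ Subgroup.normalizer (T : Set G) := Subgroup.mem_normalizer_iff.2 fun z =>
        ⟨hTnorm x hxS z, fun h => by
          have h1 := hTnorm x⁻¹ (Subgroup.inv_mem _ hxS) _ h
          simpa [mul_assoc] using h1⟩
      set γ := conjAut T x hxN with hγ
      have hαE : α ∈ E.autGroup T := b.2
      have hmem : γ * α⁻¹ * γ⁻¹ ∈ E.autGroup T := by
        obtain ⟨χ, hχ, hχx⟩ := hstr T T le_rfl le_rfl (autHom α⁻¹)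
          (autGroup_hom_mem le_rfl (Subgroup.inv_mem _ hαE)) (fun z => (α⁻¹ z).2) (autHom γ)
          (autGroup_hom_mem hTS (autInducedBy_le_autGroup hTS
            (mem_autInducedBy.2 ⟨x, hxS, fun _ => rfl⟩)))
        have hr : imgSub (autHom γ) T = T := by rw [imgSub_self, range_autHom]
        refine (mem_autGroup le_rfl).2 (mem_of_restrict hχ hr.ge fun z => ?_)
        have hy : autHom γ (Subgroup.inclusion le_rfl (γ⁻¹ z)) = (z : G) :=
          congrArg Subtype.val (γ.apply_symm_apply z)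
        refine Eq.trans ?_ ((congrArg χ (Subtype.ext hy.symm)).trans
          (hχx (γ⁻¹ z) (hy.symm ▸ hr.ge z.2))).symm
        rfl
      have hd : g' * x * g'⁻¹ * x⁻¹ ∈ (S : Subgroup G) :=
        hQS (mul_mem (hQn.conj_mem x hx g') (Subgroup.inv_mem _ hx))
      have hcomm : α * (γ * α⁻¹ * γ⁻¹) ∈ autInducedBy (S : Subgroup G) T ⊓ E.autGroup T := by
        refine ⟨mem_autInducedBy.2 ⟨_, hd, fun z => ?_⟩, mul_mem hαE hmem⟩
        have hinv : ∀ w : T, ((α⁻¹ w : T) : G) = g'⁻¹ * w * g' := by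
          intro w
          have h := hg'T (α⁻¹ w)
          rw [MulAut.apply_inv_self] at h
          rw [h]; group
        have hγinv : ∀ w : T, ((γ⁻¹ w : T) : G) = x⁻¹ * w * x := by
          intro w
          have h : (w : G) = x * ((γ⁻¹ w : T) : G) * x⁻¹ := by
            conv_lhs => rw [← MulAut.apply_inv_self (M := T) γ w]
            rfl
          rw [h]; group
        show ((α (γ (α⁻¹ (γ⁻¹ z))) : T) : G) = _
        rw [hg'T, hγ, conjAut_apply, ← hγ, hinv, hγinv]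
        group
      haveI := finite_mulAut (S := T) (le_refl T)
      obtain ⟨-, hsyl⟩ := isFullyAutomized_iff.1
        (isFullyAutomized_of_isFullyNormalized hTp hEs (isFullyNormalized_top E))
      have heq := hsyl.eq_of_le (L := autInducedBy (S : Subgroup G) T ⊓ E.autGroup T)
        ((isPGroup_autInducedBy hSp).to_le inf_le_left) inf_le_right
        (le_inf (autInducedBy_mono hTS) hsyl.1)
      obtain ⟨t, ht, htz⟩ := mem_autInducedBy.1 (heq.ge hcomm)
      have hdt : t⁻¹ * (g' * x * g'⁻¹ * x⁻¹) ∈ centralizerIn (S : Subgroup G) T := by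
        refine ⟨mul_mem (Subgroup.inv_mem _ (hTS ht)) hd, fun z hz => ?_⟩
        obtain ⟨-, hδ⟩ : True ∧ (g' * x * g'⁻¹ * x⁻¹) * z * (g' * x * g'⁻¹ * x⁻¹)⁻¹ =
            t * z * t⁻¹ := by
          refine ⟨trivial, ?_⟩
          rw [← htz ⟨z, hz⟩]
          show _ = ((α (γ (α⁻¹ (γ⁻¹ ⟨z, hz⟩))) : T) : G)
          have hinv : ∀ w : T, ((α⁻¹ w : T) : G) = g'⁻¹ * w * g' := by
            intro w
            have h := hg'T (α⁻¹ w)
            rw [MulAut.apply_inv_self] at h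
            rw [h]; group
          have hγinv : ∀ w : T, ((γ⁻¹ w : T) : G) = x⁻¹ * w * x := by
            intro w
            have h : (w : G) = x * ((γ⁻¹ w : T) : G) * x⁻¹ := by
              conv_lhs => rw [← MulAut.apply_inv_self (M := T) γ w]
              rfl
            rw [h]; group
          rw [hg'T, hγ, conjAut_apply, ← hγ, hinv, hγinv]
          group
        calc z * (t⁻¹ * (g' * x * g'⁻¹ * x⁻¹)) = t⁻¹ * (t * z * t⁻¹) * (g' * x * g'⁻¹ * x⁻¹) := by
              group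
          _ = t⁻¹ * (g' * x * g'⁻¹ * x⁻¹) * z := by rw [← hδ]; group
      have e : g' * x * g'⁻¹ * x⁻¹ = t * (t⁻¹ * (g' * x * g'⁻¹ * x⁻¹)) := by group
      rw [e]
      exact mul_mem (Subgroup.mem_sup_left ht) (Subgroup.mem_sup_right hdt)
    have hg'K : g' ∈ K := mem_actTrivialSub.2 fun x hx => by
      set d := g' * x * g'⁻¹ * x⁻¹ with hd
      have hdQ : d ∈ pCore p G := mul_mem (hQn.conj_mem x hx g') (Subgroup.inv_mem _ hx)
      let π := QuotientGroup.mk' R
      have hcomm : Commute (π g') (π d) := by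
        rw [hg', map_pow]
        exact (hgU d hdQ (hmove x hx)).pow_left n
      have h1 := eq_one_of_coprime_shift (g := π g') (x := π x) (r := π d)
        (by rw [← map_inv, ← map_mul, ← map_mul, ← map_mul]; congr 1; rw [hd]; group) hcomm
        (Nat.Coprime.coprime_dvd_left (orderOf_map_dvd π g') hg'co) (by
          obtain ⟨j, hj⟩ := hSp ⟨d, hQS hdQ⟩
          exact ⟨j, by rw [← map_pow, show d ^ p ^ j = 1 from congrArg Subtype.val hj, map_one]⟩)
      exact (QuotientGroup.eq_one_iff d).1 h1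
    have hg'Hp : g' ∈ Hp := by
      refine ⟨hg'K, (mem_autGroup hRT).2 ?_⟩
      refine mem_congr (restrict_mem (autGroup_hom_mem le_rfl b.2) hRT) fun x => ?_
      exact (hg'T (Subgroup.inclusion hRT x)).symm
    refine mem_autInducedBy.2 ⟨g', Subgroup.mem_sup_right ?_, hg'T⟩
    exact Transfer.mem_map_pResidual_of_coprime hg'Hp hg'co
  -- `E ≤ F_T(H)`
  have hPAut : HasPAut E' E p := by
    intro P hP α hα hk
    obtain ⟨ψ, hψ, t, ht, hψt⟩ := exists_conj_pAut hTp hEs hP.1 hα hk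
    obtain ⟨-, -, g, hg⟩ := hEF P hψ
    refine ⟨hP.1, fun x => hP.1 (α x).2, g⁻¹ * t * g, ?_, fun x => ?_⟩
    · have h1 := hHn.conj_mem t (hTH ht) g⁻¹
      rwa [inv_inv] at h1
    · have h1 := hψt x
      rw [hg, hg] at h1
      show (α x : G) = _
      calc (α x : G) = g⁻¹ * (g * (α x : G) * g⁻¹) * g := by group
        _ = _ := by rw [h1]; group
  have hEE' : ∀ P, E.Hom P ⊆ E'.Hom P := by
    intro P φ hφ
    obtain ⟨a, ha, φ₀, hφ₀, hx⟩ := exists_decomp hTp hEs hPAut hφ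
    obtain ⟨h, hh, hhx⟩ := haut a ha
    obtain ⟨hPT, hv, g, hg, hgx⟩ := hφ₀
    refine ⟨hPT, val_mem hφ, h * g, mul_mem hh hg, fun x => ?_⟩
    refine (hx x (hv x)).trans ?_
    rw [hhx]
    show h * φ₀ x * h⁻¹ = _
    rw [hgx]
    group
  -- `F_T(H) ≤ E`
  have hPAut' : HasPAut E E' p := by
    intro P hP α hα hk
    obtain ⟨ψ, hψ, t, ht, hψt⟩ := exists_conj_pAut hTp hE's hP.1 hα hk
    have hQT : ψ.range ≤ T := range_le hψ
    have htN : ∀ y : ψ.range, t * (y : G) * t⁻¹ ∈ ψ.range := by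
      rintro ⟨_, x, rfl⟩
      exact ⟨α x, hψt x⟩
    obtain ⟨χ, hχ, hχx⟩ := hstr ψ.range ψ.range le_rfl hQT (conjHom ψ.range t)
      (E.conj_mem hQT ht) htN _ (rangeInv_mem (hE'F P hψ))
    have hr : imgSub (rangeInv ψ (F.injective_of_mem (hE'F P hψ))) ψ.range = P := by
      rw [imgSub_self, range_rangeInv]
    refine mem_of_restrict hχ hr.ge fun x => ?_
    have hy : rangeInv ψ (F.injective_of_mem (hE'F P hψ))
        (Subgroup.inclusion le_rfl ⟨ψ x, x, rfl⟩) = (x : G) := rangeInv_apply _ _ x _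
    refine Eq.trans ?_ ((congrArg χ (Subtype.ext hy.symm)).trans
      (hχx ⟨ψ x, x, rfl⟩ (hy.symm ▸ hr.ge x.2))).symm
    refine ((congrArg _ (Subtype.ext ?_)).trans (rangeInv_apply ψ _ (α x) ⟨_, rfl⟩)).symm
    exact (hψt x).symm
  have hE'E : ∀ P, E'.Hom P ⊆ E.Hom P := by
    intro P φ hφ
    obtain ⟨a, ha, φ₀, hφ₀, hx⟩ := exists_decomp hTp hE's hPAut' hφ
    suffices haE : a ∈ E.autGroup T by
      exact comp_of_apply hφ₀ (autGroup_hom_mem le_rfl haE) fun x =>
        ⟨val_mem hφ₀ x, hx x (val_mem hφ₀ x)⟩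
    obtain ⟨-, -, h, hh, hhx⟩ := autGroup_hom_mem le_rfl ha
    have hα : actR h ∈ E.autGroup R := (hHHp hh).2
    obtain ⟨ψ, hψ, hag⟩ := (isReceptive_of_isFullyNormalized hTp hEs hRfn).2 R
      (autHom (actR h)) (autGroup_hom_mem hRT hα) (range_autHom _)
    have hText : T ≤ extender T R (autHom (actR h)) := fun t ht => mem_extender.2
      ⟨ht, by rw [Subgroup.normalizer_eq_top]; exact Subgroup.mem_top t,
        (a ⟨t, ht⟩ : G), (a ⟨t, ht⟩).2, fun x hx' => by
          have hat : (a ⟨t, ht⟩ : G) = h * t * h⁻¹ := hhx ⟨t, ht⟩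
          show h * (t * (x : G) * t⁻¹) * h⁻¹ =
            (a ⟨t, ht⟩ : G) * (h * (x : G) * h⁻¹) * (a ⟨t, ht⟩ : G)⁻¹
          rw [hat]; group⟩
    have hψT := restrict_mem hψ hText
    obtain ⟨b, hb, hbx⟩ := exists_aut_of_hom hψT (val_mem hψT)
    obtain ⟨h', hh', hh'x⟩ := haut b hb
    have hz : h'⁻¹ * h ∈ T := by
      have hzH : h'⁻¹ * h ∈ H := mul_mem (Subgroup.inv_mem _ hh') hh
      rw [← hHS]
      refine ⟨hQS (hNQ ⟨(hHHp hzH).1, fun x hx' => ?_⟩), hzH⟩
      have h1 : h' * x * h'⁻¹ = h * x * h⁻¹ := by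
        rw [← hh'x ⟨x, hRT hx'⟩, hbx ⟨x, hRT hx'⟩]
        exact hag x hx' _
      calc x * (h'⁻¹ * h) = h'⁻¹ * (h' * x * h'⁻¹) * h := by group
        _ = h'⁻¹ * h * x := by rw [h1]; group
    have e : a = b * conjAut T (h'⁻¹ * h) (Subgroup.le_normalizer hz) := by
      refine MulEquiv.ext fun x => Subtype.ext ?_
      rw [MulAut.mul_apply, hh'x, conjAut_apply, show (a x : G) = h * x * h⁻¹ from hhx x]
      group
    rw [e]
    exact mul_mem hb (autInducedBy_le_autGroup le_rfl (mem_autInducedBy.2 ⟨_, hz, fun _ => rfl⟩))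
  refine ⟨H, ⟨hTH, hHn, ⟨hHsyl.toSylow, hHsyl.coe_toSylow⟩,
    fun P => Set.Subset.antisymm (hEE' P) (hE'E P)⟩, ?_⟩
  -- uniqueness
  rintro H' ⟨hTH', hH'n, ⟨R', hR'⟩, hEH'⟩
  have hH'syl : IsSylowIn p T H' := isSylowIn_of_sylow hTH' R' hR'
  have hH'S : (S : Subgroup G) ⊓ H' = T :=
    (hH'syl.eq_of_le (hSp.to_le inf_le_left) inf_le_right (le_inf hTS hTH')).symm
  have hH'Hp : H' ≤ Hp := by
    intro h hh
    refine ⟨mem_actTrivialSub.2 fun x hx => ?_, (mem_autGroup hRT).2 ?_⟩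
    · have h1 : h * x * h⁻¹ * x⁻¹ ∈ pCore p G := mul_mem (hQn.conj_mem x hx h) (Subgroup.inv_mem _ hx)
      refine ⟨h1, hH'S.le ⟨hQS h1, ?_⟩⟩
      have e : h * x * h⁻¹ * x⁻¹ = h * (x * h⁻¹ * x⁻¹) := by group
      rw [e]
      exact mul_mem hh (hH'n.conj_mem _ (Subgroup.inv_mem _ hh) x)
    · rw [hEH']
      exact ⟨hRT, fun x => hRT (actR h x).2, h, hh, fun x => rfl⟩
  refine le_antisymm ?_ (sup_le hTH' ?_)
  · have h1 := congrArg (Subgroup.map H'.subtype) (Transfer.pResidual_sup_sylow hH'syl.toSylow)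
    rw [Subgroup.map_sup, IsSylowIn.coe_toSylow, Subgroup.subgroupOf_map_subtype,
      inf_eq_left.2 hTH', ← MonoidHom.range_eq_map, Subgroup.range_subtype] at h1
    rw [← h1]
    refine sup_le ?_ hTH
    rintro _ ⟨z, hz, rfl⟩
    refine (Subgroup.closure_le (H.comap H'.subtype)).2 ?_ hz
    intro w hw
    exact Subgroup.mem_sup_right (Transfer.mem_map_pResidual_of_coprime (hH'Hp w.2)
      (by show (orderOf (w : H').1).Coprime p; rw [Subgroup.orderOf_coe]; exact hw))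
  · rintro _ ⟨z, hz, rfl⟩
    refine (Subgroup.closure_le (H'.comap Hp.subtype)).2 ?_ hz
    intro w hw
    have h1 := autGroup_hom_mem hRT w.2.2
    rw [hEH'] at h1
    obtain ⟨-, -, h, hh, hhx⟩ := h1
    have hn : h⁻¹ * (w : G) ∈ pCore p G := hNQ
      ⟨mul_mem (Subgroup.inv_mem _ (hH'Hp hh).1) w.2.1, fun x hx => by
        have h2 : (w : G) * x * (w : G)⁻¹ = h * x * h⁻¹ := hhx ⟨x, hx⟩
        calc x * (h⁻¹ * (w : G)) = h⁻¹ * (h * x * h⁻¹) * w := by group
          _ = h⁻¹ * w * x := by rw [← h2]; group⟩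
    show (w : G) ∈ H'
    rw [← QuotientGroup.eq_one_iff]
    obtain ⟨j, hj⟩ := hSp ⟨_, hQS hn⟩
    have h3 : (((w : G) : G ⧸ H')) ^ p ^ j = 1 := by
      have h4 : ((w : G) : G ⧸ H') = ((h⁻¹ * (w : G) : G) : G ⧸ H') := by
        rw [QuotientGroup.mk_mul, QuotientGroup.mk_inv, (QuotientGroup.eq_one_iff h).2 hh,
          inv_one, one_mul]
      rw [h4, ← QuotientGroup.mk_pow, show (h⁻¹ * (w : G)) ^ p ^ j = 1 from congrArg Subtype.val hj]
      rfl
    rw [← orderOf_eq_one_iff]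
    have hwco : (orderOf (w : G)).Coprime p := by rw [Subgroup.orderOf_coe]; exact hw
    exact Nat.eq_one_of_dvd_coprimes (hwco.pow_right j)
      (orderOf_map_dvd (QuotientGroup.mk' H') (w : G)) (orderOf_dvd_of_pow_eq_one h3)

end Cfsg.Agent.Lib.Fusion
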