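import Cfsg.Agent.Lib.Fusion87.Normal
import Cfsg.Agent.Lib.Fusion.Normal

/-!
A strongly closed subgroup that is abelian over a normal subgroup with `p`-group automorphisms is
normal.
-/

set_option autoImplicit false

namespace Cfsg.Agent.Lib.Fusion

open Cfsg Cfsg.FusionSystem
open scoped commutatorElement
open Cfsg.Agent.Lib.Fusion87 (stronglyClosed_apply stronglyClosed_le_normalizer' fix_of_step)

variable {Ω : Type*} [Group Ω] {S : Subgroup Ω} {F : FusionSystem S} {p : ℕ}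

theorem isNormal_of_abelian_over [Finite S] [Fact p.Prime] (hS : IsPGroup p S)
    (hF : F.IsSaturated p) {Q Q₁ : Subgroup Ω} (hQ : F.StronglyClosed Q)
    (hQ₁ : F.IsNormal Q₁) (hab : ⁅Q, Q⁆ ≤ Q₁) (hAut : IsPGroup p (F.autGroup Q₁)) :
    F.IsNormal Q := by
  refine Fusion87.isNormal_of_le_centric_radical hS hF hQ fun R _ hRc hRr => ?_
  have hQ₁R := Fusion87.le_centric_radical_of_isNormal hS hQ₁ hRc hRr
  have hRS := hRc.1
  have := finite_mulAut hRS
  have hQ₁sc := stronglyClosed_of_isNormal hQ₁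
  have := finite_of_le hQ₁.1
  have := finite_mulAut hQ₁.1
  refine Fusion87.le_of_normalizerIn_le hS hRS hQ.1 (stronglyClosed_le_normalizer' hQ)
    fun g hg hgN => ?_
  let K : Subgroup (F.autGroup R) :=
    { carrier := {a | (∀ x : R, ((a : MulAut R) x : Ω) * (x : Ω)⁻¹ ∈ Q) ∧
        ∀ x : R, (x : Ω) ∈ Q → ((a : MulAut R) x : Ω) * (x : Ω)⁻¹ ∈ Q₁}
      one_mem' := ⟨fun x => by simp, fun x _ => by simp⟩
      mul_mem' := by
        rintro a b ⟨ha, ha'⟩ ⟨hb, hb'⟩
        refine ⟨fun x => ?_, fun x hx => ?_⟩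
        · simpa [mul_assoc] using Q.mul_mem (ha ((b : MulAut R) x)) (hb x)
        · simpa [mul_assoc] using Q₁.mul_mem
            (ha' _ (stronglyClosed_apply hQ (autGroup_hom_mem hRS b.2) x hx)) (hb' x hx)
      inv_mem' := by
        rintro a ⟨ha, ha'⟩
        refine ⟨fun x => ?_, fun x hx => ?_⟩
        · have := Q.inv_mem (ha ((a : MulAut R).symm x))
          rw [MulEquiv.apply_symm_apply, mul_inv_rev, inv_inv] at this
          exact this
        · have hax : (((a⁻¹ : F.autGroup R) : MulAut R) x : Ω) ∈ Q :=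
            stronglyClosed_apply hQ (autGroup_hom_mem hRS (a⁻¹).2) x hx
          have := Q₁.inv_mem (ha' _ hax)
          rw [mul_inv_rev, inv_inv, InvMemClass.coe_inv, MulAut.apply_inv_self] at this
          exact this }
  have : K.Normal := by
    refine ⟨?_⟩
    rintro a ⟨ha, ha'⟩ b
    have key : ∀ T : Subgroup Ω, F.StronglyClosed T → ∀ x : R,
        ((a : MulAut R) ((b : MulAut R)⁻¹ x) : Ω) * (((b : MulAut R)⁻¹ x : R) : Ω)⁻¹ ∈ T →
        ((((b * a * b⁻¹ : F.autGroup R) : MulAut R) x : R) : Ω) * (x : Ω)⁻¹ ∈ T := by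
      intro T hT x hx
      have h := stronglyClosed_apply hT (autGroup_hom_mem hRS b.2)
        ((a : MulAut R) ((b : MulAut R)⁻¹ x) * ((b : MulAut R)⁻¹ x)⁻¹) hx
      rw [map_mul, map_inv, autHom_apply, autHom_apply, MulAut.apply_inv_self] at h
      exact h
    refine ⟨fun x => key Q hQ x (ha _), fun x hx => key _ hQ₁sc x (ha' _ ?_)⟩
    exact stronglyClosed_apply hQ (autGroup_hom_mem hRS (b⁻¹).2) x hx
  have hKp : IsPGroup p K := by
    refine Fusion87.isPGroup_of_coprime_trivial fun a ha => ?_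
    obtain ⟨⟨a, haK, haK'⟩, rfl⟩ : ∃ a' : K, a' = a := ⟨a, rfl⟩
    rw [← Subgroup.orderOf_coe, ← Subgroup.orderOf_coe] at ha
    have hpk : ∀ z : R, ∃ k, z ^ p ^ k = 1 := fun z => (hS.to_le hRS) z
    obtain ⟨α₁, hα₁, hα₁e⟩ := exists_aut_of_hom (restrict_mem (autGroup_hom_mem hRS a.2) hQ₁R)
      fun x => stronglyClosed_apply hQ₁sc (autGroup_hom_mem hRS a.2) _ x.2
    have hpow : ∀ (n : ℕ) (x : Q₁), ((α₁ ^ n) x : Ω) =
        (((a : MulAut R) ^ n) ⟨x, hQ₁R x.2⟩ : Ω) := by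
      intro n
      induction n with
      | zero => intro x; rfl
      | succ n ih =>
        intro x
        rw [pow_succ', pow_succ', MulAut.mul_apply, MulAut.mul_apply, hα₁e]
        exact congrArg (fun t => ((a : MulAut R) t : Ω)) (Subtype.ext (ih x))
    have hα₁1 : α₁ = 1 := by
      obtain ⟨k, hk⟩ := hAut ⟨α₁, hα₁⟩
      refine orderOf_eq_one_iff.1 (Nat.eq_one_of_dvd_coprimes (ha.pow_right k) ?_
        (orderOf_dvd_of_pow_eq_one (congrArg Subtype.val hk)))
      refine orderOf_dvd_of_pow_eq_one (MulEquiv.ext fun x => Subtype.ext ?_)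
      rw [hpow, pow_orderOf_eq_one]
      rfl
    have hfix₁ : ∀ x : R, (x : Ω) ∈ Q₁ → (a : MulAut R) x = x := fun x hx => by
      have h := hα₁e ⟨x, hx⟩
      rw [hα₁1] at h
      exact Subtype.ext h.symm
    have hstep : ∀ {T : Subgroup Ω}, F.StronglyClosed T → ∀ x : R,
        ((a : MulAut R) x : Ω) * (x : Ω)⁻¹ ∈ T → ((x⁻¹ * (a : MulAut R) x : R) : Ω) ∈ T := by
      intro T hT x h
      refine (Subgroup.mem_normalizer_iff.1 (stronglyClosed_le_normalizer' hT (hRS x.2)) _).2 ?_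
      show (x : Ω) * ((x : Ω)⁻¹ * ((a : MulAut R) x : Ω)) * (x : Ω)⁻¹ ∈ T
      rw [mul_inv_cancel_left]
      exact h
    have hfix₂ : ∀ x : R, (x : Ω) ∈ Q → (a : MulAut R) x = x := fun x hx =>
      fix_of_step _ ha x (hfix₁ _ (hstep hQ₁sc x (haK' x hx))) (hpk _)
    refine Subtype.ext (Subtype.ext (MulEquiv.ext fun x => ?_))
    exact fix_of_step _ ha x (hfix₂ _ (hstep hQ x (haK x))) (hpk _)
  refine Fusion87.mem_of_radical hRc hRr K hKp (hQ.1 hg) hgN fun a ha => ⟨fun x => ?_, fun x hx => ?_⟩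
  · rw [ha, conjAut_apply]
    have h1 : (x : Ω) * g⁻¹ * (x : Ω)⁻¹ ∈ Q :=
      (Subgroup.mem_normalizer_iff.1 (stronglyClosed_le_normalizer' hQ (hRS x.2)) _).1 (Q.inv_mem hg)
    simpa [mul_assoc] using Q.mul_mem hg h1
  · rw [ha, conjAut_apply]
    have := hab (Subgroup.commutator_mem_commutator hg hx)
    rwa [commutatorElement_def] at this

end Cfsg.Agent.Lib.Fusion
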