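import Mathlib
import Cfsg.Agent.Lib.PSolvable.CoprimeQuot

/-!
Glauberman's norm argument: a `p`-th power of a fixed point of a Sylow subgroup is central as soon
as it is centralised by the normalizer of the subgroup generated by the quadratic elements.
-/

set_option autoImplicit false

namespace Cfsg.Agent.Lib.QuadraticNorm

open Subgroup

variable {L : Type*} [Group L] {p : ℕ}

theorem orbit_power {V : Subgroup L} (hVc : IsMulCommutative V) {g : L} {b : V}
    (hconj : g * (b : L) * g⁻¹ = (b : L)) {v : V} (hv : g * (v : L) * g⁻¹ = (v : L) * b) (n : ℕ) :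
    g ^ n * (v : L) * (g ^ n)⁻¹ = (v : L) * (b : L) ^ n := by
  induction n with
  | zero => simp
  | succ n ih =>
    have hb : g * (b : L) ^ n * g⁻¹ = (b : L) ^ n := by rw [← conj_pow, hconj]
    rw [pow_succ' g, show g * g ^ n * (v : L) * (g * g ^ n)⁻¹ =
      g * (g ^ n * (v : L) * (g ^ n)⁻¹) * g⁻¹ by group, ih,
      show g * ((v : L) * (b : L) ^ n) * g⁻¹ = (g * v * g⁻¹) * (g * (b : L) ^ n * g⁻¹) by group,
      hv, hb, pow_succ' (b : L), mul_assoc]

/-- A quadratic element without fixed points contributes nothing. -/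
theorem prod_eq_one_of_fixedPointFree [Fact p.Prime] {X : Type*} [DecidableEq X] [MulAction L X]
    [Finite X] {V : Subgroup L} [V.Normal] (hVc : IsMulCommutative V) (yt : X → V)
    (hyt : ∀ (g : L) (x : X), (yt (g • x) : L) = g * (yt x : L) * g⁻¹) {z : V}
    (hzp : ∀ x, (yt x ^ p) ^ p = z ^ p) {g : L} {k : ℕ} (hgp : g ^ p ^ k = 1)
    (hquad : ∀ v ∈ V, g * (g * v * g⁻¹ * v⁻¹) * g⁻¹ = g * v * g⁻¹ * v⁻¹) :
    ∀ s : Finset X, (∀ x ∈ s, g • x ∈ s) → (∀ x ∈ s, g • x ≠ x) →
      letI : CommGroup V := { (inferInstance : Group V) with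
        mul_comm := fun a b => hVc.is_comm.comm a b }
      ∏ x ∈ s, ((yt x) ^ p * z⁻¹) = 1 := by
  letI : CommGroup V := { (inferInstance : Group V) with
    mul_comm := fun a b => hVc.is_comm.comm a b }
  intro s
  induction s using Finset.strongInduction with
  | _ s ih =>
    intro hinv hfpf
    rcases s.eq_empty_or_nonempty with rfl | ⟨x, hx⟩
    · rfl
    set f : X → X := fun a => g • a with hf
    have hfi : Function.Injective f := MulAction.injective g
    have hit : ∀ (i : ℕ) (a : X), f^[i] a = g ^ i • a := fun i a => smul_iterate_apply g i a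
    set n := Function.minimalPeriod f x with hn
    have hper : Function.IsPeriodicPt f (p ^ k) x := by
      rw [Function.IsPeriodicPt, Function.IsFixedPt, hit, hgp, one_smul]
    have hnd : n ∣ p ^ k := hper.minimalPeriod_dvd
    obtain ⟨e, -, he⟩ := (Nat.dvd_prime_pow (Fact.out : p.Prime)).mp hnd
    have hn1 : n ≠ 1 := by
      intro h1
      have h2 := Function.isPeriodicPt_minimalPeriod f x
      rw [← hn, h1] at h2
      exact hfpf x hx h2
    have he0 : e ≠ 0 := fun h0 => hn1 (by rw [he, h0, pow_zero])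
    have hnpos : 0 < n := hper.minimalPeriod_pos (pow_pos (Fact.out : p.Prime).pos k)
    have hmem : ∀ i, f^[i] x ∈ s := by
      intro i
      induction i with
      | zero => exact hx
      | succ i ihi => rw [Function.iterate_succ_apply']; exact hinv _ ihi
    set O := (Finset.range n).image (fun i => f^[i] x) with hO
    have hOs : O ⊆ s := fun a ha => by
      obtain ⟨i, -, rfl⟩ := Finset.mem_image.mp ha
      exact hmem i
    have hperx : f^[n] x = x := Function.isPeriodicPt_minimalPeriod f x
    have hOinv : ∀ a, f a ∈ O → a ∈ O := by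
      intro a ha
      obtain ⟨i, hi, e⟩ := Finset.mem_image.mp ha
      rcases i with _ | i
      · refine Finset.mem_image.mpr ⟨n - 1, Finset.mem_range.mpr (by omega), hfi ?_⟩
        rw [← Function.iterate_succ_apply' f (n - 1) x, Nat.succ_eq_add_one,
          show n - 1 + 1 = n by omega, hperx, ← e]
        rfl
      · refine Finset.mem_image.mpr ⟨i, Finset.mem_range.mpr (by simp at hi; omega), hfi ?_⟩
        rw [← Function.iterate_succ_apply' f i x]
        exact e
    have hrest : ∏ a ∈ s \ O, ((yt a) ^ p * z⁻¹) = 1 := by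
      refine ih _ ⟨Finset.sdiff_subset, fun h => ?_⟩ (fun a ha => ?_) fun a ha =>
        hfpf a (Finset.mem_sdiff.mp ha).1
      · exact (Finset.mem_sdiff.mp (h hx)).2
          (Finset.mem_image.mpr ⟨0, Finset.mem_range.mpr hnpos, rfl⟩)
      · rw [Finset.mem_sdiff] at ha ⊢
        exact ⟨hinv a ha.1, fun h => ha.2 (hOinv a h)⟩
    rw [← Finset.prod_sdiff hOs, hrest, one_mul, hO, Finset.prod_image (fun i hi j hj h =>
      Function.iterate_injOn_Iio_minimalPeriod (f := f) (x := x)
        (Set.mem_Iio.mpr (Finset.mem_range.mp hi)) (Set.mem_Iio.mpr (Finset.mem_range.mp hj)) h)]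
    -- the cycle of `x`
    set v := yt x with hv
    set b : V := yt (g • x) * v⁻¹ with hb
    have hgv : g * (v : L) * g⁻¹ = (v : L) * b := by
      rw [← hyt g x]
      exact congrArg Subtype.val (show yt (g • x) = v * b by
        rw [hb, mul_comm (yt (g • x)), mul_inv_cancel_left])
    have hbval : (b : L) = g * (v : L) * g⁻¹ * (v : L)⁻¹ := by
      rw [hb, Subgroup.coe_mul, Subgroup.coe_inv, hyt]
    have hgb : g * (b : L) * g⁻¹ = (b : L) := by
      rw [hbval]
      exact hquad v v.2
    have hyti : ∀ i : ℕ, yt (f^[i] x) = v * b ^ i := fun i => Subtype.ext (by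
      rw [hit, hyt, Subgroup.coe_mul, SubgroupClass.coe_pow]
      exact orbit_power hVc hgb hgv i)
    have hbn : b ^ n = 1 := by
      have h1 := hyti n
      rw [hperx, ← hv] at h1
      exact left_eq_mul.mp h1
    simp only [hyti]
    have hsum : ∏ i ∈ Finset.range n, ((v * b ^ i) ^ p * z⁻¹) =
        (v ^ p * z⁻¹) ^ n * b ^ (p * ∑ i ∈ Finset.range n, i) := by
      rw [Finset.mul_sum, ← Finset.prod_pow_eq_pow_sum,
        ← Finset.card_range n, ← Finset.prod_const, Finset.card_range, ← Finset.prod_mul_distrib]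
      refine Finset.prod_congr rfl fun i _ => ?_
      rw [mul_pow, ← pow_mul, mul_comm p i, mul_right_comm]
    rw [hsum]
    have h1 : (v ^ p * z⁻¹) ^ n = 1 := by
      rw [he, show e = (e - 1) + 1 by omega, pow_succ', pow_mul, mul_pow, hzp x,
        inv_pow, mul_inv_cancel, one_pow]
    have h2 : b ^ (p * ∑ i ∈ Finset.range n, i) = 1 := by
      have hdvd : n ∣ p * ∑ i ∈ Finset.range n, i := by
        have h3 := Finset.sum_range_id_mul_two n
        rcases (Fact.out : p.Prime).eq_two_or_odd' with h2p | hodd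
        · rw [h2p, mul_comm, h3]
          exact dvd_mul_right _ _
        · have hnodd : Odd n := he ▸ hodd.pow
          have h4 : n ∣ ∑ i ∈ Finset.range n, i :=
            Nat.Coprime.dvd_of_dvd_mul_right (Nat.coprime_two_right.mpr hnodd)
              (by rw [h3]; exact dvd_mul_right _ _)
          exact Dvd.dvd.mul_left h4 p
      obtain ⟨c, hc⟩ := hdvd
      rw [hc, pow_mul, hbn, one_pow]
    rw [h1, h2, one_mul]

/-- Glauberman's norm argument. -/
theorem commute_pow_of_quadratic [Finite L] [Fact p.Prime] (P : Sylow p L) {V : Subgroup L}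
    [V.Normal] (hVc : IsMulCommutative V) (hVp : IsPGroup p V)
    :
    ∀ y ∈ V, (∀ s ∈ (P : Subgroup L), s * y = y * s) →
      (∀ g ∈ normalizer ((closure {g : L | g ∈ (P : Subgroup L) ∧
        ∀ v ∈ V, g * (g * v * g⁻¹ * v⁻¹) * g⁻¹ = g * v * g⁻¹ * v⁻¹} : Subgroup L) : Set L),
        g * y ^ p = y ^ p * g) →
      ∀ g : L, g * y ^ p = y ^ p * g := by
  classical
  set K : Set L := {g : L | g ∈ (P : Subgroup L) ∧
    ∀ v ∈ V, g * (g * v * g⁻¹ * v⁻¹) * g⁻¹ = g * v * g⁻¹ * v⁻¹} with hK
  set R := closure K with hR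
  letI : CommGroup V := { (inferInstance : Group V) with
    mul_comm := fun a b => hVc.is_comm.comm a b }
  suffices H : ∀ d, ∀ y : V, orderOf y = d → (∀ s ∈ (P : Subgroup L), s * y = y * s) →
      (∀ g ∈ normalizer (R : Set L), g * (y : L) ^ p = (y : L) ^ p * g) →
      ∀ g : L, g * (y : L) ^ p = (y : L) ^ p * g from
    fun y hy hs hn => H _ ⟨y, hy⟩ rfl hs hn
  intro d
  induction d using Nat.strong_induction_on with
  | _ d ih =>
    intro y hd hys hyn
    rcases eq_or_ne y 1 with rfl | hy1
    · intro g; simp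
    set z : V := y ^ p with hz
    have hzp : ∀ g : L, g * (z : L) ^ p = (z : L) ^ p * g := by
      have hlt : orderOf z < d := by
        obtain ⟨m, hm⟩ := IsPGroup.iff_orderOf.mp hVp y
        have hm0 : m ≠ 0 := fun h0 => hy1 (orderOf_eq_one_iff.mp (by rw [hm, h0, pow_zero]))
        rw [hz, orderOf_pow' y (Fact.out : p.Prime).ne_zero, ← hd, hm,
          Nat.gcd_eq_right (dvd_pow_self p hm0)]
        exact Nat.div_lt_self (pow_pos (Fact.out : p.Prime).pos m) (Fact.out : p.Prime).one_lt
      refine ih _ hlt z rfl (fun s hs => ?_) fun g hg => ?_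
      · rw [hz, SubgroupClass.coe_pow]
        exact ((show Commute s (y : L) from hys s hs).pow_right p).eq
      · rw [hz, SubgroupClass.coe_pow]
        exact ((show Commute g ((y : L) ^ p) from hyn g hg).pow_right p).eq
    -- conjugates of `y`
    set M := centralizer ({(y : L)} : Set L) with hM
    have hPM : (P : Subgroup L) ≤ M := fun s hs => mem_centralizer_singleton_iff.mpr (hys s hs)
    let X := L ⧸ M
    have hwd : ∀ a b : L, (QuotientGroup.leftRel M) a b →
        a * (y : L) * a⁻¹ = b * (y : L) * b⁻¹ := by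
      intro a b hab
      rw [QuotientGroup.leftRel_apply] at hab
      have h1 := mem_centralizer_singleton_iff.mp hab
      calc a * (y : L) * a⁻¹ = a * ((y : L) * (a⁻¹ * b)) * b⁻¹ := by group
        _ = a * ((a⁻¹ * b) * (y : L)) * b⁻¹ := by rw [h1]
        _ = b * (y : L) * b⁻¹ := by group
    let yt : X → V := Quotient.lift
      (fun a : L => (⟨a * (y : L) * a⁻¹, Subgroup.Normal.conj_mem inferInstance _ y.2 a⟩ : V))
      fun a b hab => Subtype.ext (hwd a b hab)
    have hytmk : ∀ a : L, (yt (QuotientGroup.mk a) : L) = a * (y : L) * a⁻¹ := fun a => rfl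
    have hyt : ∀ (g : L) (x : X), (yt (g • x) : L) = g * (yt x : L) * g⁻¹ := by
      intro g x
      obtain ⟨a, rfl⟩ := QuotientGroup.mk_surjective x
      show g * a * (y : L) * (g * a)⁻¹ = g * (a * (y : L) * a⁻¹) * g⁻¹
      group
    have hzp' : ∀ x, (yt x ^ p) ^ p = z ^ p := by
      intro x
      obtain ⟨a, rfl⟩ := QuotientGroup.mk_surjective x
      apply Subtype.ext
      rw [SubgroupClass.coe_pow, SubgroupClass.coe_pow, hytmk, conj_pow, conj_pow,
        SubgroupClass.coe_pow, show ((y : L) ^ p) ^ p = (z : L) ^ p by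
          rw [hz, SubgroupClass.coe_pow], hzp a, mul_inv_cancel_right]
    letI := Fintype.ofFinite X
    set e : X → V := fun x => (yt x) ^ p * z⁻¹ with he
    -- points not fixed by `R` contribute nothing
    have horb : ∀ s : Finset X, (∀ g ∈ R, ∀ x ∈ s, g • x ∈ s) →
        (∀ x ∈ s, ∃ g ∈ R, g • x ≠ x) → ∏ x ∈ s, e x = 1 := by
      intro s
      induction s using Finset.strongInduction with
      | _ s ihs =>
        intro hinv hmov
        rcases s.eq_empty_or_nonempty with rfl | ⟨x, hx⟩
        · rfl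
        set O : Finset X := s.filter (fun a => ∃ r ∈ R, r • x = a) with hO
        have hmemO : ∀ a, a ∈ O ↔ ∃ r ∈ R, r • x = a := by
          intro a
          rw [hO, Finset.mem_filter]
          exact ⟨fun h => h.2, fun ⟨r, hr, e⟩ => ⟨e ▸ hinv r hr x hx, r, hr, e⟩⟩
        have hrest : ∏ a ∈ s \ O, e a = 1 := by
          refine ihs _ ⟨Finset.sdiff_subset, fun h => ?_⟩ (fun g hg a ha => ?_) fun a ha =>
            hmov a (Finset.mem_sdiff.mp ha).1
          · exact (Finset.mem_sdiff.mp (h hx)).2 ((hmemO x).mpr ⟨1, one_mem R, one_smul _ _⟩)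
          · rw [Finset.mem_sdiff] at ha ⊢
            refine ⟨hinv g hg a ha.1, fun h => ha.2 ?_⟩
            obtain ⟨r, hr, hre⟩ := (hmemO _).mp h
            exact (hmemO a).mpr ⟨g⁻¹ * r, mul_mem (inv_mem hg) hr, by
              rw [mul_smul, hre, inv_smul_smul]⟩
        rw [← Finset.prod_sdiff (Finset.filter_subset _ s : O ⊆ s), hrest, one_mul]
        -- some generator has no fixed point on the orbit
        set St : Subgroup R := MulAction.stabilizer R x with hSt
        have hStne : St ≠ ⊤ := by
          intro h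
          obtain ⟨g, hg, hgx⟩ := hmov x hx
          exact hgx (MulAction.mem_stabilizer_iff.mp (h.ge (mem_top (⟨g, hg⟩ : R))))
        haveI : Group.IsNilpotent R := (P.2.to_le ((closure_le _).mpr fun g hg => hg.1 :
          R ≤ (P : Subgroup L))).isNilpotent
        obtain ⟨Mx, hMx, hStM⟩ := (eq_top_or_exists_le_coatom St).resolve_left hStne
        haveI : Mx.Normal := Subgroup.NormalizerCondition.normal_of_coatom Mx
          Group.normalizerCondition_of_isNilpotent hMx
        obtain ⟨g, hgK, hgM⟩ : ∃ g, ∃ h : g ∈ K, (⟨g, subset_closure h⟩ : R) ∉ Mx := by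
          by_contra! h
          refine hMx.1 (_root_.eq_top_iff.mpr ?_)
          have : R ≤ Mx.map R.subtype := (closure_le _).mpr fun g hg => ⟨_, h g hg, rfl⟩
          intro r _
          obtain ⟨r', hr', e⟩ := this r.2
          rwa [← Subtype.ext (a1 := r') (a2 := r) e]
        obtain ⟨k, hk⟩ := P.2 ⟨g, hgK.1⟩
        refine prod_eq_one_of_fixedPointFree hVc yt hyt hzp' (congrArg Subtype.val hk) hgK.2 O
          (fun a ha => ?_) fun a ha hfx => ?_
        · obtain ⟨r, hr, e⟩ := (hmemO a).mp ha
          exact (hmemO _).mpr ⟨g * r, mul_mem (subset_closure hgK) hr, by rw [mul_smul, e]⟩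
        · obtain ⟨r, hr, e⟩ := (hmemO a).mp ha
          apply hgM
          set g' : R := ⟨g, subset_closure hgK⟩
          set r' : R := ⟨r, hr⟩
          have h1 : r'⁻¹ * g' * r' ∈ Mx := hStM (MulAction.mem_stabilizer_iff.mpr (by
            show (r⁻¹ * g * r) • x = x
            rw [mul_smul, mul_smul, e, hfx, ← e, inv_smul_smul]))
          have h2 := (inferInstance : Mx.Normal).conj_mem _ h1 r'
          rwa [show r' * (r'⁻¹ * g' * r') * r'⁻¹ = g' by group] at h2
    -- fixed points of `R`
    have hRP : R ≤ (P : Subgroup L) := (closure_le _).mpr fun g hg => hg.1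
    have hfixed : ∀ x : X, (∀ g ∈ R, g • x = x) → e x = 1 := by
      intro x hx
      obtain ⟨t, rfl⟩ := QuotientGroup.mk_surjective x
      have hin : ∀ g ∈ R, t⁻¹ * g * t ∈ M := fun g hg => by
        have := QuotientGroup.eq.mp (hx g hg : (QuotientGroup.mk (g * t) : X) = QuotientGroup.mk t)
        have h2 := inv_mem this
        simpa [mul_assoc] using h2
      -- conjugate into `P` inside `M`
      set U := R.map (MulAut.conj t⁻¹).toMonoidHom with hU
      have hUM : U ≤ M := by
        rintro _ ⟨g, hg, rfl⟩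
        simpa [MulAut.conj_apply, mul_assoc] using hin g hg
      have hUp : IsPGroup p (U.subgroupOf M) :=
        IsPGroup.of_equiv ((P.2.to_le hRP).map _) (subgroupOfEquivOfLe hUM).symm
      obtain ⟨T, hT⟩ := hUp.exists_le_sylow
      obtain ⟨m, hm⟩ := MulAction.exists_smul_eq M T (P.subtype hPM)
      set c : L := (m : L) * t⁻¹ with hc
      have hcR : ∀ g ∈ R, c * g * c⁻¹ ∈ (P : Subgroup L) := by
        intro g hg
        have h0 : (⟨t⁻¹ * g * t, hin g hg⟩ : M) ∈ (T : Subgroup M) := hT ⟨g, hg, by
          show t⁻¹ * g * t⁻¹⁻¹ = t⁻¹ * g * t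
          rw [inv_inv]⟩
        have h3 : m * ⟨t⁻¹ * g * t, hin g hg⟩ * m⁻¹ ∈ ((P.subtype hPM : Sylow p M) : Subgroup M) := by
          rw [← hm]
          exact ⟨_, h0, rfl⟩
        have h4 : ((m * ⟨t⁻¹ * g * t, hin g hg⟩ * m⁻¹ : M) : L) ∈ (P : Subgroup L) := h3
        simpa [hc, mul_assoc] using h4
      have hcN : c ∈ normalizer (R : Set L) := by
        refine Cfsg.Agent.Lib.PSolvable.mem_normalizer_of_conj_mem fun g hg => ?_
        have hle : R ≤ R.comap (MulAut.conj c).toMonoidHom := by
          refine (closure_le _).mpr fun g hg => ?_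
          refine subset_closure ⟨hcR g (subset_closure hg), fun v hv => ?_⟩
          have hv' : c⁻¹ * v * c ∈ V := by
            simpa using (inferInstance : V.Normal).conj_mem v hv c⁻¹
          have h5 := congrArg (fun a => c * a * c⁻¹) (hg.2 _ hv')
          simp only [MulEquiv.toMonoidHom_eq_coe, MonoidHom.coe_coe, MulAut.conj_apply]
          calc c * g * c⁻¹ * (c * g * c⁻¹ * v * (c * g * c⁻¹)⁻¹ * v⁻¹) * (c * g * c⁻¹)⁻¹
              = c * (g * (g * (c⁻¹ * v * c) * g⁻¹ * (c⁻¹ * v * c)⁻¹) * g⁻¹) * c⁻¹ := by group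
            _ = c * (g * (c⁻¹ * v * c) * g⁻¹ * (c⁻¹ * v * c)⁻¹) * c⁻¹ := h5
            _ = c * g * c⁻¹ * v * (c * g * c⁻¹)⁻¹ * v⁻¹ := by group
        exact hle hg
      have h6 := hyn c hcN
      have hmz : Commute (m : L) ((y : L) ^ p) :=
        (show Commute (m : L) (y : L) from mem_centralizer_singleton_iff.mp m.2).pow_right p
      have htz : t * (y : L) ^ p = (y : L) ^ p * t := by
        have h8 : Commute c⁻¹ ((y : L) ^ p) := (show Commute c _ from h6).inv_left
        have h7 := h8.mul_left hmz
        rwa [show c⁻¹ * (m : L) = t by rw [hc]; group] at h7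
      apply Subtype.ext
      rw [he, Subgroup.coe_mul, SubgroupClass.coe_pow, Subgroup.coe_inv, hytmk, conj_pow, htz,
        mul_inv_cancel_right, hz, SubgroupClass.coe_pow, mul_inv_cancel, Subgroup.coe_one]
    have hE : ∏ x : X, e x = 1 := by
      rw [← Finset.prod_filter_mul_prod_filter_not Finset.univ (fun x : X => ∀ g ∈ R, g • x = x)]
      rw [Finset.prod_eq_one fun x hx => hfixed x (Finset.mem_filter.mp hx).2, one_mul]
      refine horb _ (fun g hg x hx => ?_) fun x hx => ?_
      · rw [Finset.mem_filter] at hx ⊢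
        refine ⟨Finset.mem_univ _, fun h => hx.2 fun g' hg' => ?_⟩
        have h9 := h (g * g' * g⁻¹) (mul_mem (mul_mem hg hg') (inv_mem hg))
        rw [mul_smul, mul_smul, inv_smul_smul] at h9
        exact MulAction.injective g h9
      · have := (Finset.mem_filter.mp hx).2
        push_neg at this
        exact this
    -- the norm
    set T : V := ∏ x : X, (yt x) ^ p with hT
    have hTz : T = z ^ Fintype.card X := by
      have h1 : T * (z⁻¹) ^ Fintype.card X = 1 := by
        rw [← Finset.card_univ, ← Finset.prod_const, hT, ← Finset.prod_mul_distrib]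
        exact hE
      rwa [inv_pow, mul_inv_eq_one] at h1
    have hTc : ∀ g : L, g * (T : L) = (T : L) * g := by
      intro g
      let φ : V →* V := (MulAut.conjNormal (H := V) g).toMonoidHom
      have h1 : φ T = T := by
        rw [hT, map_prod]
        have h2 : ∀ x : X, φ ((yt x) ^ p) = (yt (g • x)) ^ p := fun x => by
          rw [map_pow]
          congr 1
          exact Subtype.ext (hyt g x).symm
        simp only [h2]
        exact Equiv.prod_comp (MulAction.toPerm g) (fun x => (yt x) ^ p)
      exact mul_inv_eq_iff_eq_mul.mp (congrArg Subtype.val h1)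
    obtain ⟨m, hm⟩ : ∃ m : ℕ, (z ^ Fintype.card X) ^ m = z := by
      refine exists_pow_eq_self_of_coprime ?_
      obtain ⟨c, hc⟩ := IsPGroup.iff_orderOf.mp hVp z
      rw [hc, ← Nat.card_eq_fintype_card]
      refine Nat.Coprime.pow_right _ (((Fact.out : p.Prime).coprime_iff_not_dvd.mpr fun hd => ?_).symm)
      exact P.not_dvd_index (hd.trans (index_dvd_of_le hPM))
    intro g
    have h1 : Commute g ((z : L)) := by
      rw [← hm, ← hTz, SubgroupClass.coe_pow]
      exact (show Commute g (T : L) from hTc g).pow_right m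
    rw [hz, SubgroupClass.coe_pow] at h1
    exact h1

end Cfsg.Agent.Lib.QuadraticNorm
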