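import Cfsg.Agent.Lib.Fusion.FunctorNormal
import Cfsg.Agent.Lib.Fusion.QuadraticNorm
import Cfsg.Agent.Lib.PSolvable.Core

/-!
A functor with quadratic elements controls `p`-th powers of central elements in constrained groups.
-/

set_option autoImplicit false
set_option linter.style.haveILetI false

namespace Cfsg.Agent.Lib.Fusion

open Cfsg Subgroup

universe u

variable {p : ℕ}

/-- The quadratic condition in the form of commutator subgroups. -/
theorem quadratic_of_commutator {L : Type*} [Group L] {V : Subgroup L} {g : L}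
    (h : ⁅⁅V, zpowers g⁆, zpowers g⁆ = ⊥) :
    ∀ v ∈ V, g * (g * v * g⁻¹ * v⁻¹) * g⁻¹ = g * v * g⁻¹ * v⁻¹ := by
  intro v hv
  have hc : v * g * v⁻¹ * g⁻¹ ∈ ⁅V, zpowers g⁆ :=
    commutator_mem_commutator hv (mem_zpowers g)
  have h1 := commutator_eq_bot_iff_le_centralizer.mp h hc
  rw [mem_centralizer_iff] at h1
  have h3 : Commute g (v * g * v⁻¹ * g⁻¹) := h1 g (mem_zpowers g)
  have h4 : Commute g (g * v * g⁻¹ * v⁻¹) := by
    have h5 := h3.inv_right
    rwa [show (v * g * v⁻¹ * g⁻¹)⁻¹ = g * v * g⁻¹ * v⁻¹ by group] at h5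
  rw [h4.eq, mul_inv_cancel_right]

/-- A functor with quadratic elements controls `p`-th powers of central elements in constrained
groups. -/
theorem pow_central_of_quadratic [Fact p.Prime] (W : ∀ (Q : Type u) [Group Q], Subgroup Q)
    (hW2 : IsFunctorial W p)
    (hq : ∀ (G : Type u) [Group G] [Finite G] (P : Sylow p G),
      ¬ (wSub W (P : Subgroup G)).Normal →
      centralizer (pCore p G : Set G) ≤ pCore p G → ∃ g : G, g ∈ (P : Subgroup G) ∧ g ∉ pCore p G ∧
        ∀ v ∈ pCore p G ⊓ centralizer (pCore p G : Set G),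
          g * (g * v * g⁻¹ * v⁻¹) * g⁻¹ = g * v * g⁻¹ * v⁻¹)
    (L : Type u) [Group L] [Finite L] (P : Sylow p L)
    (hc : centralizer (pCore p L : Set L) ≤ pCore p L) {y : L}
    (hy : y ∈ (P : Subgroup L) ⊓ centralizer ((P : Subgroup L) : Set L))
    (hfix : ∀ g ∈ normalizer (wSub W (P : Subgroup L) : Set L), g * y ^ p = y ^ p * g) (g : L) :
    g * y ^ p = y ^ p * g := by
  revert g
  suffices H : ∀ (n : ℕ) (L : Type u) [Group L] [Finite L], Nat.card L = n → ∀ (P : Sylow p L),
      centralizer (pCore p L : Set L) ≤ pCore p L →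
      ∀ y ∈ (P : Subgroup L) ⊓ centralizer ((P : Subgroup L) : Set L),
      (∀ g ∈ normalizer (wSub W (P : Subgroup L) : Set L), g * y ^ p = y ^ p * g) →
      ∀ g : L, g * y ^ p = y ^ p * g from H _ L rfl P hc y hy hfix
  intro n
  induction n using Nat.strong_induction_on with
  | _ n ih =>
    intro L _ _ hn P hc y hy hfix g
    by_cases hWn : (wSub W (P : Subgroup L)).Normal
    · exact hfix g (by rw [normalizer_eq_top]; exact mem_top g)
    set Q := pCore p L with hQdef
    have hQP : Q ≤ (P : Subgroup L) := PSolvable.pCore_le_sylow P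
    haveI hQc : Q.Characteristic := PSolvable.pCore_characteristic
    haveI hQn : Q.Normal := Subgroup.normal_of_characteristic Q
    set V := Q ⊓ centralizer (Q : Set L) with hVdef
    haveI : (centralizer (Q : Set L)).Normal := by
      refine ⟨fun v hv a => mem_centralizer_iff.mpr fun q hq => ?_⟩
      have h1 := mem_centralizer_iff.mp hv (a⁻¹ * q * a)
        (by simpa using hQn.conj_mem q hq a⁻¹)
      calc q * (a * v * a⁻¹) = a * ((a⁻¹ * q * a) * v) * a⁻¹ := by group
        _ = a * (v * (a⁻¹ * q * a)) * a⁻¹ := by rw [h1]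
        _ = a * v * a⁻¹ * q := by group
    haveI : V.Normal := Subgroup.normal_inf_normal Q (centralizer (Q : Set L))
    have hVc : IsMulCommutative V :=
      ⟨⟨fun a b => Subtype.ext (mem_centralizer_iff.mp b.2.2 a a.2.1)⟩⟩
    have hVp : IsPGroup p V := PSolvable.pCore_isPGroup.to_le inf_le_left
    have hyC : y ∈ centralizer (Q : Set L) := centralizer_le (SetLike.coe_subset_coe.mpr hQP) hy.2
    obtain ⟨g₀, hg₀P, hg₀Q, hg₀⟩ := hq L P hWn hc
    refine QuadraticNorm.commute_pow_of_quadratic P hVc hVp y ⟨hc hyC, hyC⟩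
      (fun s hs => mem_centralizer_iff.mp hy.2 s hs) ?_ g
    set K : Set L := {g : L | g ∈ (P : Subgroup L) ∧
      ∀ v ∈ V, g * (g * v * g⁻¹ * v⁻¹) * g⁻¹ = g * v * g⁻¹ * v⁻¹} with hK
    set R := closure K with hR
    set M := normalizer (R : Set L) with hM
    have hPM : (P : Subgroup L) ≤ M := by
      intro s hs
      refine Cfsg.Agent.Lib.PSolvable.mem_normalizer_of_conj_mem fun x hx => ?_
      have hle : R ≤ R.comap (MulAut.conj s).toMonoidHom := by
        refine (closure_le _).mpr fun g hg => subset_closure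
          ⟨mul_mem (mul_mem hs hg.1) (inv_mem hs), fun v hv => ?_⟩
        have hv' : s⁻¹ * v * s ∈ V := by
          simpa using (inferInstance : V.Normal).conj_mem v hv s⁻¹
        have h5 := congrArg (fun a => s * a * s⁻¹) (hg.2 _ hv')
        simp only [MulEquiv.toMonoidHom_eq_coe, MonoidHom.coe_coe, MulAut.conj_apply]
        calc s * g * s⁻¹ * (s * g * s⁻¹ * v * (s * g * s⁻¹)⁻¹ * v⁻¹) * (s * g * s⁻¹)⁻¹
            = s * (g * (g * (s⁻¹ * v * s) * g⁻¹ * (s⁻¹ * v * s)⁻¹) * g⁻¹) * s⁻¹ := by group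
          _ = s * (g * (s⁻¹ * v * s) * g⁻¹ * (s⁻¹ * v * s)⁻¹) * s⁻¹ := h5
          _ = s * g * s⁻¹ * v * (s * g * s⁻¹)⁻¹ * v⁻¹ := by group
      exact hle hx
    have hMne : M ≠ ⊤ := by
      intro h
      haveI : R.Normal := normalizer_eq_top_iff.mp h
      have hRP : R ≤ (P : Subgroup L) := (closure_le _).mpr fun g hg => hg.1
      exact hg₀Q (PSolvable.le_pCore (P.2.to_le hRP) (subset_closure ⟨hg₀P, hg₀⟩))
    -- induction in `M`
    have hQM : Q ≤ M := hQP.trans hPM
    have hcard : Nat.card M < n := by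
      rw [← hn]
      exact lt_of_le_of_ne M.card_le_card_group fun h => hMne (M.eq_top_of_card_eq h)
    haveI : (Q.subgroupOf M).Normal := inferInstance
    have hQM' : Q.subgroupOf M ≤ pCore p M :=
      PSolvable.le_pCore (PSolvable.pCore_isPGroup.of_equiv (subgroupOfEquivOfLe hQM).symm)
    have hcM : centralizer (pCore p M : Set M) ≤ pCore p M := by
      intro m hm
      refine hQM' (mem_subgroupOf.mpr (hc (mem_centralizer_iff.mpr fun q hq => ?_)))
      exact congrArg Subtype.val (mem_centralizer_iff.mp hm ⟨q, hQM hq⟩ (hQM' hq))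
    set P' : Sylow p M := P.subtype hPM with hP'
    have hyM : y ∈ M := hPM hy.1
    have hy' : (⟨y, hyM⟩ : M) ∈ (P' : Subgroup M) ⊓ centralizer ((P' : Subgroup M) : Set M) :=
      ⟨hy.1, mem_centralizer_iff.mpr fun s hs =>
        Subtype.ext (mem_centralizer_iff.mp hy.2 (s : L) hs)⟩
    have hr : (M.subtype.comp (P' : Subgroup M).subtype).range = (P : Subgroup L) := by
      rw [MonoidHom.range_comp, range_subtype]
      exact Subgroup.map_subgroupOf_eq_of_le hPM
    have hWmap : (wSub W (P' : Subgroup M)).map M.subtype = wSub W (P : Subgroup L) := by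
      rw [map_map]
      exact map_wSub hW2 P'.2 _ (M.subtype_injective.comp (P' : Subgroup M).subtype_injective) hr
    intro c hc'
    have := ih _ hcard M rfl P' hcM ⟨y, hyM⟩ hy' (fun m hm => Subtype.ext (hfix m (by
      rw [← hWmap, mem_normalizer_iff]
      intro x
      constructor
      · rintro ⟨x', hx', rfl⟩
        exact ⟨m * x' * m⁻¹, (mem_normalizer_iff.mp hm x').mp hx', rfl⟩
      · rintro ⟨x', hx', e⟩
        refine ⟨m⁻¹ * x' * m, ?_, ?_⟩
        · have := (mem_normalizer_iff.mp hm (m⁻¹ * x' * m)).mpr (by simpa [mul_assoc] using hx')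
          exact this
        · show (m : L)⁻¹ * (x' : L) * (m : L) = x
          rw [show (x' : L) = (m : L) * x * (m : L)⁻¹ from e]
          group))) ⟨c, hc'⟩
    simpa using congrArg Subtype.val this

end Cfsg.Agent.Lib.Fusion
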