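import Cfsg.Agent.Lib.Fusion.SimpleLie
import Cfsg.Agent.Lib.PSLAut.Sylow
import Cfsg.Agent.Lib.LinGroup.Generation

/-!
Data of `SL_n` in the defining characteristic for the fusion criterion: fusion of transvections,
the normalizer of the unitriangular group, abelian self-centralizing radicals.
-/

set_option autoImplicit false

namespace Cfsg.Agent.Lib.Fusion.SLData

open Cfsg.Agent.Lib.PSLAut Matrix
open scoped MatrixGroups

variable {n : ℕ} {F : Type*} [Field F]

local notation "Tr" => Matrix.SpecialLinearGroup.transvection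

theorem slExt {x y : SLn n F}
    (h : (x : Matrix (Fin n) (Fin n) F) = (y : Matrix (Fin n) (Fin n) F)) : x = y :=
  Subtype.ext h

theorem coe_tr {i j : Fin n} (h : i ≠ j) (c : F) :
    ((Tr h c : SLn n F) : Matrix (Fin n) (Fin n) F) = 1 + single i j c :=
  Matrix.SpecialLinearGroup.transvection_coe ..

theorem tr_mul_tr {i j : Fin n} (h : i ≠ j) (a b : F) : (Tr h a * Tr h b : SLn n F) = Tr h (a + b) := by
  exact (Matrix.SpecialLinearGroup.transvection_add h a b).symm

theorem tr_zero {i j : Fin n} (h : i ≠ j) : (Tr h (0 : F) : SLn n F) = 1 := by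
  apply slExt
  rw [coe_tr, Matrix.single_zero, add_zero, Matrix.SpecialLinearGroup.coe_one]

theorem tr_pow {i j : Fin n} (h : i ≠ j) (a : F) (k : ℕ) :
    (Tr h a : SLn n F) ^ k = Tr h ((k : F) * a) := by
  induction k with
  | zero => simp [tr_zero]
  | succ k ih => rw [pow_succ, ih, tr_mul_tr]; push_cast; ring_nf

theorem tr_pow_char (p : ℕ) [CharP F p] {i j : Fin n} (h : i ≠ j) (a : F) :
    (Tr h a : SLn n F) ^ p ^ 1 = 1 := by
  rw [pow_one, tr_pow, CharP.cast_eq_zero, zero_mul, tr_zero]

/-- Monomial conjugation moves one transvection to any other. -/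
theorem exists_conj_tr (hn : 3 ≤ n) {a b : Fin n} (hab : a ≠ b) {i j : Fin n} (hij : i ≠ j) {t s : F}
    (ht : t ≠ 0) (hs : s ≠ 0) : ∃ g : SLn n F, g * Tr hab t * g⁻¹ = Tr hij s := by
  classical
  obtain ⟨k, hka, hkb⟩ : ∃ k : Fin n, k ≠ a ∧ k ≠ b := by
    have : ((Finset.univ : Finset (Fin n)) \ {a, b}).Nonempty := by
      rw [← Finset.card_pos]
      have h1 := Finset.le_card_sdiff ({a, b} : Finset (Fin n)) Finset.univ
      have h2 : ({a, b} : Finset (Fin n)).card ≤ 2 := Finset.card_le_two
      simp only [Finset.card_univ, Fintype.card_fin] at h1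
      omega
    obtain ⟨k, hk⟩ := this
    simp only [Finset.mem_sdiff, Finset.mem_insert, Finset.mem_singleton, not_or] at hk
    exact ⟨k, hk.2⟩
  set e : Equiv.Perm (Fin n) := (Equiv.swap a i).trans (Equiv.swap ((Equiv.swap a i) b) j) with he
  have hea : e a = i := by
    rw [he, Equiv.trans_apply, Equiv.swap_apply_left]
    exact Equiv.swap_apply_of_ne_of_ne
      (fun h => hab ((Equiv.swap a i).injective ((Equiv.swap_apply_left a i).trans h))) hij
  have heb : e b = j := by rw [he, Equiv.trans_apply, Equiv.swap_apply_left]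
  set ε : F := ((Equiv.Perm.sign e.symm : ℤ) : F) with hε
  have hε2 : ε * ε = 1 := by
    rw [hε, ← Int.cast_mul, Int.units_coe_mul_self, Int.cast_one]
  set d : Fin n → F := fun c => if c = a then s / t else if c = k then ε * (t / s) else 1 with hd
  have hprod : ∏ c, d c = ε := by
    rw [← Finset.mul_prod_erase _ _ (Finset.mem_univ a),
      ← Finset.mul_prod_erase _ _ (Finset.mem_erase.2 ⟨hka, Finset.mem_univ k⟩),
      Finset.prod_eq_one (fun c hc => by
        simp only [Finset.mem_erase] at hc
        simp [hd, hc.1, hc.2.1])]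
    simp [hd, hka]
    field_simp
  set M : Matrix (Fin n) (Fin n) F := (diagonal d).submatrix e.symm id with hM
  have hdet : M.det = 1 := by
    rw [hM, det_permute, det_diagonal, hprod]
    exact hε2
  set g : SLn n F := ⟨M, hdet⟩ with hg
  refine ⟨g, mul_inv_eq_iff_eq_mul.2 (slExt ?_)⟩
  have hgM : (g : Matrix (Fin n) (Fin n) F) = M := rfl
  rw [Matrix.SpecialLinearGroup.coe_mul, Matrix.SpecialLinearGroup.coe_mul, coe_tr, coe_tr, Matrix.mul_add,
    Matrix.add_mul, Matrix.mul_one, Matrix.one_mul, hgM]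
  congr 1
  have hdb : d b = 1 := by simp [hd, hab.symm, hkb.symm]
  have hda : d a = s / t := by simp [hd]
  have hMe : ∀ r c, M r c = if r = e c then d c else 0 := by
    intro r c
    simp only [hM, submatrix_apply, id_eq, diagonal_apply, Equiv.symm_apply_eq]
    by_cases h : r = e c
    · subst h; simp
    · simp [h]
  ext r c
  by_cases hc : c = b
  · subst hc
    rw [Matrix.mul_single_apply_same]
    by_cases hr : r = i
    · subst hr
      rw [Matrix.single_mul_apply_same, hMe, hMe, if_pos hea.symm, if_pos heb.symm, hdb, hda]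
      field_simp
    · rw [Matrix.single_mul_apply_of_ne _ _ _ _ _ hr, hMe, hea, if_neg hr, zero_mul]
  · rw [Matrix.mul_single_apply_of_ne _ _ _ _ _ hc]
    by_cases hr : r = i
    · subst hr
      rw [Matrix.single_mul_apply_same, hMe, if_neg, mul_zero]
      rw [← heb]
      exact fun h => hc (e.injective h).symm
    · rw [Matrix.single_mul_apply_of_ne _ _ _ _ _ hr]

variable [Fintype F]

/-- The unitriangular subgroup of `SL`. -/
def uniSL (n : ℕ) (F : Type*) [Field F] [Fintype F] : Subgroup (SLn n F) :=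
  (unitriGL n F).comap Matrix.SpecialLinearGroup.toGL

theorem mem_uniSL {s : SLn n F} :
    s ∈ uniSL n F ↔ IsUnitri (s : Matrix (Fin n) (Fin n) F) := Iff.rfl

theorem isPGroup_uniSL (p : ℕ) [Fact p.Prime] [CharP F p] : IsPGroup p (uniSL n F) := by
  obtain ⟨f, hp, hf⟩ := FiniteField.card F p
  have h : IsPGroup p ↥(unitriGL n F) :=
    IsPGroup.of_card (n := (f : ℕ) * upperCount n) (by rw [card_unitriGL, hf, ← pow_mul])
  exact h.comap_of_injective _ Matrix.SpecialLinearGroup.toGL_injective

theorem not_dvd_index_uniSL (p : ℕ) [Fact p.Prime] [CharP F p] : ¬ p ∣ (uniSL n F).index := by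
  intro h
  apply not_dvd_index_unitriGL (n := n) (F := F) (p := p)
  refine h.trans ?_
  rw [uniSL, Subgroup.index_comap]
  have hle : unitriGL n F ≤ (Matrix.SpecialLinearGroup.toGL : SLn n F →* GL (Fin n) F).range :=
    fun g hg => ⟨⟨_, det_eq_one_of_mem hg⟩, Units.ext rfl⟩
  exact ⟨_, (Subgroup.relIndex_mul_index hle).symm⟩

theorem tr_mem_uniSL {i j : Fin n} (h : i < j) (c : F) : (Tr h.ne c : SLn n F) ∈ uniSL n F :=
  isUnitri_transvection h c

theorem uni_diag {s : SLn n F} (hs : s ∈ uniSL n F) (a : Fin n) : s a a = 1 := hs.1 a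

theorem uni_low {s : SLn n F} (hs : s ∈ uniSL n F) {a b : Fin n} (h : b < a) : s a b = 0 :=
  hs.2 a b h

theorem uniSL_le_closure (T : Subgroup (SLn n F))
    (h : ∀ (i j : Fin n) (hij : i < j) (c : F), (Tr hij.ne c : SLn n F) ∈ T) : uniSL n F ≤ T := by
  classical
  suffices H : ∀ (N : ℕ) (s : SLn n F), s ∈ uniSL n F →
      (Finset.univ.filter fun q : Fin n × Fin n => q.1 < q.2 ∧ s q.1 q.2 ≠ 0).card = N → s ∈ T from
    fun s hs => H _ s hs rfl
  intro N
  induction N using Nat.strong_induction_on with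
  | _ N ih =>
    intro s hs hN
    set Q := Finset.univ.filter fun q : Fin n × Fin n => q.1 < q.2 ∧ s q.1 q.2 ≠ 0
    rcases Q.eq_empty_or_nonempty with hQ | hQ
    · convert T.one_mem
      refine slExt ?_
      ext a b
      rcases lt_trichotomy a b with hab | rfl | hab
      · rw [Matrix.SpecialLinearGroup.coe_one, Matrix.one_apply_ne hab.ne]
        by_contra hne
        have : (a, b) ∈ Q := Finset.mem_filter.2 ⟨Finset.mem_univ _, hab, hne⟩
        simp [hQ] at this
      · rw [Matrix.SpecialLinearGroup.coe_one, Matrix.one_apply_eq, uni_diag hs]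
      · rw [Matrix.SpecialLinearGroup.coe_one, Matrix.one_apply_ne hab.ne', uni_low hs hab]
    · obtain ⟨⟨i, j⟩, hq, hmax⟩ := Q.exists_max_image (fun q => q.1) hQ
      obtain ⟨-, hij, hne⟩ := Finset.mem_filter.1 hq
      simp only at hij hne hmax
      have hrow : ∀ c, s j c = if j = c then 1 else 0 := by
        intro c
        rcases lt_trichotomy j c with h' | h' | h'
        · rw [if_neg h'.ne]
          by_contra hne'
          have := hmax (j, c) (Finset.mem_filter.2 ⟨Finset.mem_univ _, h', hne'⟩)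
          exact absurd hij (not_lt.2 this)
        · subst h'; rw [if_pos rfl, uni_diag hs]
        · rw [if_neg h'.ne', uni_low hs h']
      set t : SLn n F := Tr hij.ne (-(s i j)) with ht
      have hent : ∀ a b, (t * s) a b = if a = i ∧ b = j then 0 else s a b := by
        intro a b
        rw [Matrix.SpecialLinearGroup.coe_mul, ht, coe_tr, Matrix.add_mul, Matrix.one_mul, Matrix.add_apply]
        by_cases ha : a = i
        · subst ha
          rw [Matrix.single_mul_apply_same, hrow]
          by_cases hb : b = j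
          · subst hb; simp
          · simp [hb, Ne.symm hb]
        · rw [Matrix.single_mul_apply_of_ne _ _ _ _ _ ha]
          simp [ha]
      have hts : t * s ∈ uniSL n F := mul_mem (tr_mem_uniSL hij _) hs
      have := ih _ ?_ (t * s) hts rfl
      · have h' := mul_mem (T.inv_mem (h i j hij (-(s i j)))) this
        rwa [ht, inv_mul_cancel_left] at h'
      · rw [← hN]
        refine Finset.card_lt_card (Finset.ssubset_iff_of_subset ?_ |>.2 ⟨(i, j), hq, ?_⟩)
        · intro q hq'
          simp only [Finset.mem_filter, Finset.mem_univ, true_and, hent] at hq' ⊢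
          refine Finset.mem_filter.2 ⟨Finset.mem_univ _, hq'.1, ?_⟩
          intro h0
          apply hq'.2
          split_ifs
          · rfl
          · exact h0
        · simp [hent]

/-- Central elements of the unitriangular group are transvections at the corner. -/
theorem eq_tr_of_central (p : ℕ) [Fact p.Prime] [CharP F p] (hn : 2 ≤ n) (i₀ i₁ : Fin n)
    (h0 : (i₀ : ℕ) = 0) (h1 : (i₁ : ℕ) = n - 1) (hne : i₀ ≠ i₁) {z : SLn n F} (hz : z ∈ uniSL n F)
    (hc : ∀ u ∈ uniSL n F, u * z = z * u) : ∃ t : F, z = Tr hne t := by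
  have hmem : proj z ∈ centreUnitri n F := by
    refine ⟨⟨z, hz, rfl⟩, ?_⟩
    rintro _ ⟨u, hu, rfl⟩
    rw [← map_mul, ← map_mul, hc u hu]
  rw [centreUnitri_eq hn i₀ i₁ h0 h1 hne, Flag.mem_root] at hmem
  obtain ⟨t, ht⟩ := hmem
  rw [Flag.el_std] at ht
  refine ⟨t, ?_⟩
  obtain ⟨c, hc'⟩ := proj_eq_proj_iff.1 ht
  have hlt : i₀ < i₁ := by rw [Fin.lt_def, h0, h1]; omega
  have := congrFun (congrFun hc' i₀) i₀
  rw [Matrix.smul_apply, uni_diag hz, uni_diag (tr_mem_uniSL hlt t), smul_eq_mul, mul_one] at this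
  apply slExt
  rw [hc', ← this, one_smul]

/-- A closed subgroup of the unitriangular group containing a central element contains all. -/
theorem uniSL_le_of_central (p : ℕ) [Fact p.Prime] [CharP F p] (hn : 3 ≤ n) {z : SLn n F}
    (hzU : z ∈ uniSL n F) (hz1 : z ≠ 1) (hc : ∀ u ∈ uniSL n F, u * z = z * u)
    (T : Subgroup (SLn n F)) (hzT : z ∈ T)
    (hT : ∀ g : SLn n F, ∀ t ∈ T, g * t * g⁻¹ ∈ uniSL n F → g * t * g⁻¹ ∈ T) :
    uniSL n F ≤ T := by
  have hne : (⟨0, by omega⟩ : Fin n) ≠ ⟨n - 1, by omega⟩ := by simp [Fin.ext_iff]; omega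
  obtain ⟨t, rfl⟩ := eq_tr_of_central p (by omega) _ _ rfl rfl hne hzU hc
  have ht : t ≠ 0 := fun h => hz1 (by rw [h, tr_zero])
  refine uniSL_le_closure T fun i j hij c => ?_
  rcases eq_or_ne c 0 with rfl | hc0
  · rw [tr_zero]; exact T.one_mem
  · obtain ⟨g, hg⟩ := exists_conj_tr hn hne hij.ne ht hc0
    exact hg ▸ hT g _ hzT (hg.symm ▸ tr_mem_uniSL hij c)

/-- An element normalizing the unitriangular group is triangular. -/
theorem triangular_of_mem_normalizer {g : SLn n F}
    (hg : g ∈ Subgroup.normalizer (uniSL n F : Set (SLn n F))) :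
    ∀ r i : Fin n, i < r → g r i = 0 := by
  suffices H : ∀ (k : ℕ) (r i : Fin n), (i : ℕ) + k + 1 = n → i < r → g r i = 0 from
    fun r i h => H (n - 1 - i) r i (by have := i.isLt; omega) h
  intro k
  induction k with
  | zero =>
    intro r i hk hir
    have := r.isLt
    rw [Fin.lt_def] at hir
    omega
  | succ k ih =>
    intro r i hk hir
    set j : Fin n := ⟨i + 1, by omega⟩ with hj
    have hij : i < j := by simp [hj, Fin.lt_def]
    set u : SLn n F := g * Tr hij.ne 1 * g⁻¹ with hu
    have huU : u ∈ uniSL n F :=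
      (Subgroup.mem_normalizer_iff.1 hg _).1 (tr_mem_uniSL hij 1)
    have heq : u * g = g * Tr hij.ne 1 := by rw [hu, inv_mul_cancel_right]
    have h1 := congrArg (fun x : SLn n F => x r j) heq
    simp only [Matrix.SpecialLinearGroup.coe_mul, coe_tr, Matrix.mul_add, Matrix.mul_one, Matrix.add_apply,
      Matrix.mul_single_apply_same, mul_one] at h1
    rw [Matrix.mul_apply, Finset.sum_eq_single r ?_ (by simp), uni_diag huU, one_mul] at h1
    · simpa using h1
    · intro l _ hl
      rcases lt_or_gt_of_ne hl with h' | h'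
      · rw [uni_low huU h', zero_mul]
      · rw [ih l j (by simp [hj]; omega) (lt_of_le_of_lt ?_ h'), mul_zero]
        simp only [hj, Fin.le_def, Fin.lt_def] at hir ⊢
        omega

/-- Entries above the block of the first `m` indices. -/
def radical (m n : ℕ) (F : Type*) [Field F] [Fintype F] : Subgroup (SLn n F) where
  carrier := {s | ∀ a b : Fin n, ¬ ((a : ℕ) < m ∧ m ≤ b) → s a b = (1 : Matrix (Fin n) (Fin n) F) a b}
  one_mem' := fun _ _ _ => by rw [Matrix.SpecialLinearGroup.coe_one]
  mul_mem' := by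
    intro x y hx hy a b hab
    rw [Matrix.SpecialLinearGroup.coe_mul, Matrix.mul_apply]
    by_cases ha : (a : ℕ) < m
    · have hb : (b : ℕ) < m := by by_contra h; exact hab ⟨ha, by omega⟩
      rw [Finset.sum_eq_single b (fun c _ hc => ?_) (by simp), hx a b hab, hy b b (by omega),
        Matrix.one_apply_eq, mul_one]
      rw [hy c b (by omega), Matrix.one_apply_ne hc, mul_zero]
    · rw [Finset.sum_eq_single a (fun c _ hc => ?_) (by simp), hx a a (by omega), hy a b hab,
        Matrix.one_apply_eq, one_mul]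
      rw [hx a c (by omega), Matrix.one_apply_ne hc.symm, zero_mul]
  inv_mem' := by
    intro x hx a b hab
    have hadd : ((x : Matrix (Fin n) (Fin n) F) - 1) * ((x : Matrix (Fin n) (Fin n) F) - 1) = 0 := by
      ext a b
      rw [Matrix.mul_apply]
      refine Finset.sum_eq_zero fun c _ => ?_
      by_cases hc : (c : ℕ) < m
      · rw [Matrix.sub_apply, hx a c (by omega), sub_self, zero_mul]
      · simp only [Matrix.sub_apply]
        rw [hx c b (by omega), sub_self, mul_zero]
    have hinv : ((x⁻¹ : SLn n F) : Matrix (Fin n) (Fin n) F) =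
        2 • (1 : Matrix (Fin n) (Fin n) F) - x := by
      have h2 : (x : Matrix (Fin n) (Fin n) F) * (2 • (1 : Matrix (Fin n) (Fin n) F) - x) = 1 := by
        have e : (x : Matrix (Fin n) (Fin n) F) * (2 • (1 : Matrix (Fin n) (Fin n) F) - x) =
            1 - ((x : Matrix (Fin n) (Fin n) F) - 1) * ((x : Matrix (Fin n) (Fin n) F) - 1) := by
          noncomm_ring
        rw [e, hadd, sub_zero]
      calc ((x⁻¹ : SLn n F) : Matrix (Fin n) (Fin n) F)
          = ((x⁻¹ : SLn n F) : Matrix (Fin n) (Fin n) F) *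
              ((x : Matrix (Fin n) (Fin n) F) * (2 • (1 : Matrix (Fin n) (Fin n) F) - x)) := by
            rw [h2, Matrix.mul_one]
        _ = _ := by
            rw [← Matrix.mul_assoc, ← Matrix.SpecialLinearGroup.coe_mul, inv_mul_cancel,
              Matrix.SpecialLinearGroup.coe_one, Matrix.one_mul]
    rw [hinv, Matrix.sub_apply, Matrix.smul_apply, hx a b hab, two_nsmul, add_sub_cancel_right]

theorem radical_le_uniSL (m : ℕ) : radical m n F ≤ uniSL n F := by
  intro s hs
  refine ⟨fun a => ?_, fun a b hba => ?_⟩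
  · exact (hs a a (by omega)).trans (Matrix.one_apply_eq a)
  · exact (hs a b (by rw [Fin.lt_def] at hba; omega)).trans (Matrix.one_apply_ne hba.ne')

theorem tr_mem_radical {m : ℕ} {a b : Fin n} (h : a ≠ b) (ha : (a : ℕ) < m) (hb : m ≤ (b : ℕ))
    (c : F) : (Tr h c : SLn n F) ∈ radical m n F := by
  intro r l hrl
  rw [coe_tr, Matrix.add_apply, Matrix.single_apply, if_neg, add_zero]
  rintro ⟨rfl, rfl⟩
  exact hrl ⟨ha, hb⟩

theorem tr_mem_normalizer_radical {m : ℕ} {i j : Fin n} (h : i ≠ j)
    (hm : (i : ℕ) < m ↔ (j : ℕ) < m) (c : F) :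
    (Tr h c : SLn n F) ∈ Subgroup.normalizer (radical m n F : Set (SLn n F)) := by
  have key : ∀ (c : F) (s : SLn n F), s ∈ radical m n F →
      Tr h c * s * (Tr h c)⁻¹ ∈ radical m n F := by
    intro c s hs a b hab
    rw [Matrix.SpecialLinearGroup.transvection_inv, Matrix.SpecialLinearGroup.coe_mul, Matrix.SpecialLinearGroup.coe_mul,
      coe_tr, coe_tr]
    have e : ((1 : Matrix (Fin n) (Fin n) F) + single i j c) * s * (1 + single i j (-c)) =
        ((1 : Matrix (Fin n) (Fin n) F) + single i j c) * (s - 1) * (1 + single i j (-c)) +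
          (1 + single i j c) * (1 + single i j (-c)) := by
      noncomm_ring
    have e2 : ((1 : Matrix (Fin n) (Fin n) F) + single i j c) * (1 + single i j (-c)) = 1 := by
      rw [← coe_tr h c, ← coe_tr h (-c), ← Matrix.SpecialLinearGroup.coe_mul, tr_mul_tr, add_neg_cancel,
        tr_zero, Matrix.SpecialLinearGroup.coe_one]
    rw [e, e2, Matrix.add_apply, add_eq_right]
    have hN : ∀ a b : Fin n, ¬ ((a : ℕ) < m ∧ m ≤ b) →
        ((s : Matrix (Fin n) (Fin n) F) - 1) a b = 0 := fun a b hab => by
      rw [Matrix.sub_apply, hs a b hab, sub_self]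
    have h1 : ∀ a b : Fin n, ¬ ((a : ℕ) < m ∧ m ≤ b) →
        (((1 : Matrix (Fin n) (Fin n) F) + single i j c) * ((s : Matrix (Fin n) (Fin n) F) - 1)) a b = 0 := by
      intro a b hab
      rw [Matrix.add_mul, Matrix.one_mul, Matrix.add_apply, hN a b hab, zero_add]
      by_cases ha : a = i
      · subst ha
        rw [Matrix.single_mul_apply_same, hN j b (by omega), mul_zero]
      · rw [Matrix.single_mul_apply_of_ne _ _ _ _ _ ha]
    rw [Matrix.mul_add, Matrix.mul_one, Matrix.add_apply, h1 a b hab, zero_add]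
    by_cases hb : b = j
    · subst hb
      rw [Matrix.mul_single_apply_same, h1 a i (by omega), zero_mul]
    · rw [Matrix.mul_single_apply_of_ne _ _ _ _ _ hb]
  rw [Subgroup.mem_normalizer_iff]
  refine fun s => ⟨key c s, fun hs => ?_⟩
  have := key (-c) _ hs
  rw [← Matrix.SpecialLinearGroup.transvection_inv] at this
  simpa [mul_assoc] using this

theorem centralizer_radical_le {m : ℕ} {a b : Fin n} (ha : (a : ℕ) < m) (hb : m ≤ (b : ℕ)) :
    Subgroup.centralizer (radical m n F : Set (SLn n F)) ≤
      radical m n F ⊔ Subgroup.center (SLn n F) := by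
  intro x hx
  have hcomm : ∀ i j : Fin n, (i : ℕ) < m → m ≤ (j : ℕ) →
      (x : Matrix (Fin n) (Fin n) F) * single i j 1 = single i j 1 * (x : Matrix (Fin n) (Fin n) F) := by
    intro i j hi hj
    have hij : i ≠ j := fun h => by subst h; omega
    have := congrArg Subtype.val (hx _ (tr_mem_radical hij hi hj 1))
    simp only [Matrix.SpecialLinearGroup.coe_mul, coe_tr, Matrix.mul_add, Matrix.add_mul, Matrix.mul_one,
      Matrix.one_mul] at this
    exact (add_left_cancel this).symm
  set c := x a a with hc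
  have hdiag : ∀ i j : Fin n, (i : ℕ) < m → m ≤ (j : ℕ) → x i i = x j j := by
    intro i j hi hj
    have := congrFun (congrFun (hcomm i j hi hj) i) j
    rw [Matrix.mul_single_apply_same, Matrix.single_mul_apply_same, mul_one, one_mul] at this
    exact this
  have hlow : ∀ i : Fin n, x i i = c := by
    intro i
    by_cases hi : (i : ℕ) < m
    · rw [hdiag i b hi hb, hc, hdiag a b ha hb]
    · rw [hc, hdiag a i ha (by omega)]
  have hoff : ∀ r l : Fin n, r ≠ l → ¬ ((r : ℕ) < m ∧ m ≤ (l : ℕ)) → x r l = 0 := by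
    intro r l hne hrl
    by_cases hl : (l : ℕ) < m
    · have := congrFun (congrFun (hcomm l b hl hb) r) b
      rw [Matrix.mul_single_apply_same, Matrix.single_mul_apply_of_ne _ _ _ _ _ hne, mul_one] at this
      exact this
    · have := congrFun (congrFun (hcomm a r ha (by omega)) a) l
      rw [Matrix.single_mul_apply_same, Matrix.mul_single_apply_of_ne _ _ _ _ _ hne.symm, one_mul]
        at this
      exact this.symm
  have hcn : c ^ n = 1 := by
    have hdet : (x : Matrix (Fin n) (Fin n) F).det = 1 := x.2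
    rw [Matrix.det_of_upperTriangular (fun r l h => hoff r l (ne_of_gt h) (by
      have : (l : ℕ) < (r : ℕ) := h
      omega))] at hdet
    simpa [hlow, Finset.prod_const] using hdet
  have hc0 : c ≠ 0 := fun h => by rw [h, zero_pow (by omega)] at hcn; exact zero_ne_one hcn
  set w : SLn n F := ⟨c • (1 : Matrix (Fin n) (Fin n) F), by simp [Matrix.det_smul, hcn]⟩ with hw
  have hwc : w ∈ Subgroup.center (SLn n F) :=
    Matrix.SpecialLinearGroup.mem_center_iff.2 ⟨c, by simpa using hcn, (Matrix.smul_one_eq_diagonal c).symm⟩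
  have hr : w⁻¹ * x ∈ radical m n F := by
    set r := w⁻¹ * x with hr
    have hxr : ∀ i j, x i j = c * r i j := by
      intro i j
      rw [show x = w * r by rw [hr, mul_inv_cancel_left], Matrix.SpecialLinearGroup.coe_mul]
      simp [hw]
    intro i j hij
    rcases eq_or_ne i j with rfl | hne
    · rw [Matrix.one_apply_eq]
      refine mul_left_cancel₀ hc0 ?_
      rw [← hxr, hlow, mul_one]
    · rw [Matrix.one_apply_ne hne]
      refine mul_left_cancel₀ hc0 ?_
      rw [← hxr, hoff i j hne hij, mul_zero]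
  rw [show x = w * (w⁻¹ * x) by rw [mul_inv_cancel_left]]
  exact mul_mem (Subgroup.mem_sup_right hwc) (Subgroup.mem_sup_left hr)

theorem diag2n_mem (p : ℕ) [CharP F p] {m : ℕ} {i j : Fin n} (h : i ≠ j)
    (hm : (i : ℕ) < m ↔ (j : ℕ) < m) (d : F) (hd : d ≠ 0) :
    Matrix.SpecialLinearGroup.diag2n h d hd ∈ Subgroup.closure
      {x : SLn n F | x ∈ Subgroup.normalizer (radical m n F : Set (SLn n F)) ∧
        ∃ k : ℕ, x ^ p ^ k = 1} := by
  have h1 : ∀ c : F, (Tr h c : SLn n F) ∈ Subgroup.closure
      {x : SLn n F | x ∈ Subgroup.normalizer (radical m n F : Set (SLn n F)) ∧ ∃ k : ℕ, x ^ p ^ k = 1} :=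
    fun c => Subgroup.subset_closure ⟨tr_mem_normalizer_radical h hm c, 1, tr_pow_char p h c⟩
  have h2 : ∀ c : F, (Tr h.symm c : SLn n F) ∈ Subgroup.closure
      {x : SLn n F | x ∈ Subgroup.normalizer (radical m n F : Set (SLn n F)) ∧ ∃ k : ℕ, x ^ p ^ k = 1} :=
    fun c => Subgroup.subset_closure ⟨tr_mem_normalizer_radical h.symm hm.symm c, 1, tr_pow_char p h.symm c⟩
  rw [LinGroup.diag2n_decompose h d hd]
  exact mul_mem (mul_mem (mul_mem (mul_mem (mul_mem (h1 _) (h2 _)) (h1 _)) (h1 _)) (h2 _)) (h1 _)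

theorem diagonal_mem_normalizer {x : SLn n F} {d : Fin n → F}
    (hx : (x : Matrix (Fin n) (Fin n) F) = diagonal d) :
    x ∈ Subgroup.normalizer (uniSL n F : Set (SLn n F)) := by
  classical
  have hd : ∀ i, d i ≠ 0 := fun i h => by
    have : (diagonal d).det = 1 := hx ▸ x.2
    rw [det_diagonal, Finset.prod_eq_zero (Finset.mem_univ i) h] at this
    exact zero_ne_one this
  have hinv : ((x⁻¹ : SLn n F) : Matrix (Fin n) (Fin n) F) = diagonal fun i => (d i)⁻¹ := by
    have h2 : (x : Matrix (Fin n) (Fin n) F) * diagonal (fun i => (d i)⁻¹) = 1 := by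
      rw [hx, diagonal_mul_diagonal, ← diagonal_one]
      exact congrArg diagonal (funext fun i => mul_inv_cancel₀ (hd i))
    calc ((x⁻¹ : SLn n F) : Matrix (Fin n) (Fin n) F)
        = ((x⁻¹ : SLn n F) : Matrix (Fin n) (Fin n) F) *
            ((x : Matrix (Fin n) (Fin n) F) * diagonal (fun i => (d i)⁻¹)) := by rw [h2, Matrix.mul_one]
      _ = _ := by
        rw [← Matrix.mul_assoc, ← Matrix.SpecialLinearGroup.coe_mul, inv_mul_cancel,
          Matrix.SpecialLinearGroup.coe_one, Matrix.one_mul]
  rw [Subgroup.mem_normalizer_iff]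
  intro s
  have hent : ∀ i j, (x * s * x⁻¹) i j = d i * s i j * (d j)⁻¹ := fun i j => by
    simp only [Matrix.SpecialLinearGroup.coe_mul]
    rw [hinv, hx, mul_diagonal, diagonal_mul]
  constructor
  · intro hs
    refine ⟨fun i => ?_, fun i j hij => ?_⟩
    · exact (hent i i).trans (by rw [uni_diag hs, mul_one, mul_inv_cancel₀ (hd i)])
    · exact (hent i j).trans (by rw [uni_low hs hij, mul_zero, zero_mul])
  · intro hs
    refine ⟨fun i => ?_, fun i j hij => ?_⟩
    · have h3 := uni_diag hs i
      rw [hent, mul_comm (d i), mul_assoc, mul_inv_cancel₀ (hd i), mul_one] at h3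
      exact h3
    · have h3 := uni_low hs hij
      rw [hent] at h3
      simpa [hd i, hd j] using h3

/-- The normalizer of the unitriangular group is generated as the criterion asks. -/
theorem normalizer_le (p : ℕ) [Fact p.Prime] [CharP F p] (hn : 3 ≤ n) (Z : Subgroup (SLn n F))
    (hZ : Subgroup.center (SLn n F) ≤ Z) :
    Subgroup.normalizer (uniSL n F : Set (SLn n F)) ≤
      Subgroup.closure ((uniSL n F : Set (SLn n F)) ∪ Z ∪ radicalGenerated p (uniSL n F) Z) := by
  classical
  set C := Subgroup.closure ((uniSL n F : Set (SLn n F)) ∪ Z ∪ radicalGenerated p (uniSL n F) Z)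
  let k : Fin n := ⟨1, by omega⟩
  have hgood : ∀ (i : Fin n) (hik : i ≠ k) (d : F) (hd : d ≠ 0),
      Matrix.SpecialLinearGroup.diag2n hik d hd ∈ C := by
    intro i hik d hd
    have hN : Matrix.SpecialLinearGroup.diag2n hik d hd ∈ Subgroup.normalizer (uniSL n F : Set (SLn n F)) :=
      diagonal_mem_normalizer rfl
    by_cases hi : (i : ℕ) < n - 1
    · refine Subgroup.subset_closure (Or.inr ⟨hN, radical (n - 1) n F, radical_le_uniSL _, ?_,
        diag2n_mem p hik (by simp [k, hi]; omega) d hd⟩)
      exact (centralizer_radical_le (a := k) (b := ⟨n - 1, by omega⟩) (by simp [k]; omega) le_rfl).trans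
        (sup_le_sup_left hZ _)
    · refine Subgroup.subset_closure (Or.inr ⟨hN, radical 1 n F, radical_le_uniSL _, ?_,
        diag2n_mem p hik (by simp [k]; omega) d hd⟩)
      exact (centralizer_radical_le (a := ⟨0, by omega⟩) (b := k) Nat.one_pos le_rfl).trans
        (sup_le_sup_left hZ _)
  have hdiag : ∀ (x : SLn n F) (d : Fin n → F),
      (x : Matrix (Fin n) (Fin n) F) = diagonal d → x ∈ C := by
    intro x d hx
    have hd : det (diagonal d) = 1 := hx ▸ x.2
    have hx' : x = _ :=
      (slExt (y := ⟨diagonal d, hd⟩) hx).trans (Matrix.SpecialLinearGroup.diag_eq_diag2n_prod k d hd)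
    rw [hx']
    refine Subgroup.noncommProd_mem _ _ fun i hi => ?_
    simp only [Finset.mem_filter, Finset.mem_univ, true_and] at hi
    rw [dif_pos hi]
    exact hgood i hi _ _
  intro g hg
  have htri := triangular_of_mem_normalizer hg
  have hdet : ∏ i, g i i = 1 := by
    have : (g : Matrix (Fin n) (Fin n) F).det = 1 := g.2
    rwa [Matrix.det_of_upperTriangular (fun r l h => htri r l h)] at this
  set D : SLn n F := ⟨diagonal fun i => g i i, by rw [det_diagonal, hdet]⟩ with hD
  set u := D⁻¹ * g with hu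
  have hg0 : ∀ i, g i i ≠ 0 := fun i h => by
    rw [Finset.prod_eq_zero (f := fun i => g i i) (Finset.mem_univ i) h] at hdet
    exact zero_ne_one hdet
  have hgu : ∀ i j, g i j = g i i * u i j := by
    intro i j
    conv_lhs => rw [show g = D * u by rw [hu, mul_inv_cancel_left]]
    rw [Matrix.SpecialLinearGroup.coe_mul, hD, diagonal_mul]
  have huU : u ∈ uniSL n F := by
    refine ⟨fun i => ?_, fun i j hij => ?_⟩
    · exact mul_left_cancel₀ (hg0 i) ((hgu i i).symm.trans (mul_one _).symm)
    · exact mul_left_cancel₀ (hg0 i) (((hgu i j).symm.trans (htri i j hij)).trans (mul_zero _).symm)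
  rw [show g = D * u by rw [hu, mul_inv_cancel_left]]
  exact mul_mem (hdiag D _ rfl) (Subgroup.subset_closure (Or.inl (Or.inl huU)))

end Cfsg.Agent.Lib.Fusion.SLData
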