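import Cfsg.Agent.Lib.Fusion.SUNormalizer
import Cfsg.Agent.Lib.Fusion.SimpleLie
import Cfsg.Agent.Lib.Classical.UnitaryStandard
import Cfsg.Agent.Lib.Classical.UnitaryCentre

/-!
Simplicity of the fusion system of `PSU_n(q)`, `n ≥ 4`, in the defining characteristic.
-/

set_option autoImplicit false

namespace Cfsg.Agent.Lib.Fusion.SUData

open Cfsg.Agent.Lib.Classical

variable {F : Type*} [Field F] {σ : F →+* F} {V W : Type*} [AddCommGroup V] [Module F V]
  [AddCommGroup W] [Module F W] {B : V → V → F} {C : W → W → F}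

theorem autConj_mem_biIsoGroup (e : V ≃ₗ[F] W) (he : ∀ u v, C (e u) (e v) = B u v) {g : V ≃ₗ[F] V}
    (hg : g ∈ biIsoGroup B) : autConj e g ∈ biIsoGroup C := fun x y => by
  rw [autConj_apply, autConj_apply, he, hg, ← he, e.apply_symm_apply, e.apply_symm_apply]

theorem autConj_symm_autConj (e : V ≃ₗ[F] W) (g : W ≃ₗ[F] W) : autConj e (autConj e.symm g) = g :=
  LinearEquiv.ext fun x => by simp [autConj_apply]

theorem autConj_mem_uEichSet (h : HermSpace σ B) (h' : HermSpace σ C) (e : V ≃ₗ[F] W)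
    (he : ∀ u v, C (e u) (e v) = B u v) {g : V ≃ₗ[F] V} (hg : g ∈ uEichSet h) :
    autConj e g ∈ uEichSet h' := by
  obtain ⟨u, w, c, hu, hwu, hc, rfl⟩ := hg
  refine ⟨e u, e w, c, by rw [he, hu], by rw [he, hwu], by rw [he, hc], ?_⟩
  refine LinearEquiv.ext fun x => ?_
  obtain ⟨y, rfl⟩ := e.surjective x
  rw [autConj_apply, e.symm_apply_apply, uEich_apply, uEich_apply, he, he]
  simp only [map_add, map_smul]

section transport

variable (p : ℕ) (h : HermSpace σ B) (h' : HermSpace σ C) (e : V ≃ₗ[F] W)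
  (he : ∀ u v, C (e u) (e v) = B u v) {U : Subgroup (V ≃ₗ[F] V)}

include he in
theorem pSaturated_map (hU : PSaturated p U B) :
    PSaturated p (U.map (autConj e).toMonoidHom) C := by
  intro g hg hn ⟨a, ha⟩
  have hg' := autConj_mem_biIsoGroup e.symm (isometry_symm e he) hg
  refine ⟨_, hU _ hg' (fun x hx => ?_) ⟨a, by rw [← map_pow, ha, map_one]⟩, autConj_symm_autConj e g⟩
  obtain ⟨y, hy, hye⟩ := hn _ ⟨x, hx, rfl⟩
  have : autConj e (autConj e.symm g * x * (autConj e.symm g)⁻¹) = autConj e y := by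
    rw [map_mul, map_mul, map_inv, autConj_symm_autConj]
    exact hye.symm
  rwa [(autConj e).injective this]

include he in
theorem gen_map (hU : U ≤ Subgroup.closure ((U : Set (V ≃ₗ[F] V)) ∩ uEichSet h)) :
    U.map (autConj e).toMonoidHom ≤ Subgroup.closure
      ((U.map (autConj e).toMonoidHom : Set (W ≃ₗ[F] W)) ∩ uEichSet h') := by
  refine (Subgroup.map_mono hU).trans ?_
  rw [MonoidHom.map_closure]
  refine Subgroup.closure_mono ?_
  rintro _ ⟨g, ⟨hgU, hgE⟩, rfl⟩
  exact ⟨⟨g, hgU, rfl⟩, autConj_mem_uEichSet h h' e he hgE⟩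

end transport

/-! ### The standard spaces -/

section std

variable [Fintype F] {q : ℕ}

theorem exists_sylowData (hF : Fintype.card F = q ^ 2) (p : ℕ) [Fact p.Prime] [CharP F p] (m : ℕ) :
    ∃ U : Subgroup ((Fin m → F) ≃ₗ[F] (Fin m → F)),
      U ≤ uGroup (hermSpace_std hF m) ∧ IsPGroup p U ∧ PSaturated p U (Cfsg.hermForm m F q) ∧
        U ≤ Subgroup.closure
          ((U : Set ((Fin m → F) ≃ₗ[F] (Fin m → F))) ∩ uEichSet (hermSpace_std hF m)) := by
  induction m using Nat.twoStepInduction with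
  | zero =>
    refine ⟨⊥, bot_le, IsPGroup.of_bot, fun g _ _ _ => Subgroup.mem_bot.2 ?_, bot_le⟩
    exact LinearEquiv.ext fun x => Subsingleton.elim _ _
  | one =>
    refine ⟨⊥, bot_le, IsPGroup.of_bot, fun g _ _ ⟨a, ha⟩ => Subgroup.mem_bot.2 ?_, bot_le⟩
    set c := g (Pi.single 0 1) 0 with hc
    have hg : ∀ x, g x = c • x := fun x => by
      have hx : x = x 0 • (Pi.single 0 1 : Fin 1 → F) := by
        funext i; fin_cases i; simp
      conv_lhs => rw [hx, map_smul]
      funext i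
      fin_cases i
      show x 0 * g (Pi.single 0 1) 0 = c * x 0
      rw [← hc, mul_comm]
    have hgn : ∀ (k : ℕ) x, (g ^ k) x = c ^ k • x := fun k => by
      induction k with
      | zero => simp
      | succ k ih => intro x; rw [pow_succ, LinearEquiv.mul_apply, ih, hg, smul_smul, pow_succ]
    have hc1 : c = 1 := eq_one_of_pow_prime_pow p (a := a) (by
      have h1 := hgn (p ^ a) (Pi.single 0 1)
      rw [ha] at h1
      simpa using (congrFun h1 0).symm)
    exact LinearEquiv.ext fun x => by rw [hg, hc1, one_smul]; rfl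
  | more n ih _ =>
    obtain ⟨U, hUG, hUp, hUs, hUg⟩ := ih
    obtain ⟨e, he⟩ := exists_split hF n
    refine ⟨(uUni (hermSpace_std hF n) U).map (autConj e).toMonoidHom, ?_,
      (isPGroup_uUni p _ hUp).map _,
      pSaturated_map p e he (pSaturated_uUni p _ (hUG.trans (uGroup_le _)) hUs),
      gen_map (hermSpace_std hF n).ext _ e he (uUni_gen _ hUg)⟩
    rintro _ ⟨g, hg, rfl⟩
    exact autConj_mem_uGroup _ _ e he (uUni_le_uGroup _ hUG hg)

/-- The fusion system of `PSU_n(q)`, `n ≥ 4`, in the defining characteristic is simple. -/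
theorem isSimple_PSU (hF : Fintype.card F = q ^ 2) (p : ℕ) [Fact p.Prime] [CharP F p] (m : ℕ)
    (S : Sylow p (Cfsg.PSU (m + 2 + 2) F q)) :
    (Cfsg.groupFusionSystem (S : Subgroup (Cfsg.PSU (m + 2 + 2) F q))).IsSimple p := by
  classical
  obtain ⟨U₀, hUG, hUp, hUs, hUg⟩ := exists_sylowData hF p m
  set h := hermSpace_std hF m with hh
  obtain ⟨e₀, he₀⟩ := exists_split hF m
  obtain ⟨e₁, he₁⟩ := exists_split hF (m + 2)
  let e : (F × F × (F × F × (Fin m → F))) ≃ₗ[F] (Fin (m + 2 + 2) → F) :=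
    ((LinearEquiv.refl F F).prodCongr ((LinearEquiv.refl F F).prodCongr e₀)).trans e₁
  have he : ∀ x y, Cfsg.hermForm (m + 2 + 2) F q (e x) (e y) =
      uExt (Forms.qPowHom hF) (uExt (Forms.qPowHom hF) (Cfsg.hermForm m F q)) x y := fun x y => by
    simp only [e, LinearEquiv.trans_apply, he₁, LinearEquiv.prodCongr_apply, LinearEquiv.refl_apply,
      uExt, he₀]
  have hrange : ((autConj e.symm).toMonoidHom.comp (suLinear (m + 2 + 2) F q)).range
      = uGroup h.ext.ext := by
    rw [MonoidHom.range_comp, range_suLinear hF]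
    refine le_antisymm ?_ fun g hg => ?_
    · rintro _ ⟨g, hg, rfl⟩
      exact autConj_mem_uGroup _ _ e.symm (isometry_symm e he) hg
    · exact ⟨autConj e g, autConj_mem_uGroup _ _ e he hg,
        LinearEquiv.ext fun x => by simp [autConj_apply]⟩
  let ψ : uGroup h.ext.ext ≃* Cfsg.SU (m + 2 + 2) F q :=
    ((MonoidHom.ofInjective (f := (autConj e.symm).toMonoidHom.comp (suLinear (m + 2 + 2) F q))
      ((autConj e.symm).injective.comp (suLinear_injective _))).trans
      (MulEquiv.subgroupCongr hrange)).symm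
  let π : uGroup h.ext.ext →* Cfsg.PSU (m + 2 + 2) F q :=
    (QuotientGroup.mk' _).comp ψ.toMonoidHom
  have hker : π.ker = Subgroup.center (uGroup h.ext.ext) := by
    ext x
    simp only [π, MonoidHom.mem_ker, MonoidHom.coe_comp, Function.comp_apply, MulEquiv.toMonoidHom_eq_coe,
      MonoidHom.coe_coe, QuotientGroup.mk'_apply, QuotientGroup.eq_one_iff]
    rw [Subgroup.mem_center_iff, Subgroup.mem_center_iff]
    refine ⟨fun hx g => ψ.injective (by rw [map_mul, map_mul, hx]), fun hx g => ?_⟩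
    obtain ⟨g', rfl⟩ := ψ.surjective g
    rw [← map_mul, ← map_mul, hx]
  have := finite_equiv (F := F) (V := F × F × (F × F × (Fin m → F)))
  have hsurj : Function.Surjective π := (QuotientGroup.mk'_surjective _).comp ψ.surjective
  have : Finite (Cfsg.PSU (m + 2 + 2) F q) := Finite.of_surjective π hsurj
  have hpq : p ∣ q := by
    obtain ⟨k, -, hk⟩ := FiniteField.card F p
    refine (Fact.out : p.Prime).dvd_of_dvd_pow (n := 2) ?_
    rw [← hF, hk]
    exact dvd_pow_self p k.ne_zero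
  have hcop : (Nat.card π.ker).Coprime p := by
    rw [hker, Nat.card_congr (Subgroup.centerCongr ψ).toEquiv, natCard_center_SU hF _ (by omega)]
    refine Nat.Coprime.coprime_dvd_left (Nat.gcd_dvd_right _ _) (Nat.Coprime.symm ?_)
    rw [(Fact.out : p.Prime).coprime_iff_not_dvd]
    exact fun hd => (Fact.out : p.Prime).not_dvd_one ((Nat.dvd_add_right hpq).1 hd)
  -- the Sylow subgroup
  set U2 := uTwo h U₀ with hU2
  have hU2G : U2 ≤ uGroup h.ext.ext := uUni_le_uGroup _ (uUni_le_uGroup _ hUG)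
  have hU2s : PSaturated p U2 (uExt (Forms.qPowHom hF) (uExt (Forms.qPowHom hF) (Cfsg.hermForm m F q))) :=
    pSaturated_uUni p h.ext ((uUni_le_uGroup _ hUG).trans (uGroup_le _))
      (pSaturated_uUni p h (hUG.trans (uGroup_le _)) hUs)
  let U := U2.subgroupOf (uGroup h.ext.ext)
  have hU : IsPGroup p U :=
    (isPGroup_uUni p h.ext (isPGroup_uUni p h hUp)).comap_of_injective _ Subtype.val_injective
  have hnorm : ∀ a : F, Forms.qPowHom hF a = a → ∃ r, r * Forms.qPowHom hF r = a := by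
    intro a ha
    by_cases ha0 : a = 0
    · exact ⟨0, by rw [zero_mul, ha0]⟩
    have h1 := S0754.result hF a ha0 (by rwa [← Forms.qPowHom_apply hF])
    obtain ⟨⟨⟨r, hr⟩⟩, -⟩ := Nat.card_pos_iff.1 (by rw [h1]; exact q.succ_pos : 0 < Nat.card {x : F // x ^ (q + 1) = a})
    exact ⟨r, by rw [Forms.qPowHom_apply, ← pow_succ', hr]⟩
  have hnz : ∀ (d : F) (hd : d + Forms.qPowHom hF d +
      uExt (Forms.qPowHom hF) (Cfsg.hermForm m F q) (0 : F × F × (Fin m → F)) 0 = 0),
      uT h.ext 0 d hd = 1 → d = 0 := fun d hd he1 => by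
    have := congrArg (fun g : (F × F × (F × F × (Fin m → F))) ≃ₗ[F] (F × F × (F × F × (Fin m → F))) =>
      (g (0, 1, 0)).1) he1
    simpa [uT_apply, h.zero_left, uExt] using this
  have hne : U ≠ ⊥ := by
    obtain ⟨d, hd0, hd⟩ := h.exists_skew
    have hd' := skew_fill h.ext hd
    intro hb
    refine hd0 (hnz d hd' ?_)
    have hm : (⟨uT h.ext 0 d hd', uT_mem h.ext 0 d hd'⟩ : uGroup h.ext.ext) ∈ U := uT_mem_uUni h.ext _ 0 d hd'
    rw [hb, Subgroup.mem_bot] at hm
    exact congrArg Subtype.val hm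
  have hnU : ∀ {R : Subgroup ((F × F × (F × F × (Fin m → F))) ≃ₗ[F] (F × F × (F × F × (Fin m → F))))}
      {g : uGroup h.ext.ext}, (∀ x ∈ R, g.1 * x * g.1⁻¹ ∈ R) →
      g ∈ Subgroup.normalizer ((R.subgroupOf (uGroup h.ext.ext) : Subgroup _) : Set _) :=
    fun {R g} hg => Subgroup.mem_normalizer_fintype fun n hn => hg _ hn
  have hUi : ¬ p ∣ U.index := by
    obtain ⟨P, hP⟩ := hU.exists_le_sylow
    suffices U = (P : Subgroup (uGroup h.ext.ext)) by rw [this]; exact P.not_dvd_index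
    refine le_antisymm hP ?_
    by_contra hne'
    have : Group.IsNilpotent (P : Subgroup (uGroup h.ext.ext)) := P.2.isNilpotent
    have hlt := Group.normalizerCondition_of_isNilpotent (U.subgroupOf (P : Subgroup (uGroup h.ext.ext)))
      (lt_top_iff_ne_top.2 fun ht => hne' (Subgroup.subgroupOf_eq_top.1 ht))
    obtain ⟨x, hxn, hxU⟩ := SetLike.exists_of_lt hlt
    obtain ⟨a, ha⟩ := P.2 x
    refine hxU (hU2s _ (uGroup_le _ x.1.2) (fun y hy => ?_) ⟨a, congrArg (fun z => z.1.1) ha⟩)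
    exact (Subgroup.mem_normalizer_iff.1 hxn ⟨⟨y, hU2G hy⟩, hP hy⟩).1 hy
  refine Lib.Fusion.isSimple_groupFusion_of_cover π hsurj hker.le hcop U hU hne hUi S ?_ ?_
  · -- strong closure
    intro z hzU hz1 hzc T hzT hTU hT
    have hrad : uRad h.ext ≤ U2 := uUni_mono _ bot_le
    obtain ⟨d, hd, hzd⟩ := eq_transvection_of_commute h.ext hzU fun x hx =>
      congrArg Subtype.val (hzc ⟨x, hU2G (hrad hx)⟩ (hrad hx))
    have hd0 : d ≠ 0 := by
      rintro rfl
      exact hz1 (Subtype.ext (hzd.trans (uT_zero h.ext hd)))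
    have hle := uTwo_le_of_closed (T := T.map (uGroup h.ext.ext).subtype) hnorm hUg
      (by
        rintro g hg _ ⟨t, ht, rfl⟩ hgt
        exact ⟨⟨g, hg⟩ * t * (⟨g, hg⟩)⁻¹, hT ⟨g, hg⟩ t ht hgt, rfl⟩)
      hd hd0 ⟨z, hzT, hzd⟩
    intro x hx
    obtain ⟨t, ht, htx⟩ := hle hx
    rwa [← Subtype.ext htx]
  · -- the normalizer
    rw [hker]
    intro g hg
    have hgn : ∀ x ∈ U2, g.1 * x * g.1⁻¹ ∈ U2 := fun x hx =>
      (Subgroup.mem_normalizer_iff.1 hg ⟨x, hU2G hx⟩).1 hx
    obtain ⟨D, hD, t, ht, L, hL, e', hDG, htG, hLG, hDn, hLn⟩ := exists_decomposition (p := p)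
      (fun g hg => det_eq_one_of_mem_uGroup _ hg) (fun l hl hd => by
        have h1 := mem_uGroup_of_det hF (m + 2) (autConj e₀ l) (autConj_mem_biIsoGroup e₀ he₀ hl) (by
          rw [show autConj e₀ l = (e₀.symm.trans l).trans e₀ from rfl, LinearEquiv.det_conj, hd])
        have h2 := autConj_mem_uGroup (hermSpace_std hF (m + 2)) h.ext e₀.symm (isometry_symm e₀ he₀) h1
        convert h2 using 1
        exact LinearEquiv.ext fun x => by simp [autConj_apply]) g.2 hgn
    have hgen : ∀ (R : Subgroup ((F × F × (F × F × (Fin m → F))) ≃ₗ[F] (F × F × (F × F × (Fin m → F))))),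
        R ≤ U2 → (∀ x ∈ biIsoGroup (uExt (Forms.qPowHom hF) (uExt (Forms.qPowHom hF)
          (Cfsg.hermForm m F q))), (∀ r ∈ R, r * x = x * r) →
          ∃ (μ : F) (hμ : μ ≠ 0), ∃ r ∈ R, x = scal μ hμ * r) →
        ∀ E (hEG : E ∈ uGroup h.ext.ext), (∀ x ∈ U2, E * x * E⁻¹ ∈ U2) →
          E ∈ Subgroup.closure (pNormalizing h p R) →
          (⟨E, hEG⟩ : uGroup h.ext.ext) ∈
            radicalGenerated p U (Subgroup.center (uGroup h.ext.ext)) := by
      intro R hR hRc E hEG hEn hE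
      refine ⟨hnU hEn, R.subgroupOf _, fun x hx => hR hx, ?_, ?_⟩
      · intro x hx
        obtain ⟨μ, hμ, r, hr, hxr⟩ := hRc _ (uGroup_le _ x.2) fun r hr =>
          congrArg Subtype.val (hx ⟨r, hU2G (hR hr)⟩ hr)
        have hcG : scal μ hμ ∈ uGroup h.ext.ext := by
          rw [show scal μ hμ = x.1 * r⁻¹ by rw [hxr, mul_inv_cancel_right]]
          exact mul_mem x.2 (inv_mem (hU2G (hR hr)))
        rw [show x = ⟨scal μ hμ, hcG⟩ * ⟨r, hU2G (hR hr)⟩ from Subtype.ext hxr]
        exact mul_mem (Subgroup.mem_sup_right (Subgroup.mem_center_iff.2 fun y =>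
          Subtype.ext (scal_comm μ hμ y.1))) (Subgroup.mem_sup_left hr)
      · have hle : Subgroup.closure (pNormalizing h p R) ≤
            (Subgroup.closure {x : uGroup h.ext.ext |
              x ∈ Subgroup.normalizer ((R.subgroupOf (uGroup h.ext.ext) : Subgroup _) : Set _) ∧
                ∃ k : ℕ, x ^ p ^ k = 1}).map (uGroup h.ext.ext).subtype := by
          rw [MonoidHom.map_closure]
          refine Subgroup.closure_mono ?_
          rintro x ⟨hxG, hxR, a, ha⟩
          exact ⟨⟨x, hxG⟩, ⟨hnU hxR, a, Subtype.ext ha⟩, rfl⟩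
        obtain ⟨E', hE', rfl⟩ := hle hE
        exact hE'
    rw [show g = ⟨D, hDG⟩ * ⟨t, htG⟩ * ⟨L, hLG⟩ from Subtype.ext e']
    refine mul_mem (mul_mem ?_ ?_) ?_ <;> refine Subgroup.subset_closure ?_
    · exact Or.inr (hgen _ uPlane_le (fun x hx hc => exists_of_centralizes_uPlane hx hc) D hDG hDn hD)
    · exact Or.inl (Or.inl ht)
    · exact Or.inr (hgen _ (uUni_mono _ bot_le)
        (fun x hx hc => exists_of_centralizes_uRad h.ext hx hc) L hLG hLn hL)

end std

end Cfsg.Agent.Lib.Fusion.SUData
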