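import Cfsg.Agent.Lib.Fusion.SUTwoStep

/-!
The normalizer of the Sylow subgroup of a unitary group split by two hyperbolic planes.
-/

set_option autoImplicit false

namespace Cfsg.Agent.Lib.Fusion.SUData

open Cfsg.Agent.Lib.Classical

variable {F : Type*} [Field F] {σ : F →+* F} {V : Type*} [AddCommGroup V] [Module F V] {B : V → V → F}

/-- The torus element `(x, y, z) ↦ (a x, y / σ a, z)`. -/
def tor (σ : F →+* F) (a : F) (ha : a ≠ 0) : (F × F × V) ≃ₗ[F] (F × F × V) :=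
  (LinearEquiv.smulOfUnit (Units.mk0 a ha) : F ≃ₗ[F] F).prodCongr
    (((LinearEquiv.smulOfUnit (Units.mk0 (σ a)⁻¹ (inv_ne_zero ((map_ne_zero σ).2 ha)))) : F ≃ₗ[F] F).prodCongr
      (LinearEquiv.refl F V))

theorem tor_apply (a : F) (ha : a ≠ 0) (x : F × F × V) :
    tor σ a ha x = (a * x.1, (σ a)⁻¹ * x.2.1, x.2.2) := rfl

theorem tor_mem (h : HermSpace σ B) (a : F) (ha : a ≠ 0) :
    tor σ a ha ∈ biIsoGroup (uExt σ B) := fun u v => by
  simp only [uExt, tor_apply, map_mul, map_inv₀, h.invol]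
  have hs : σ a ≠ 0 := (map_ne_zero σ).2 ha
  field_simp

/-- An isometry scaling the first vector and inducing a normalizing element normalizes. -/
theorem conj_mem_uUni (h : HermSpace σ B) {U : Subgroup (V ≃ₗ[F] V)}
    {x : (F × F × V) ≃ₗ[F] (F × F × V)} (hx : x ∈ biIsoGroup (uExt σ B)) {k : F}
    (he : x (1, 0, 0) = (k, 0, 0)) {l : V ≃ₗ[F] V} (hl : l ∈ biIsoGroup B)
    (hlU : ∀ m ∈ U, l * m * l⁻¹ ∈ U) (hw : ∀ w, x (0, 0, w) = (0, 0, l w))
    {u : (F × F × V) ≃ₗ[F] (F × F × V)} (hu : u ∈ uUni h U) : x * u * x⁻¹ ∈ uUni h U := by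
  obtain ⟨w, c, hc, m, hm, rfl⟩ := hu
  have hcT : c * (k * σ k) + σ (c * (k * σ k)) + B (σ k • l w) (σ k • l w) = 0 := by
    rw [h.smul_left, h.smul_right, hl, map_mul, map_mul, h.invol]
    linear_combination (k * σ k) * hc
  have e1 : x * uT h w c hc * x⁻¹ = uT h (σ k • l w) (c * (k * σ k)) hcT := by
    rw [uT, uEich_conj _ _ _ _ _ _ _ hx]
    refine LinearEquiv.ext fun y => ?_
    rw [uEich_apply, uT_apply, he, hw]
    refine Prod.ext ?_ (Prod.ext ?_ ?_) <;> simp [uExt, h.zero_right, h.smul_right, h.invol, smul_smul]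
    ring
  have hf : (x (0, 1, 0)).2.2 = 0 := by
    refine h.nondeg _ fun z => ?_
    obtain ⟨w', rfl⟩ := l.surjective z
    have h1 := hx (0, 1, 0) (0, 0, w')
    rw [hw] at h1
    simpa [uExt, h.zero_left, h.zero_right] using h1
  have e2 : x * uInd m * x⁻¹ = uInd (l * m * l⁻¹) := by
    rw [mul_inv_eq_iff_eq_mul]
    refine LinearEquiv.ext fun y => ?_
    have hy : y = y.1 • ((1 : F), (0 : F), (0 : V)) + y.2.1 • (0, 1, 0) + (0, 0, y.2.2) := by
      ext <;> simp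
    have hxy : ∀ y : F × F × V, x y = y.1 • (k, (0 : F), (0 : V)) + y.2.1 • x (0, 1, 0) + (0, 0, l y.2.2) := by
      intro y
      conv_lhs => rw [show y = y.1 • ((1 : F), (0 : F), (0 : V)) + y.2.1 • (0, 1, 0) + (0, 0, y.2.2) by
        ext <;> simp]
      rw [map_add, map_add, map_smul, map_smul, he, hw]
    simp only [LinearEquiv.mul_apply, uInd_apply]
    rw [hxy, hxy y]
    refine Prod.ext ?_ (Prod.ext ?_ ?_) <;> simp [hf]
  have e : x * (uT h w c hc * uInd m) * x⁻¹ =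
      (x * uT h w c hc * x⁻¹) * (x * uInd m * x⁻¹) := by group
  rw [e, e1, e2]
  exact mul_mem (uT_mem_uUni _ _ _ _ _)
    (uInd_mem_uUni _ (hlU m hm.1) (mul_mem (mul_mem hl hm.2) (inv_mem hl)))

theorem conj_mem_of_fix (h : HermSpace σ B) {U : Subgroup (V ≃ₗ[F] V)} (a : F) (ha : a ≠ 0)
    {u : (F × F × V) ≃ₗ[F] (F × F × V)} (hu : u ∈ uUni h U) :
    tor σ a ha * u * (tor σ a ha)⁻¹ ∈ uUni h U := by
  refine conj_mem_uUni h (tor_mem h a ha) (k := a) ?_ (one_mem _) (fun m hm => by simpa using hm) (fun w => ?_) hu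
  · simp [tor_apply]
  · simp [tor_apply]

section

variable {p : ℕ} [CharP F p] (h : HermSpace σ B) (U : Subgroup (V ≃ₗ[F] V))

/-- The elements of `SU` normalizing `R` whose order is a power of `p`. -/
def pNormalizing (p : ℕ) (R : Subgroup ((F × F × (F × F × V)) ≃ₗ[F] (F × F × (F × F × V)))) :
    Set ((F × F × (F × F × V)) ≃ₗ[F] (F × F × (F × F × V))) :=
  {x | x ∈ uGroup h.ext.ext ∧ (∀ r ∈ R, x * r * x⁻¹ ∈ R) ∧ ∃ a : ℕ, x ^ p ^ a = 1}

variable {h U}

theorem uInd_mem_closure [Finite F] [Finite V] {l : (F × F × V) ≃ₗ[F] (F × F × V)}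
    (hl : l ∈ uGroup h.ext) :
    uInd l ∈ Subgroup.closure (pNormalizing h p (uRad h.ext)) := by
  have hle : (uGroup h.ext).map uIndHom ≤ Subgroup.closure (pNormalizing h p (uRad h.ext)) := by
    rw [uGroup, MonoidHom.map_closure]
    refine Subgroup.closure_mono ?_
    rintro _ ⟨_, ⟨u, w, c, hu, hwu, hc, rfl⟩, rfl⟩
    refine ⟨uInd_uGroup _ (uEich_mem_uGroup _ _ _ _ _ _ _), fun r hr => ?_, 2, ?_⟩
    · exact (Subgroup.mem_normalizer_iff.1
        (uInd_mem_normalizer_uRad h.ext (uEich_mem h.ext u w c hu hwu hc)) r).1 hr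
    · rw [← map_pow, uEich_pow_eq_one, map_one]
  exact hle ⟨l, hl, rfl⟩

theorem isotropic_second (h : HermSpace σ B) (t : F) :
    (0 : F) + σ 0 + uExt σ B ((0, t, 0) : F × F × V) (0, t, 0) = 0 := by
  simp [uExt, h.zero_left]

theorem isotropic_first (h : HermSpace σ B) (t : F) :
    (0 : F) + σ 0 + uExt σ B ((t, 0, 0) : F × F × V) (t, 0, 0) = 0 := by
  simp [uExt, h.zero_left]

/-- Upper root element of the plane. -/
abbrev rootA (h : HermSpace σ B) (t : F) := uT h.ext ((0, t, 0) : F × F × V) 0 (isotropic_second h t)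

/-- Lower root element of the plane. -/
abbrev rootB (h : HermSpace σ B) (t : F) := uT' h.ext ((t, 0, 0) : F × F × V) 0 (isotropic_first h t)

theorem rootA_mem (t : F) : rootA h t ∈ pNormalizing h p (uPlane h U) := by
  refine ⟨uT_mem _ _ _ _, fun r hr => plane_conj_mem (uGroup_le _ (uT_mem _ _ _ _)) ?_ ?_ ?_ ?_ ?_ hr, 2,
    uEich_pow_eq_one p h.ext.ext _ _ _ _ _ _⟩
  · exact ⟨1, 0, by simp [uT_apply, uExt, h.zero_left, Prod.ext_iff]⟩
  · exact ⟨-σ t, 1, by simp [uT_apply, uExt, h.zero_left]⟩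
  · exact ⟨1, 0, by rw [LinearEquiv.symm_apply_eq]; simp [uT_apply, uExt, h.zero_left, Prod.ext_iff]⟩
  · exact ⟨σ t, 1, by rw [LinearEquiv.symm_apply_eq]; simp [uT_apply, uExt, h.zero_left]⟩
  · exact fun z => by simp [uT_apply, uExt, h.zero_right]

theorem rootB_mem (t : F) : rootB h t ∈ pNormalizing h p (uPlane h U) := by
  refine ⟨uT'_mem _ _ _ _, fun r hr => plane_conj_mem (uGroup_le _ (uT'_mem _ _ _ _)) ?_ ?_ ?_ ?_ ?_ hr, 2,
    uEich_pow_eq_one p h.ext.ext _ _ _ _ _ _⟩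
  · exact ⟨1, t, by simp [uT'_apply, uExt, h.zero_left]⟩
  · exact ⟨0, 1, by simp [uT'_apply, uExt, h.zero_left]⟩
  · exact ⟨1, -t, by rw [LinearEquiv.symm_apply_eq]; simp [uT'_apply, uExt, h.zero_left, Prod.ext_iff]⟩
  · exact ⟨0, 1, by rw [LinearEquiv.symm_apply_eq]; simp [uT'_apply, uExt, h.zero_left]⟩
  · exact fun z => by simp [uT'_apply, uExt, h.zero_right]

theorem exists_plane_torus (k : F) (hk : k ≠ 0) :
    tor σ k hk * uInd (tor (V := V) σ k⁻¹ (inv_ne_zero hk)) ∈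
      Subgroup.closure (pNormalizing h p (uPlane h U)) := by
  have e : rootA h (-σ k) * rootB h (-k⁻¹) * rootA h (-σ k) * (rootA h 1 * rootB h 1 * rootA h 1) =
      tor σ k hk * uInd (tor (V := V) σ k⁻¹ (inv_ne_zero hk)) := by
    refine LinearEquiv.ext fun x => ?_
    have hs : σ k ≠ 0 := (map_ne_zero σ).2 hk
    simp only [LinearEquiv.mul_apply, uT_apply, uT'_apply, uInd_apply, tor_apply, uExt, h.zero_right,
      map_neg, map_zero, map_one, h.invol, map_inv₀, smul_zero, Prod.smul_mk,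
      smul_eq_mul, Prod.fst_add, Prod.snd_add, mul_zero, zero_mul, add_zero, zero_add, mul_one]
    refine Prod.ext ?_ (Prod.ext ?_ (Prod.ext ?_ (Prod.ext ?_ ?_))) <;> simp <;> field_simp <;> ring
  rw [← e]
  exact mul_mem (mul_mem (mul_mem (Subgroup.subset_closure (rootA_mem _))
    (Subgroup.subset_closure (rootB_mem _))) (Subgroup.subset_closure (rootA_mem _)))
    (mul_mem (mul_mem (Subgroup.subset_closure (rootA_mem _))
    (Subgroup.subset_closure (rootB_mem _))) (Subgroup.subset_closure (rootA_mem _)))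

/-- The normalizer of the Sylow subgroup is generated by it and by `p`-elements normalizing two
radicals. -/
theorem exists_decomposition [Finite F] [Finite V]
    (hdet : ∀ g ∈ uGroup h.ext.ext, LinearEquiv.det g = 1)
    (hgen : ∀ l ∈ biIsoGroup (uExt σ B), LinearEquiv.det l = 1 → l ∈ uGroup h.ext)
    {g : (F × F × (F × F × V)) ≃ₗ[F] (F × F × (F × F × V))} (hg : g ∈ uGroup h.ext.ext)
    (hn : ∀ x ∈ uTwo h U, g * x * g⁻¹ ∈ uTwo h U) :
    ∃ D ∈ Subgroup.closure (pNormalizing h p (uPlane h U)),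
      ∃ t ∈ uTwo h U, ∃ L ∈ Subgroup.closure (pNormalizing h p (uRad h.ext)),
        g = D * t * L ∧ D ∈ uGroup h.ext.ext ∧ t ∈ uGroup h.ext.ext ∧ L ∈ uGroup h.ext.ext ∧
        (∀ x ∈ uTwo h U, D * x * D⁻¹ ∈ uTwo h U) ∧ (∀ x ∈ uTwo h U, L * x * L⁻¹ ∈ uTwo h U) := by
  obtain ⟨k, hk, hke⟩ := exists_scale_of_normalize h.ext (uGroup_le _ hg) hn
  set D := tor σ k hk * uInd (tor (V := V) σ k⁻¹ (inv_ne_zero hk)) with hD
  have hDc := exists_plane_torus (p := p) (h := h) (U := U) k hk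
  rw [← hD] at hDc
  have hDG : D ∈ uGroup h.ext.ext := (Subgroup.closure_le _).2 (fun x hx => hx.1) hDc
  have hD1 : D (1, 0, 0) = (k, 0, 0) := by simp [hD, LinearEquiv.mul_apply, uInd_apply, tor_apply]
  have hDn : ∀ x ∈ uTwo h U, D * x * D⁻¹ ∈ uTwo h U := fun x hx => by
    refine conj_mem_uUni h.ext (uGroup_le _ hDG) hD1 (tor_mem h _ (inv_ne_zero hk))
      (fun m hm => conj_mem_of_fix h _ _ hm) (fun w => ?_) hx
    simp [hD, LinearEquiv.mul_apply, uInd_apply, tor_apply]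
  have := finite_equiv (F := F) (V := F × F × (F × F × V))
  have hDn' : ∀ x ∈ uTwo h U, D⁻¹ * x * D ∈ uTwo h U := fun x hx => by
    obtain ⟨u, hu, hux⟩ := (Subgroup.eq_of_le_of_card_ge (H := (uTwo h U).map (MulAut.conj D).toMonoidHom)
      (by rintro _ ⟨u, hu, rfl⟩; exact hDn u hu)
      (Subgroup.card_map_of_injective (MulEquiv.injective _)).ge).ge hx
    rw [← hux]
    show D⁻¹ * (D * u * D⁻¹) * D ∈ _
    rwa [show D⁻¹ * (D * u * D⁻¹) * D = u by group]
  have hg1G : D⁻¹ * g ∈ uGroup h.ext.ext := mul_mem (inv_mem hDG) hg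
  have hg1e : (D⁻¹ * g) (1, 0, 0) = (1, 0, 0) := by
    show D.symm (g _) = _
    rw [LinearEquiv.symm_apply_eq, hD1, hke]
  obtain ⟨w, c, hc, l, hl, e⟩ := eq_uT_uInd h.ext (uGroup_le _ hg1G) hg1e
  have hlG : l ∈ uGroup h.ext := by
    refine hgen l hl ?_
    have h1 := hdet _ hg1G
    rwa [e, map_mul, hdet _ (uT_mem _ _ _ _), one_mul, det_uInd] at h1
  have hTm : uT h.ext w c hc ∈ uTwo h U := uT_mem_uUni _ _ _ _ _
  refine ⟨D, hDc, uT h.ext w c hc, hTm, uInd l, uInd_mem_closure hlG,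
    by rw [mul_assoc, ← e, mul_inv_cancel_left], hDG, uT_mem _ _ _ _, uInd_uGroup _ hlG, hDn,
    fun x hx => ?_⟩
  have h1 := hDn' _ (hn x hx)
  rw [show D⁻¹ * (g * x * g⁻¹) * D = (D⁻¹ * g) * x * (D⁻¹ * g)⁻¹ by group, e] at h1
  have h2 := mul_mem (mul_mem (inv_mem hTm) h1) hTm
  rwa [show (uT h.ext w c hc)⁻¹ * (uT h.ext w c hc * uInd l * x * (uT h.ext w c hc * uInd l)⁻¹) *
    uT h.ext w c hc = uInd l * x * (uInd l)⁻¹ by group] at h2

end

end Cfsg.Agent.Lib.Fusion.SUData
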