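import Cfsg.Agent.Lib.Fusion.SUData

/-!
A Hermitian space split by two hyperbolic planes: strong closure of the centre of the Sylow subgroup,
the radical of the stabilizer of a totally isotropic plane, centralizers of radicals, normalizer.
-/

set_option autoImplicit false

namespace Cfsg.Agent.Lib.Fusion.SUData

open Cfsg.Agent.Lib.Classical

variable {F : Type*} [Field F] {σ : F →+* F} {V : Type*} [AddCommGroup V] [Module F V] {B : V → V → F}

theorem uEich_zero_left (h : HermSpace σ B) (w : V) (c : F) (hu : B (0 : V) 0 = 0)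
    (hwu : B w 0 = 0) (hc : c + σ c + B w w = 0) : uEich h 0 w c hu hwu hc = 1 :=
  LinearEquiv.ext fun x => by simp [uEich_apply, h.zero_right]

theorem uEich_e1 (h : HermSpace σ B) (W : F × F × V) (c : F)
    (hu : uExt σ B ((1 : F), (0 : F), (0 : V)) (1, 0, 0) = 0) (hwu : uExt σ B W (1, 0, 0) = 0)
    (hc : c + σ c + uExt σ B W W = 0) :
    ∃ hc' : (c + W.1 - σ W.1) + σ (c + W.1 - σ W.1) + B W.2.2 W.2.2 = 0,
      uEich h.ext ((1 : F), (0 : F), (0 : V)) W c hu hwu hc = uT h W.2.2 (c + W.1 - σ W.1) hc' := by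
  have hy : W.2.1 = 0 := by simpa [uExt, h.zero_right] using hwu
  refine ⟨?_, LinearEquiv.ext fun x => ?_⟩
  · rw [map_sub, map_add, h.invol]
    simp [uExt, hy] at hc
    linear_combination hc
  · rw [uEich_apply, uT_apply]
    refine Prod.ext ?_ (Prod.ext ?_ ?_) <;> simp [uExt, hy, h.zero_right]
    ring

theorem uUni_gen (h : HermSpace σ B) {U : Subgroup (V ≃ₗ[F] V)}
    (hU : U ≤ Subgroup.closure ((U : Set (V ≃ₗ[F] V)) ∩ uEichSet h)) :
    uUni h U ≤ Subgroup.closure ((uUni h U : Set ((F × F × V) ≃ₗ[F] (F × F × V))) ∩ uEichSet h.ext) := by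
  rintro _ ⟨w, c, hc, k, hk, rfl⟩
  refine mul_mem (Subgroup.subset_closure ⟨uT_mem_uUni h U w c hc, _, _, _, _, _, _, rfl⟩) ?_
  have hle : (Subgroup.closure ((U : Set (V ≃ₗ[F] V)) ∩ uEichSet h)).map uIndHom ≤
      Subgroup.closure ((uUni h U : Set ((F × F × V) ≃ₗ[F] (F × F × V))) ∩ uEichSet h.ext) := by
    rw [MonoidHom.map_closure]
    refine (Subgroup.closure_le _).2 ?_
    rintro _ ⟨x, ⟨hxU, u, w', c', hu, hwu, hc', rfl⟩, rfl⟩
    refine Subgroup.subset_closure ⟨uInd_mem_uUni h hxU (uEich_mem h u w' c' hu hwu hc'), ?_⟩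
    exact ⟨_, _, _, _, _, _, uInd_uEich h u w' c' hu hwu hc'⟩
  exact hle ⟨k, hU hk.1, rfl⟩

/-! ### Strong closure -/

section

variable (h : HermSpace σ B) (U : Subgroup (V ≃ₗ[F] V))

/-- The Sylow subgroup two steps above. -/
abbrev uTwo : Subgroup ((F × F × (F × F × V)) ≃ₗ[F] (F × F × (F × F × V))) :=
  uUni h.ext (uUni h U)

variable {h U}

theorem exists_unit (h : HermSpace σ B) : ∃ v : F × F × V, uExt σ B v v = 1 := by
  obtain ⟨t, ht⟩ := h.exists_trace 1 (map_one σ)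
  exact ⟨(t, 1, 0), by simp [uExt, h.zero_left, ht]⟩

/-- A subgroup of the Sylow subgroup closed under fusion and containing a transvection at the
first vector is the whole Sylow subgroup. -/
theorem uTwo_le_of_closed (hnorm : ∀ a : F, σ a = a → ∃ r, r * σ r = a)
    (hU : U ≤ Subgroup.closure ((U : Set (V ≃ₗ[F] V)) ∩ uEichSet h))
    {T : Subgroup ((F × F × (F × F × V)) ≃ₗ[F] (F × F × (F × F × V)))}
    (hT : ∀ g ∈ uGroup h.ext.ext, ∀ t ∈ T, g * t * g⁻¹ ∈ uTwo h U → g * t * g⁻¹ ∈ T)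
    {d₀ : F} (hd₀ : d₀ + σ d₀ + uExt σ B (0 : F × F × V) 0 = 0) (hne : d₀ ≠ 0)
    (hmem : uT h.ext 0 d₀ hd₀ ∈ T) : uTwo h U ≤ T := by
  obtain ⟨v, hv⟩ := exists_unit h
  have hskew : ∀ {d : F}, d + σ d + uExt σ B (0 : F × F × V) 0 = 0 → d + σ d = 0 := fun {d} hd => by
    simpa [uExt, h.zero_left] using hd
  -- all transvections at the first vector
  have h0 : ∀ (d : F) (hd : d + σ d + uExt σ B (0 : F × F × V) 0 = 0), uT h.ext 0 d hd ∈ T := by
    intro d hd
    by_cases hd0 : d = 0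
    · subst hd0; rw [uT_zero]; exact one_mem _
    obtain ⟨r, hr⟩ := hnorm (d / d₀) (by
      rw [map_div₀, show σ d = -d by linear_combination hskew hd,
        show σ d₀ = -d₀ by linear_combination hskew hd₀, neg_div_neg_eq])
    have hr0 : r ≠ 0 := fun e => by
      rw [e, zero_mul, eq_comm, div_eq_zero_iff] at hr
      exact hr.elim hd0 hne
    obtain ⟨g, hg, hge⟩ := exists_uGroup_scale h.ext hv r hr0
    have hgi := uGroup_le _ hg
    have e : g * uT h.ext 0 d₀ hd₀ * g⁻¹ = uT h.ext 0 d hd := by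
      rw [uT, uEich_conj _ _ _ _ _ _ _ hgi]
      refine LinearEquiv.ext fun x => ?_
      rw [uEich_apply, uT_apply, hge]
      have hd' : d = d₀ * (r * σ r) := by rw [hr, mul_div_cancel₀ _ hne]
      have hz : g (0, 0, 0) = 0 := map_zero g
      rw [hz]
      refine Prod.ext ?_ (Prod.ext ?_ ?_) <;> simp [uExt, h.zero_right, hd']
      ring
    exact e ▸ hT g hg _ hmem (e.symm ▸ uT_mem_uUni _ _ _ _ _)
  obtain ⟨d, hd0, hd⟩ := h.exists_skew
  have hd' : d + σ d + uExt σ B (0 : F × F × V) 0 = 0 := by simpa [uExt, h.zero_left] using hd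
  have hdB := skew_fill h hd
  -- transvections at the first vector of the second plane
  have h2 : ∀ (e : F) (he : e + σ e + B (0 : V) 0 = 0), uInd (uT h 0 e he) ∈ T := by
    intro e he
    by_cases he0 : e = 0
    · subst he0; rw [uT_zero, uInd_one]; exact one_mem _
    obtain ⟨g, hg, hge⟩ := exists_uGroup_move h.ext hv (0, 0, (1, 0, 0))
      (by simp [uExt, h.zero_left]) (by simp)
    have he' : e + σ e + uExt σ B (0 : F × F × V) 0 = 0 := by simpa [uExt, h.zero_left] using he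
    have e1 : g * uT h.ext 0 e he' * g⁻¹ = uInd (uT h 0 e he) := by
      rw [uT, uEich_conj _ _ _ _ _ _ _ (uGroup_le _ hg), uT, uInd_uEich]
      exact uEich_congr h.ext.ext hge (map_zero g) rfl
    exact e1 ▸ hT g hg _ (h0 e he') (e1.symm ▸
      uInd_mem_uUni _ (uT_mem_uUni _ _ _ _ _) (uGroup_le _ (uT_mem h _ _ _)))
  -- the root group at the second vector
  have h1 : ∀ (t : F), ∀ hc : d + σ d + uExt σ B ((d * t, 0, 0) : F × F × V) (d * t, 0, 0) = 0,
      uT h.ext (d * t, 0, 0) d hc ∈ T := by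
    intro t hc
    have he : d * (t * σ t) + σ (d * (t * σ t)) + B (0 : V) 0 = 0 := by
      refine skew_fill h ?_
      rw [map_mul, map_mul, h.invol]; linear_combination (t * σ t) * hd
    have hg := uT'_mem h.ext ((t, 0, 0) : F × F × V) 0 (by simp [uExt, h.zero_left])
    set g := uT' h.ext ((t, 0, 0) : F × F × V) 0 (by simp [uExt, h.zero_left]) with hgdef
    have hge : g (1, 0, 0) = (1, 0, (t, 0, 0)) := by
      rw [hgdef, uT'_apply]; simp [uExt, h.zero_left]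
    have e1 : g * uT h.ext 0 d hd' * g⁻¹ =
        uT h.ext (d * t, 0, 0) d hc * uInd (uT h 0 (d * (t * σ t)) he) := by
      rw [uT, uEich_conj _ _ _ _ _ _ _ (uGroup_le _ hg)]
      refine LinearEquiv.ext fun x => ?_
      have hz : g (0, 0, 0) = 0 := map_zero g
      rw [uEich_apply, LinearEquiv.mul_apply, uInd_apply, uT_apply, uT_apply, hge, hz]
      refine Prod.ext ?_ (Prod.ext ?_ (Prod.ext ?_ (Prod.ext ?_ ?_))) <;>
        simp [uExt, h.zero_right, map_mul]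
      · linear_combination (x.2.2.2.1 * σ t) * hd
      · ring
    have hm := hT g hg _ (h0 d hd') (e1.symm ▸ mul_mem (uT_mem_uUni _ _ _ _ _)
      (uInd_mem_uUni _ (uT_mem_uUni _ _ _ _ _) (uGroup_le _ (uT_mem h _ _ _))))
    rw [e1] at hm
    simpa using mul_mem hm (inv_mem (h2 _ he))
  -- isotropic vectors
  let M : Set (F × F × V) := {w | ∃ (c : F) (hc : c + σ c + uExt σ B w w = 0), uT h.ext w c hc ∈ T}
  have hM0 : (0 : F × F × V) ∈ M := ⟨d₀, hd₀, hmem⟩
  have hMadd : ∀ w w', w ∈ M → w' ∈ M → w + w' ∈ M := by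
    rintro w w' ⟨c, hc, hm⟩ ⟨c', hc', hm'⟩
    obtain ⟨hc'', e⟩ := uT_mul h.ext w w' c c' hc hc'
    exact ⟨_, hc'', e ▸ mul_mem hm hm'⟩
  have hMe : ∀ x : F, ((x, 0, 0) : F × F × V) ∈ M := fun x => by
    have hc : d + σ d + uExt σ B ((d * (x / d), 0, 0) : F × F × V) (d * (x / d), 0, 0) = 0 := by
      simp [uExt, h.zero_left, hd]
    refine ⟨d, by simp [uExt, h.zero_left, hd], ?_⟩
    rw [uT_congr h.ext (show ((x, 0, 0) : F × F × V) = (d * (x / d), 0, 0) by
      rw [mul_div_cancel₀ _ hd0]) rfl (hc' := hc)]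
    exact h1 (x / d) hc
  have hMiso : ∀ w, uExt σ B w w = 0 → w ∈ M := by
    intro w hw
    by_cases hw0 : w = 0
    · exact hw0 ▸ hM0
    obtain ⟨k, hk, x, hx, hkw⟩ := exists_uGroup_line h w hw hw0
    obtain ⟨c, hc, hm⟩ := hMe x
    have hki := uGroup_le _ hk
    have e1 : (uInd k)⁻¹ * uT h.ext (x, 0, 0) c hc * ((uInd k)⁻¹)⁻¹ =
        uT h.ext w c (by rw [hw]; simpa [uExt, h.zero_left] using hc) := by
      rw [← uInd_inv, uInd_conj_uT h.ext (inv_mem hki)]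
      refine uT_congr h.ext ?_ rfl
      show k.symm _ = w
      rw [LinearEquiv.symm_apply_eq, hkw]
      simp
    exact ⟨c, _, e1 ▸ hT _ (inv_mem (uInd_uGroup h.ext hk)) _ hm (e1.symm ▸ uT_mem_uUni _ _ _ _ _)⟩
  have hMall : ∀ w, w ∈ M := by
    intro w
    obtain ⟨c, hc⟩ := h.exists_fill w.2.2
    have hdec : w = (w.1 - c, 0, 0) + (0, w.2.1 - 1, 0) + (c, 1, w.2.2) := by ext <;> simp
    rw [hdec]
    refine hMadd _ _ (hMadd _ _ (hMe _) (hMiso _ ?_)) (hMiso _ ?_)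
    · simp [uExt, h.zero_left]
    · simp only [uExt, map_one, mul_one, one_mul]; exact hc
  have hrad : ∀ w c hc, uT h.ext w c hc ∈ T := by
    intro w c hc
    obtain ⟨c', hc', hm⟩ := hMall w
    obtain ⟨hc'', e⟩ := uT_mul h.ext w 0 c' (c - c') hc'
      (by rw [map_sub, h.ext.zero_left]; linear_combination hc - hc')
    have := mul_mem hm (h0 (c - c') (by rw [map_sub, h.ext.zero_left]; linear_combination hc - hc'))
    rw [e] at this
    convert this using 1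
    exact uT_congr h.ext (add_zero w).symm (by rw [h.ext.zero_left]; ring)
  -- all Eichler transformations in the Sylow subgroup
  refine (uUni_gen h.ext (uUni_gen h hU)).trans ((Subgroup.closure_le _).2 ?_)
  rintro _ ⟨hxU, u, w, c, hu, hwu, hc, rfl⟩
  by_cases hu0 : u = 0
  · subst hu0; rw [uEich_zero_left]; exact one_mem _
  obtain ⟨g, hg, hge⟩ := exists_uGroup_move h.ext hv u hu hu0
  have hgi := uGroup_le _ hg
  have hge' : g.symm u = (1, 0, 0) := by rw [LinearEquiv.symm_apply_eq, hge]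
  obtain ⟨hc', e⟩ := uEich_e1 h.ext (g.symm w) c (by simp [uExt, h.zero_left])
    (by rw [← hge']; exact ((inv_mem hgi : g⁻¹ ∈ biIsoGroup _) w u).trans hwu)
    (by
      refine Eq.trans (congrArg (c + σ c + ·) ?_) hc
      exact (inv_mem hgi : g⁻¹ ∈ biIsoGroup _) w w)
  have e2 : g * uT h.ext (g.symm w).2.2 _ hc' * g⁻¹ = uEich h.ext.ext u w c hu hwu hc := by
    rw [← e, uEich_conj _ _ _ _ _ _ _ hgi]
    exact uEich_congr _ hge (g.apply_symm_apply w) rfl
  exact e2 ▸ hT g hg _ (hrad _ _ _) (e2.symm ▸ hxU)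

/-! ### The radical at a totally isotropic plane -/

variable (h U)

/-- The elements of the Sylow subgroup fixing the first vector of the second plane. -/
def uPlane : Subgroup ((F × F × (F × F × V)) ≃ₗ[F] (F × F × (F × F × V))) where
  carrier := {g | g ∈ uTwo h U ∧ g (0, 0, (1, 0, 0)) = (0, 0, (1, 0, 0))}
  one_mem' := ⟨one_mem _, rfl⟩
  mul_mem' := fun {a b} ha hb => ⟨mul_mem ha.1 hb.1, by rw [LinearEquiv.mul_apply, hb.2, ha.2]⟩
  inv_mem' := fun {a} ha => ⟨inv_mem ha.1, by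
    show a.symm _ = _
    rw [LinearEquiv.symm_apply_eq, ha.2]⟩

variable {h U}

theorem uPlane_le : uPlane h U ≤ uTwo h U := fun _ hg => hg.1

theorem exists_of_mem_uPlane {g : (F × F × (F × F × V)) ≃ₗ[F] (F × F × (F × F × V))}
    (hg : g ∈ uPlane h U) :
    ∃ k ∈ U ⊓ biIsoGroup B, ∀ z, (g (0, 0, (0, 0, z))).2.2.2.2 = k z := by
  obtain ⟨⟨w, c, hc, l, hl, rfl⟩, -⟩ := hg
  obtain ⟨w', c', hc', k, hk, rfl⟩ := hl.1
  exact ⟨k, hk, fun z => by simp [LinearEquiv.mul_apply, uInd_apply, uT_apply]⟩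

theorem mem_uPlane {g : (F × F × (F × F × V)) ≃ₗ[F] (F × F × (F × F × V))}
    (hg : g ∈ biIsoGroup (uExt σ (uExt σ B))) (h1 : g (1, 0, 0) = (1, 0, 0))
    (h2 : g (0, 0, (1, 0, 0)) = (0, 0, (1, 0, 0))) {k : V ≃ₗ[F] V} (hk : k ∈ U)
    (hkz : ∀ z, (g (0, 0, (0, 0, z))).2.2.2.2 = k z) : g ∈ uPlane h U := by
  refine ⟨?_, h2⟩
  obtain ⟨w, c, hc, l, hl, rfl⟩ := eq_uT_uInd h.ext hg h1
  have hl1 : l (1, 0, 0) = (1, 0, 0) := by
    simpa [LinearEquiv.mul_apply, uInd_apply, uT_apply] using congrArg (fun q => q.2.2) h2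
  obtain ⟨w', c', hc', k', hk', rfl⟩ := eq_uT_uInd h hl hl1
  have : k' = k := LinearEquiv.ext fun z => by
    rw [← hkz z]; simp [LinearEquiv.mul_apply, uInd_apply, uT_apply]
  exact mul_mem (uT_mem_uUni _ _ _ _ _) (uInd_mem_uUni _
    (mul_mem (uT_mem_uUni _ _ _ _ _) (uInd_mem_uUni _ (this ▸ hk) hk')) hl)

/-- An isometry stabilizing the plane and fixing the rest normalizes the plane radical. -/
theorem plane_conj_mem {x : (F × F × (F × F × V)) ≃ₗ[F] (F × F × (F × F × V))}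
    (hx : x ∈ biIsoGroup (uExt σ (uExt σ B)))
    (h1 : ∃ a b : F, x (1, 0, 0) = (a, 0, (b, 0, 0))) (h2 : ∃ a b : F, x (0, 0, (1, 0, 0)) = (a, 0, (b, 0, 0)))
    (h1' : ∃ a b : F, x.symm (1, 0, 0) = (a, 0, (b, 0, 0)))
    (h2' : ∃ a b : F, x.symm (0, 0, (1, 0, 0)) = (a, 0, (b, 0, 0)))
    (hz : ∀ z, x (0, 0, (0, 0, z)) = (0, 0, (0, 0, z)))
    {g : (F × F × (F × F × V)) ≃ₗ[F] (F × F × (F × F × V))} (hg : g ∈ uPlane h U) :
    x * g * x⁻¹ ∈ uPlane h U := by
  obtain ⟨k, hk, hkz⟩ := exists_of_mem_uPlane hg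
  have hgi : g ∈ biIsoGroup (uExt σ (uExt σ B)) := by
    obtain ⟨w, c, hc, l, hl, rfl⟩ := hg.1
    exact mul_mem (uGroup_le _ (uT_mem _ _ _ _)) (uInd_mem hl.2)
  have hg1 := uUni_fix _ _ hg.1
  have hspan : ∀ a b : F, ((a, 0, (b, 0, 0)) : F × F × (F × F × V)) =
      a • ((1 : F), (0 : F), ((0, 0, 0) : F × F × V)) + b • (0, 0, (1, 0, 0)) := fun a b => by simp
  have hgspan : ∀ a b : F, g (a, 0, (b, 0, 0)) = (a, 0, (b, 0, 0)) := fun a b => by
    rw [hspan, map_add, map_smul, map_smul, hg.2]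
    rw [show g ((1 : F), (0 : F), ((0, 0, 0) : F × F × V)) = (1, 0, (0, 0, 0)) from hg1]
  refine mem_uPlane (mul_mem (mul_mem hx hgi) (inv_mem hx)) ?_ ?_ hk.1 fun z => ?_
  · obtain ⟨a, b, e⟩ := h1'
    show x (g (x.symm _)) = _
    rw [e, hgspan, ← e, x.apply_symm_apply]
  · obtain ⟨a, b, e⟩ := h2'
    show x (g (x.symm _)) = _
    rw [e, hgspan, ← e, x.apply_symm_apply]
  · show (x (g (x.symm _))).2.2.2.2 = _
    rw [show x.symm (0, 0, (0, 0, z)) = (0, 0, (0, 0, z)) by rw [LinearEquiv.symm_apply_eq, hz]]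
    set q := g (0, 0, (0, 0, z)) with hq
    have hy : q.2.1 = 0 := by
      have := hgi (0, 0, (0, 0, z)) (1, 0, 0)
      rw [hg1] at this
      simpa [uExt, h.zero_right, h.zero_left] using this
    have hy2 : q.2.2.2.1 = 0 := by
      have := hgi (0, 0, (0, 0, z)) (0, 0, (1, 0, 0))
      rw [hg.2] at this
      simpa [uExt, h.zero_right, h.zero_left] using this
    obtain ⟨a, b, e1⟩ := h1
    obtain ⟨a', b', e2⟩ := h2
    rw [← hkz z, ← hq, show q = q.1 • ((1 : F), (0 : F), ((0, 0, 0) : F × F × V)) +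
      q.2.2.1 • (0, 0, (1, 0, 0)) + (0, 0, (0, 0, q.2.2.2.2)) by ext <;> simp [hy, hy2],
      map_add, map_add, map_smul, map_smul, hz, e2,
      show x ((1 : F), (0 : F), ((0, 0, 0) : F × F × V)) = (a, 0, (b, 0, 0)) from e1]
    simp

/-! ### Scalars and centralizers -/

/-- A scalar. -/
def scal (a : F) (ha : a ≠ 0) : V ≃ₗ[F] V := LinearEquiv.smulOfUnit (Units.mk0 a ha)

theorem scal_apply (a : F) (ha : a ≠ 0) (x : V) : scal (V := V) a ha x = a • x := rfl

theorem scal_comm (a : F) (ha : a ≠ 0) (g : V ≃ₗ[F] V) : g * scal a ha = scal a ha * g :=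
  LinearEquiv.ext fun x => by simp [LinearEquiv.mul_apply, scal_apply]

theorem scal_inv_mem (h : HermSpace σ B) {μ : F} (hμ0 : μ ≠ 0) (hμ : μ * σ μ = 1) :
    scal (V := V) μ⁻¹ (inv_ne_zero hμ0) ∈ biIsoGroup B := fun u v => by
  rw [scal_apply, scal_apply, h.smul_left, h.smul_right, map_inv₀, ← mul_assoc, ← mul_inv, hμ, inv_one,
    one_mul]

theorem scal_mul_inv {μ : F} (hμ0 : μ ≠ 0) (g : V ≃ₗ[F] V) :
    scal μ hμ0 * (scal μ⁻¹ (inv_ne_zero hμ0) * g) = g :=
  LinearEquiv.ext fun x => by simp [LinearEquiv.mul_apply, scal_apply, smul_smul, hμ0]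

/-- The centralizer of the radical. -/
theorem exists_of_centralizes_uRad (h : HermSpace σ B) {g : (F × F × V) ≃ₗ[F] (F × F × V)}
    (hg : g ∈ biIsoGroup (uExt σ B)) (hc : ∀ x ∈ uRad h, x * g = g * x) :
    ∃ (μ : F) (hμ : μ ≠ 0), ∃ r ∈ uRad h, g = scal μ hμ * r := by
  obtain ⟨d, hd0, hd⟩ := h.exists_skew
  obtain ⟨μ, hμ, hμ1⟩ := scale_of_commute h.ext (v := ((1 : F), (0 : F), (0 : V))) (d := d)
    (hv := by simp [uExt, h.zero_left]) (hd := by simpa [uExt, h.zero_left] using hd) hd0 (by simp) hg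
    (hc _ (uT_mem_uUni h ⊥ 0 d (skew_fill h hd)))
  have hμ0 : μ ≠ 0 := left_ne_zero_of_mul_eq_one hμ1
  set g' := scal μ⁻¹ (inv_ne_zero hμ0) * g with hg'
  have hg'i : g' ∈ biIsoGroup (uExt σ B) := mul_mem (scal_inv_mem h.ext hμ0 hμ1) hg
  have hg'c : ∀ x ∈ uRad h, x * g' = g' * x := fun x hx => by
    rw [hg', ← mul_assoc, scal_comm, mul_assoc, hc x hx, mul_assoc]
  have hg'1 : g' (1, 0, 0) = (1, 0, 0) := by
    rw [hg', LinearEquiv.mul_apply, hμ, scal_apply, smul_smul, inv_mul_cancel₀ hμ0, one_smul]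
  obtain ⟨w, c, hcw, k, hk, e⟩ := eq_uT_uInd h hg'i hg'1
  have hk1 : k = 1 := by
    refine LinearEquiv.ext fun v => ?_
    obtain ⟨cv, hcv⟩ := h.exists_fill v
    obtain ⟨hc', e'⟩ := uT_conj_uT h w (k v) c cv hcw (by rw [hk, hcv])
    have h1 : g' * uT h v cv hcv * g'⁻¹ = uT h v cv hcv := by
      rw [← hg'c _ (uT_mem_uUni h ⊥ v cv hcv), mul_inv_cancel_right]
    have h2 : uT h (k v) _ hc' * uInd 1 = uT h v cv hcv * uInd 1 := by
      rw [uInd_one, mul_one, mul_one, ← e', ← uInd_conj_uT h hk v cv hcv]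
      refine Eq.trans ?_ h1
      rw [e]
      group
    exact (uT_uInd_inj h h2).1
  refine ⟨μ, hμ0, g', (mem_uRad h).2 ⟨w, c, hcw, ?_⟩, (scal_mul_inv hμ0 g).symm⟩
  rw [e, hk1, uInd_one, mul_one]

/-- The centralizer of the plane radical. -/
theorem exists_of_centralizes_uPlane {g : (F × F × (F × F × V)) ≃ₗ[F] (F × F × (F × F × V))}
    (hg : g ∈ biIsoGroup (uExt σ (uExt σ B))) (hc : ∀ x ∈ uPlane h U, x * g = g * x) :
    ∃ (μ : F) (hμ : μ ≠ 0), ∃ r ∈ uPlane h U, g = scal μ hμ * r := by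
  obtain ⟨d, hd0, hd⟩ := h.exists_skew
  have hd' : d + σ d + uExt σ B (0 : F × F × V) 0 = 0 := by simpa [uExt, h.zero_left] using hd
  have hd'' : d + σ d + uExt σ (uExt σ B) (0 : F × F × (F × F × V)) 0 = 0 := by
    simpa [uExt, h.zero_left] using hd
  -- the transvection at `v` lies in the plane radical for `v` in the plane
  have htr : ∀ (v : F × F × (F × F × V)) (a b : F), v = (a, 0, (b, 0, 0)) →
      ∀ hv hwu, uEich h.ext.ext v 0 d hv hwu hd'' ∈ uPlane h U := by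
    intro v a b e hv hwu
    subst e
    refine mem_uPlane (uEich_mem _ _ _ _ _ _ _) ?_ ?_ (one_mem U) fun z => ?_ <;>
      simp [uEich_apply, uExt, h.zero_left, h.zero_right]
  have hsc : ∀ (a b : F), ((a, 0, (b, 0, 0)) : F × F × (F × F × V)) ≠ 0 → ∃ μ : F,
      g (a, 0, (b, 0, 0)) = μ • (a, 0, (b, 0, 0)) ∧ μ * σ μ = 1 := fun a b hne =>
    scale_of_commute h.ext.ext (hv := by simp [uExt, h.zero_left]) (hd := hd'') hd0 hne hg
      (hc _ (htr _ a b rfl _ _))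
  obtain ⟨μ, hμ, hμ1⟩ := hsc 1 0 (by simp)
  obtain ⟨μ', hμ', -⟩ := hsc 0 1 (by simp)
  obtain ⟨ν, hν, -⟩ := hsc 1 1 (by simp)
  have hμμ' : μ' = μ := by
    have : g (1, 0, (1, 0, 0)) = μ • (1, 0, (0, 0, 0)) + μ' • ((0 : F), (0 : F), ((1, 0, 0) : F × F × V)) := by
      rw [← hμ, ← hμ', ← map_add]; simp
    rw [hν] at this
    have e1 := congrArg Prod.fst this
    have e2 := congrArg (fun q : F × F × (F × F × V) => q.2.2.1) this
    simp at e1 e2
    exact e2.symm.trans e1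
  subst hμμ'
  have hμ0 : μ' ≠ 0 := left_ne_zero_of_mul_eq_one hμ1
  set g' := scal μ'⁻¹ (inv_ne_zero hμ0) * g with hg'
  have hg'i : g' ∈ biIsoGroup (uExt σ (uExt σ B)) := mul_mem (scal_inv_mem h.ext.ext hμ0 hμ1) hg
  have hg'c : ∀ x ∈ uPlane h U, x * g' = g' * x := fun x hx => by
    rw [hg', ← mul_assoc, scal_comm, mul_assoc, hc x hx, mul_assoc]
  have hg'1 : g' (1, 0, 0) = (1, 0, 0) := by
    rw [hg', LinearEquiv.mul_apply, show ((1, 0, 0) : F × F × (F × F × V)) = (1, 0, (0, 0, 0)) from rfl,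
      hμ, scal_apply, smul_smul, inv_mul_cancel₀ hμ0, one_smul]
  have hg'2 : g' (0, 0, (1, 0, 0)) = (0, 0, (1, 0, 0)) := by
    rw [hg', LinearEquiv.mul_apply, hμ', scal_apply, smul_smul, inv_mul_cancel₀ hμ0, one_smul]
  refine ⟨μ', hμ0, g', mem_uPlane hg'i hg'1 hg'2 (one_mem U) fun z => ?_, (scal_mul_inv hμ0 g).symm⟩
  obtain ⟨c, hcz⟩ := h.exists_fill z
  have hcz' : c + σ c + uExt σ B ((0, 0, z) : F × F × V) (0, 0, z) = 0 := by simpa [uExt] using hcz
  have hx : uT h.ext (0, 0, z) c hcz' ∈ uPlane h U := by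
    refine mem_uPlane (uGroup_le _ (uT_mem _ _ _ _)) ?_ ?_ (one_mem U) fun z' => ?_ <;>
      simp [uT_apply, uExt, h.zero_left]
  have h1 : g' * uT h.ext (0, 0, z) c hcz' * g'⁻¹ = uT h.ext (0, 0, z) c hcz' := by
    rw [← hg'c _ hx, mul_inv_cancel_right]
  rw [uT, uEich_conj _ _ _ _ _ _ _ hg'i] at h1
  have h2 := congrArg (fun q => (q ((0, 1, 0) : F × F × (F × F × V))).2.2.2.2) h1
  simpa [uEich_apply, uExt, hg'1, h.zero_left, h.zero_right] using h2

end

end Cfsg.Agent.Lib.Fusion.SUData
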