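import Cfsg.Agent.Lib.Fusion.InnerCriteria
import Cfsg.Agent.Lib.Fusion.ThompsonA
import Cfsg.Agent.Lib.Fusion.QdWitness
import Cfsg.Agent.Lib.ThompsonA.Thompson
import Cfsg.Agent.S2761

/-!
Thompson's normal `p`-complement theorem for saturated fusion systems, and the Frobenius criterion
with characteristic subgroups.
-/

set_option autoImplicit false
set_option linter.style.haveILetI false

namespace Cfsg.Agent.Lib.Fusion

open Cfsg Cfsg.FusionSystem

universe u

variable {Ω : Type u} [Group Ω] {S : Subgroup Ω} {F : FusionSystem S} {p : ℕ}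

/-- The centralizer system of `X` is inner. -/
def HasInnerCentralizer (F : FusionSystem S) (X : Subgroup Ω) : Prop :=
  ∀ C : FusionSystem (centralizerIn S X), F.IsCentralizerSystem X C → IsInnerSystem C

/-- `p` is odd or the system has no `Qd(2)`-witness. -/
def IsOddOrFree (p : ℕ) (F : FusionSystem S) : Prop := p ≠ 2 ∨ ¬ HasQdWitness F p

theorem centralizerIn_center (S : Subgroup Ω) :
    centralizerIn S (S ⊓ Subgroup.centralizer (S : Set Ω)) = S :=
  le_antisymm inf_le_left (le_inf le_rfl (Subgroup.le_centralizer_iff.mpr inf_le_right))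

theorem center_characteristic (S : Subgroup Ω) :
    ((S ⊓ Subgroup.centralizer (S : Set Ω)).subgroupOf S).Characteristic := by
  refine Subgroup.characteristic_iff_le_comap.mpr fun φ x hx => ?_
  refine ⟨(φ x).2, Subgroup.mem_centralizer_iff.mpr fun y hy => ?_⟩
  obtain ⟨z, hz⟩ := φ.surjective ⟨y, hy⟩
  have hxz : z * x = x * z := Subtype.ext (Subgroup.mem_centralizer_iff.mp hx.2 z z.2)
  have := congrArg φ hxz
  rw [map_mul, map_mul, hz] at this
  exact congrArg Subtype.val this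

theorem center_ne_bot [Finite S] [Fact p.Prime] (hS : IsPGroup p S) (h0 : S ≠ ⊥) :
    S ⊓ Subgroup.centralizer (S : Set Ω) ≠ ⊥ := by
  haveI : Nontrivial S := (Subgroup.nontrivial_iff_ne_bot S).mpr h0
  haveI := hS.center_nontrivial
  obtain ⟨z, hz⟩ := exists_ne (1 : Subgroup.center S)
  intro h
  apply hz
  have hmem : ((z : S) : Ω) ∈ S ⊓ Subgroup.centralizer (S : Set Ω) :=
    ⟨(z : S).2, Subgroup.mem_centralizer_iff.mpr fun y hy =>
      congrArg Subtype.val (Subgroup.mem_center_iff.mp z.2 ⟨y, hy⟩)⟩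
  rw [h, Subgroup.mem_bot] at hmem
  exact Subtype.ext (Subtype.ext hmem)

theorem thompsonSubgroupAOf_ne_bot' [Finite S] [Fact p.Prime] (hS : IsPGroup p S) (h0 : S ≠ ⊥) :
    thompsonSubgroupAOf S ≠ ⊥ := fun h =>
  centerThompsonAOf_ne_bot hS h0 (le_bot_iff.mp (inf_le_left.trans h.le))

theorem hasInnerCentralizer_of_normalizer [Finite S] [Fact p.Prime] (hS : IsPGroup p S)
    {Z : Subgroup Ω} (hZS : Z ≤ S) (hC : centralizerIn S Z = S) (hF : F.IsSaturated p)
    (h : HasInnerNormalizer F Z) : HasInnerCentralizer F Z := by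
  intro C hCs
  haveI : Finite (centralizerIn S Z) := finite_of_le inf_le_left
  have hZn : normalizerIn S Z = S :=
    le_antisymm inf_le_left (hC.ge.trans (inf_le_inf_left _ (Subgroup.centralizer_le_normalizer _)))
  have hZc : F.IsFullyCentralized Z :=
    ⟨hZS, fun R _ => by rw [hC]; exact Subgroup.card_le_of_le inf_le_left⟩
  obtain ⟨N, hN⟩ := exists_normalizerSystem F hZS
  refine isInner_of_subset_inner hS inf_le_left
    (isSaturated_centralizerSystem hS hF hZc hCs) fun P φ hφ => ?_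
  rw [hCs P] at hφ
  obtain ⟨h1, h2, h3, ψ, hψ, h4, h5⟩ := hφ
  have hmem : φ ∈ N.Hom P := by
    rw [hN P]
    refine ⟨h1, hZn.symm ▸ h2.trans inf_le_left, fun x => hZn.symm ▸ (h3 x).1, ψ, hψ, h4, ?_⟩
    ext y
    constructor
    · rintro ⟨z, hz, rfl⟩
      have := h5 ⟨z, hz⟩
      rw [show Subgroup.inclusion le_sup_right (⟨z, hz⟩ : Z) = z from Subtype.ext rfl] at this
      rw [this]
      exact hz
    · exact fun hy => ⟨⟨y, Subgroup.mem_sup_right hy⟩, hy, h5 ⟨y, hy⟩⟩
  obtain ⟨hP, g, hg, hx⟩ := (h N hN P).le hmem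
  exact ⟨hP.trans inf_le_left, g, hg.1, hx⟩

theorem hasInnerCentralizer_mono [Finite S] {E : FusionSystem S} (hEF : E.IsSubsystemOf F)
    {X : Subgroup Ω} (hX : X ≤ S) (h : HasInnerCentralizer F X) : HasInnerCentralizer E X := by
  intro N hN
  obtain ⟨M, hM⟩ := exists_centralizerSystem F hX
  refine isInnerSystem_of_le fun P φ hφ => (h M hM P).le ?_
  rw [hN P] at hφ
  obtain ⟨h1, h2, h3, ψ, hψ, h4, h5⟩ := hφ
  rw [hM P]
  exact ⟨hEF _ h1, h2, h3, ψ, hEF _ hψ, h4, h5⟩

/-- The centralizer in a model of a central subgroup with inner centralizer system has a normal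
`p`-complement. -/
theorem hasNormalPComplement_centralizer_of_inner [Fact p.Prime] {L : Type u} [Group L] [Finite L]
    {ι : ↥S →* L} (hι : F.IsRealizedBy ι) (P : Sylow p L) (hP : (P : Subgroup L) = ι.range)
    {Z : Subgroup Ω} (hZS : Z ≤ S) (hZc : centralizerIn S Z = S) (h : HasInnerCentralizer F Z) :
    HasNormalPComplement p
      (Subgroup.centralizer (((Z.subgroupOf S).map ι : Subgroup L) : Set L)) := by
  set N := Subgroup.centralizer (((Z.subgroupOf S).map ι : Subgroup L) : Set L) with hN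
  have hSN : ∀ s : S, ι s ∈ N := by
    intro s
    rw [hN, Subgroup.mem_centralizer_iff]
    rintro _ ⟨z, hz, rfl⟩
    rw [← map_mul, ← map_mul]
    congr 1
    exact Subtype.ext (Subgroup.mem_centralizer_iff.mp (hZc.ge s.2).2 _ hz)
  have hPN : (P : Subgroup L) ≤ N := by
    rw [hP]
    rintro _ ⟨s, rfl⟩
    exact hSN s
  refine Transfer.hasNormalPComplement_of_control (P.subtype hPN) fun x hx g hgx => ?_
  obtain ⟨s, hs⟩ : (x : L) ∈ ι.range := hP.le hx
  obtain ⟨t, ht⟩ : (g : L) * x * (g : L)⁻¹ ∈ ι.range := hP.le hgx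
  set R := Subgroup.zpowers (s : Ω) ⊔ Z with hR
  have hRS : R ≤ S := sup_le (Subgroup.zpowers_le.mpr s.2) hZS
  have hfixZ : ∀ (z : Ω) (hz : z ∈ Z),
      (g : L) * ι ⟨z, hZS hz⟩ * (g : L)⁻¹ = ι ⟨z, hZS hz⟩ := fun z hz => by
    have h1 := Subgroup.mem_centralizer_iff.mp g.2 (ι ⟨z, hZS hz⟩) ⟨⟨z, hZS hz⟩, hz, rfl⟩
    rw [← h1, mul_inv_cancel_right]
  have hgR : ∀ r : R, (g : L) * ι ⟨r, hRS r.2⟩ * (g : L)⁻¹ ∈ ι.range := by
    have hle : R ≤ ((ι.range.comap (MulAut.conj (g : L)).toMonoidHom).comap ι).map S.subtype := by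
      refine sup_le (Subgroup.zpowers_le.mpr ⟨s, ?_, rfl⟩) fun z hz => ⟨⟨z, hZS hz⟩, ?_, rfl⟩
      · show (g : L) * ι s * (g : L)⁻¹ ∈ ι.range
        rw [hs]
        exact ⟨t, ht⟩
      · show (g : L) * ι ⟨z, hZS hz⟩ * (g : L)⁻¹ ∈ ι.range
        rw [hfixZ z hz]
        exact ⟨_, rfl⟩
    intro r
    obtain ⟨w, hw, hwe⟩ := hle r.2
    have : w = ⟨r, hRS r.2⟩ := Subtype.ext hwe
    rw [← this]
    exact hw
  obtain ⟨ψ, hψ, hψg⟩ := Fusion87.exists_hom_of_conj hι hRS (g : L) hgR
  have hψZ : ∀ z : Z, ψ (Subgroup.inclusion le_sup_right z) = (z : Ω) := by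
    intro z
    have e := hψg (Subgroup.inclusion le_sup_right z) (val_mem hψ _)
    rw [show (⟨((Subgroup.inclusion le_sup_right z : R) : Ω),
      hRS (Subgroup.inclusion le_sup_right z : R).2⟩ : S) = ⟨z, hZS z.2⟩ from rfl,
      hfixZ z z.2] at e
    exact congrArg Subtype.val (hι.1 e)
  obtain ⟨M, hM⟩ := exists_centralizerSystem F hZS
  have hzR : Subgroup.zpowers (s : Ω) ≤ R := le_sup_left
  have hmem : ψ.comp (Subgroup.inclusion hzR) ∈ M.Hom (Subgroup.zpowers (s : Ω)) := by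
    rw [hM]
    refine ⟨restrict_mem hψ _, by rw [hZc]; exact hzR.trans hRS,
      fun y => by rw [hZc]; exact val_mem hψ _, ψ, hψ, fun y => rfl, hψZ⟩
  rw [h M hM] at hmem
  obtain ⟨-, a, ha, hae⟩ := hmem
  have hsR : (s : Ω) ∈ R := hzR (Subgroup.mem_zpowers _)
  refine ⟨⟨ι ⟨a, ha.1⟩, hSN _⟩, hP.ge ⟨_, rfl⟩, Subtype.ext ?_⟩
  show ι ⟨a, ha.1⟩ * (x : L) * (ι ⟨a, ha.1⟩)⁻¹ = (g : L) * x * (g : L)⁻¹
  rw [← hs, ← map_inv, ← map_mul, ← map_mul, show ι s = ι ⟨s, hRS hsR⟩ from rfl,
    ← hψg ⟨s, hsR⟩ (val_mem hψ _)]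
  congr 1
  exact Subtype.ext (hae ⟨s, Subgroup.mem_zpowers _⟩).symm

theorem map_thompsonSubgroupAOf {T : Subgroup Ω} {G : Type u} [Group G] {U : Subgroup G}
    (f : T →* G) (hf : Function.Injective f) (hr : f.range = U) :
    ((thompsonSubgroupAOf T).subgroupOf T).map f = thompsonSubgroupAOf U := by
  subst hr
  show (((thompsonSubgroupA T).map T.subtype).comap T.subtype).map f =
    (thompsonSubgroupA f.range).map f.range.subtype
  rw [Subgroup.comap_map_eq_self_of_injective T.subtype_injective,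
    ← map_thompsonSubgroupA (MonoidHom.ofInjective hf), Subgroup.map_map]
  rfl

theorem map_center {T : Subgroup Ω} {G : Type u} [Group G] {U : Subgroup G}
    (f : T →* G) (hf : Function.Injective f) (hr : f.range = U) :
    ((T ⊓ Subgroup.centralizer (T : Set Ω)).subgroupOf T).map f =
      U ⊓ Subgroup.centralizer (U : Set G) := by
  subst hr
  ext y
  constructor
  · rintro ⟨x, hx, rfl⟩
    refine ⟨⟨x, rfl⟩, Subgroup.mem_centralizer_iff.mpr ?_⟩
    rintro _ ⟨z, rfl⟩
    rw [← map_mul, ← map_mul]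
    congr 1
    exact Subtype.ext (Subgroup.mem_centralizer_iff.mp hx.2 z z.2)
  · rintro ⟨⟨x, rfl⟩, hc⟩
    refine ⟨x, ⟨x.2, Subgroup.mem_centralizer_iff.mpr fun z hz => ?_⟩, rfl⟩
    have := Subgroup.mem_centralizer_iff.mp hc (f ⟨z, hz⟩) ⟨_, rfl⟩
    rw [← map_mul, ← map_mul] at this
    exact congrArg Subtype.val (hf this)

theorem IsOddOrFree.not_involves [Fact p.Prime] {L : Type u} [Group L] [Finite L] {ι : ↥S →* L}
    (hr : F.IsRealizedBy ι) (P : Sylow p L) (hP : (P : Subgroup L) = ι.range)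
    (h : IsOddOrFree p F) : p ≠ 2 ∨ ¬ Involves (Equiv.Perm (Fin 4)) L := by
  rcases h with h | h
  · exact Or.inl h
  by_cases hp : p = 2
  · subst hp
    obtain ⟨e⟩ := Cfsg.Agent.S2761.result
    exact Or.inr fun hinv => h (hasQdWitness_of_realized hr ⟨P, hP⟩
      (Involves.of_mulEquiv e.symm hinv))
  · exact Or.inl hp

theorem isOddOrFree_of_sectionFree [Finite S] [Fact p.Prime] (hS : IsPGroup p S)
    (hF : F.IsSaturated p) (h : p ≠ 2 ∨ F.IsSectionFree p (Equiv.Perm (Fin 4))) :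
    IsOddOrFree p F := by
  rcases h with h | h
  · exact Or.inl h
  by_cases hp : p = 2
  · subst hp
    obtain ⟨e⟩ := Cfsg.Agent.S2761.result
    refine Or.inr ((isSectionFree_qd_iff hS hF).mp ?_)
    intro Q hQn hQc N hN L _ ι hm hinv
    exact h Q hQn hQc N hN L ι hm (Involves.of_mulEquiv e hinv)
  · exact Or.inl hp

/-- The hypotheses of Thompson's theorem. -/
def ThompsonHyp (F : FusionSystem S) : Prop :=
  HasInnerCentralizer F (S ⊓ Subgroup.centralizer (S : Set Ω)) ∧
    HasInnerNormalizer F (thompsonSubgroupAOf S)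

/-- **Thompson's theorem for fusion systems.** -/
theorem isInner_of_thompson [Fact p.Prime] {Ω : Type u} [Group Ω] {S : Subgroup Ω} [Finite S]
    (hS : IsPGroup p S) {F : FusionSystem S} (hF : F.IsSaturated p) (hfree : IsOddOrFree p F)
    (h : ThompsonHyp F) : IsInnerSystem F := by
  refine isInner_of_criterion (fun F => IsOddOrFree p F) (fun F => ThompsonHyp F)
    ?_ ?_ ?_ ?_ ?_ hS hF hfree h
  · intro Ω _ S T F E hTS hEF hF
    exact hF.imp id fun hF hE => hF (hE.mono hTS hEF)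
  · intro Ω _ S _ F Q Ω' _ S' θ E hE hF
    exact hF.imp id fun hF hw => hF (hw.of_factor hE)
  · intro Ω _ S _ F hS hF h0 h
    exact ⟨hasInnerCentralizer_of_normalizer hS inf_le_left (centralizerIn_center S) hF
      (h _ inf_le_left (center_ne_bot hS h0) (center_characteristic S)),
      h _ (thompsonSubgroupAOf_le S) (thompsonSubgroupAOf_ne_bot' hS h0)
        (thompsonSubgroupAOf_characteristic S)⟩
  · intro Ω _ S _ F E _ _ hEF hC
    exact ⟨hasInnerCentralizer_mono hEF inf_le_left hC.1,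
      hasInnerNormalizer_mono hEF (thompsonSubgroupAOf_le S) hC.2⟩
  · intro Ω _ S _ F hS hF hfree hC _ _ _
    obtain ⟨L, _, _, ι, hm⟩ := exists_model_of_isConstrained hS hF
    obtain ⟨P, hP⟩ := hm.2.2.1
    refine isInner_of_hasNormalPComplement hm.2.1 P hP
      (ThompsonA.hasNormalPComplement_of_thompsonA (hfree.not_involves hm.2.1 P hP) P ?_ ?_)
    · have := hasNormalPComplement_normalizer_of_inner hm.2.1 P hP (thompsonSubgroupAOf_le S)
        (normalizerIn_eq_self_of_characteristic (thompsonSubgroupAOf_le S)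
          (thompsonSubgroupAOf_characteristic S)) hC.2
      rwa [map_thompsonSubgroupAOf ι hm.2.1.1 hP.symm] at this
    · have := hasNormalPComplement_centralizer_of_inner hm.2.1 P hP inf_le_left
        (centralizerIn_center S) hC.1
      rwa [map_center ι hm.2.1.1 hP.symm] at this

/-- Automizers of characteristic subgroups are `p`-groups. -/
def CharAutHyp (p : ℕ) (F : FusionSystem S) : Prop :=
  ∀ Q : Subgroup Ω, Q ≤ S → Q ≠ ⊥ → (Q.subgroupOf S).Characteristic → IsPGroup p (F.autGroup Q)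

theorem centralizerIn_thompsonSubgroupAOf_le (S : Subgroup Ω) [Finite S] :
    centralizerIn S (thompsonSubgroupAOf S) ≤ thompsonSubgroupAOf S := by
  rintro x ⟨hxS, hxc⟩
  obtain ⟨A, hA⟩ := CD.exists_mem_maxAbelianSubgroups (G := S)
  refine ⟨⟨x, hxS⟩, le_sSup (α := Subgroup S) hA ?_, rfl⟩
  rw [← CD.centralizer_maxAbelian hA]
  refine Subgroup.mem_centralizer_iff.mpr fun a ha => Subtype.ext ?_
  exact Subgroup.mem_centralizer_iff.mp hxc a ⟨a, le_sSup (α := Subgroup S) hA ha, rfl⟩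

theorem isPGroup_autGroup_of_hasInnerNormalizer [Finite S] (hS : IsPGroup p S) {Y : Subgroup Ω}
    (hY : Y ≤ S) (h : HasInnerNormalizer F Y) : IsPGroup p (F.autGroup Y) := by
  obtain ⟨N, hN⟩ := exists_normalizerSystem F hY
  refine (isPGroup_autGroup_of_isInner (hS.to_le inf_le_left) (h N hN)
    (le_normalizerIn hY)).to_le ?_
  intro α hα
  have hαH := autGroup_hom_mem hY hα
  refine (mem_autGroup (le_normalizerIn hY)).2 ?_
  rw [hN Y]
  refine ⟨hαH, le_normalizerIn hY, fun x => le_normalizerIn hY (α x).2,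
    (autHom α).comp (Subgroup.inclusion (sup_idem Y).le), restrict_mem hαH _, fun x => rfl, ?_⟩
  haveI : Finite Y := finite_of_le hY
  refine Subgroup.eq_of_le_of_card_ge ?_ (card_imgSub
    (F.injective_of_mem (restrict_mem hαH (sup_idem Y).le)) le_sup_right).ge
  intro y hy
  obtain ⟨z, hz, rfl⟩ := mem_imgSub.1 hy
  exact (α _).2

theorem autGroup_le_autInducedBy_of_isPGroup [Finite S] [Fact p.Prime] (hS : IsPGroup p S)
    (hF : F.IsSaturated p) {Y : Subgroup Ω} (hY : F.IsFullyNormalized Y)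
    (h : IsPGroup p (F.autGroup Y)) : F.autGroup Y ≤ autInducedBy S Y := by
  intro α hα
  obtain ⟨R, hR⟩ := (isFullyAutomized_of_isFullyNormalized hS hF hY).2
  have htop : (R : Subgroup (F.autGroup Y)) = ⊤ :=
    R.3 (show IsPGroup p (⊤ : Subgroup (F.autGroup Y)) from h.to_subgroup _) le_top |>.symm
  have hmem : (⟨α, hα⟩ : F.autGroup Y) ∈ (R : Subgroup (F.autGroup Y)) := htop ▸ Subgroup.mem_top _
  rwa [hR] at hmem

theorem extHom_of_isNormal_of_isPGroup [Finite S] [Fact p.Prime] (hS : IsPGroup p S)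
    (hF : F.IsSaturated p) {Y : Subgroup Ω} (hY : F.IsNormal Y) (h : IsPGroup p (F.autGroup Y))
    (P : Subgroup Ω) : F.Hom P ⊆ extHom F Y S (autInducedBy S Y) P := by
  intro φ hφ
  obtain ⟨ψ, hψ, hψe, hψY⟩ := hY.2 P φ hφ
  haveI : Finite Y := finite_of_le hY.1
  obtain ⟨β, hβ, hβe⟩ := exists_aut_of_hom
    (restrict_mem hψ (le_sup_right : Y ≤ P ⊔ Y)) fun y => hψY.le ⟨_, y.2, rfl⟩
  exact ⟨hφ, src_le hφ, val_mem hφ, ψ, hψ, hψe, β,
    autGroup_le_autInducedBy_of_isPGroup hS hF (isFullyNormalized_of_isNormal hY) h hβ,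
    fun y => (hβe y).symm⟩

/-- **The Frobenius criterion with characteristic subgroups.** -/
theorem isInner_of_charAut [Fact p.Prime] {Ω : Type u} [Group Ω] {S : Subgroup Ω} [Finite S]
    (hS : IsPGroup p S) {F : FusionSystem S} (hF : F.IsSaturated p) (hfree : IsOddOrFree p F)
    (h : CharAutHyp p F) : IsInnerSystem F := by
  refine isInner_of_criterion (fun F => IsOddOrFree p F) (fun F => CharAutHyp p F)
    ?_ ?_ ?_ ?_ ?_ hS hF hfree h
  · intro Ω _ S T F E hTS hEF hF
    exact hF.imp id fun hF hE => hF (hE.mono hTS hEF)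
  · intro Ω _ S _ F Q Ω' _ S' θ E hE hF
    exact hF.imp id fun hF hw => hF (hw.of_factor hE)
  · intro Ω _ S _ F hS _ _ h Q hQ h1 hc
    exact isPGroup_autGroup_of_hasInnerNormalizer hS hQ (h Q hQ h1 hc)
  · intro Ω _ S _ F E _ _ hEF hC Q hQ h1 hc
    exact (hC Q hQ h1 hc).to_le (autGroup_mono hEF Q)
  intro Ω _ S _ F hS hFc hfree hC h0 htop hIH
  have hF : F.IsSaturated p := hFc.1
  set J := thompsonSubgroupAOf S with hJdef
  set Z := S ⊓ Subgroup.centralizer (S : Set Ω) with hZdef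
  have hJS : J ≤ S := thompsonSubgroupAOf_le S
  have hJc := thompsonSubgroupAOf_characteristic S
  have hJn : normalizerIn S J = S := normalizerIn_eq_self_of_characteristic hJS hJc
  have hZc : (Z.subgroupOf S).Characteristic := center_characteristic S
  have hZn : normalizerIn S Z = S := normalizerIn_eq_self_of_characteristic inf_le_left hZc
  have hin : ∀ X : Subgroup Ω, X ≤ S → normalizerIn S X = S → ¬ F.IsNormal X →
      HasInnerNormalizer F X := by
    intro X hX hXS hXn N hN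
    haveI := finite_normalizerIn (S := S) X
    exact isInner_of_subset_inner hS inf_le_left
      (isSaturated_normalizerSystem hS hF (isFullyNormalized_of_normalizerIn_eq hX hXS) hN)
      fun P φ hφ => htop X hX hXS hXn P ((hN P) ▸ hφ)
  by_cases hJ : F.IsNormal J
  · -- `J` is centric, normal, with a `p`-group of automorphisms
    obtain ⟨L, _, _, ι, hm⟩ := exists_model_of_isConstrained hS hFc
    refine isInner_of_automizers hS hF fun R hRn hRc hRr => ?_
    have hJR : J ≤ R := Fusion87.le_centric_radical_of_isNormal hS hJ hRc hRr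
    have hRS := hRn.1
    haveI : Finite R := finite_of_le hRS
    intro α
    obtain ⟨α, hα⟩ := α
    have hαH := autGroup_hom_mem hRS hα
    obtain ⟨-, -, -, ψ, -, hψe, k, hk, hψk⟩ :=
      extHom_of_isNormal_of_isPGroup hS hF hJ
        (hC J hJS (thompsonSubgroupAOf_ne_bot' hS h0) hJc) R hαH
    obtain ⟨g, hg, hge⟩ := mem_autInducedBy.1 hk
    have hJconj : ∀ (x : R), (x : Ω) ∈ J → (α x : Ω) = g * (x : Ω) * g⁻¹ := by
      intro x hx
      show autHom α x = _
      rw [← hψe x, ← hge ⟨x, hx⟩, ← hψk]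
      rfl
    have hgN : ∀ m : ℕ, g ^ m ∈ Subgroup.normalizer (J : Set Ω) := fun m =>
      (hJn.ge (pow_mem hg m)).2
    have hpow : ∀ (m : ℕ) (x : R), (x : Ω) ∈ J →
        ((α ^ m) x : Ω) = g ^ m * (x : Ω) * (g ^ m)⁻¹ := by
      intro m
      induction m with
      | zero => intro x _; simp
      | succ m ihm =>
        intro x hx
        have e := ihm x hx
        have hmem : ((α ^ m) x : Ω) ∈ J := by
          rw [e]
          exact (Subgroup.mem_normalizer_iff.mp (hgN m) _).mp hx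
        rw [pow_succ', MulAut.mul_apply, hJconj _ hmem, e, pow_succ']
        group
    obtain ⟨j, hj⟩ := hS ⟨g, hg⟩
    set β := α ^ p ^ j with hβ
    have hfix : ∀ x : R, (x : Ω) ∈ J → β x = x := by
      intro x hx
      apply Subtype.ext
      rw [hβ, hpow (p ^ j) x hx, show g ^ p ^ j = 1 from congrArg Subtype.val hj]
      simp
    -- `β x * x⁻¹` centralises `J`
    have hdiff : ∀ x : R, ((β x * x⁻¹ : R) : Ω) ∈ J := by
      intro x
      refine centralizerIn_thompsonSubgroupAOf_le S ⟨hRS (β x * x⁻¹).2,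
        Subgroup.mem_centralizer_iff.mpr fun y hy => ?_⟩
      have hy' : (x : Ω)⁻¹ * y * x ∈ J := by
        have := (Subgroup.mem_normalizer_iff.mp (hJn.ge (S.inv_mem (hRS x.2))).2 y).mp hy
        simpa using this
      have h1 := hfix ⟨_, hJR hy'⟩ hy'
      rw [show (⟨(x : Ω)⁻¹ * y * x, hJR hy'⟩ : R) = x⁻¹ * ⟨y, hJR hy⟩ * x from rfl, map_mul,
        map_mul, map_inv, hfix ⟨y, hJR hy⟩ hy] at h1
      have h2 : (⟨y, hJR hy⟩ : R) * (β x * x⁻¹) = β x * x⁻¹ * ⟨y, hJR hy⟩ := by
        calc (⟨y, hJR hy⟩ : R) * (β x * x⁻¹)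
            = β x * ((β x)⁻¹ * ⟨y, hJR hy⟩ * β x) * x⁻¹ := by group
          _ = β x * (x⁻¹ * ⟨y, hJR hy⟩ * x) * x⁻¹ := by rw [h1]
          _ = β x * x⁻¹ * ⟨y, hJR hy⟩ := by group
      exact congrArg Subtype.val h2
    have hiter : ∀ (m : ℕ) (x : R), (β ^ m) x = (β x * x⁻¹) ^ m * x := by
      intro m
      induction m with
      | zero => intro x; simp
      | succ m ihm =>
        intro x
        rw [pow_succ' β, MulAut.mul_apply, ihm, map_mul, map_pow,
          hfix _ (hdiff x), pow_succ, mul_assoc, inv_mul_cancel_right]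
    haveI : Finite J := finite_of_le hJS
    obtain ⟨c, hc⟩ := (hS.to_le hJS).exists_card_eq
    refine ⟨j + c, Subtype.ext (MulEquiv.ext fun x => ?_)⟩
    show ((α ^ p ^ (j + c)) x) = x
    rw [pow_add _ j c, pow_mul, ← hβ, hiter]
    have : ((⟨_, hdiff x⟩ : J)) ^ p ^ c = 1 := by rw [← hc]; exact pow_card_eq_one'
    have h2 : (β x * x⁻¹) ^ p ^ c = 1 :=
      Subtype.ext (by simpa using congrArg Subtype.val this)
    rw [h2, one_mul]
  by_cases hZ : F.IsNormal Z
  · -- `Z(S)` is central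
    have hext := extHom_of_isNormal_of_isPGroup hS hF hZ
      (hC Z inf_le_left (center_ne_bot hS h0) hZc)
    haveI hQnor : (Z.subgroupOf S).Normal := ⟨fun n hn g =>
      ((Subgroup.mem_normalizer_iff.mp (hZn.ge g.2).2) n).mp hn⟩
    let θ : S →* ↥S ⧸ Z.subgroupOf S := QuotientGroup.mk' _
    have hθ : ∀ x : S, θ x = 1 ↔ (x : Ω) ∈ Z := fun x => QuotientGroup.eq_one_iff x
    have hrange : θ.range = ⊤ :=
      MonoidHom.range_eq_top_of_surjective θ (QuotientGroup.mk'_surjective _)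
    obtain ⟨E, hE⟩ := FusionFactor.exists_factorSystem
      (S' := (⊤ : Subgroup (↥S ⧸ Z.subgroupOf S))) θ F (stronglyClosed_of_isNormal hZ) hθ hrange
    refine isInner_of_factor hS hF hZ hext hE ?_
    have hsat : E.IsSaturated p := isSaturated_of_surjectiveMorphism hS hF
      (isSurjectiveMorphism_of_isFactorSystem hS hF (stronglyClosed_of_isNormal hZ) hE)
    have hS' : IsPGroup p (⊤ : Subgroup (↥S ⧸ Z.subgroupOf S)) :=
      (hS.to_quotient _).to_subgroup ⊤
    have hlt : Nat.card (⊤ : Subgroup (↥S ⧸ Z.subgroupOf S)) < Nat.card S := by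
      rw [Subgroup.card_top, ← Subgroup.index_eq_card,
        ← (Z.subgroupOf S).card_mul_index]
      refine lt_mul_of_one_lt_left (Nat.pos_of_ne_zero Subgroup.index_ne_zero_of_finite) ?_
      rw [Nat.card_congr (Subgroup.subgroupOfEquivOfLe (inf_le_left : Z ≤ S)).toEquiv]
      haveI : Finite Z := finite_of_le inf_le_left
      haveI : Nontrivial Z := (Subgroup.nontrivial_iff_ne_bot Z).mpr (center_ne_bot hS h0)
      exact Finite.one_lt_card
    refine hIH E hS' hlt hsat (hfree.imp id fun hF hw => hF (hw.of_factor hE)) ?_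
    intro Y _ hY1 hYc
    let V := preimageAlong θ Y
    have hVS : V ≤ S := Subgroup.map_subtype_le _
    have hVc : (V.subgroupOf S).Characteristic := by
      show ((((Y.comap θ)).map S.subtype).comap S.subtype).Characteristic
      rw [Subgroup.comap_map_eq_self_of_injective S.subtype_injective]
      refine Subgroup.characteristic_iff_le_comap.mpr fun φ x hx => ?_
      haveI := hZc
      let φ' : MulAut (↥S ⧸ Z.subgroupOf S) := QuotientGroup.congr _ _ φ
        (Subgroup.characteristic_iff_map_eq.mp hZc φ)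
      let ψ : MulAut (⊤ : Subgroup (↥S ⧸ Z.subgroupOf S)) :=
        Subgroup.topEquiv.trans (φ'.trans Subgroup.topEquiv.symm)
      have h1 := Subgroup.characteristic_iff_le_comap.mp hYc ψ
        (show (⟨θ x, Subgroup.mem_top _⟩ : (⊤ : Subgroup (↥S ⧸ Z.subgroupOf S))) ∈
          Y.subgroupOf ⊤ from hx)
      exact h1
    have hV1 : V ≠ ⊥ := by
      intro h
      refine center_ne_bot hS h0 (le_bot_iff.mp fun z hz => h.le ⟨⟨z, hz.1⟩, ?_, rfl⟩)
      show θ _ ∈ Y
      rw [(hθ _).mpr hz]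
      exact one_mem Y
    have hVp := hC V hVS hV1 hVc
    intro α
    obtain ⟨α, hα⟩ := α
    have hαH := autGroup_hom_mem le_top hα
    obtain ⟨-, φ, hφ, hP, hφS, hP', he⟩ := (hE.2.2.2 _ _).mp hαH
    haveI : Finite (preimageAlong θ Y) := finite_of_le hVS
    obtain ⟨β, hβ, hβe⟩ := exists_aut_of_hom hφ (fun x => (mem_preimageAlong_iff θ Y).2
      ⟨hφS x, (he x).subst (motive := fun z => z ∈ Y) (α _).2⟩)
    obtain ⟨j, hj⟩ := hVp ⟨β, hβ⟩
    refine ⟨j, Subtype.ext (MulEquiv.ext fun y => ?_)⟩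
    have hstep : ∀ (m : ℕ) (x : preimageAlong θ Y),
        ((α ^ m) ⟨θ ⟨x, hP x.2⟩, hP' x⟩ : ↥S ⧸ Z.subgroupOf S) = θ ⟨(β ^ m) x, hP ((β ^ m) x).2⟩ := by
      intro m
      induction m with
      | zero => intro x; rfl
      | succ m ihm =>
        intro x
        have e : (α ^ m) ⟨θ ⟨x, hP x.2⟩, hP' x⟩ = ⟨θ ⟨(β ^ m) x, hP ((β ^ m) x).2⟩, hP' _⟩ :=
          Subtype.ext (ihm x)
        rw [pow_succ', MulAut.mul_apply, e]
        refine (he ((β ^ m) x)).trans (congrArg θ (Subtype.ext ?_))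
        show φ ((β ^ m) x) = ((β ^ (m + 1)) x : Ω)
        rw [← hβe, pow_succ', MulAut.mul_apply]
    obtain ⟨s, hs⟩ := QuotientGroup.mk'_surjective _ (y : ↥S ⧸ Z.subgroupOf S)
    have hsV : (s : Ω) ∈ preimageAlong θ Y :=
      ⟨s, show θ s ∈ Y by rw [show θ s = y from hs]; exact y.2, rfl⟩
    have ey : y = ⟨θ ⟨(s : Ω), hP hsV⟩, hP' ⟨s, hsV⟩⟩ := Subtype.ext hs.symm
    show (α ^ p ^ j) y = y
    rw [ey]
    apply Subtype.ext
    rw [hstep (p ^ j) ⟨s, hsV⟩]
    congr 1
    apply Subtype.ext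
    show (((β ^ p ^ j) ⟨s, hsV⟩ : preimageAlong θ Y) : Ω) = s
    rw [show β ^ p ^ j = 1 from congrArg Subtype.val hj]
    rfl
  refine isInner_of_thompson hS hF hfree
    ⟨hasInnerCentralizer_of_normalizer hS inf_le_left (centralizerIn_center S) hF
      (hin Z inf_le_left hZn hZ), hin J hJS hJn hJ⟩

end Cfsg.Agent.Lib.Fusion

namespace Cfsg.Agent.Lib.Fusion

open Cfsg Cfsg.FusionSystem

universe v

variable {Ω : Type v} [Group Ω] {S : Subgroup Ω} {F : FusionSystem S} {p : ℕ}

/-- A non-inner system, all proper saturated subsystems on `S` of which are inner, is constrained. -/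
theorem isConstrained_of_sparse [Finite S] [Fact p.Prime] (hS : IsPGroup p S)
    (hF : F.IsSaturated p) (hfree : IsOddOrFree p F) (hne : ¬ IsInnerSystem F)
    (hsp : ∀ E : FusionSystem S, E.IsSaturated p → E.IsSubsystemOf F →
      (∀ P : Subgroup Ω, E.Hom P = F.Hom P) ∨ IsInnerSystem E) : F.IsConstrained p := by
  by_contra hnc
  refine hne (isInnerSystem_of_le (subset_of_reduction hS hF (innerFusionSystem S) ?_ ?_ ?_))
  · intro T hTS _ _ N hN hNF hY P φ hφ
    haveI : Finite T := finite_of_le hTS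
    rcases eq_or_ne T ⊥ with hT0 | hT0
    · have hPS := src_le hφ
      refine ⟨hPS.trans hTS, 1, S.one_mem, fun x => ?_⟩
      have hx : (x : Ω) = 1 := Subgroup.mem_bot.mp (hT0 ▸ hPS x.2)
      rw [show x = 1 from Subtype.ext hx, map_one]
      simp
    have hTp := hS.to_le hTS
    have hY' : ∀ Y : Subgroup Ω, Y ≤ T → Y ≠ ⊥ → (Y.subgroupOf T).Characteristic →
        HasInnerNormalizer N Y := fun Y hYT hY1 hYc M hM => by
      haveI := finite_normalizerIn (S := T) Y
      have hYn : N.IsFullyNormalized Y :=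
        isFullyNormalized_of_normalizerIn_eq hYT (normalizerIn_eq_self_of_characteristic hYT hYc)
      exact isInner_of_subset_inner hS (inf_le_left.trans hTS)
        (isSaturated_normalizerSystem hTp hN hYn hM)
        fun P φ hφ => hY Y hYT hY1 hYc P ((hM P) ▸ hφ)
    have hNin : IsInnerSystem N := isInner_of_thompson hTp hN
      (hfree.imp id fun hF hE => hF (hE.mono hTS hNF))
      ⟨hasInnerCentralizer_of_normalizer hTp inf_le_left (centralizerIn_center T) hN
        (hY' _ inf_le_left (center_ne_bot hTp hT0) (center_characteristic T)),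
       hY' _ (thompsonSubgroupAOf_le T) (thompsonSubgroupAOf_ne_bot' hTp hT0)
        (thompsonSubgroupAOf_characteristic T)⟩
    obtain ⟨hPT, g, hg, hx⟩ := (hNin P).le hφ
    exact ⟨hPT.trans hTS, g, hTS hg, hx⟩
  · intro E hE hEF hEc _ P φ hφ
    rcases hsp E hE hEF with h | h
    · refine absurd ?_ hnc
      obtain ⟨-, Q, hQ, hQS, hQc⟩ := hEc
      refine ⟨hF, Q, ⟨hQ.1, fun R ψ hψ => ?_⟩, hQS, fun R hR => hQc R ?_⟩
      · obtain ⟨χ, hχ, h1, h2⟩ := hQ.2 R ψ ((h R).symm ▸ hψ)
        exact ⟨χ, (h _) ▸ hχ, h1, h2⟩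
      · obtain ⟨χ, hχ, h1⟩ := hR
        exact ⟨χ, (h Q).symm ▸ hχ, h1⟩
    · exact (h P).le hφ
  · intro E hE hEF Q hQ hQ1 hc hmax hin htop P φ hφ
    suffices hEin : IsInnerSystem E from (hEin P).le hφ
    have hSQ := le_normalizer_of_isNormal hQ
    have hQS : Q < S := lt_of_le_of_ne hQ.1 fun h => hc (h ▸ inf_le_left)
    haveI hQnor : (Q.subgroupOf S).Normal := ⟨fun n hn g =>
      ((Subgroup.mem_normalizer_iff.mp (hSQ g.2)) n).mp hn⟩
    let θ : S →* ↥S ⧸ Q.subgroupOf S := QuotientGroup.mk' _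
    have hθ : ∀ x : S, θ x = 1 ↔ (x : Ω) ∈ Q := fun x => QuotientGroup.eq_one_iff x
    have hrange : θ.range = ⊤ :=
      MonoidHom.range_eq_top_of_surjective θ (QuotientGroup.mk'_surjective _)
    obtain ⟨E', hE'⟩ := FusionFactor.exists_factorSystem
      (S' := (⊤ : Subgroup (↥S ⧸ Q.subgroupOf S))) θ E (stronglyClosed_of_isNormal hQ) hθ hrange
    refine isInner_of_factor hS hE hQ hin hE' ?_
    have hsat : E'.IsSaturated p := isSaturated_of_surjectiveMorphism hS hE
      (isSurjectiveMorphism_of_isFactorSystem hS hE (stronglyClosed_of_isNormal hQ) hE')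
    have hS' : IsPGroup p (⊤ : Subgroup (↥S ⧸ Q.subgroupOf S)) :=
      (hS.to_quotient _).to_subgroup ⊤
    have htop' : (⊤ : Subgroup (↥S ⧸ Q.subgroupOf S)) ≠ ⊥ := by
      intro h
      apply hQS.ne
      refine le_antisymm hQ.1 fun x hx => (hθ ⟨x, hx⟩).mp ?_
      exact Subgroup.mem_bot.mp (h ▸ Subgroup.mem_top (θ ⟨x, hx⟩))
    have hY' : ∀ Y : Subgroup (↥S ⧸ Q.subgroupOf S), Y ≤ ⊤ → Y ≠ ⊥ →
        (Y.subgroupOf ⊤).Characteristic → HasInnerNormalizer E' Y := fun Y hY hY1 hYc =>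
      hasInnerNormalizer_factor hmax htop hE' hY hY1
        (normalizerIn_eq_self_of_characteristic hY hYc)
    exact isInner_of_thompson hS' hsat
      (hfree.imp id fun hF hw => hF ((hw.of_factor hE').mono le_rfl hEF))
      ⟨hasInnerCentralizer_of_normalizer hS' inf_le_left (centralizerIn_center _) hsat
        (hY' _ inf_le_left (center_ne_bot hS' htop') (center_characteristic _)),
       hY' _ (thompsonSubgroupAOf_le _) (thompsonSubgroupAOf_ne_bot' hS' htop')
        (thompsonSubgroupAOf_characteristic _)⟩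

end Cfsg.Agent.Lib.Fusion
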