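import Cfsg.Agent.Lib.Fusion87.Small
import Cfsg.Agent.Lib.Fusion87.Normal

/-!
For odd `p`, a strongly closed subgroup whose elements of order dividing `p` form an elementary abelian
subgroup of order at most `p²` is normal in the saturated fusion system.
-/

set_option autoImplicit false

namespace Cfsg.Agent.Lib.Fusion.SmallOmega

open Cfsg Cfsg.FusionSystem Cfsg.Agent.Lib.Fusion

/-- A `p`-element acting on a nontrivial `p`-group fixes a nontrivial element. -/
theorem exists_fixed_ne_one {W : Type*} [Group W] [Finite W] {p : ℕ} [Fact p.Prime]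
    (hW : IsPGroup p W) [Nontrivial W] (x : MulAut W) {k : ℕ} (hx : x ^ p ^ k = 1) :
    ∃ w : W, w ≠ 1 ∧ x w = w := by
  have hpz : IsPGroup p (Subgroup.zpowers x) := by
    intro y
    obtain ⟨i, hi⟩ := Subgroup.mem_zpowers_iff.1 y.2
    refine ⟨k, Subtype.ext ?_⟩
    rw [Subgroup.coe_pow, ← hi, ← zpow_natCast, ← zpow_mul, mul_comm, zpow_mul, zpow_natCast, hx,
      one_zpow, Subgroup.coe_one]
  have hdvd : p ∣ Nat.card W := by
    obtain ⟨n, hn, hcard⟩ := hW.nontrivial_iff_card.1 inferInstance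
    exact hcard ▸ dvd_pow_self p hn.ne'
  obtain ⟨b, hb, hb1⟩ := hpz.exists_fixed_point_of_prime_dvd_card_of_fixed_point W hdvd
    (a := (1 : W)) (fun g => smul_one g)
  exact ⟨b, hb1.symm, hb ⟨x, Subgroup.mem_zpowers x⟩⟩

section Rank2

variable {W : Type*} [CommGroup W]

/-- `w ↦ x w / w`. -/
def delta (x : MulAut W) : W →* W where
  toFun w := x w * w⁻¹
  map_one' := by simp
  map_mul' a b := by
    rw [map_mul, mul_inv]
    exact mul_mul_mul_comm _ _ _ _

theorem delta_apply (x : MulAut W) (w : W) : delta x w = x w * w⁻¹ := rfl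

theorem mem_ker_delta {x : MulAut W} {w : W} : w ∈ (delta x).ker ↔ x w = w := by
  rw [MonoidHom.mem_ker, delta_apply, mul_inv_eq_one]

theorem iter_apply {α : MulAut W} {w d : W} (h : α w = w * d) (hd : α d = d) (j : ℕ) :
    (α ^ j) w = w * d ^ j := by
  induction j with
  | zero => simp
  | succ j ih => rw [pow_succ', MulAut.mul_apply, ih, map_mul, map_pow, h, hd, mul_assoc, ← pow_succ']

theorem eq_zpowers_of_card_prime {p : ℕ} [hp : Fact p.Prime] {L : Subgroup W} (hL : Nat.card L = p)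
    {l : W} (hl : l ∈ L) (hl1 : l ≠ 1) : L = Subgroup.zpowers l := by
  refine le_antisymm (fun y hy => ?_) (Subgroup.zpowers_le.2 hl)
  have hne : (⟨l, hl⟩ : L) ≠ 1 := fun h => hl1 (congrArg Subtype.val h)
  have := mem_zpowers_of_prime_card hL (g' := (⟨y, hy⟩ : L)) hne
  obtain ⟨i, hi⟩ := Subgroup.mem_zpowers_iff.1 this
  exact Subgroup.mem_zpowers_iff.2 ⟨i, congrArg Subtype.val hi⟩

/-- A `p`-element outside `O_p(A)` on an elementary abelian group of order at most `p²` forces the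
inversion into `A`. -/
theorem exists_inv_aut [Finite W] {p : ℕ} [hp : Fact p.Prime] (hexp : ∀ w : W, w ^ p = 1)
    (hcard : Nat.card W ≤ p ^ 2) {A : Subgroup (MulAut W)} (x : A) {k : ℕ} (hx : x ^ p ^ k = 1)
    (hnot : x ∉ pCore p A) :
    Nat.card W = p ^ 2 ∧ ∃ α ∈ A, ∀ w : W, α w = w⁻¹ := by
  classical
  haveI : Finite (MulAut W) := Finite.of_injective (fun a : MulAut W => (a : W → W)) DFunLike.coe_injective
  have hx1 : x ≠ 1 := fun h => hnot (h ▸ one_mem _)
  have hxne : ∃ w, (x : MulAut W) w ≠ w := by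
    by_contra! h
    exact hx1 (Subtype.ext (MulEquiv.ext h))
  obtain ⟨w₀, hw₀⟩ := hxne
  haveI : Nontrivial W := ⟨⟨_, _, hw₀⟩⟩
  have hWp : IsPGroup p W := fun w => ⟨1, by rw [pow_one]; exact hexp w⟩
  have hxk : (x : MulAut W) ^ p ^ k = 1 := congrArg Subtype.val hx
  set L := (delta (x : MulAut W)).ker with hLdef
  obtain ⟨l₀, hl₀, hl₀x⟩ := exists_fixed_ne_one hWp _ hxk
  -- the orders
  obtain ⟨a, ha⟩ := IsPGroup.iff_card.1 hWp
  have ha2 : a ≤ 2 := (pow_le_pow_iff_right₀ hp.out.one_lt).1 (ha ▸ hcard)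
  obtain ⟨b, hb⟩ := IsPGroup.iff_card.1 (hWp.to_subgroup L)
  have hb0 : 0 < b := by
    by_contra h
    rw [Nat.eq_zero_of_not_pos h, pow_zero, Subgroup.card_eq_one] at hb
    exact hl₀ (Subgroup.mem_bot.1 (hb ▸ mem_ker_delta.2 hl₀x))
  have hba : b < a := by
    by_contra h
    have h1 : Nat.card W ≤ Nat.card L := by rw [ha, hb]; exact Nat.pow_le_pow_right hp.out.pos (by omega)
    have h2 : L = ⊤ := Subgroup.eq_top_of_le_card L h1
    exact hw₀ (mem_ker_delta.1 (show w₀ ∈ L by rw [h2]; exact Subgroup.mem_top _))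
  obtain ⟨rfl, rfl⟩ : a = 2 ∧ b = 1 := by omega
  rw [pow_one] at hb
  refine ⟨ha, ?_⟩
  -- the image of `delta` is `L`
  have hRcard : Nat.card (delta (x : MulAut W)).range = p := by
    have h := Subgroup.card_mul_index L
    rw [Subgroup.index_ker, hb, ha, pow_two] at h
    exact Nat.eq_of_mul_eq_mul_left hp.out.pos h
  have hδ : ∀ w, delta (x : MulAut W) w ∈ L := by
    set R := (delta (x : MulAut W)).range with hR
    have hinv : ∀ r ∈ R, (x : MulAut W) r ∈ R := by
      rintro _ ⟨w, rfl⟩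
      exact ⟨(x : MulAut W) w, by simp [delta_apply]⟩
    have hmap : R.map (x : MulAut W).toMonoidHom = R :=
      Subgroup.eq_of_le_of_card_ge (by rintro _ ⟨r, hr, rfl⟩; exact hinv r hr)
        (Subgroup.card_map_of_injective (x : MulAut W).injective).ge
    let e : MulAut R :=
      { toFun := fun r => ⟨(x : MulAut W) r, hinv r r.2⟩
        invFun := fun r => ⟨(x : MulAut W).symm r, by
          obtain ⟨s, hs, hsr⟩ := hmap.ge r.2
          rw [← hsr]
          show (x : MulAut W).symm ((x : MulAut W) s) ∈ R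
          rw [MulEquiv.symm_apply_apply]
          exact hs⟩
        left_inv := fun r => Subtype.ext ((x : MulAut W).symm_apply_apply _)
        right_inv := fun r => Subtype.ext ((x : MulAut W).apply_symm_apply _)
        map_mul' := fun r s => Subtype.ext (map_mul (x : MulAut W) _ _) }
    have hej : ∀ (j : ℕ) (r : R), ((e ^ j) r : W) = ((x : MulAut W) ^ j) r := by
      intro j
      induction j with
      | zero => intro r; rfl
      | succ j ih =>
        intro r
        rw [pow_succ', pow_succ', MulAut.mul_apply, MulAut.mul_apply, ← ih]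
        rfl
    have hek : e ^ p ^ k = 1 := MulEquiv.ext fun r => Subtype.ext (by rw [hej, hxk]; rfl)
    haveI : Nontrivial R := Finite.one_lt_card_iff_nontrivial.1 (hRcard ▸ hp.out.one_lt)
    obtain ⟨r, hr1, hr⟩ := exists_fixed_ne_one (hWp.to_subgroup R) e hek
    have hrL : (r : W) ∈ L := mem_ker_delta.2 (congrArg Subtype.val hr)
    have hr1' : (r : W) ≠ 1 := fun h => hr1 (Subtype.ext h)
    intro w
    have hw : delta (x : MulAut W) w ∈ Subgroup.zpowers (r : W) :=
      (eq_zpowers_of_card_prime hRcard r.2 hr1').le ⟨w, rfl⟩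
    exact Subgroup.zpowers_le.2 hrL hw
  have hAL : ∃ α : A, ∃ l ∈ L, (α : MulAut W) l ∉ L := by
    by_contra! hinv
    let N : Subgroup A :=
      { carrier := {α | (∀ l ∈ L, (α : MulAut W) l = l) ∧ ∀ w, (α : MulAut W) w * w⁻¹ ∈ L}
        one_mem' := ⟨fun l _ => rfl, fun w => by simp⟩
        mul_mem' := by
          rintro α β ⟨hα, hα'⟩ ⟨hβ, hβ'⟩
          refine ⟨fun l hl => ?_, fun w => ?_⟩
          · rw [Subgroup.coe_mul, MulAut.mul_apply, hβ l hl, hα l hl]
          · rw [Subgroup.coe_mul, MulAut.mul_apply]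
            have := L.mul_mem (hα' ((β : MulAut W) w)) (hβ' w)
            rwa [mul_assoc, inv_mul_cancel_left] at this
        inv_mem' := by
          rintro α ⟨hα, hα'⟩
          refine ⟨fun l hl => ?_, fun w => ?_⟩
          · conv_lhs => rw [← hα l hl]
            rw [Subgroup.coe_inv, MulAut.inv_apply_self]
          · have := L.inv_mem (hα' ((α : MulAut W)⁻¹ w))
            rw [MulAut.apply_inv_self, mul_inv_rev, inv_inv] at this
            rwa [Subgroup.coe_inv] }
    haveI : N.Normal := by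
      refine ⟨fun α hα β => ⟨fun l hl => ?_, fun w => ?_⟩⟩
      · rw [Subgroup.coe_mul, Subgroup.coe_mul, MulAut.mul_apply, MulAut.mul_apply, Subgroup.coe_inv]
        rw [hα.1 _ (by rw [← Subgroup.coe_inv]; exact hinv _ l hl), MulAut.apply_inv_self]
      · rw [Subgroup.coe_mul, Subgroup.coe_mul, MulAut.mul_apply, MulAut.mul_apply, Subgroup.coe_inv]
        have := hinv β _ (hα.2 ((β : MulAut W)⁻¹ w))
        rwa [map_mul, map_inv, MulAut.apply_inv_self] at this
    refine hnot (PSolvable.le_pCore (N := N) (fun α => ⟨1, Subtype.ext (Subtype.ext ?_)⟩) ?_)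
    · refine MulEquiv.ext fun w => ?_
      have h1 : (α : A).1 w = w * ((α : A).1 w * w⁻¹) := by rw [mul_comm w, inv_mul_cancel_right]
      rw [pow_one, Subgroup.coe_pow, Subgroup.coe_pow, iter_apply h1 (α.2.1 _ (α.2.2 w)), hexp, mul_one]
      rfl
    · exact ⟨fun l hl => mem_ker_delta.1 hl, fun w => hδ w⟩
  obtain ⟨α, l, hl, hm⟩ := hAL
  set m := (α : MulAut W) l with hm_def
  have hl1 : l ≠ 1 := fun h => hm (by rw [hm_def, h, map_one]; exact one_mem _)
  have hm1 : m ≠ 1 := fun h => hm (h ▸ one_mem _)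
  set y : MulAut W := (α : MulAut W) * (x : MulAut W) * (α : MulAut W)⁻¹ with hy
  have hym : y m = m := by
    rw [hy, MulAut.mul_apply, MulAut.mul_apply, hm_def, MulAut.inv_apply_self, mem_ker_delta.1 hl]
  set e₁ := delta (x : MulAut W) m with he₁
  have he₁L : e₁ ∈ L := hδ m
  have he₁1 : e₁ ≠ 1 := fun h => hm (MonoidHom.mem_ker.2 h)
  have hxm : (x : MulAut W) m = e₁ * m := by rw [he₁, delta_apply, inv_mul_cancel_right]
  have hxe : (x : MulAut W) e₁ = e₁ := mem_ker_delta.1 he₁L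
  set d := y e₁ * e₁⁻¹ with hd
  have hdm : d ∈ Subgroup.zpowers m := by
    have h1 : d = (α : MulAut W) (delta (x : MulAut W) ((α : MulAut W)⁻¹ e₁)) := by
      rw [hd, hy, delta_apply, map_mul, map_inv, MulAut.apply_inv_self]
      rfl
    obtain ⟨i, hi⟩ := Subgroup.mem_zpowers_iff.1 ((eq_zpowers_of_card_prime hb hl hl1).le
      (hδ ((α : MulAut W)⁻¹ e₁)))
    exact Subgroup.mem_zpowers_iff.2 ⟨i, by rw [h1, ← hi, map_zpow]⟩
  obtain ⟨i, hi⟩ := Subgroup.mem_zpowers_iff.1 hdm
  have hye : y e₁ = e₁ * m ^ i := by rw [hi, hd, mul_comm e₁, inv_mul_cancel_right]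
  have hip : (i : ZMod p) ≠ 0 := by
    intro h
    obtain ⟨j, rfl⟩ := (ZMod.intCast_zmod_eq_zero_iff_dvd i p).1 h
    have h1 : y e₁ = e₁ := by rw [hye, zpow_mul, zpow_natCast, hexp, one_zpow, mul_one]
    have h2 : (α : MulAut W)⁻¹ e₁ ∈ L := by
      refine mem_ker_delta.2 ((α : MulAut W).injective ?_)
      rw [MulAut.apply_inv_self]
      exact h1
    obtain ⟨n, hn⟩ := Subgroup.mem_zpowers_iff.1 ((eq_zpowers_of_card_prime hb hl hl1).le h2)
    have h3 : e₁ = m ^ n := by
      rw [← MulAut.apply_inv_self _ (α : MulAut W) e₁, ← hn, map_zpow]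
    refine hm ?_
    have hmn : m ∈ Subgroup.zpowers e₁ := by
      have hc : Nat.card (Subgroup.zpowers m) = p := by
        rw [Nat.card_zpowers]
        exact orderOf_eq_prime (hexp m) hm1
      exact (eq_zpowers_of_card_prime hc ⟨n, h3.symm⟩ he₁1).le (Subgroup.mem_zpowers m)
    exact Subgroup.zpowers_le.2 he₁L hmn
  set c : ℕ := (-((i : ZMod p))⁻¹).val with hc
  have hyc : (y ^ c) e₁ = e₁ * m⁻¹ := by
    rw [iter_apply hye (by rw [map_zpow, hym])]
    congr 1
    have h1 : ((i * c + 1 : ℤ) : ZMod p) = 0 := by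
      push_cast
      rw [hc, ZMod.natCast_val, ZMod.cast_id, mul_neg, mul_inv_cancel₀ hip, neg_add_cancel]
    obtain ⟨j, hj⟩ := (ZMod.intCast_zmod_eq_zero_iff_dvd _ p).1 h1
    refine eq_inv_of_mul_eq_one_left ?_
    rw [← zpow_natCast, ← zpow_mul, ← zpow_add_one, hj, zpow_mul, zpow_natCast, hexp, one_zpow]
  have hycm : (y ^ c) m = m := by
    have := iter_apply (α := y) (w := m) (d := 1) (by rw [hym, mul_one]) (map_one _) c
    rwa [one_pow, mul_one] at this
  set z : MulAut W := (x : MulAut W) * y ^ c * (x : MulAut W) with hz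
  have hzm : z m = e₁ := by
    rw [hz, MulAut.mul_apply, MulAut.mul_apply, hxm, map_mul, hyc, hycm, inv_mul_cancel_right, hxe]
  have hze : z e₁ = m⁻¹ := by
    rw [hz, MulAut.mul_apply, MulAut.mul_apply, hxe, hyc, map_mul, map_inv, hxe, hxm, mul_inv_rev,
      mul_left_comm, mul_inv_cancel, mul_one]
  refine ⟨z * z, ?_, fun w => ?_⟩
  · have hzA : z ∈ A :=
      A.mul_mem (A.mul_mem x.2 (A.pow_mem (A.mul_mem (A.mul_mem α.2 x.2) (A.inv_mem α.2)) c)) x.2
    exact A.mul_mem hzA hzA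
  · let I : Subgroup W :=
      { carrier := {w | (z * z) w = w⁻¹}
        one_mem' := by simp
        mul_mem' := fun {u v} (hu : (z * z) u = u⁻¹) (hv : (z * z) v = v⁻¹) => by
          show (z * z) (u * v) = (u * v)⁻¹
          rw [map_mul, hu, hv, mul_inv]
        inv_mem' := fun {u} (hu : (z * z) u = u⁻¹) => by
          show (z * z) u⁻¹ = u⁻¹⁻¹
          rw [map_inv, hu] }
    have hmI : m ∈ I := by
      show (z * z) m = m⁻¹
      rw [MulAut.mul_apply, hzm, hze]
    have heI : e₁ ∈ I := by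
      show (z * z) e₁ = e₁⁻¹
      rw [MulAut.mul_apply, hze, map_inv, hzm]
    obtain ⟨n, hn⟩ := IsPGroup.iff_card.1 (hWp.to_subgroup I)
    have hlt : p < Nat.card I := by
      have hle : L ≤ I := by
        rw [eq_zpowers_of_card_prime hb he₁L he₁1]
        exact Subgroup.zpowers_le.2 heI
      rw [← hb]
      refine lt_of_le_of_ne (Subgroup.card_le_of_le hle) fun h => hm ?_
      rw [Subgroup.eq_of_le_of_card_ge hle h.ge]
      exact hmI
    have hn2 : 2 ≤ n := by
      by_contra h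
      rw [hn] at hlt
      have := Nat.pow_le_pow_right hp.out.pos (show n ≤ 1 by omega)
      rw [pow_one] at this
      omega
    have htop : I = ⊤ := Subgroup.eq_top_of_le_card I (by
      rw [ha, hn]; exact Nat.pow_le_pow_right hp.out.pos hn2)
    exact (htop ▸ Subgroup.mem_top w : w ∈ I)

end Rank2

variable {Ω : Type*} [Group Ω] {S : Subgroup Ω} {F : FusionSystem S} {p : ℕ}

theorem exists_fixed_of_two_group {T : Type*} [Finite T] (hodd : Odd (Nat.card T)) (e : Equiv.Perm T)
    {s : ℕ} (he : e ^ 2 ^ s = 1) : ∃ t : T, e t = t := by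
  have hpz : IsPGroup 2 (Subgroup.zpowers e) := by
    intro y
    obtain ⟨i, hi⟩ := Subgroup.mem_zpowers_iff.1 y.2
    refine ⟨s, Subtype.ext ?_⟩
    rw [Subgroup.coe_pow, ← hi, ← zpow_natCast, ← zpow_mul, mul_comm, zpow_mul, zpow_natCast, he,
      one_zpow, Subgroup.coe_one]
  haveI : Fact (Nat.Prime 2) := ⟨Nat.prime_two⟩
  have h := hpz.card_modEq_card_fixedPoints T
  have hne : Nat.card (MulAction.fixedPoints (Subgroup.zpowers e) T) ≠ 0 := by
    intro h0
    rw [h0] at h
    exact (Nat.not_even_iff_odd.2 hodd) (Nat.even_iff.2 h)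
  obtain ⟨⟨t, ht⟩⟩ := (Nat.card_ne_zero.1 hne).1
  exact ⟨t, ht ⟨e, Subgroup.mem_zpowers e⟩⟩

/-- The criterion. -/
theorem isNormal_of_small_omega [Fact p.Prime] [Finite S] (hS : IsPGroup p S) (hF : F.IsSaturated p)
    (hp : p ≠ 2) {P V : Subgroup Ω} (hP : F.StronglyClosed P) (hVP : V ≤ P)
    (hVexp : ∀ x ∈ V, x ^ p = 1) (hVall : ∀ x ∈ P, x ^ p = 1 → x ∈ V) [IsMulCommutative V]
    (hVcard : Nat.card V ≤ p ^ 2) : F.IsNormal P := by
  classical
  have hPn := Fusion87.stronglyClosed_le_normalizer' hP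
  have hVS : V ≤ S := hVP.trans hP.1
  haveI : Finite V := finite_of_le hVS
  haveI : Finite P := finite_of_le hP.1
  have hVinv : ∀ (Q : Subgroup Ω) (φ : Q →* Ω), φ ∈ F.Hom Q → ∀ x : Q, (x : Ω) ∈ V → φ x ∈ V :=
    fun Q φ hφ x hx => hVall _ (Fusion87.stronglyClosed_apply hP hφ x (hVP hx))
      (by rw [← map_pow, show x ^ p = 1 from Subtype.ext (hVexp _ hx), map_one])
  have hVn : S ≤ Subgroup.normalizer (V : Set Ω) := by
    intro s hs
    have key : ∀ t ∈ S, ∀ v ∈ V, t * v * t⁻¹ ∈ V := fun t ht v hv =>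
      hVall _ ((Subgroup.mem_normalizer_iff.1 (hPn ht) v).1 (hVP hv))
        (by rw [conj_pow, hVexp v hv]; simp)
    refine Subgroup.mem_normalizer_iff.2 fun v => ⟨key s hs v, fun h => ?_⟩
    simpa [mul_assoc] using key s⁻¹ (S.inv_mem hs) _ h
  refine Fusion87.isNormal_of_le_centric_radical hS hF hP fun R _ hRc hRr => ?_
  have hRS := hRc.1
  haveI : Finite R := finite_of_le hRS
  haveI := finite_mulAut (S := S) hRS
  refine Fusion87.le_of_normalizerIn_le hS hRS hP.1 hPn fun g hg hgN => ?_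
  set W : Subgroup R := V.subgroupOf R with hW
  letI : CommGroup W := { (inferInstance : Group W) with
    mul_comm := fun a b => Subtype.ext (Subtype.ext (by
      have h := (IsMulCommutative.is_comm (M := V)).comm ⟨((a : R) : Ω), a.2⟩ ⟨((b : R) : Ω), b.2⟩
      exact congrArg (fun t : V => (t : Ω)) h)) }
  have hWinv : ∀ (a : F.autGroup R) (w : R), w ∈ W → (a : MulAut R) w ∈ W := fun a w hw =>
    hVinv R (autHom (a : MulAut R)) (autGroup_hom_mem hRS a.2) w hw
  let res : F.autGroup R →* MulAut W :=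
    { toFun := fun a =>
        { toFun := fun w => ⟨(a : MulAut R) w, hWinv a w w.2⟩
          invFun := fun w => ⟨((a⁻¹ : F.autGroup R) : MulAut R) w, hWinv a⁻¹ w w.2⟩
          left_inv := fun w => Subtype.ext (by simp)
          right_inv := fun w => Subtype.ext (by simp)
          map_mul' := fun u v => Subtype.ext (map_mul (a : MulAut R) _ _) }
      map_one' := MulEquiv.ext fun w => rfl
      map_mul' := fun a b => MulEquiv.ext fun w => rfl }
  have hres : ∀ (a : F.autGroup R) (w : W), ((res a w : R) : Ω) = ((a : MulAut R) w : Ω) := fun _ _ => rfl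
  set A := res.range
  have hgmem : conjAut R g hgN ∈ F.autGroup R :=
    autInducedBy_le_autGroup hRS (mem_autInducedBy_normalizer.2 ⟨g, hgN, hP.1 hg, rfl⟩)
  set cg : F.autGroup R := ⟨_, hgmem⟩ with hcg
  let Rq : Subgroup (F.autGroup R) :=
    { carrier := {a | ∀ r : R, ((a : MulAut R) r : Ω) * (r : Ω)⁻¹ ∈ P}
      one_mem' := fun r => by simp
      mul_mem' := fun {a b} ha hb r => by
        have := P.mul_mem (ha ((b : MulAut R) r)) (hb r)
        simpa [mul_assoc] using this
      inv_mem' := fun {a} ha r => by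
        have := P.inv_mem (ha ((a : MulAut R).symm r))
        rw [MulEquiv.apply_symm_apply, mul_inv_rev, inv_inv] at this
        exact this }
  haveI : Rq.Normal := by
    refine ⟨fun a ha b r => ?_⟩
    have h := Fusion87.stronglyClosed_apply hP (autGroup_hom_mem hRS b.2)
      ((a : MulAut R) ((b : MulAut R)⁻¹ r) * ((b : MulAut R)⁻¹ r)⁻¹) (ha _)
    rw [map_mul, map_inv, autHom_apply, autHom_apply, MulAut.apply_inv_self] at h
    exact h
  let K : Subgroup (F.autGroup R) := Rq ⊓ (pCore p A).comap res.rangeRestrict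
  haveI : K.Normal := inferInstance
  have hWfix : ∀ a : F.autGroup R, res a = 1 → ∀ r : R, (r : Ω) ∈ V → (a : MulAut R) r = r :=
    fun a ha r hr => congrArg Subtype.val (DFunLike.congr_fun ha (⟨r, hr⟩ : W))
  have hKp : IsPGroup p K := by
    refine Fusion87.isPGroup_of_coprime_trivial fun a ha => ?_
    obtain ⟨⟨a, haR, haA⟩, rfl⟩ : ∃ a' : K, a' = a := ⟨a, rfl⟩
    rw [← Subgroup.orderOf_coe] at ha
    have hres1 : res a = 1 := by
      have h1 : orderOf (⟨_, haA⟩ : pCore p A) ∣ orderOf a := by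
        rw [← Subgroup.orderOf_coe]
        exact orderOf_map_dvd res.rangeRestrict a
      obtain ⟨j, hj⟩ := PSolvable.pCore_isPGroup (p := p) (⟨_, haA⟩ : pCore p A)
      have h2 : orderOf (⟨_, haA⟩ : pCore p A) = 1 := Nat.eq_one_of_dvd_coprimes
        (Nat.Coprime.pow_right j ha) h1 (orderOf_dvd_of_pow_eq_one hj)
      exact congrArg (fun t : pCore p A => ((t : A) : MulAut W)) (orderOf_eq_one_iff.1 h2)
    refine Subtype.ext (Subtype.ext ?_)
    rw [← Subgroup.orderOf_coe] at ha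
    obtain ⟨C, hC, hCs, hCf⟩ := Fusion87.exists_small_characteristic (hS.to_le hRS)
    have hsmall : ∀ {G : Type _} [Group G] (z : G), Fusion87.IsSmall p z → z ^ p = 1 :=
      fun z hz => hz.resolve_right fun h => hp h.1
    refine Fusion87.eq_one_of_small_series hS hRS hP (fun i => if i = 0 then ⊥ else V) (n := 1) rfl
      (fun z hz hzs => hVall z hz (hsmall z hzs)) (fun i => ?_) a.2 ha (fun r => ?_) hC hCs (hCf _ ha)
      fun i hi r _ _ hrV => ?_
    · split_ifs
      · intro s _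
        refine Subgroup.mem_normalizer_iff.2 fun x => ?_
        simp [Subgroup.mem_bot]
      · exact hVn
    · have h := (Subgroup.mem_normalizer_iff.1 (hPn (S.inv_mem (hRS r.2))) _).1 (haR r)
      simpa [mul_assoc] using h
    · obtain rfl : i = 0 := by omega
      have := hWfix a hres1 r hrV
      simp [this]
  refine Fusion87.mem_of_radical hRc hRr K hKp (hP.1 hg) hgN fun a ha => ?_
  obtain rfl : a = cg := Subtype.ext ha
  refine ⟨fun r => ?_, ?_⟩
  · show (conjAut R g hgN r : Ω) * (r : Ω)⁻¹ ∈ P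
    rw [conjAut_apply]
    have h1 : (r : Ω) * g⁻¹ * (r : Ω)⁻¹ ∈ P :=
      (Subgroup.mem_normalizer_iff.1 (hPn (hRS r.2)) _).1 (P.inv_mem hg)
    simpa [mul_assoc] using P.mul_mem hg h1
  by_contra hnot
  obtain ⟨k, hk⟩ := hS ⟨g, hP.1 hg⟩
  have hgk : g ^ p ^ k = 1 := congrArg Subtype.val hk
  have hcgk : cg ^ p ^ k = 1 := by
    refine Subtype.ext (MulEquiv.ext fun r => Subtype.ext ?_)
    have key : ∀ j : ℕ, ((((cg : F.autGroup R) : MulAut R) ^ j) r : Ω) = g ^ j * r * (g ^ j)⁻¹ := by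
      intro j
      induction j with
      | zero => simp
      | succ j ih =>
        rw [pow_succ', MulAut.mul_apply, hcg, conjAut_apply, ← hcg, ih, pow_succ']
        group
    rw [Subgroup.coe_pow, key, hgk]
    simp
  have hexpW : ∀ w : W, w ^ p = 1 := fun w => Subtype.ext (Subtype.ext (hVexp _ w.2))
  have hle : Nat.card W ≤ Nat.card V := Nat.card_le_card_of_injective
    (fun w : W => (⟨(w : R), w.2⟩ : V)) fun u v h =>
      Subtype.ext (Subtype.ext (congrArg (fun t : V => (t : Ω)) h))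
  obtain ⟨hWcard, α, ⟨a, rfl⟩, hinv⟩ := exists_inv_aut hexpW (hle.trans hVcard)
    (res.rangeRestrict cg) (k := k) (by rw [← map_pow, hcgk, map_one]) hnot
  -- `V ≤ R` and `a` inverts it
  have hVR : V ≤ R := by
    have h1 : (W.map R.subtype) = V := Subgroup.eq_of_le_of_card_ge
      (by rintro _ ⟨w, hw, rfl⟩; exact hw)
      (by rw [Subgroup.card_map_of_injective R.subtype_injective, hWcard]; exact hVcard)
    rw [← h1]
    exact Subgroup.map_subtype_le W
  have ha : ∀ v : V, ((a : MulAut R) ⟨v, hVR v.2⟩ : Ω) = (v : Ω)⁻¹ := fun v =>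
    congrArg (fun w : W => ((w : R) : Ω)) (hinv ⟨⟨v, hVR v.2⟩, v.2⟩)
  set β : V →* Ω := (autHom (a : MulAut R)).comp (Subgroup.inclusion hVR) with hβ
  have hβmem : β ∈ F.Hom V := restrict_mem (autGroup_hom_mem hRS a.2) hVR
  have hβval : ∀ v : V, β v = (v : Ω)⁻¹ := ha
  have hβr : β.range = V := by
    ext v
    constructor
    · rintro ⟨w, rfl⟩; rw [hβval]; exact V.inv_mem w.2
    · intro hv; exact ⟨⟨v⁻¹, V.inv_mem hv⟩, by rw [hβval]; exact inv_inv v⟩
  have hrec : F.IsReceptive V := by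
    haveI := finite_normalizerIn (S := S) V
    refine isReceptive_of_isFullyNormalized hS hF ⟨hVS, fun Q _ => ?_⟩
    exact Subgroup.card_le_of_le
      (inf_le_left.trans (le_inf le_rfl hVn) : normalizerIn S Q ≤ normalizerIn S V)
  obtain ⟨ψ, hψ, hψv⟩ := hrec.2 V β hβmem hβr
  have hSext : S ≤ extender S V β := by
    intro s hs
    refine Subgroup.subset_closure ⟨hs, hVn hs, s, hs, fun v hv => ?_⟩
    rw [hβval, hβval]
    simp [mul_assoc]
  have hPext : P ≤ extender S V β := hP.1.trans hSext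
  have hψP := restrict_mem hψ hPext
  obtain ⟨θ, -, hθ⟩ := exists_aut_of_hom hψP fun t =>
    Fusion87.stronglyClosed_apply hP hψ (Subgroup.inclusion hPext t) t.2
  haveI : Finite (MulAut P) := Finite.of_injective (fun e : MulAut P => (e : P → P)) DFunLike.coe_injective
  have hθV : ∀ v : P, (v : Ω) ∈ V → θ v = v⁻¹ := by
    intro v hv
    refine Subtype.ext ?_
    rw [hθ v]
    show ψ ⟨(v : Ω), hPext v.2⟩ = _
    rw [hψv _ hv _, hβval]
    rfl
  obtain ⟨s, n, hn, hsn⟩ := Nat.exists_eq_pow_mul_and_not_dvd (orderOf_pos θ).ne' 2 (by norm_num)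
  set θ' := θ ^ n with hθ'
  have hθ'k : θ' ^ 2 ^ s = 1 := by
    rw [hθ', ← pow_mul, mul_comm, ← hsn, pow_orderOf_eq_one]
  have hθ'V : ∀ v : P, (v : Ω) ∈ V → θ' v = v⁻¹ := by
    intro v hv
    have key : ∀ j : ℕ, (θ ^ j) v = if Even j then v else v⁻¹ := by
      intro j
      induction j with
      | zero => simp
      | succ j ih =>
        rw [pow_succ', MulAut.mul_apply, ih]
        by_cases hj : Even j
        · rw [if_pos hj, if_neg (by simp [Nat.even_add_one, hj]), hθV v hv]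
        · rw [if_neg hj, if_pos (by simp [Nat.even_add_one, hj]), map_inv, hθV v hv, inv_inv]
    rw [hθ', key n, if_neg]
    rw [Nat.even_iff]
    omega
  -- the elements of `P` acting on `V` as `g`
  have hgV : ∀ v ∈ V, g * v * g⁻¹ ∈ V := fun v hv =>
    (Subgroup.mem_normalizer_iff.1 (hVn (hP.1 hg)) v).1 hv
  let T : Type _ := {t : P // ∀ v ∈ V, (t : Ω) * v * (t : Ω)⁻¹ = g * v * g⁻¹}
  have hTinv : ∀ t : T, ∀ v ∈ V, ((θ' t.1 : P) : Ω) * v * ((θ' t.1 : P) : Ω)⁻¹ = g * v * g⁻¹ := by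
    intro t v hv
    let v' : P := ⟨v⁻¹, P.inv_mem (hVP hv)⟩
    let w' : P := ⟨g * v⁻¹ * g⁻¹, hVP (hgV _ (V.inv_mem hv))⟩
    have e : t.1 * v' * t.1⁻¹ = w' := Subtype.ext (t.2 _ (V.inv_mem hv))
    have e2 := congrArg (fun u : P => ((θ' u : P) : Ω)) e
    simp only [map_mul, map_inv, hθ'V v' (V.inv_mem hv), hθ'V w' (hgV _ (V.inv_mem hv))] at e2
    simpa [v', w', mul_assoc] using e2
  have hθ'i : Function.Injective θ' := θ'.injective
  let f : T → T := fun t => ⟨θ' t.1, hTinv t⟩
  have hf : Function.Bijective f := by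
    rw [Finite.injective_iff_bijective.symm]
    exact fun t t' h => Subtype.ext (hθ'i (congrArg (fun u : T => u.1) h))
  have hfj : ∀ (j : ℕ) (t : T), (((Equiv.ofBijective f hf) ^ j) t).1 = (θ' ^ j) t.1 := by
    intro j
    induction j with
    | zero => intro t; rfl
    | succ j ih =>
      intro t
      rw [pow_succ', pow_succ', MulAut.mul_apply, ← ih]
      rfl
  have hodd : Odd (Nat.card T) := by
    let C : Subgroup P := (Subgroup.centralizer (V : Set Ω)).subgroupOf P
    let e : C ≃ T :=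
      { toFun := fun c => ⟨⟨g * c, P.mul_mem hg c.1.2⟩, fun v hv => by
          have hcv : v * (c : Ω) = (c : Ω) * v := c.2 v hv
          show g * (c : Ω) * v * (g * (c : Ω))⁻¹ = g * v * g⁻¹
          rw [mul_assoc g, ← hcv]
          group⟩
        invFun := fun t => ⟨⟨g⁻¹ * t, P.mul_mem (P.inv_mem hg) t.1.2⟩, fun v hv => by
          show v * (g⁻¹ * (t.1 : Ω)) = g⁻¹ * (t.1 : Ω) * v
          calc v * (g⁻¹ * (t.1 : Ω)) = g⁻¹ * (g * v * g⁻¹) * (t.1 : Ω) := by group
            _ = g⁻¹ * (t.1 : Ω) * v := by rw [← t.2 v hv]; group⟩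
        left_inv := fun c => Subtype.ext (Subtype.ext (by simp))
        right_inv := fun t => Subtype.ext (Subtype.ext (by simp)) }
    obtain ⟨j, hj⟩ := IsPGroup.iff_card.1 ((hS.to_le hP.1).to_subgroup C)
    rw [← Nat.card_congr e, hj]
    exact (((Fact.out : p.Prime).odd_of_ne_two hp)).pow
  obtain ⟨⟨y, hy⟩, hy'⟩ := exists_fixed_of_two_group hodd (Equiv.ofBijective f hf) (s := s)
    (Equiv.ext fun t => Subtype.ext (by rw [hfj, hθ'k]; rfl))
  have hyfix : θ' y = y := congrArg (fun u : T => u.1) hy'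
  -- `y` is not trivial
  have hy1 : y ≠ 1 := by
    rintro rfl
    refine hnot (?_ : res.rangeRestrict cg ∈ pCore p A)
    rw [show res.rangeRestrict cg = 1 from Subtype.ext (MulEquiv.ext fun w => Subtype.ext (Subtype.ext ?_))]
    · exact one_mem _
    · show (conjAut R g hgN (w : R) : Ω) = ((w : R) : Ω)
      rw [conjAut_apply]
      simpa using (hy _ w.2).symm
  obtain ⟨j, hj⟩ := (Nat.dvd_prime_pow (Fact.out : p.Prime)).1
    (orderOf_dvd_of_pow_eq_one (hS.to_le hP.1 y).choose_spec)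
  have hj0 : j ≠ 0 := by
    rintro rfl
    rw [pow_zero, orderOf_eq_one_iff] at hj
    exact hy1 hj.2
  set w := y ^ p ^ (j - 1) with hw
  have hwp : w ^ p = 1 := by
    rw [hw, ← pow_mul, ← pow_succ, Nat.sub_add_cancel (Nat.pos_of_ne_zero hj0), ← hj.2, pow_orderOf_eq_one]
  have hwV : (w : Ω) ∈ V := hVall _ w.2 (congrArg Subtype.val hwp)
  have hw1 : w ≠ 1 := pow_ne_one_of_lt_orderOf (pow_ne_zero _ (Fact.out : p.Prime).ne_zero) (by
    rw [hj.2]; exact Nat.pow_lt_pow_right (Fact.out : p.Prime).one_lt (by omega))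
  have h2 : w ^ 2 = 1 := by
    have h := hθ'V w hwV
    rw [hw, map_pow, hyfix, ← hw, eq_inv_iff_mul_eq_one] at h
    rw [pow_two, h]
  exact hw1 (orderOf_eq_one_iff.1 (Nat.eq_one_of_dvd_coprimes
    ((Nat.coprime_primes Nat.prime_two Fact.out).2 (Ne.symm hp))
    (orderOf_dvd_of_pow_eq_one h2) (orderOf_dvd_of_pow_eq_one hwp)))

end Cfsg.Agent.Lib.Fusion.SmallOmega
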