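import Cfsg.Agent.Lib.Fusion87.Small
import Cfsg.Agent.Lib.Fusion87.Normal

/-!
A strongly closed subgroup with a strongly closed central series on its small elements is normal.
-/

set_option autoImplicit false

namespace Cfsg.Agent.Lib.Fusion.SmallSeries

open Cfsg Cfsg.FusionSystem Cfsg.Agent.Lib.Fusion

variable {Ω : Type*} [Group Ω] {S : Subgroup Ω} {F : FusionSystem S} {p : ℕ}

theorem isNormal_of_small_central_series [Fact p.Prime] [Finite S] (hS : IsPGroup p S)
    (hF : F.IsSaturated p) {P : Subgroup Ω} (hP : F.StronglyClosed P) (c : ℕ → Subgroup Ω) {n : ℕ}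
    (h0 : c 0 = ⊥) (hn : ∀ x ∈ P, Fusion87.IsSmall p x → x ∈ c n)
    (hsc : ∀ i, F.StronglyClosed (c i))
    (hcent : ∀ i < n, ∀ x ∈ c (i + 1), ∀ q ∈ P, q * x * q⁻¹ * x⁻¹ ∈ c i) : F.IsNormal P := by
  refine Fusion87.isNormal_of_le_centric_radical hS hF hP fun R _ hRc hRr => ?_
  have hRS := hRc.1
  haveI := finite_mulAut (S := S) hRS
  haveI : Finite R := finite_of_le hRS
  have hPn := Fusion87.stronglyClosed_le_normalizer' hP
  refine Fusion87.le_of_normalizerIn_le hS hRS hP.1 hPn fun g hg hgN => ?_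
  let K : Subgroup (F.autGroup R) :=
    { carrier := {a | (∀ x : R, ((a : MulAut R) x : Ω) * (x : Ω)⁻¹ ∈ P) ∧
        ∀ i < n, ∀ x : R, (x : Ω) ∈ c (i + 1) → ((a : MulAut R) x : Ω) * (x : Ω)⁻¹ ∈ c i}
      one_mem' := ⟨fun x => by simp, fun i _ x _ => by simp⟩
      mul_mem' := by
        rintro a b ⟨ha, ha'⟩ ⟨hb, hb'⟩
        refine ⟨fun x => ?_, fun i hi x hx => ?_⟩
        · have := P.mul_mem (ha ((b : MulAut R) x)) (hb x)
          simpa [mul_assoc] using this
        · have hbx : (((b : MulAut R) x : R) : Ω) ∈ c (i + 1) :=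
            Fusion87.stronglyClosed_apply (hsc _) (autGroup_hom_mem hRS b.2) x hx
          have := (c i).mul_mem (ha' i hi _ hbx) (hb' i hi x hx)
          simpa [mul_assoc] using this
      inv_mem' := by
        rintro a ⟨ha, ha'⟩
        refine ⟨fun x => ?_, fun i hi x hx => ?_⟩
        · have := P.inv_mem (ha ((a : MulAut R).symm x))
          rw [MulEquiv.apply_symm_apply, mul_inv_rev, inv_inv] at this
          exact this
        · have hax : (((a⁻¹ : F.autGroup R) : MulAut R) x : Ω) ∈ c (i + 1) :=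
            Fusion87.stronglyClosed_apply (hsc _) (autGroup_hom_mem hRS (a⁻¹).2) x hx
          have := (c i).inv_mem (ha' i hi _ hax)
          rw [mul_inv_rev, inv_inv, InvMemClass.coe_inv, MulAut.apply_inv_self] at this
          exact this }
  haveI : K.Normal := by
    refine ⟨?_⟩
    rintro a ⟨ha, ha'⟩ b
    have key : ∀ T : Subgroup Ω, F.StronglyClosed T → ∀ x : R,
        ((a : MulAut R) ((b : MulAut R)⁻¹ x) : Ω) * (((b : MulAut R)⁻¹ x : R) : Ω)⁻¹ ∈ T →
        ((((b * a * b⁻¹ : F.autGroup R) : MulAut R) x : R) : Ω) * (x : Ω)⁻¹ ∈ T := by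
      intro T hT x hx
      have h := Fusion87.stronglyClosed_apply hT (autGroup_hom_mem hRS b.2)
        ((a : MulAut R) ((b : MulAut R)⁻¹ x) * ((b : MulAut R)⁻¹ x)⁻¹) hx
      rw [map_mul, map_inv, autHom_apply, autHom_apply, MulAut.apply_inv_self] at h
      exact h
    refine ⟨fun x => key P hP x (ha _), fun i hi x hx => key _ (hsc i) x (ha' i hi _ ?_)⟩
    exact Fusion87.stronglyClosed_apply (hsc _) (autGroup_hom_mem hRS (b⁻¹).2) x hx
  have hKp : IsPGroup p K := by
    refine Fusion87.isPGroup_of_coprime_trivial fun a ha => ?_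
    obtain ⟨⟨a, haK, haK'⟩, rfl⟩ : ∃ a' : K, a' = a := ⟨a, rfl⟩
    rw [← Subgroup.orderOf_coe, ← Subgroup.orderOf_coe] at ha
    refine Subtype.ext (Subtype.ext ?_)
    obtain ⟨C, hC, hCs, hCf⟩ := Fusion87.exists_small_characteristic (hS.to_le hRS)
    refine Fusion87.eq_one_of_small_series hS hRS hP c h0 hn
      (fun i => Fusion87.stronglyClosed_le_normalizer' (hsc i)) a.2 ha (fun r => ?_) hC hCs (hCf _ ha)
      fun i hi r _ _ hr => haK' i hi r hr
    have h := (Subgroup.mem_normalizer_iff.1 (hPn (S.inv_mem (hRS r.2))) _).1 (haK r)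
    simpa [mul_assoc] using h
  refine Fusion87.mem_of_radical hRc hRr K hKp (hP.1 hg) hgN fun a ha => ⟨fun x => ?_, fun i hi x hx => ?_⟩
  · rw [ha, conjAut_apply]
    have h1 : (x : Ω) * g⁻¹ * (x : Ω)⁻¹ ∈ P :=
      (Subgroup.mem_normalizer_iff.1 (hPn (hRS x.2)) _).1 (P.inv_mem hg)
    simpa [mul_assoc] using P.mul_mem hg h1
  · rw [ha, conjAut_apply]
    exact hcent i hi x hx g hg

end Cfsg.Agent.Lib.Fusion.SmallSeries
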