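import Cfsg.Agent.Lib.Fusion.Solvable

/-!
A saturated system is solvable iff a normal subsystem and the factor system modulo its group are.
-/

set_option autoImplicit false

namespace Cfsg.Agent.Lib.Fusion

open Cfsg Cfsg.FusionSystem
open scoped commutatorElement
open Cfsg.Agent.Lib.FusionFactor (mem_preimageAlong preimageAlong_le)

variable {Ω : Type*} [Group Ω] {S : Subgroup Ω} {F : FusionSystem S} {p : ℕ}
  {T : Subgroup Ω} {E : FusionSystem T}

/-- The largest subgroup of `A ⊓ T` invariant under `Aut_F(T)`. -/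
def autKernel (F : FusionSystem S) (T A : Subgroup Ω) : Subgroup Ω where
  carrier := {x | ∃ hx : x ∈ T, ∀ α ∈ F.autGroup T, ((α ⟨x, hx⟩ : T) : Ω) ∈ A}
  one_mem' := ⟨one_mem T, fun α _ => by
    rw [show (⟨1, one_mem T⟩ : T) = 1 from rfl, map_one]
    exact one_mem A⟩
  mul_mem' := by
    rintro x y ⟨hx, hxA⟩ ⟨hy, hyA⟩
    refine ⟨mul_mem hx hy, fun α hα => ?_⟩
    rw [show (⟨x * y, mul_mem hx hy⟩ : T) = ⟨x, hx⟩ * ⟨y, hy⟩ from rfl, map_mul]
    exact mul_mem (hxA α hα) (hyA α hα)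
  inv_mem' := by
    rintro x ⟨hx, hxA⟩
    refine ⟨inv_mem hx, fun α hα => ?_⟩
    rw [show (⟨x⁻¹, inv_mem hx⟩ : T) = ⟨x, hx⟩⁻¹ from rfl, map_inv]
    exact inv_mem (hxA α hα)

theorem autKernel_bot : autKernel F T ⊥ = ⊥ := by
  rw [eq_bot_iff]
  rintro x ⟨hx, hxA⟩
  exact hxA 1 (one_mem _)

theorem autKernel_self : autKernel F T T = T :=
  le_antisymm (fun _ hx => hx.1) fun _ hx => ⟨hx, fun _ _ => SetLike.coe_mem _⟩

theorem autKernel_mono {A B : Subgroup Ω} (h : A ≤ B) : autKernel F T A ≤ autKernel F T B :=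
  fun _ ⟨hx, hxA⟩ => ⟨hx, fun α hα => h (hxA α hα)⟩

theorem commutator_autKernel_le {A B : Subgroup Ω} (h : ⁅B, B⁆ ≤ A) :
    ⁅autKernel F T B, autKernel F T B⁆ ≤ autKernel F T A := by
  refine Subgroup.commutator_le.2 ?_
  rintro x ⟨hx, hxB⟩ y ⟨hy, hyB⟩
  refine ⟨mul_mem (mul_mem (mul_mem hx hy) (inv_mem hx)) (inv_mem hy), fun α hα => ?_⟩
  have hm := h (Subgroup.commutator_mem_commutator (hxB α hα) (hyB α hα))
  rw [commutatorElement_def] at hm
  rw [show (⟨⁅x, y⁆, _⟩ : T) = ⟨x, hx⟩ * ⟨y, hy⟩ * ⟨x, hx⟩⁻¹ * ⟨y, hy⟩⁻¹ from rfl,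
    map_mul, map_mul, map_mul, map_inv, map_inv]
  exact hm

theorem stronglyClosed_autKernel (hE : E.IsInvariantIn F) {A : Subgroup Ω}
    (hA : E.StronglyClosed A) : F.StronglyClosed (autKernel F T A) := by
  obtain ⟨-, hT, hinv, hfrat⟩ := hE
  refine ⟨fun x hx => hT.1 hx.1, fun R hR φ hφ x => ?_⟩
  have hRT : R ≤ T := fun y hy => (hR hy).1
  obtain ⟨β, hβ, φ₀, hφ₀, hφeq⟩ := hfrat R hRT φ hφ
  have hx₀ : φ₀ x ∈ T := val_mem hφ₀ x
  refine ⟨(hφeq x hx₀).symm ▸ SetLike.coe_mem _, fun γ hγ => ?_⟩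
  obtain ⟨χ, hχ, hχeq⟩ := hinv R hRT φ₀ hφ₀ (γ * β) (mul_mem hγ hβ)
  have hmem : (((γ * β) ⟨(x : Ω), hRT x.2⟩ : T) : Ω) ∈
      (R.subgroupOf T).map (T.subtype.comp (γ * β).toMonoidHom) :=
    ⟨⟨x, hRT x.2⟩, x.2, rfl⟩
  have h1 := hχeq x hx₀ hmem
  have h2 : χ ⟨_, hmem⟩ ∈ A := by
    refine hA.2 _ ?_ χ hχ _
    rintro _ ⟨z, hz, rfl⟩
    obtain ⟨hz', hzA⟩ := hR (Subgroup.mem_subgroupOf.1 hz)
    exact hzA (γ * β) (mul_mem hγ hβ)
  rw [h1] at h2
  convert h2 using 1
  refine congrArg (fun t => ((γ t : T) : Ω)) (?_ : (⟨φ x, _⟩ : T) = β ⟨φ₀ x, hx₀⟩)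
  exact Subtype.ext (hφeq x hx₀)

theorem reach_lift {Ω₁ Ω₂ : Type*} [Group Ω₁] [Group Ω₂] {S₁ : Subgroup Ω₁} {S₂ : Subgroup Ω₂}
    {F₁ : FusionSystem S₁} {F₂ : FusionSystem S₂} (f : Subgroup Ω₁ → Subgroup Ω₂)
    (hf : ∀ X Y, AbelianStep F₁ X Y → AbelianStep F₂ (f X) (f Y)) {A B : Subgroup Ω₁}
    (h : AbelianReach F₁ A B) : AbelianReach F₂ (f A) (f B) := by
  induction h with
  | refl => exact .refl
  | tail _ hXY ih => exact ih.tail (hf _ _ hXY)

theorem reach_subsystem_of_reach (hT : F.StronglyClosed T) (hEF : E.IsSubsystemOf F)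
    {A B : Subgroup Ω} (h : AbelianReach F A B) : AbelianReach E (A ⊓ T) (B ⊓ T) := by
  refine reach_lift (fun Z => Z ⊓ T) (fun X Y hXY => ?_) h
  obtain ⟨hle, hX, hY, hab⟩ := hXY
  refine ⟨inf_le_inf_right T hle,
    stronglyClosed_of_subsystem hEF (stronglyClosed_inf_of hX hT) inf_le_right,
    stronglyClosed_of_subsystem hEF (stronglyClosed_inf_of hY hT) inf_le_right,
    le_inf ((Subgroup.commutator_mono inf_le_left inf_le_left).trans hab) ?_⟩
  exact Subgroup.commutator_le.2 fun a ha b hb =>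
    mul_mem (mul_mem (mul_mem ha.2 hb.2) (inv_mem ha.2)) (inv_mem hb.2)

/-- Solvability passes between a system and a normal subsystem with its factor system. -/
theorem isSolvableSystem_iff_normal_subsystem [Finite S] [Fact p.Prime] (hS : IsPGroup p S)
    (hF : F.IsSaturated p) (hE : E.IsNormalIn F p) {Ω' : Type*} [Group Ω'] {S' : Subgroup Ω'}
    {θ : S →* Ω'} {D : FusionSystem S'} (hD : F.IsFactorSystem T θ D) :
    F.IsSolvableSystem ↔ E.IsSolvableSystem ∧ D.IsSolvableSystem := by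
  obtain ⟨⟨hEsat, -, hinv⟩, -⟩ := hE
  have hT : F.StronglyClosed T := hinv.2.1
  have : Finite T := Finite.of_injective _ (Subgroup.inclusion_injective hT.1)
  have hpT : IsPGroup p T := hS.to_le hT.1
  have := finite_of_isFactorSystem hD
  rw [isSolvableSystem_iff_reach hS hF, isSolvableSystem_iff_reach hpT hEsat,
    isSolvableSystem_iff_reach (isPGroup_of_isFactorSystem hS hD)
      (isSaturated_of_isFactorSystem hS hF hT hD)]
  have himg : imageAlong θ S = S' := by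
    rw [← hD.2.2.1, imageAlong, Subgroup.subgroupOf_self, MonoidHom.range_eq_map]
  constructor
  · intro h
    refine ⟨?_, ?_⟩
    · have h1 := reach_subsystem_of_reach hT hinv.1 h
      rwa [bot_inf_eq, inf_eq_right.2 hT.1] at h1
    · have key : ∀ {X}, AbelianReach F ⊥ X → AbelianReach D ⊥ (imageAlong θ X) := by
        intro X hX
        induction hX with
        | refl => rw [(imageAlong_eq_bot_iff hD bot_le).2 bot_le]; exact .refl
        | @tail Y Z _ hYZ ih =>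
          refine ih.tail ?_
          obtain ⟨hle, hY, hZ, hab⟩ := hYZ
          refine ⟨imageAlong_mono hle, ?_, ?_, commutator_imageAlong_le hab⟩
          · rw [← imageAlong_sup_left hD hT hY.1]
            exact stronglyClosed_imageAlong hD (stronglyClosed_sup hS hF hT hY) le_sup_left
          · rw [← imageAlong_sup_left hD hT hZ.1]
            exact stronglyClosed_imageAlong hD (stronglyClosed_sup hS hF hT hZ) le_sup_left
      exact himg ▸ key h
  · rintro ⟨hEr, hDr⟩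
    have h1 : AbelianReach F (autKernel F T ⊥) (autKernel F T T) :=
      reach_lift (fun Z => autKernel F T Z) (fun X Y hXY =>
        ⟨autKernel_mono hXY.1, stronglyClosed_autKernel hinv hXY.2.1,
          stronglyClosed_autKernel hinv hXY.2.2.1, commutator_autKernel_le hXY.2.2.2⟩) hEr
    have h2 : AbelianReach F (preimageAlong θ ⊥) (preimageAlong θ S') :=
      reach_lift (fun Z => preimageAlong θ Z) (fun X Y hXY =>
        ⟨Subgroup.map_mono (Subgroup.comap_mono hXY.1),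
          stronglyClosed_preimageAlong hS hF hT hD hXY.2.1,
          stronglyClosed_preimageAlong hS hF hT hD hXY.2.2.1,
          commutator_preimageAlong_le hXY.2.2.2⟩) hDr
    have hb : preimageAlong θ (⊥ : Subgroup Ω') = T := by
      refine Subgroup.ext fun x => ⟨fun hx => ?_, fun hx => ?_⟩
      · obtain ⟨hxS, hx1⟩ := (mem_preimageAlong θ).1 hx
        exact (hD.2.1 ⟨x, hxS⟩).1 (Subgroup.mem_bot.1 hx1)
      · exact (mem_preimageAlong θ).2 ⟨hT.1 hx, Subgroup.mem_bot.2 ((hD.2.1 _).2 hx)⟩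
    have ht : preimageAlong θ S' = S := le_antisymm (preimageAlong_le θ _) fun x hx =>
      (mem_preimageAlong θ).2 ⟨hx, hD.2.2.1.le ⟨_, rfl⟩⟩
    rw [autKernel_bot, autKernel_self] at h1
    rw [hb, ht] at h2
    exact h1.trans h2

end Cfsg.Agent.Lib.Fusion
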