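import Cfsg.Agent.Lib.Fusion.SLData
import Cfsg.Agent.Lib.Classical.Symplectic

/-!
Data of `Sp_{2m}` in the defining characteristic for the fusion criterion: the upper Sylow subgroup,
fusion of its root elements, the normalizer, the Siegel radical and the long root minimal parabolic.
-/

set_option autoImplicit false

namespace Cfsg.Agent.Lib.Fusion.SpData

open Matrix Cfsg.Agent.Lib.PSLAut
open scoped MatrixGroups

variable {m : ℕ} {F : Type*} [Field F]

/-- The symplectic group. -/
abbrev SpG (m : ℕ) (F : Type*) [Field F] : Type _ := ↥(Matrix.symplecticGroup (Fin m) F)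

/-- Square matrices of half the size. -/
abbrev Half (m : ℕ) (F : Type*) := Matrix (Fin m) (Fin m) F

local notation "Tr" => Matrix.SpecialLinearGroup.transvection

theorem spExt {x y : SpG m F}
    (h : (x : Matrix (Fin m ⊕ Fin m) (Fin m ⊕ Fin m) F) = y) : x = y := Subtype.ext h

/-- The four blocks. -/
abbrev blk11 (A : SpG m F) : Half m F := (A : Matrix (Fin m ⊕ Fin m) (Fin m ⊕ Fin m) F).toBlocks₁₁
/-- The four blocks. -/
abbrev blk12 (A : SpG m F) : Half m F := (A : Matrix (Fin m ⊕ Fin m) (Fin m ⊕ Fin m) F).toBlocks₁₂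
/-- The four blocks. -/
abbrev blk21 (A : SpG m F) : Half m F := (A : Matrix (Fin m ⊕ Fin m) (Fin m ⊕ Fin m) F).toBlocks₂₁
/-- The four blocks. -/
abbrev blk22 (A : SpG m F) : Half m F := (A : Matrix (Fin m ⊕ Fin m) (Fin m ⊕ Fin m) F).toBlocks₂₂

theorem coe_eq_blocks (A : SpG m F) :
    (A : Matrix (Fin m ⊕ Fin m) (Fin m ⊕ Fin m) F) = fromBlocks (blk11 A) (blk12 A) (blk21 A) (blk22 A) :=
  (fromBlocks_toBlocks _).symm

theorem coe_mul_blocks (A B : SpG m F) :
    ((A * B : SpG m F) : Matrix (Fin m ⊕ Fin m) (Fin m ⊕ Fin m) F) =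
      fromBlocks (blk11 A * blk11 B + blk12 A * blk21 B) (blk11 A * blk12 B + blk12 A * blk22 B)
        (blk21 A * blk11 B + blk22 A * blk21 B) (blk21 A * blk12 B + blk22 A * blk22 B) := by
  rw [← fromBlocks_multiply, ← coe_eq_blocks, ← coe_eq_blocks]
  rfl

/-- The Levi embedding `X ↦ diag(X, X⁻ᵀ)`. -/
def levi : GL (Fin m) F →* SpG m F where
  toFun X := ⟨fromBlocks (X : Half m F) 0 0 ((X⁻¹ : GL (Fin m) F) : Half m F).transpose, by
    rw [SymplecticGroup.mem_iff]
    simp only [Matrix.J, fromBlocks_transpose, fromBlocks_multiply, transpose_zero, transpose_transpose,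
      Matrix.mul_zero, Matrix.zero_mul, add_zero, zero_add, Matrix.mul_neg, Matrix.neg_mul,
      Matrix.mul_one, Units.mul_inv, ← transpose_mul, transpose_one, neg_zero]⟩
  map_one' := spExt (by simp)
  map_mul' X Y := spExt (by
    show _ = fromBlocks _ _ _ _ * fromBlocks _ _ _ _
    simp [fromBlocks_multiply, Matrix.transpose_mul, _root_.mul_inv_rev])

theorem coe_levi (X : GL (Fin m) F) : (levi X : Matrix (Fin m ⊕ Fin m) (Fin m ⊕ Fin m) F) =
    fromBlocks (X : Half m F) 0 0 ((X⁻¹ : GL (Fin m) F) : Half m F).transpose := rfl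

/-- The Levi embedding of `SL_m`. -/
def leviSL : SLn m F →* SpG m F := levi.comp Matrix.SpecialLinearGroup.toGL

/-- The Siegel element `[[1, S], [0, 1]]`. -/
def sie (S : Half m F) (h : S.transpose = S) : SpG m F :=
  ⟨fromBlocks 1 S 0 1, by
    rw [SymplecticGroup.mem_iff]
    simp only [Matrix.J, fromBlocks_transpose, fromBlocks_multiply, transpose_zero, transpose_one,
      Matrix.mul_zero, Matrix.zero_mul, add_zero, zero_add, Matrix.mul_neg, Matrix.neg_mul,
      Matrix.mul_one, Matrix.one_mul, h, neg_zero, add_neg_cancel]⟩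

theorem coe_sie (S : Half m F) (h : S.transpose = S) :
    (sie S h : Matrix (Fin m ⊕ Fin m) (Fin m ⊕ Fin m) F) = fromBlocks 1 S 0 1 := rfl

theorem sie_mul (S T : Half m F) (hS : S.transpose = S) (hT : T.transpose = T) :
    sie S hS * sie T hT = sie (S + T) (by rw [transpose_add, hS, hT]) := spExt (by
  show fromBlocks 1 S 0 1 * fromBlocks 1 T 0 1 = fromBlocks 1 (S + T) 0 1
  simp [fromBlocks_multiply, add_comm T])

theorem sie_zero (h : (0 : Half m F).transpose = 0) : sie 0 h = 1 := spExt (by simp [coe_sie])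

theorem sie_inv (S : Half m F) (hS : S.transpose = S) :
    (sie S hS)⁻¹ = sie (-S) (by rw [transpose_neg, hS]) :=
  inv_eq_of_mul_eq_one_right (spExt (by rw [sie_mul]; simp [coe_sie]))

theorem sie_pow (S : Half m F) (hS : S.transpose = S) (k : ℕ) :
    (sie S hS) ^ k = sie (k • S) (by rw [transpose_smul, hS]) := by
  induction k with
  | zero => exact spExt (by simp [coe_sie])
  | succ k ih => exact spExt (by rw [pow_succ, ih, sie_mul]; simp [coe_sie, add_smul])

theorem sie_pow_char (p : ℕ) [CharP F p] (S : Half m F) (hS : S.transpose = S) :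
    (sie S hS) ^ p ^ 1 = 1 := by
  rw [pow_one, sie_pow]
  refine spExt ?_
  rw [coe_sie, show p • S = 0 by ext i j; simp [nsmul_eq_mul]]
  simp

theorem conj_symm {S : Half m F} (X : Half m F) (hS : S.transpose = S) :
    (X * S * X.transpose).transpose = X * S * X.transpose := by
  rw [transpose_mul, transpose_mul, transpose_transpose, hS, Matrix.mul_assoc]

theorem levi_mul_sie (X : GL (Fin m) F) (S : Half m F) (hS : S.transpose = S) :
    levi X * sie S hS * (levi X)⁻¹ = sie ((X : Half m F) * S * (X : Half m F).transpose) (conj_symm _ hS) := by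
  rw [mul_inv_eq_iff_eq_mul]
  refine spExt ?_
  show fromBlocks _ _ _ _ * fromBlocks _ _ _ _ = fromBlocks _ _ _ _ * fromBlocks _ _ _ _
  simp [fromBlocks_multiply, Matrix.mul_assoc, ← Matrix.transpose_mul]

theorem eq_sie_mul_levi (A : SpG m F) (h : blk21 A = 0) :
    ∃ (X : GL (Fin m) F) (S : Half m F) (hS : S.transpose = S),
      (X : Half m F) = blk11 A ∧ A = sie S hS * levi X := by
  have hA := SymplecticGroup.mem_iff.1 A.2
  rw [coe_eq_blocks A, h, Matrix.J, fromBlocks_transpose, fromBlocks_multiply, fromBlocks_multiply,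
    fromBlocks_inj] at hA
  obtain ⟨e1, e2, -, -⟩ := hA
  simp only [mul_zero, mul_one, zero_add, add_zero, mul_neg, neg_mul, transpose_zero, neg_inj] at e1 e2
  rw [← sub_eq_add_neg, sub_eq_zero] at e1
  refine ⟨⟨blk11 A, (blk22 A).transpose, e2, mul_eq_one_comm.1 e2⟩, blk12 A * (blk11 A).transpose, ?_,
    rfl, spExt ?_⟩
  · rw [transpose_mul, transpose_transpose]; exact e1.symm
  · show _ = fromBlocks _ _ _ _ * fromBlocks _ _ _ _
    simp only [fromBlocks_multiply, Matrix.one_mul, Matrix.zero_mul, Matrix.mul_zero, add_zero, zero_add]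
    rw [Units.inv_mk, transpose_transpose, Matrix.mul_assoc,
      show (blk11 A).transpose * blk22 A = 1 by
        rw [← transpose_transpose (blk22 A), ← transpose_mul, mul_eq_one_comm.1 e2, transpose_one],
      Matrix.mul_one]
    conv_lhs => rw [coe_eq_blocks A, h]

theorem blk_levi (X : GL (Fin m) F) : blk21 (levi X) = 0 ∧ blk11 (levi X) = X := by
  simp [blk21, blk11, coe_levi]

theorem blk_sie (S : Half m F) (hS : S.transpose = S) :
    blk21 (sie S hS) = 0 ∧ blk11 (sie S hS) = 1 := by
  simp [blk21, blk11, coe_sie]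

theorem blk_mul {A B : SpG m F} (hA : blk21 A = 0) (hB : blk21 B = 0) :
    blk21 (A * B) = 0 ∧ blk11 (A * B) = blk11 A * blk11 B := by
  simp only [blk21, blk11, coe_mul_blocks, toBlocks_fromBlocks₁₁, toBlocks_fromBlocks₂₁] at *
  simp only [blk12, blk22, blk21, blk11] at *
  simp [hA, hB]

theorem blk_one : blk21 (1 : SpG m F) = 0 ∧ blk11 (1 : SpG m F) = 1 := by
  simp [blk21, blk11, ← fromBlocks_one]

theorem levi_inv_sie_inv_blk {A : SpG m F} (hA : blk21 A = 0) :
    blk21 A⁻¹ = 0 ∧ blk11 A * blk11 A⁻¹ = 1 := by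
  obtain ⟨X, S, hS, -, rfl⟩ := eq_sie_mul_levi A hA
  have h : blk21 (sie S hS * levi X)⁻¹ = 0 := by
    rw [_root_.mul_inv_rev, sie_inv, ← map_inv]
    exact (blk_mul (blk_levi _).1 (blk_sie _ _).1).1
  refine ⟨h, ?_⟩
  rw [← (blk_mul hA h).2, mul_inv_cancel]
  exact blk_one.2

/-! ### Elementary matrices -/

theorem mul_single_mul_apply (A B : Half m F) (i j : Fin m) (c : F) (a b : Fin m) :
    (A * Matrix.single i j c * B) a b = A a i * c * B j b := by
  rw [Matrix.mul_apply, Finset.sum_eq_single j (fun k _ hk => ?_) (by simp),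
    Matrix.mul_single_apply_same]
  rw [Matrix.mul_single_apply_of_ne _ _ _ _ _ hk, zero_mul]

/-- The symmetric matrix with entry `c` at `(i, i)`. -/
def longMat (i : Fin m) (c : F) : Half m F := Matrix.single i i c

/-- The symmetric matrix with entry `c` at `(i, j)` and `(j, i)`. -/
def shortMat (i j : Fin m) (c : F) : Half m F := Matrix.single i j c + Matrix.single j i c

theorem longMat_symm (i : Fin m) (c : F) : (longMat i c).transpose = longMat i c := by
  simp [longMat]

theorem shortMat_symm (i j : Fin m) (c : F) : (shortMat i j c).transpose = shortMat i j c := by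
  simp [shortMat, transpose_add, add_comm]

theorem shortMat_swap (i j : Fin m) (c : F) : shortMat i j c = shortMat j i c := add_comm _ _

/-- A property closed under addition that holds for the elementary pieces holds for all symmetric
matrices. -/
theorem symm_induction (P : Half m F → Prop) (h0 : P 0) (hadd : ∀ S T, P S → P T → P (S + T))
    (hlong : ∀ i c, P (longMat i c)) (hshort : ∀ i j, i < j → ∀ c, P (shortMat i j c))
    {S : Half m F} (hS : S.transpose = S) : P S := by
  classical
  set g : Fin m × Fin m → Half m F := fun q =>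
    if q.1 = q.2 then longMat q.1 (S q.1 q.2) else if q.1 < q.2 then shortMat q.1 q.2 (S q.1 q.2) else 0
  have hsum : S = ∑ q, g q := by
    ext a b
    rw [Matrix.sum_apply]
    have hs : S b a = S a b := congrFun (congrFun hS a) b
    rcases lt_trichotomy a b with hab | rfl | hab
    · rw [Finset.sum_eq_single (a, b) (fun q _ hq => ?_) (by simp)]
      · simp [g, hab.ne, hab, hab.ne', shortMat]
      · obtain ⟨i, j⟩ := q
        simp only [g]
        split_ifs with h1 h2
        · subst h1
          rw [longMat, Matrix.single_apply, if_neg]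
          rintro ⟨rfl, rfl⟩
          exact hab.ne rfl
        · rw [shortMat, Matrix.add_apply, Matrix.single_apply, Matrix.single_apply, if_neg, if_neg,
            add_zero]
          · rintro ⟨rfl, rfl⟩; exact lt_asymm h2 hab
          · rintro ⟨rfl, rfl⟩; exact hq rfl
        · rfl
    · rw [Finset.sum_eq_single (a, a) (fun q _ hq => ?_) (by simp)]
      · simp [g, longMat]
      · obtain ⟨i, j⟩ := q
        simp only [g]
        split_ifs with h1 h2
        · subst h1
          rw [longMat, Matrix.single_apply, if_neg]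
          rintro ⟨rfl, -⟩
          exact hq rfl
        · rw [shortMat, Matrix.add_apply, Matrix.single_apply, Matrix.single_apply, if_neg, if_neg,
            add_zero]
          · rintro ⟨rfl, rfl⟩; exact h2.ne rfl
          · rintro ⟨rfl, rfl⟩; exact h2.ne rfl
        · rfl
    · rw [Finset.sum_eq_single (b, a) (fun q _ hq => ?_) (by simp)]
      · simp [g, hab.ne, hab, hab.ne', shortMat, hs]
      · obtain ⟨i, j⟩ := q
        simp only [g]
        split_ifs with h1 h2
        · subst h1
          rw [longMat, Matrix.single_apply, if_neg]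
          rintro ⟨rfl, rfl⟩
          exact hab.ne rfl
        · rw [shortMat, Matrix.add_apply, Matrix.single_apply, Matrix.single_apply, if_neg, if_neg,
            add_zero]
          · rintro ⟨rfl, rfl⟩; exact hq rfl
          · rintro ⟨rfl, rfl⟩; exact lt_asymm h2 hab
        · rfl
  rw [hsum]
  refine Finset.sum_induction g P hadd h0 fun q _ => ?_
  simp only [g]
  split_ifs with h1 h2
  · exact hlong _ _
  · exact hshort _ _ h2 _
  · exact h0

/-- A monomial matrix, `e_c ↦ d_c e_{e c}`. -/
theorem exists_monomial (e : Equiv.Perm (Fin m)) (d : Fin m → F) (hd : ∀ c, d c ≠ 0) :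
    ∃ X : GL (Fin m) F, ∀ r c, (X : Half m F) r c = if r = e c then d c else 0 := by
  classical
  have hdet : ((diagonal d).submatrix e.symm id).det ≠ 0 := by
    rw [det_permute, det_diagonal]
    refine mul_ne_zero ?_ (Finset.prod_ne_zero_iff.2 fun c _ => hd c)
    rcases Int.units_eq_one_or (Equiv.Perm.sign e.symm) with h | h <;> simp [h]
  refine ⟨Matrix.GeneralLinearGroup.mkOfDetNeZero _ hdet, fun r c => ?_⟩
  show (diagonal d).submatrix e.symm id r c = _
  simp only [submatrix_apply, id_eq, diagonal_apply, Equiv.symm_apply_eq]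
  by_cases h : r = e c
  · subst h; simp
  · simp [h]

theorem monomial_conj_single {e : Equiv.Perm (Fin m)} {d : Fin m → F} {X : Half m F}
    (hX : ∀ r c, X r c = if r = e c then d c else 0) (i j : Fin m) (c : F) :
    X * Matrix.single i j c * X.transpose = Matrix.single (e i) (e j) (d i * c * d j) := by
  ext a b
  rw [mul_single_mul_apply, transpose_apply, hX, hX, Matrix.single_apply]
  by_cases ha : a = e i <;> by_cases hb : b = e j <;> simp [ha, hb, eq_comm]

theorem exists_perm_two {a b i j : Fin m} (hab : a ≠ b) (hij : i ≠ j) :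
    ∃ e : Equiv.Perm (Fin m), e a = i ∧ e b = j := by
  refine ⟨(Equiv.swap a i).trans (Equiv.swap ((Equiv.swap a i) b) j), ?_, ?_⟩
  · rw [Equiv.trans_apply, Equiv.swap_apply_left]
    exact Equiv.swap_apply_of_ne_of_ne
      (fun h => hab ((Equiv.swap a i).injective ((Equiv.swap_apply_left a i).trans h))) hij
  · rw [Equiv.trans_apply, Equiv.swap_apply_left]

/-! ### The rank one subgroups at a long root -/

/-- `SL₂` acting on `⟨e_l, f_l⟩`. -/
def emb (l : Fin m) : SL(2, F) →* SpG m F where
  toFun A := ⟨fromBlocks (diagonal fun i => if i = l then A 0 0 else 1)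
      (diagonal fun i => if i = l then A 0 1 else 0) (diagonal fun i => if i = l then A 1 0 else 0)
      (diagonal fun i => if i = l then A 1 1 else 1), by
    have hdet : A 0 0 * A 1 1 - A 0 1 * A 1 0 = 1 := (Matrix.det_fin_two _).symm.trans A.2
    rw [SymplecticGroup.mem_iff]
    simp only [Matrix.J, fromBlocks_transpose, fromBlocks_multiply, diagonal_transpose,
      Matrix.mul_zero, Matrix.mul_one, Matrix.mul_neg, Matrix.neg_mul, zero_add, add_zero,
      diagonal_mul_diagonal, diagonal_neg, diagonal_add]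
    rw [← diagonal_one, diagonal_neg, ← diagonal_zero]
    congr 2 <;> funext i <;> by_cases h : i = l <;> simp only [h, if_true, if_false] <;>
      first | linear_combination hdet | linear_combination (-1 : F) * hdet | ring⟩
  map_one' := spExt (by
    show fromBlocks _ _ _ _ = (1 : Matrix (Fin m ⊕ Fin m) (Fin m ⊕ Fin m) F)
    simp)
  map_mul' A B := spExt (by
    show _ = fromBlocks _ _ _ _ * fromBlocks _ _ _ _
    simp only [fromBlocks_multiply, diagonal_mul_diagonal, diagonal_add]
    congr 2 <;> funext i <;> by_cases h : i = l <;>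
      simp [h, Matrix.SpecialLinearGroup.coe_mul, Matrix.mul_apply, Fin.sum_univ_two])

theorem coe_emb (l : Fin m) (A : SL(2, F)) :
    (emb l A : Matrix (Fin m ⊕ Fin m) (Fin m ⊕ Fin m) F) =
      fromBlocks (diagonal fun i => if i = l then A 0 0 else 1)
        (diagonal fun i => if i = l then A 0 1 else 0) (diagonal fun i => if i = l then A 1 0 else 0)
        (diagonal fun i => if i = l then A 1 1 else 1) := rfl

/-- The Weyl element of `SL₂`. -/
def weyl : SL(2, F) := ⟨!![0, -1; 1, 0], by simp [Matrix.det_fin_two]⟩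

theorem emb_tr01 (l : Fin m) (h : (0 : Fin 2) ≠ 1) (c : F) :
    emb l (Tr h c) = sie (longMat l c) (longMat_symm l c) := by
  refine spExt ?_
  rw [coe_emb, coe_sie, SLData.coe_tr]
  simp only [Matrix.add_apply, Matrix.one_apply, Matrix.single_apply]
  congr 1 <;> ext i j <;> by_cases hi : i = l <;> by_cases hj : i = j <;>
    simp_all [longMat, Matrix.one_apply, eq_comm, Matrix.single_apply]

theorem tr10_eq (h : (1 : Fin 2) ≠ 0) (c : F) :
    (Tr h c : SL(2, F)) = weyl * Tr h.symm (-c) * weyl⁻¹ := by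
  rw [eq_mul_inv_iff_mul_eq]
  refine SLData.slExt ?_
  show (Tr h c : SL(2, F)).1 * (weyl : SL(2, F)).1 = (weyl : SL(2, F)).1 * (Tr h.symm (-c) : SL(2, F)).1
  rw [show (Tr h c : SL(2, F)).1 = _ from SLData.coe_tr h c,
    show (Tr h.symm (-c) : SL(2, F)).1 = _ from SLData.coe_tr h.symm (-c)]
  simp only [weyl]
  ext i j
  fin_cases i <;> fin_cases j <;>
    simp [Matrix.mul_apply, Fin.sum_univ_two, Matrix.one_apply, Matrix.single_apply]

theorem tr_inv {i j : Fin m} (h : i ≠ j) (c : F) :
    ((((Tr h c : SLn m F) : SLn m F)⁻¹ : SLn m F) : Half m F) = 1 + Matrix.single i j (-c) := by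
  rw [Matrix.SpecialLinearGroup.transvection_inv, SLData.coe_tr]

theorem coe_leviSL_tr {i j : Fin m} (h : i ≠ j) (c : F) :
    (leviSL (Tr h c) : Matrix (Fin m ⊕ Fin m) (Fin m ⊕ Fin m) F) =
      fromBlocks (1 + Matrix.single i j c) 0 0 (1 + Matrix.single j i (-c)) := by
  rw [leviSL, MonoidHom.comp_apply, coe_levi]
  have h1 : ((Matrix.SpecialLinearGroup.toGL (Tr h c : SLn m F) : GL (Fin m) F) : Half m F) =
      1 + Matrix.single i j c := SLData.coe_tr h c
  have h2 : (((Matrix.SpecialLinearGroup.toGL (Tr h c : SLn m F))⁻¹ : GL (Fin m) F) : Half m F) =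
      1 + Matrix.single i j (-c) := by
    rw [← map_inv]; exact tr_inv h c
  rw [h1, h2]
  simp

/-- A Weyl element turns a short Siegel root element into a Levi one. -/
theorem weyl_conj_short {i l : Fin m} (h : i ≠ l) (c : F) :
    emb l weyl * sie (shortMat i l c) (shortMat_symm i l c) * (emb l weyl)⁻¹ = leviSL (Tr h (-c)) := by
  rw [mul_inv_eq_iff_eq_mul]
  refine spExt ?_
  simp only [Submonoid.coe_mul, coe_emb, coe_sie, coe_leviSL_tr, fromBlocks_multiply]
  have h00 : (weyl : SL(2, F)) 0 0 = 0 := rfl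
  have h01 : (weyl : SL(2, F)) 0 1 = -1 := rfl
  have h10 : (weyl : SL(2, F)) 1 0 = 1 := rfl
  have h11 : (weyl : SL(2, F)) 1 1 = 0 := rfl
  rw [h00, h01, h10, h11]
  clear h00 h01 h10 h11
  simp only [Matrix.mul_one, Matrix.zero_mul, Matrix.mul_zero, add_zero, zero_add]
  congr 1 <;> ext a b <;>
    simp only [shortMat, Matrix.add_apply, Matrix.add_mul, Matrix.mul_add, Matrix.one_mul, diagonal_mul,
      mul_diagonal, Matrix.one_apply, Matrix.single_apply, diagonal_apply] <;>
    by_cases ha : a = i <;> by_cases ha' : a = l <;> by_cases hb : b = i <;> by_cases hb' : b = l <;>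
    by_cases hab : a = b <;> simp_all [eq_comm]

/-! ### The Sylow subgroup -/

variable [Fintype F]

/-- The Sylow subgroup: block upper triangular with unitriangular first block. -/
def uniSp (m : ℕ) (F : Type*) [Field F] [Fintype F] : Subgroup (SpG m F) where
  carrier := {A | blk21 A = 0 ∧ IsUnitri (blk11 A)}
  one_mem' := ⟨blk_one.1, by rw [blk_one.2]; exact isUnitri_one⟩
  mul_mem' {A B} hA hB := ⟨(blk_mul hA.1 hB.1).1, (blk_mul hA.1 hB.1).2.symm ▸ hA.2.mul hB.2⟩
  inv_mem' {A} hA := by
    obtain ⟨h1, h2⟩ := levi_inv_sie_inv_blk hA.1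
    refine ⟨h1, ?_⟩
    let X : GL (Fin m) F := ⟨blk11 A, blk11 A⁻¹, h2, mul_eq_one_comm.1 h2⟩
    have hX : X ∈ unitriGL m F := hA.2
    exact (unitriGL m F).inv_mem hX

theorem mem_uniSp {A : SpG m F} : A ∈ uniSp m F ↔ blk21 A = 0 ∧ IsUnitri (blk11 A) := Iff.rfl

theorem sie_mem (S : Half m F) (hS : S.transpose = S) : sie S hS ∈ uniSp m F :=
  ⟨(blk_sie S hS).1, (blk_sie S hS).2.symm ▸ isUnitri_one⟩

theorem levi_mem_iff (X : GL (Fin m) F) : levi X ∈ uniSp m F ↔ IsUnitri (X : Half m F) := by
  rw [mem_uniSp, (blk_levi X).1, (blk_levi X).2]; simp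

theorem leviSL_tr_mem {i j : Fin m} (h : i < j) (c : F) : leviSL (Tr h.ne c) ∈ uniSp m F :=
  (levi_mem_iff _).2 (SLData.tr_mem_uniSL h c)

theorem card_uniSp : ∃ k, Nat.card ↥(uniSp m F) = Fintype.card F ^ k ∧ k = m ^ 2 := by
  classical
  let Sy : Type _ := {S : Half m F // S.transpose = S}
  let Φ : ↥(unitriGL m F) × Sy → ↥(uniSp m F) := fun x =>
    ⟨sie x.2.1 x.2.2 * levi x.1.1, mul_mem (sie_mem _ _) ((levi_mem_iff _).2 x.1.2)⟩
  have hΦ : Function.Bijective Φ := by
    constructor
    · rintro ⟨⟨X, hX⟩, ⟨S, hS⟩⟩ ⟨⟨X', hX'⟩, ⟨S', hS'⟩⟩ h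
      have h' : sie S hS * levi X = sie S' hS' * levi X' := congrArg Subtype.val h
      have hx : X = X' := by
        refine Units.ext ?_
        have := congrArg blk11 h'
        simpa [(blk_mul (blk_sie S hS).1 (blk_levi X).1).2, (blk_mul (blk_sie S' hS').1 (blk_levi X').1).2,
          (blk_sie S hS).2, (blk_sie S' hS').2, (blk_levi X).2, (blk_levi X').2] using this
      subst hx
      have := congrArg (fun A : SpG m F => blk12 A) (mul_right_cancel h')
      simp only [blk12, coe_sie, toBlocks_fromBlocks₁₂] at this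
      subst this
      rfl
    · rintro ⟨A, hA1, hA2⟩
      obtain ⟨X, S, hS, hX, hA⟩ := eq_sie_mul_levi A hA1
      exact ⟨(⟨X, show IsUnitri (X : Half m F) from hX ▸ hA2⟩, ⟨S, hS⟩), Subtype.ext hA.symm⟩
  let Q : Type := {p : Fin m × Fin m // p.2 ≤ p.1}
  have e : Sy ≃ (Q → F) :=
    { toFun := fun S p => S.1 p.1.1 p.1.2
      invFun := fun u => ⟨Matrix.of fun i j =>
          if h : j ≤ i then u ⟨(i, j), h⟩ else u ⟨(j, i), le_of_not_ge h⟩, by
        ext i j
        simp only [Matrix.transpose_apply, Matrix.of_apply]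
        by_cases h : i ≤ j <;> by_cases h' : j ≤ i
        · obtain rfl := le_antisymm h h'; rfl
        · rw [dif_pos h, dif_neg h']
        · rw [dif_neg h, dif_pos h']
        · exact absurd (le_of_not_ge h) h'⟩
      left_inv := fun S => Subtype.ext (Matrix.ext fun i j => by
        simp only [Matrix.of_apply]
        split_ifs with h
        · rfl
        · exact congrFun (congrFun S.2 i) j)
      right_inv := fun u => funext fun p => by
        simp only [Matrix.of_apply]
        rw [dif_pos p.2] }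
  have hQ : Fintype.card Q = upperCount m + m := by
    have e' : Q ≃ Σ i : Fin m, Fin ((i : ℕ) + 1) :=
      { toFun := fun p => ⟨p.1.1, ⟨p.1.2, Nat.lt_succ_of_le p.2⟩⟩
        invFun := fun s => ⟨(s.1, ⟨s.2, lt_of_le_of_lt (Nat.le_of_lt_succ s.2.2) s.1.2⟩),
          Nat.le_of_lt_succ s.2.2⟩
        left_inv := fun p => rfl
        right_inv := fun s => rfl }
    rw [Fintype.card_congr e', Fintype.card_sigma]
    simp only [Fintype.card_fin, upperCount, Finset.sum_add_distrib, Finset.sum_const, Finset.card_univ,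
      Fintype.card_fin, smul_eq_mul, mul_one]
  refine ⟨upperCount m + (upperCount m + m), ?_, ?_⟩
  · rw [← Nat.card_congr (Equiv.ofBijective Φ hΦ), Nat.card_prod, card_unitriGL, Nat.card_congr e,
      Nat.card_fun, Nat.card_eq_fintype_card, Nat.card_eq_fintype_card, hQ, ← pow_add]
  · rw [upperCount, Fin.sum_univ_eq_sum_range (fun i => i) m]
    have h := Finset.sum_range_id_mul_two m
    rcases m with _ | k
    · simp
    · simp only [Nat.add_sub_cancel] at h
      ring_nf at h ⊢
      omega

theorem isPGroup_uniSp (p : ℕ) [Fact p.Prime] [CharP F p] : IsPGroup p (uniSp m F) := by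
  obtain ⟨f, -, hf⟩ := FiniteField.card F p
  obtain ⟨k, hk, -⟩ := card_uniSp (m := m) (F := F)
  exact IsPGroup.of_card (n := (f : ℕ) * k) (by rw [hk, hf, ← pow_mul])

theorem not_dvd_index_uniSp (p : ℕ) [Fact p.Prime] [CharP F p] : ¬ p ∣ (uniSp m F).index := by
  obtain ⟨f, hp, hf⟩ := FiniteField.card F p
  obtain ⟨k, hk, rfl⟩ := card_uniSp (m := m) (F := F)
  have hmul := (uniSp m F).card_mul_index
  rw [hk, Lib.Classical.natCard_symplecticGroup m, Nat.card_eq_fintype_card] at hmul
  have hidx := Nat.eq_of_mul_eq_mul_left (pow_pos Fintype.card_pos _) hmul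
  rw [hidx, hp.prime.dvd_finsetProd_iff]
  rintro ⟨i, -, hi⟩
  have hdvd : p ∣ Fintype.card F ^ (2 * (i + 1)) := by
    rw [hf, ← pow_mul]
    exact dvd_pow_self p (by positivity)
  have h1 := Nat.dvd_sub hdvd hi
  rw [Nat.sub_sub_self (Nat.one_le_pow _ _ Fintype.card_pos)] at h1
  exact hp.one_lt.ne' (Nat.dvd_one.1 h1)

/-! ### Closed subgroups -/

theorem uniSp_le_closure (T : Subgroup (SpG m F)) (hS : ∀ S hS, sie S hS ∈ T)
    (hL : ∀ (i j : Fin m) (h : i < j) (c : F), leviSL (Tr h.ne c) ∈ T) : uniSp m F ≤ T := by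
  intro A hA
  obtain ⟨X, S, hS', hX, rfl⟩ := eq_sie_mul_levi A hA.1
  have hXu : IsUnitri (X : Half m F) := hX ▸ hA.2
  refine mul_mem (hS _ _) ?_
  let x : SLn m F := ⟨(X : Half m F), det_eq_one_of_mem (show X ∈ unitriGL m F from hXu)⟩
  have hx : x ∈ SLData.uniSL m F := hXu
  have hle : SLData.uniSL m F ≤ T.comap leviSL := SLData.uniSL_le_closure _ hL
  have := hle hx
  rwa [Subgroup.mem_comap, leviSL, MonoidHom.comp_apply,
    show Matrix.SpecialLinearGroup.toGL x = X from Units.ext rfl] at this

/-- A central element of the Sylow subgroup is a Siegel element supported at the first two indices. -/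
theorem eq_sie_of_central (hm : 2 ≤ m) {z : SpG m F} (hz : z ∈ uniSp m F)
    (hc : ∀ u ∈ uniSp m F, u * z = z * u) :
    ∃ S hS, z = sie S hS ∧ ∀ a b : Fin m,
      ¬ ((a : ℕ) = 0 ∧ (b : ℕ) ≤ 1) → ¬ ((b : ℕ) = 0 ∧ (a : ℕ) ≤ 1) → S a b = 0 := by
  obtain ⟨X, S, hS, hX, rfl⟩ := eq_sie_mul_levi z hz.1
  have hXu : IsUnitri (X : Half m F) := hX ▸ hz.2
  have hfix : ∀ (S' : Half m F) (hS' : S'.transpose = S'), (X : Half m F) * S' * (X : Half m F).transpose = S' := by
    intro S' hS'
    have h := hc _ (sie_mem S' hS')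
    have h2 : sie S hS * (levi X * sie S' hS' * (levi X)⁻¹) = sie S hS * sie S' hS' := by
      calc sie S hS * (levi X * sie S' hS' * (levi X)⁻¹)
          = (sie S hS * levi X) * sie S' hS' * (levi X)⁻¹ := by group
        _ = sie S' hS' * (sie S hS * levi X) * (levi X)⁻¹ := by rw [h]
        _ = sie S' hS' * sie S hS := by group
        _ = sie S hS * sie S' hS' := spExt (by simp [sie_mul, coe_sie, add_comm])
    have h3 := mul_left_cancel h2
    rw [levi_mul_sie] at h3
    have := congrArg (fun A : SpG m F => blk12 A) h3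
    simpa [blk12, coe_sie] using this
  have hX1 : X = 1 := by
    refine Units.ext (Matrix.ext fun a b => ?_)
    by_cases hab : a = b
    · subst hab; simp [hXu.1]
    · have := congrFun (congrFun (hfix (longMat b 1) (longMat_symm b 1)) a) a
      rw [longMat, mul_single_mul_apply, transpose_apply, Matrix.single_apply,
        if_neg (fun h => hab h.1.symm), mul_one, mul_self_eq_zero] at this
      simp [this, hab]
  subst hX1
  refine ⟨S, hS, by simp, ?_⟩
  have key : ∀ a b : Fin m, a < b → ∀ c, c ≠ a → S b c = 0 := by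
    intro a b hab c hca
    have h := hc _ (leviSL_tr_mem hab 1)
    rw [map_one, mul_one, ← mul_inv_eq_iff_eq_mul, leviSL, MonoidHom.comp_apply, levi_mul_sie] at h
    have h2 := congrFun (congrFun (congrArg (fun A : SpG m F => blk12 A) h) a) c
    simp only [blk12, coe_sie, toBlocks_fromBlocks₁₂] at h2
    have hc1 : ((Matrix.SpecialLinearGroup.toGL (Tr hab.ne (1 : F) : SLn m F) : GL (Fin m) F) : Half m F) =
        1 + Matrix.single a b 1 := SLData.coe_tr hab.ne 1
    rw [hc1, transpose_add, transpose_one, transpose_single, Matrix.mul_add, Matrix.mul_one,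
      Matrix.add_apply, Matrix.mul_single_apply_of_ne _ _ _ _ _ hca, add_zero, Matrix.add_mul,
      Matrix.one_mul, Matrix.add_apply, Matrix.single_mul_apply_same, one_mul, add_eq_left] at h2
    exact h2
  intro a b hab hba
  have hsym : S b a = S a b := congrFun (congrFun hS a) b
  by_cases ha : (a : ℕ) = 0
  · have hb : 2 ≤ (b : ℕ) := by omega
    rw [← hsym]
    exact key ⟨1, by omega⟩ b (by rw [Fin.lt_def]; exact hb) a (by simp [Fin.ext_iff, ha])
  · by_cases hb : (b : ℕ) = 0
    · exact key ⟨1, by omega⟩ a (by rw [Fin.lt_def]; show 1 < (a : ℕ); omega) b (by simp [Fin.ext_iff, hb])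
    · exact key ⟨0, by omega⟩ a (by rw [Fin.lt_def]; show 0 < (a : ℕ); omega) b (by simp [Fin.ext_iff, hb])

theorem exists_ne_zero_one_of_card (h : 3 ≤ Fintype.card F) : ∃ t : F, t ≠ 0 ∧ t ≠ 1 := by
  classical
  by_contra! hne
  have hsub : (Finset.univ : Finset F) ⊆ {0, 1} := fun t _ => by
    by_cases h0 : t = 0
    · simp [h0]
    · simp [hne t h0]
  have := (Finset.card_le_card hsub).trans Finset.card_le_two
  rw [Finset.card_univ] at this
  omega

/-- A closed subgroup of the Sylow subgroup containing a central element contains all. -/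
theorem uniSp_le_of_central (hm : 2 ≤ m) (hex : m = 2 → 3 ≤ Fintype.card F) {z : SpG m F}
    (hzU : z ∈ uniSp m F) (hz1 : z ≠ 1) (hc : ∀ u ∈ uniSp m F, u * z = z * u)
    (T : Subgroup (SpG m F)) (hzT : z ∈ T)
    (hT : ∀ g : SpG m F, ∀ t ∈ T, g * t * g⁻¹ ∈ uniSp m F → g * t * g⁻¹ ∈ T) : uniSp m F ≤ T := by
  classical
  let P : Half m F → Prop := fun S => ∀ hS : S.transpose = S, sie S hS ∈ T
  have hP0 : P 0 := fun h => by rw [sie_zero]; exact T.one_mem
  have hGL : ∀ (X : GL (Fin m) F) (S : Half m F), S.transpose = S → P S →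
      P ((X : Half m F) * S * (X : Half m F).transpose) := by
    intro X S hS h _
    have hin : levi X * sie S hS * (levi X)⁻¹ ∈ uniSp m F := by rw [levi_mul_sie]; exact sie_mem _ _
    simpa only [levi_mul_sie] using hT _ _ (h hS) hin
  have hadd : ∀ S S' : Half m F, S.transpose = S → S'.transpose = S' → P S → P S' → P (S + S') := by
    intro S S' hS hS' h h' _
    simpa only [sie_mul] using mul_mem (h hS) (h' hS')
  have hsub : ∀ S S' : Half m F, S.transpose = S → S'.transpose = S' → P S → P S' → P (S - S') := by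
    intro S S' hS hS' h h' _
    simpa only [sie_inv, sie_mul, ← sub_eq_add_neg] using mul_mem (h hS) (inv_mem (h' hS'))
  let i₀ : Fin m := ⟨0, by omega⟩
  let i₁ : Fin m := ⟨1, by omega⟩
  have h01 : i₀ ≠ i₁ := by simp [i₀, i₁, Fin.ext_iff]
  -- a root element
  obtain ⟨S, hS, rfl, hsupp⟩ := eq_sie_of_central hm hzU hc
  have hPS : P S := fun _ => hzT
  have hdec : S = longMat i₀ (S i₀ i₀) + shortMat i₀ i₁ (S i₀ i₁) := by
    ext a b
    have hs : S i₁ i₀ = S i₀ i₁ := congrFun (congrFun hS i₀) i₁
    have hentry : (longMat i₀ (S i₀ i₀) + shortMat i₀ i₁ (S i₀ i₁) : Half m F) a b =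
        (if i₀ = a ∧ i₀ = b then S i₀ i₀ else 0) + ((if i₀ = a ∧ i₁ = b then S i₀ i₁ else 0) +
          (if i₁ = a ∧ i₀ = b then S i₀ i₁ else 0)) := by
      simp only [longMat, shortMat, Matrix.add_apply, Matrix.single_apply]
    rw [hentry]
    by_cases hA : i₀ = a ∧ i₀ = b
    · rw [if_pos hA, if_neg (fun h => h01 (hA.2.trans h.2.symm)),
        if_neg (fun h => h01 (hA.1.trans h.1.symm)), add_zero, add_zero, ← hA.1, ← hA.2]
    by_cases hB : i₀ = a ∧ i₁ = b
    · rw [if_neg hA, if_pos hB, if_neg (fun h => h01 (hB.1.trans h.1.symm)), add_zero, zero_add, ← hB.1,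
        ← hB.2]
    by_cases hC : i₁ = a ∧ i₀ = b
    · rw [if_neg hA, if_neg hB, if_pos hC, zero_add, zero_add, ← hC.1, ← hC.2, hs]
    rw [if_neg hA, if_neg hB, if_neg hC, add_zero, add_zero]
    apply hsupp <;> simp only [i₀, i₁, Fin.ext_iff] at hA hB hC ⊢ <;> omega
  have hroot : (∃ c, c ≠ 0 ∧ P (longMat i₀ c)) ∨
      ∃ i j : Fin m, i ≠ j ∧ ∃ b, b ≠ 0 ∧ P (shortMat i j b) := by
    by_cases hb : S i₀ i₁ = 0
    · refine Or.inl ⟨S i₀ i₀, fun ha => hz1 ?_, ?_⟩
      · refine spExt ?_
        rw [coe_sie, hdec, ha, hb]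
        simp [longMat, shortMat]
      · rw [hdec, hb] at hPS
        simpa [shortMat] using hPS
    · refine Or.inr ?_
      by_cases hm3 : 3 ≤ m
      · let i₂ : Fin m := ⟨2, by omega⟩
        have h12 : i₂ ≠ i₁ := by simp [i₂, i₁, Fin.ext_iff]
        have h02 : i₀ ≠ i₂ := by simp [i₀, i₂, Fin.ext_iff]
        refine ⟨i₀, i₂, h02, _, hb, ?_⟩
        have h := hsub _ _ (conj_symm _ hS) hS
          (hGL (Matrix.SpecialLinearGroup.toGL (Tr h12 (1 : F))) S hS hPS) hPS
        convert h using 1
        rw [show ((Matrix.SpecialLinearGroup.toGL (Tr h12 (1 : F) : SLn m F) : GL (Fin m) F) : Half m F) =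
          1 + Matrix.single i₂ i₁ 1 from SLData.coe_tr h12 1, hdec]
        ext a b
        simp [longMat, shortMat, Matrix.add_mul, Matrix.mul_add, transpose_add, h02, h02.symm, h01,
          h01.symm, h12, h12.symm, Matrix.single_mul_single_same, Matrix.single_mul_single_of_ne]
        ring
      · obtain ⟨t, ht0, ht1⟩ := exists_ne_zero_one_of_card (hex (by omega))
        obtain ⟨X, hX⟩ := exists_monomial (1 : Equiv.Perm (Fin m)) (fun c => if c = i₁ then t else 1)
          (fun c => by by_cases h : c = i₁ <;> simp [h, ht0])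
        refine ⟨i₀, i₁, h01, (t - 1) * S i₀ i₁, mul_ne_zero (sub_ne_zero.2 ht1) hb, ?_⟩
        have h := hsub _ _ (conj_symm _ hS) hS (hGL X S hS hPS) hPS
        convert h using 1
        conv_rhs => rw [hdec]
        simp only [longMat, shortMat, Matrix.mul_add, Matrix.add_mul, monomial_conj_single hX,
          Equiv.Perm.one_apply, if_neg h01, if_true]
        ext a b
        simp [Matrix.single_apply]
        split_ifs <;> ring
  -- all short root elements
  have hshort : ∀ i j : Fin m, i ≠ j → ∀ c, P (shortMat i j c) := by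
    obtain ⟨i, j, hij, b, hb, hP⟩ : ∃ i j : Fin m, i ≠ j ∧ ∃ b, b ≠ 0 ∧ P (shortMat i j b) := by
      rcases hroot with ⟨c, hc0, hP⟩ | h
      · refine ⟨i₁, i₀, h01.symm, c, hc0, ?_⟩
        obtain ⟨Y, hY⟩ := exists_monomial (Equiv.swap i₀ i₁) (fun _ => (1 : F)) fun _ => one_ne_zero
        have hk := hGL Y _ (longMat_symm i₀ c) hP
        rw [longMat, monomial_conj_single hY, Equiv.swap_apply_left, one_mul, mul_one] at hk
        have hv := hGL (Matrix.SpecialLinearGroup.toGL (Tr h01.symm (1 : F))) _ (longMat_symm i₀ c) hP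
        have h := hsub _ _ (conj_symm _ (longMat_symm i₀ c)) (by simp [transpose_add, longMat])
          hv (hadd _ (longMat i₁ c) (longMat_symm i₀ c) (longMat_symm i₁ c) hP hk)
        convert h using 1
        rw [show ((Matrix.SpecialLinearGroup.toGL (Tr h01.symm (1 : F) : SLn m F) : GL (Fin m) F) : Half m F) =
          1 + Matrix.single i₁ i₀ 1 from SLData.coe_tr h01.symm 1]
        simp [longMat, shortMat, Matrix.add_mul, Matrix.mul_add, transpose_add,
          Matrix.single_mul_single_same]
        abel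
      · exact h
    intro k l hkl c
    rcases eq_or_ne c 0 with rfl | hc0
    · simpa [shortMat] using hP0
    · obtain ⟨e, he1, he2⟩ := exists_perm_two hij hkl
      obtain ⟨X, hX⟩ := exists_monomial e (fun x => if x = i then c / b else 1)
        (fun x => by by_cases h : x = i <;> simp [h, div_ne_zero hc0 hb])
      have h := hGL X _ (shortMat_symm i j b) hP
      convert h using 1
      simp only [shortMat, Matrix.mul_add, Matrix.add_mul, monomial_conj_single hX, he1, he2,
        if_true, if_neg hij.symm]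
      congr 2 <;> field_simp
  -- Levi root elements
  have hlevi : ∀ (i j : Fin m) (h : i < j) (c : F), leviSL (Tr h.ne c) ∈ T := by
    intro i j h c
    have e := weyl_conj_short h.ne (-c)
    rw [neg_neg] at e
    rw [← e]
    exact hT _ _ (hshort i j h.ne (-c) _) (e ▸ leviSL_tr_mem h c)
  -- all long root elements
  have hlong : ∀ i c, P (longMat i c) := by
    have h0 : ∀ c, P (longMat i₀ c) := by
      intro c
      have hlt : i₀ < i₁ := Nat.one_pos
      set L := leviSL (Tr hlt.ne (1 : F)) with hL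
      have hLT : L ∈ T := hlevi _ _ hlt 1
      have hmem : sie (longMat i₁ c) (longMat_symm _ _) * L * (sie (longMat i₁ c) (longMat_symm _ _))⁻¹ ∈ T :=
        hT _ _ hLT (mul_mem (mul_mem (sie_mem _ _) (leviSL_tr_mem hlt 1)) (inv_mem (sie_mem _ _)))
      have h2 := mul_mem hmem (inv_mem hLT)
      rw [mul_assoc _ _ L⁻¹, mul_assoc _ L, ← mul_assoc L, hL, leviSL, MonoidHom.comp_apply, sie_inv,
        levi_mul_sie, sie_mul] at h2
      have h3 : P (longMat i₁ c + ((Matrix.SpecialLinearGroup.toGL (Tr hlt.ne (1 : F) : SLn m F) : GL (Fin m) F) : Half m F) *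
          -longMat i₁ c * ((Matrix.SpecialLinearGroup.toGL (Tr hlt.ne (1 : F) : SLn m F) : GL (Fin m) F) : Half m F).transpose) :=
        fun _ => h2
      have hsy : (longMat i₁ c + ((Matrix.SpecialLinearGroup.toGL (Tr hlt.ne (1 : F) : SLn m F) : GL (Fin m) F) : Half m F) *
          -longMat i₁ c * ((Matrix.SpecialLinearGroup.toGL (Tr hlt.ne (1 : F) : SLn m F) : GL (Fin m) F) : Half m F).transpose).transpose =
          longMat i₁ c + ((Matrix.SpecialLinearGroup.toGL (Tr hlt.ne (1 : F) : SLn m F) : GL (Fin m) F) : Half m F) *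
          -longMat i₁ c * ((Matrix.SpecialLinearGroup.toGL (Tr hlt.ne (1 : F) : SLn m F) : GL (Fin m) F) : Half m F).transpose := by
        rw [transpose_add, conj_symm _ (by rw [transpose_neg, longMat_symm]), longMat_symm]
      have h4 := hsub _ _ (transpose_zero) (shortMat_symm i₀ i₁ c) hP0 (hshort i₀ i₁ h01 c)
      have h5 := hsub _ _ (by rw [transpose_sub, transpose_zero, shortMat_symm]) hsy h4 h3
      convert h5 using 1
      rw [show ((Matrix.SpecialLinearGroup.toGL (Tr hlt.ne (1 : F) : SLn m F) : GL (Fin m) F) : Half m F) =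
        1 + Matrix.single i₀ i₁ 1 from SLData.coe_tr hlt.ne 1]
      simp [longMat, shortMat, Matrix.add_mul, Matrix.mul_add, transpose_add,
        Matrix.single_mul_single_same]
      abel
    intro i c
    obtain ⟨X, hX⟩ := exists_monomial (Equiv.swap i₀ i) (fun _ => (1 : F)) fun _ => one_ne_zero
    have h := hGL X _ (longMat_symm i₀ c) (h0 c)
    rw [longMat, monomial_conj_single hX, Equiv.swap_apply_left, one_mul, mul_one] at h
    exact h
  refine uniSp_le_closure T (fun S hS => ?_) hlevi
  refine (symm_induction (fun S => S.transpose = S ∧ P S) ⟨transpose_zero, hP0⟩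
    (fun S S' h h' => ⟨by rw [transpose_add, h.1, h'.1], hadd _ _ h.1 h'.1 h.2 h'.2⟩)
    (fun i c => ⟨longMat_symm i c, hlong i c⟩)
    (fun i j h c => ⟨shortMat_symm i j c, hshort i j h.ne c⟩) hS).2 hS

end Cfsg.Agent.Lib.Fusion.SpData
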