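import Cfsg.Agent.Lib.Fusion.SpData

/-!
The normalizer of the Sylow subgroup of `Sp_{2m}` in the defining characteristic, generated through the
Siegel radical and the radical of the minimal parabolic at the long simple root.
-/

set_option autoImplicit false

namespace Cfsg.Agent.Lib.Fusion.SpData

open Matrix Cfsg.Agent.Lib.PSLAut
open scoped MatrixGroups

variable {m : ℕ} {F : Type*} [Field F] [Fintype F]

local notation "Tr" => Matrix.SpecialLinearGroup.transvection

theorem mem_normalizer_of_conj {G : Type*} [Group G] [Finite G] {H : Subgroup G} {g : G}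
    (h : ∀ x ∈ H, g * x * g⁻¹ ∈ H) : g ∈ Subgroup.normalizer (H : Set G) := by
  have hfin : H.map (MulAut.conj g).toMonoidHom = H :=
    Subgroup.eq_of_le_of_card_ge (by rintro _ ⟨u, hu, rfl⟩; exact h u hu)
      (Subgroup.card_map_of_injective (MulEquiv.injective _)).ge
  rw [Subgroup.mem_normalizer_iff]
  refine fun u => ⟨h u, fun hu => ?_⟩
  obtain ⟨v, hv, hvu⟩ := hfin.ge hu
  rwa [← (MulEquiv.injective (MulAut.conj g)) hvu]

/-- An invertible diagonal matrix. -/
def diagGL (d : Fin m → Fˣ) : GL (Fin m) F :=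
  ⟨diagonal fun i => (d i : F), diagonal fun i => ((d i)⁻¹ : Fˣ), by
    rw [diagonal_mul_diagonal, ← diagonal_one]
    exact congrArg diagonal (funext fun i => Units.mul_inv _), by
    rw [diagonal_mul_diagonal, ← diagonal_one]
    exact congrArg diagonal (funext fun i => Units.inv_mul _)⟩

theorem coe_diagGL (d : Fin m → Fˣ) : (diagGL d : Half m F) = diagonal fun i => (d i : F) := rfl

theorem coe_diagGL_inv (d : Fin m → Fˣ) :
    (((diagGL d)⁻¹ : GL (Fin m) F) : Half m F) = diagonal fun i => (((d i)⁻¹ : Fˣ) : F) := rfl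

theorem levi_diag_mem_normalizer (d : Fin m → Fˣ) :
    levi (diagGL d) ∈ Subgroup.normalizer (uniSp m F : Set (SpG m F)) := by
  refine mem_normalizer_of_conj fun A hA => ?_
  rw [← map_inv, mem_uniSp]
  obtain ⟨h1, h2⟩ := blk_mul (blk_levi (diagGL d)).1 hA.1
  obtain ⟨h3, h4⟩ := blk_mul h1 (blk_levi (diagGL d)⁻¹).1
  refine ⟨h3, ?_⟩
  rw [h4, h2, (blk_levi _).2, (blk_levi _).2, coe_diagGL, coe_diagGL_inv]
  refine ⟨fun i => ?_, fun i j hij => ?_⟩
  · rw [mul_diagonal, diagonal_mul, hA.2.1 i, mul_one, Units.mul_inv]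
  · rw [mul_diagonal, diagonal_mul, hA.2.2 i j hij, mul_zero, zero_mul]

/-! ### The normalizer is in the Borel subgroup -/

theorem mul_unitri_apply {M X : Half m F} (hX : IsUnitri X) {r j : Fin m} (h : ∀ k < j, M r k = 0) :
    (M * X) r j = M r j := by
  rw [Matrix.mul_apply, Finset.sum_eq_single j (fun k _ hk => ?_) (by simp), hX.1, mul_one]
  rcases lt_or_gt_of_ne hk with h' | h'
  · rw [h k h', zero_mul]
  · rw [hX.2 k j h', mul_zero]

theorem borel_of_mem_normalizer {g : SpG m F}
    (hg : g ∈ Subgroup.normalizer (uniSp m F : Set (SpG m F))) :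
    blk21 g = 0 ∧ ∀ a j : Fin m, j < a → blk11 g a j = 0 := by
  have hconj : ∀ u ∈ uniSp m F, ∃ X : Half m F, IsUnitri X ∧
      blk11 u * blk11 g + blk12 u * blk21 g = blk11 g * X ∧
      blk21 u * blk11 g + blk22 u * blk21 g = blk21 g * X := by
    intro u hu
    have hu' : g⁻¹ * u * g ∈ uniSp m F := by
      simpa using (Subgroup.mem_normalizer_iff.1 (inv_mem hg) u).1 hu
    refine ⟨_, hu'.2, ?_⟩
    have e : u * g = g * (g⁻¹ * u * g) := by group
    have e1 := congrArg blk11 e
    have e2 := congrArg blk21 e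
    simp only [blk11, blk12, blk21, blk22, coe_mul_blocks u g, coe_mul_blocks g (g⁻¹ * u * g),
      toBlocks_fromBlocks₁₁, toBlocks_fromBlocks₂₁] at e1 e2
    have hz : blk21 (g⁻¹ * u * g) = 0 := hu'.1
    simp only [blk21] at hz
    rw [hz, Matrix.mul_zero, add_zero] at e1 e2
    exact ⟨e1, e2⟩
  suffices H : ∀ (k : ℕ) (j : Fin m), (j : ℕ) = k →
      (∀ a, j < a → blk11 g a j = 0) ∧ ∀ a, blk21 g a j = 0 from
    ⟨Matrix.ext fun a j => (H _ j rfl).2 a, fun a j h => (H _ j rfl).1 a h⟩
  intro k
  induction k using Nat.strong_induction_on with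
  | _ k ih =>
    intro j hj
    have hA : ∀ a, j ≤ a → ∀ k' < j, blk11 g a k' = 0 := fun a ha k' hk' =>
      (ih k' (hj ▸ hk') k' rfl).1 a (lt_of_lt_of_le hk' ha)
    have hC : ∀ a, ∀ k' < j, blk21 g a k' = 0 := fun a k' hk' => (ih k' (hj ▸ hk') k' rfl).2 a
    have hC1 : ∀ i, j ≤ i → blk21 g i j = 0 := by
      intro i hi
      obtain ⟨X, hX, e1, -⟩ := hconj _ (sie_mem (longMat i 1) (longMat_symm i 1))
      have := congrFun (congrFun e1 i) j
      simp only [blk11, blk12, coe_sie, toBlocks_fromBlocks₁₁, toBlocks_fromBlocks₁₂, Matrix.one_mul,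
        Matrix.add_apply, longMat, Matrix.single_mul_apply_same, one_mul] at this
      rwa [mul_unitri_apply hX (fun k' hk' => hA i hi k' hk'), add_eq_left] at this
    have htr : ∀ (a b : Fin m) (h : a < b), (j ≤ a → blk11 g b j = 0) ∧ blk21 g a j = 0 := by
      intro a b h
      obtain ⟨X, hX, e1, e2⟩ := hconj _ (leviSL_tr_mem h 1)
      simp only [blk11, blk12, blk21, blk22, coe_leviSL_tr, toBlocks_fromBlocks₁₁, toBlocks_fromBlocks₁₂,
        toBlocks_fromBlocks₂₁, toBlocks_fromBlocks₂₂, Matrix.zero_mul, add_zero, zero_add,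
        Matrix.add_mul, Matrix.one_mul] at e1 e2
      constructor
      · intro ha
        have := congrFun (congrFun e1 a) j
        rw [Matrix.add_apply, Matrix.single_mul_apply_same, one_mul,
          mul_unitri_apply hX (fun k' hk' => hA a ha k' hk'), add_eq_left] at this
        exact this
      · have := congrFun (congrFun e2 b) j
        rw [Matrix.add_apply, Matrix.single_mul_apply_same,
          mul_unitri_apply hX (fun k' hk' => hC b k' hk'), add_eq_left, neg_one_mul, neg_eq_zero] at this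
        exact this
    refine ⟨fun a ha => (htr j a ha).1 le_rfl, fun a => ?_⟩
    rcases le_or_gt j a with h | h
    · exact hC1 a h
    · exact (htr a j h).2

/-! ### Centralizers -/

theorem levi_fix_of_comm {X : GL (Fin m) F} {S : Half m F} {hS : S.transpose = S} {S' : Half m F}
    {hS' : S'.transpose = S'} (h : sie S' hS' * (sie S hS * levi X) = (sie S hS * levi X) * sie S' hS') :
    (X : Half m F) * S' * (X : Half m F).transpose = S' := by
  have h2 : sie S hS * (levi X * sie S' hS' * (levi X)⁻¹) = sie S hS * sie S' hS' := by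
    calc sie S hS * (levi X * sie S' hS' * (levi X)⁻¹)
        = (sie S hS * levi X) * sie S' hS' * (levi X)⁻¹ := by group
      _ = sie S' hS' * (sie S hS * levi X) * (levi X)⁻¹ := by rw [h]
      _ = sie S' hS' * sie S hS := by group
      _ = sie S hS * sie S' hS' := spExt (by simp [sie_mul, coe_sie, add_comm])
  have h3 := mul_left_cancel h2
  rw [levi_mul_sie] at h3
  have := congrArg (fun A : SpG m F => blk12 A) h3
  simpa [blk12, coe_sie] using this

/-- The scalar `-1`. -/
def negOne : SpG m F := levi (diagGL fun _ => -1)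

theorem negOne_mem_center : (negOne : SpG m F) ∈ Subgroup.center (SpG m F) := by
  refine Subgroup.mem_center_iff.2 fun g => spExt ?_
  have h : (negOne : SpG m F).1 = -1 := by
    rw [negOne, coe_levi, coe_diagGL, coe_diagGL_inv, ← fromBlocks_one, fromBlocks_neg, neg_zero,
      diagonal_transpose, ← diagonal_one, diagonal_neg]
    congr 2 <;> funext i <;> simp
  show g.1 * (negOne : SpG m F).1 = (negOne : SpG m F).1 * g.1
  rw [h, Matrix.mul_neg, Matrix.neg_mul, Matrix.mul_one, Matrix.one_mul]

/-- An element commuting with the Siegel elements without entry at `(l, l)` is, up to sign, in the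
Sylow subgroup; with all of them, up to sign, a Siegel element. -/
theorem centralizer_sie (hm : 2 ≤ m) {l : Fin m} (hl : (l : ℕ) + 1 = m) {x : SpG m F}
    (hx : ∀ S hS, S l l = 0 → sie S hS * x = x * sie S hS) :
    ∃ z ∈ Subgroup.center (SpG m F), z * x ∈ uniSp m F ∧
      ((∀ S hS, sie S hS * x = x * sie S hS) → ∃ S hS, z * x = sie S hS) := by
  classical
  have hC : blk21 x = 0 := by
    ext a i
    obtain ⟨j, hj⟩ : ∃ j : Fin m, j ≠ i := by
      haveI : Nontrivial (Fin m) := Fin.nontrivial_iff_two_le.2 hm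
      exact exists_ne i
    have hll : (shortMat i j 1 : Half m F) l l = 0 := by
      rw [shortMat, Matrix.add_apply, Matrix.single_apply, Matrix.single_apply, if_neg, if_neg, add_zero]
      · rintro ⟨h1, h2⟩; exact hj (h1.trans h2.symm)
      · rintro ⟨h1, h2⟩; exact hj (h2.trans h1.symm)
    have h := congrArg blk21 (hx (shortMat i j 1) (shortMat_symm i j 1)
      hll)
    have h2 := congrArg blk22 (hx (shortMat i j 1) (shortMat_symm i j 1)
      hll)
    simp only [blk22, coe_mul_blocks, toBlocks_fromBlocks₂₂] at h2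
    simp only [blk11, blk12, blk21, blk22, coe_sie, toBlocks_fromBlocks₁₁, toBlocks_fromBlocks₁₂,
      toBlocks_fromBlocks₂₁, toBlocks_fromBlocks₂₂, Matrix.one_mul, Matrix.zero_mul, zero_add,
      Matrix.mul_one] at h2
    have := congrFun (congrFun h2 a) j
    rw [Matrix.add_apply, right_eq_add, shortMat, Matrix.mul_add, Matrix.add_apply,
      Matrix.mul_single_apply_same, Matrix.mul_single_apply_of_ne _ _ _ _ _ hj, mul_one, add_zero] at this
    exact this
  obtain ⟨X, S, hS, -, rfl⟩ := eq_sie_mul_levi x hC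
  have hcol : ∀ i, (longMat i 1 : Half m F) * 0 = 0 → (∀ (hi : (longMat i (1 : F)).transpose = longMat i 1),
      sie _ hi * (sie S hS * levi X) = (sie S hS * levi X) * sie _ hi) →
      ∀ a, a ≠ i → (X : Half m F) a i = 0 := by
    intro i _ hi a ha
    have := congrFun (congrFun (levi_fix_of_comm (hi (longMat_symm i 1))) a) a
    rw [longMat, mul_single_mul_apply, transpose_apply, Matrix.single_apply,
      if_neg (fun h => ha h.1.symm), mul_one, mul_self_eq_zero] at this
    exact this
  have hfix : ∀ S' hS', S' l l = 0 → (X : Half m F) * S' * (X : Half m F).transpose = S' :=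
    fun S' hS' h => levi_fix_of_comm (hS' := hS') (hx S' hS' h)
  have hcol' : ∀ i, i ≠ l → ∀ a, a ≠ i → (X : Half m F) a i = 0 := fun i hi =>
    hcol i (Matrix.mul_zero _) fun h => hx _ h (by simp [longMat, hi])
  let i₀ : Fin m := ⟨0, by omega⟩
  have hi0 : i₀ ≠ l := by simp [i₀, Fin.ext_iff]; omega
  set c := (X : Half m F) i₀ i₀ with hc
  have hc2 : c * c = 1 := by
    have := congrFun (congrFun (hfix (longMat i₀ 1) (longMat_symm _ _) (by simp [longMat, hi0])) i₀) i₀
    rw [longMat, mul_single_mul_apply, transpose_apply, mul_one, Matrix.single_apply_same] at this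
    exact this
  have hdiag : ∀ i, (X : Half m F) i i = c := by
    intro i
    rcases eq_or_ne i i₀ with rfl | hi
    · rfl
    have := congrFun (congrFun (hfix (shortMat i₀ i 1) (shortMat_symm _ _ _)
      (by simp [shortMat, Matrix.single_apply, hi0])) i₀) i
    rw [shortMat, Matrix.mul_add, Matrix.add_mul, Matrix.add_apply, mul_single_mul_apply,
      mul_single_mul_apply, transpose_apply, transpose_apply, hcol' i₀ hi0 i hi, mul_zero, add_zero,
      mul_one, ← hc, Matrix.add_apply, Matrix.single_apply_same,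
      Matrix.single_apply, if_neg (fun h => hi h.1), add_zero] at this
    have h2 : c * (c * (X : Half m F) i i) = c * 1 := by rw [this]
    rw [← mul_assoc, hc2, one_mul, mul_one] at h2
    exact h2
  have hlow : ∀ a b : Fin m, b < a → (X : Half m F) a b = 0 := by
    intro a b hba
    refine hcol' b (fun h => ?_) a hba.ne'
    have := a.isLt
    rw [h, Fin.lt_def] at hba
    omega
  obtain ⟨z, hz, hzc⟩ : ∃ z ∈ Subgroup.center (SpG m F),
      ∃ Z : GL (Fin m) F, z = levi Z ∧ (Z : Half m F) = c • (1 : Half m F) := by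
    rcases mul_self_eq_one_iff.1 hc2 with h | h
    · exact ⟨1, one_mem _, 1, (map_one _).symm, by simp [h]⟩
    · exact ⟨negOne, negOne_mem_center, _, rfl, by
        rw [coe_diagGL, h, ← diagonal_one, ← diagonal_smul]
        congr 1
        funext i
        simp⟩
  obtain ⟨Z, rfl, hZ⟩ := hzc
  have hzx : levi Z * (sie S hS * levi X) = sie S hS * levi (Z * X) := by
    rw [← mul_assoc, (Subgroup.mem_center_iff.1 hz (sie S hS)).symm, mul_assoc, map_mul]
  refine ⟨levi Z, hz, ?_, fun hall => ⟨S, hS, ?_⟩⟩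
  · rw [hzx]
    refine mul_mem (sie_mem _ _) ((levi_mem_iff _).2 ⟨fun i => ?_, fun i j hij => ?_⟩)
    · simp [hZ, hdiag, hc2]
    · simp [hZ, hlow i j hij]
  · rw [hzx]
    have hone : Z * X = 1 := by
      refine Units.ext (Matrix.ext fun a b => ?_)
      by_cases hab : a = b
      · subst hab; simp [hZ, hdiag, hc2]
      · have h0 : (X : Half m F) a b = 0 := by
          by_cases hb : b = l
          · exact hcol b (Matrix.mul_zero _) (fun h => hall _ h) a hab
          · exact hcol' b hb a hab
        simp [hZ, h0, hab]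
    rw [hone, map_one, mul_one]

/-! ### The Siegel radical -/

/-- The Siegel radical. -/
def siegel (m : ℕ) (F : Type*) [Field F] [Fintype F] : Subgroup (SpG m F) where
  carrier := {A | blk21 A = 0 ∧ blk11 A = 1}
  one_mem' := blk_one
  mul_mem' {A B} hA hB := ⟨(blk_mul hA.1 hB.1).1, by rw [(blk_mul hA.1 hB.1).2, hA.2, hB.2, Matrix.one_mul]⟩
  inv_mem' {A} hA := by
    obtain ⟨h1, h2⟩ := levi_inv_sie_inv_blk hA.1
    rw [hA.2, Matrix.one_mul] at h2
    exact ⟨h1, h2⟩

theorem sie_mem_siegel (S : Half m F) (hS : S.transpose = S) : sie S hS ∈ siegel m F := blk_sie S hS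

theorem siegel_le : siegel m F ≤ uniSp m F := fun _ hA => ⟨hA.1, hA.2.symm ▸ isUnitri_one⟩

theorem exists_eq_sie {A : SpG m F} (hA : A ∈ siegel m F) : ∃ S hS, A = sie S hS := by
  obtain ⟨X, S, hS, hX, rfl⟩ := eq_sie_mul_levi A hA.1
  exact ⟨S, hS, by rw [show X = 1 from Units.ext (hX.trans hA.2), map_one, mul_one]⟩

theorem levi_mem_normalizer_siegel (X : GL (Fin m) F) :
    levi X ∈ Subgroup.normalizer (siegel m F : Set (SpG m F)) := by
  refine mem_normalizer_of_conj fun A hA => ?_
  obtain ⟨S, hS, rfl⟩ := exists_eq_sie hA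
  rw [levi_mul_sie]
  exact sie_mem_siegel _ _

theorem centralizer_siegel_le (hm : 2 ≤ m) :
    Subgroup.centralizer (siegel m F : Set (SpG m F)) ≤ siegel m F ⊔ Subgroup.center (SpG m F) := by
  intro x hx
  have h : ∀ S hS, sie S hS * x = x * sie S hS := fun S hS => hx _ (sie_mem_siegel S hS)
  obtain ⟨z, hz, -, hzx⟩ :=
    centralizer_sie hm (l := ⟨m - 1, by omega⟩) (by show m - 1 + 1 = m; omega) fun S hS _ => h S hS
  obtain ⟨S, hS, e⟩ := hzx h
  rw [show x = z⁻¹ * sie S hS by rw [← e, inv_mul_cancel_left]]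
  exact mul_mem (Subgroup.mem_sup_right (inv_mem hz)) (Subgroup.mem_sup_left (sie_mem_siegel _ _))

/-! ### The radical at the long simple root -/

theorem blk22_col_last {B : SpG m F} (hB : B ∈ uniSp m F) {l : Fin m} (hl : (l : ℕ) + 1 = m) (k : Fin m) :
    blk22 B k l = (1 : Half m F) k l := by
  obtain ⟨X, S, hS, hX, rfl⟩ := eq_sie_mul_levi B hB.1
  have hXi : IsUnitri (((X⁻¹ : GL (Fin m) F)) : Half m F) :=
    (unitriGL m F).inv_mem (show X ∈ unitriGL m F from (hX ▸ hB.2 : IsUnitri (X : Half m F)))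
  simp only [blk22, coe_mul_blocks, blk21, coe_levi, coe_sie, toBlocks_fromBlocks₂₁, toBlocks_fromBlocks₂₂,
    toBlocks_fromBlocks₁₂, Matrix.zero_mul, Matrix.one_mul, zero_add, transpose_apply]
  rcases eq_or_ne k l with rfl | hk
  · rw [Matrix.one_apply_eq, hXi.1]
  · rw [Matrix.one_apply_ne hk, hXi.2 l k (by
      rw [Fin.lt_def]; have := k.isLt; have : (k : ℕ) ≠ l := fun h => hk (Fin.ext h); omega)]

theorem blk12_last_mul {A B : SpG m F} (hA : A ∈ uniSp m F) (hB : B ∈ uniSp m F) {l : Fin m}
    (hl : (l : ℕ) + 1 = m) : blk12 (A * B) l l = blk12 A l l + blk12 B l l := by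
  show ((A * B : SpG m F) : Matrix (Fin m ⊕ Fin m) (Fin m ⊕ Fin m) F).toBlocks₁₂ l l = _
  rw [coe_mul_blocks, toBlocks_fromBlocks₁₂, Matrix.add_apply, Matrix.mul_apply, Matrix.mul_apply,
    Finset.sum_eq_single l (fun k _ hk => ?_) (by simp), Finset.sum_eq_single l (fun k _ hk => ?_) (by simp),
    hA.2.1, blk22_col_last hB hl, Matrix.one_apply_eq, one_mul, mul_one, add_comm]
  · rw [blk22_col_last hB hl, Matrix.one_apply_ne hk, mul_zero]
  · rw [hA.2.2 l k (by
      rw [Fin.lt_def]; have := k.isLt; have : (k : ℕ) ≠ l := fun h => hk (Fin.ext h); omega), zero_mul]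

/-- The radical of the minimal parabolic at the long simple root. -/
def longRadical {l : Fin m} (hl : (l : ℕ) + 1 = m) : Subgroup (SpG m F) where
  carrier := {A | A ∈ uniSp m F ∧ blk12 A l l = 0}
  one_mem' := ⟨one_mem _, by simp [blk12, ← fromBlocks_one]⟩
  mul_mem' {A B} hA hB := ⟨mul_mem hA.1 hB.1, by rw [blk12_last_mul hA.1 hB.1 hl, hA.2, hB.2, add_zero]⟩
  inv_mem' {A} hA := ⟨inv_mem hA.1, by
    have h := blk12_last_mul hA.1 (inv_mem hA.1) hl
    rw [mul_inv_cancel, hA.2, zero_add] at h
    rw [← h]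
    simp [blk12, ← fromBlocks_one]⟩

variable {l : Fin m} {hl : (l : ℕ) + 1 = m}

theorem mem_longRadical {A : SpG m F} :
    A ∈ longRadical hl ↔ A ∈ uniSp m F ∧ blk12 A l l = 0 := Iff.rfl

theorem sie_mem_longRadical {S : Half m F} (hS : S.transpose = S) (h : S l l = 0) :
    sie S hS ∈ longRadical hl := ⟨sie_mem _ _, by simpa [blk12, coe_sie] using h⟩

theorem leviSL_tr_mem_longRadical {i j : Fin m} (h : i < j) (c : F) :
    leviSL (Tr h.ne c) ∈ longRadical hl := ⟨leviSL_tr_mem h c, by simp [blk12, coe_leviSL_tr]⟩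

theorem uniSp_le_normalizer : uniSp m F ≤ Subgroup.normalizer (longRadical (F := F) hl : Set (SpG m F)) := by
  intro u hu
  refine mem_normalizer_of_conj fun A hA => ?_
  refine ⟨mul_mem (mul_mem hu hA.1) (inv_mem hu), ?_⟩
  have h := blk12_last_mul hu (inv_mem hu) hl
  rw [mul_inv_cancel, show blk12 (1 : SpG m F) = 0 by simp [blk12, ← fromBlocks_one]] at h
  rw [blk12_last_mul (mul_mem hu hA.1) (inv_mem hu) hl, blk12_last_mul hu hA.1 hl, hA.2, add_zero]
  exact h.symm

theorem emb_comm_sie {S : Half m F} (hS : S.transpose = S) (h : ∀ k, S l k = 0) (A : SL(2, F)) :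
    emb l A * sie S hS = sie S hS * emb l A := by
  have h' : ∀ k, S k l = 0 := fun k => by rw [← h k]; exact congrFun (congrFun hS l) k
  refine spExt ?_
  simp only [Submonoid.coe_mul, coe_emb, coe_sie, fromBlocks_multiply, Matrix.mul_one, Matrix.one_mul,
    Matrix.mul_zero, Matrix.zero_mul, add_zero, zero_add]
  congr 1 <;> ext a b <;> simp only [Matrix.add_apply, diagonal_mul, mul_diagonal, diagonal_apply] <;>
    by_cases hab : a = b <;> by_cases ha : a = l <;> by_cases hb : b = l <;> simp_all [add_comm]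

theorem emb_comm_tr {i j : Fin m} (hij : i ≠ j) (hi : i ≠ l) (hj : j ≠ l) (c : F) (A : SL(2, F)) :
    emb l A * leviSL (Tr hij c) = leviSL (Tr hij c) * emb l A := by
  refine spExt ?_
  simp only [Submonoid.coe_mul, coe_emb, coe_leviSL_tr, fromBlocks_multiply, Matrix.mul_zero,
    Matrix.zero_mul, add_zero, zero_add]
  congr 1 <;> ext a b <;>
    simp only [Matrix.add_apply, diagonal_mul, mul_diagonal, Matrix.one_apply, Matrix.single_apply] <;>
    by_cases ha : a = l <;> by_cases hb : b = l <;> simp_all [eq_comm]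

theorem weyl_conj_tr {i : Fin m} (h : i ≠ l) (c : F) :
    emb l weyl * leviSL (Tr h c) * (emb l weyl)⁻¹ = sie (shortMat i l c) (shortMat_symm i l c) := by
  rw [mul_inv_eq_iff_eq_mul]
  refine spExt ?_
  simp only [Submonoid.coe_mul, coe_emb, coe_sie, coe_leviSL_tr, fromBlocks_multiply]
  have h00 : (weyl : SL(2, F)) 0 0 = 0 := rfl
  have h01 : (weyl : SL(2, F)) 0 1 = -1 := rfl
  have h10 : (weyl : SL(2, F)) 1 0 = 1 := rfl
  have h11 : (weyl : SL(2, F)) 1 1 = 0 := rfl
  rw [h00, h01, h10, h11]
  clear h00 h01 h10 h11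
  simp only [Matrix.one_mul, Matrix.zero_mul, Matrix.mul_zero, add_zero, zero_add]
  congr 1 <;> ext a b <;>
    simp only [shortMat, Matrix.add_apply, Matrix.add_mul, Matrix.mul_add, Matrix.mul_one, diagonal_mul,
      mul_diagonal, Matrix.one_apply, Matrix.single_apply, diagonal_apply] <;>
    by_cases ha : a = i <;> by_cases ha' : a = l <;> by_cases hb : b = i <;> by_cases hb' : b = l <;>
    by_cases hab : a = b <;> simp_all [eq_comm]

theorem weyl_mem_normalizer : emb l weyl ∈ Subgroup.normalizer (longRadical (F := F) hl : Set (SpG m F)) := by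
  classical
  refine mem_normalizer_of_conj fun A hA => ?_
  set T := (longRadical hl).comap (MulAut.conj (emb (F := F) l weyl)).toMonoidHom
  suffices h : A ∈ T from h
  have hne : ∀ i : Fin m, ∀ j, i < j → i ≠ l := fun i j hij h => by
    rw [h, Fin.lt_def] at hij; have := j.isLt; omega
  have htr : ∀ (i j : Fin m) (h : i < j) (c : F), leviSL (Tr h.ne c) ∈ T := by
    intro i j h c
    show emb l weyl * _ * (emb l weyl)⁻¹ ∈ longRadical hl
    rcases eq_or_ne j l with rfl | hj
    · rw [weyl_conj_tr h.ne]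
      exact sie_mem_longRadical _ (by simp [shortMat, Matrix.single_apply, h.ne])
    · rw [emb_comm_tr h.ne (hne i j h) hj, mul_inv_cancel_right]
      exact leviSL_tr_mem_longRadical h c
  have hd : ∀ S : Half m F, S.transpose = S →
      (S - longMat l (S l l)).transpose = S - longMat l (S l l) := fun S hS => by
    rw [transpose_sub, hS, longMat_symm]
  have hsie : ∀ S : Half m F, S.transpose = S →
      S.transpose = S ∧ ∀ h', sie (S - longMat l (S l l)) h' ∈ T := by
    intro S hS
    refine symm_induction (fun S => S.transpose = S ∧ ∀ h', sie (S - longMat l (S l l)) h' ∈ T)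
      ?_ ?_ ?_ ?_ hS
    · refine ⟨transpose_zero, fun h' => ?_⟩
      convert T.one_mem
      exact spExt (by simp [coe_sie, longMat])
    · rintro S₁ S₂ ⟨e1, h1⟩ ⟨e2, h2⟩
      refine ⟨by rw [transpose_add, e1, e2], fun h' => ?_⟩
      convert mul_mem (h1 (hd _ e1)) (h2 (hd _ e2)) using 1
      rw [sie_mul]
      refine spExt ?_
      simp only [coe_sie, longMat, Matrix.add_apply]
      rw [Matrix.single_add]
      congr 1
      abel
    · intro i c
      refine ⟨longMat_symm i c, fun h' => ?_⟩
      rcases eq_or_ne i l with rfl | hi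
      · convert T.one_mem
        exact spExt (by simp [coe_sie, longMat])
      · show emb l weyl * _ * (emb l weyl)⁻¹ ∈ longRadical hl
        rw [emb_comm_sie _ (fun k => by simp [longMat, Matrix.single_apply, hi]), mul_inv_cancel_right]
        exact sie_mem_longRadical _ (by simp [longMat, Matrix.single_apply, hi])
    · intro i j hij c
      refine ⟨shortMat_symm i j c, fun h' => ?_⟩
      have hil : i ≠ l := hne i j hij
      have e : shortMat i j c - longMat l ((shortMat i j c : Half m F) l l) = shortMat i j c := by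
        simp [shortMat, longMat, Matrix.single_apply, hil]
      show emb l weyl * _ * (emb l weyl)⁻¹ ∈ longRadical hl
      rw [show sie (shortMat i j c - longMat l ((shortMat i j c : Half m F) l l)) h' =
        sie (shortMat i j c) (shortMat_symm i j c) from spExt (by rw [coe_sie, coe_sie, e])]
      rcases eq_or_ne j l with rfl | hj
      · rw [weyl_conj_short hij.ne]
        exact leviSL_tr_mem_longRadical hij _
      · rw [emb_comm_sie _ (fun k => by simp [shortMat, Matrix.single_apply, hil, hj]), mul_inv_cancel_right]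
        exact sie_mem_longRadical _ (by simp [shortMat, Matrix.single_apply, hil])
  obtain ⟨X, S, hS, hX, rfl⟩ := eq_sie_mul_levi A hA.1.1
  have hXu : IsUnitri (X : Half m F) := hX ▸ hA.1.2
  let x : SLn m F := ⟨(X : Half m F), det_eq_one_of_mem (show X ∈ unitriGL m F from hXu)⟩
  have hlX : leviSL x = levi X := by
    rw [leviSL, MonoidHom.comp_apply, show Matrix.SpecialLinearGroup.toGL x = X from Units.ext rfl]
  have hLT : levi X ∈ T := hlX ▸ SLData.uniSL_le_closure (T.comap leviSL) htr (show x ∈ _ from hXu)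
  refine mul_mem ?_ hLT
  have hll : S l l = 0 := by
    have h := blk12_last_mul (sie_mem S hS) ((levi_mem_iff X).2 hXu) hl
    rw [hA.2] at h
    simpa [blk12, coe_sie, coe_levi] using h.symm
  have h := (hsie S hS).2 (hd S hS)
  rwa [show sie (S - longMat l (S l l)) (hd S hS) = sie S hS from spExt (by simp [coe_sie, longMat, hll])] at h

theorem centralizer_longRadical_le (hm : 2 ≤ m) :
    Subgroup.centralizer (longRadical (F := F) hl : Set (SpG m F)) ≤
      longRadical hl ⊔ Subgroup.center (SpG m F) := by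
  intro x hx
  obtain ⟨z, hz, hu, -⟩ := centralizer_sie hm hl (x := x) fun S hS h => hx _ (sie_mem_longRadical hS h)
  have hlt : (⟨0, by omega⟩ : Fin m) < l := by rw [Fin.lt_def]; show 0 < (l : ℕ); omega
  have h := hx _ (leviSL_tr_mem_longRadical (hl := hl) hlt 1)
  have h2 : leviSL (Tr hlt.ne (1 : F)) * (z * x) = (z * x) * leviSL (Tr hlt.ne (1 : F)) := by
    rw [← mul_assoc, Subgroup.mem_center_iff.1 hz, mul_assoc, h, ← mul_assoc]
  have h3 := congrFun (congrFun (congrArg blk12 h2) ⟨0, by omega⟩) l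
  have hmem : z * x ∈ longRadical hl → x ∈ longRadical hl ⊔ Subgroup.center (SpG m F) := fun h => by
    rw [show x = z⁻¹ * (z * x) by rw [inv_mul_cancel_left]]
    exact mul_mem (Subgroup.mem_sup_right (inv_mem hz)) (Subgroup.mem_sup_left h)
  refine hmem ⟨hu, ?_⟩
  obtain ⟨u, hu'⟩ : ∃ u, z * x = u := ⟨_, rfl⟩
  rw [hu'] at h3 ⊢
  simp only [blk12, coe_mul_blocks, toBlocks_fromBlocks₁₂] at h3 ⊢
  simp only [blk11, blk12, blk22, coe_leviSL_tr, toBlocks_fromBlocks₁₁, toBlocks_fromBlocks₁₂,
    toBlocks_fromBlocks₂₂, Matrix.add_mul, Matrix.mul_add, Matrix.one_mul, Matrix.mul_one, Matrix.zero_mul,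
    Matrix.mul_zero, add_zero, zero_add, Matrix.add_apply, Matrix.single_mul_apply_same,
    Matrix.mul_single_apply_of_ne _ _ _ _ _ hlt.ne', one_mul, Matrix.zero_apply, add_zero, zero_add, add_eq_left] at h3
  exact h3

theorem emb_diag (t : Fˣ) :
    emb l (⟨!![(t : F), 0; 0, ((t⁻¹ : Fˣ) : F)], by simp [Matrix.det_fin_two]⟩ : SL(2, F)) =
      levi (diagGL (Function.update (1 : Fin m → Fˣ) l t)) := by
  refine spExt ?_
  show fromBlocks _ _ _ _ = fromBlocks _ _ _ _
  rw [coe_diagGL, coe_diagGL_inv, diagonal_transpose, ← diagonal_zero]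
  congr 2 <;> funext i <;> by_cases h : i = l <;> simp [h, Function.update_apply]

/-- The `p`-elements normalizing `R` generate this subgroup. -/
abbrev pGen (p : ℕ) (R : Subgroup (SpG m F)) : Subgroup (SpG m F) :=
  Subgroup.closure {x | x ∈ Subgroup.normalizer (R : Set (SpG m F)) ∧ ∃ k : ℕ, x ^ p ^ k = 1}

theorem leviSL_mem_pGen (p : ℕ) [CharP F p] (s : SLn m F) : leviSL s ∈ pGen p (siegel m F) := by
  refine LinGroup.SL_transvection_induction (fun s => leviSL s ∈ pGen p (siegel m F)) ?_ ?_ ?_ s
  · rw [map_one]; exact one_mem _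
  · refine fun i j h c => Subgroup.subset_closure ⟨levi_mem_normalizer_siegel _, 1, ?_⟩
    rw [← map_pow, SLData.tr_pow_char p, map_one]
  · intro A B hA hB; rw [map_mul]; exact mul_mem hA hB

theorem emb_mem_pGen (p : ℕ) [CharP F p] (s : SL(2, F)) : emb l s ∈ pGen p (longRadical hl) := by
  have h01 : ∀ (h : (0 : Fin 2) ≠ 1) (c : F), emb l (Tr h c) ∈ Subgroup.normalizer (longRadical (F := F) hl : Set (SpG m F)) :=
    fun h c => by rw [emb_tr01]; exact uniSp_le_normalizer (sie_mem _ _)
  refine LinGroup.SL_transvection_induction (fun s => emb l s ∈ pGen p (longRadical hl)) ?_ ?_ ?_ s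
  · rw [map_one]; exact one_mem _
  · refine fun i j h c => Subgroup.subset_closure ⟨?_, 1, ?_⟩
    · fin_cases i <;> fin_cases j
      · exact absurd rfl h
      · exact h01 h c
      · show emb l (Tr h c : SL(2, F)) ∈ _
        rw [tr10_eq, map_mul, map_mul, map_inv]
        exact mul_mem (mul_mem weyl_mem_normalizer (h01 _ _)) (inv_mem weyl_mem_normalizer)
      · exact absurd rfl h
    · rw [← map_pow, SLData.tr_pow_char p, map_one]
  · intro A B hA hB; rw [map_mul]; exact mul_mem hA hB

/-- The normalizer of the Sylow subgroup is generated as the criterion asks. -/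
theorem normalizer_le (p : ℕ) [Fact p.Prime] [CharP F p] (hm : 2 ≤ m) (Z : Subgroup (SpG m F))
    (hZ : Subgroup.center (SpG m F) ≤ Z) :
    Subgroup.normalizer (uniSp m F : Set (SpG m F)) ≤
      Subgroup.closure ((uniSp m F : Set (SpG m F)) ∪ Z ∪ radicalGenerated p (uniSp m F) Z) := by
  classical
  set C := Subgroup.closure ((uniSp m F : Set (SpG m F)) ∪ Z ∪ radicalGenerated p (uniSp m F) Z)
  let last : Fin m := ⟨m - 1, by omega⟩
  have hlast : (last : ℕ) + 1 = m := by show m - 1 + 1 = m; omega
  have hU : uniSp m F ≤ C := fun u hu => Subgroup.subset_closure (Or.inl (Or.inl hu))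
  have hlong : ∀ t : Fˣ, levi (diagGL (Function.update (1 : Fin m → Fˣ) last t)) ∈ C := by
    intro t
    refine Subgroup.subset_closure (Or.inr ⟨levi_diag_mem_normalizer _, longRadical hlast,
      fun _ h => h.1, (centralizer_longRadical_le hm).trans (sup_le_sup_left hZ _), ?_⟩)
    rw [← emb_diag]
    exact emb_mem_pGen p _
  have hsl : ∀ d : Fin m → Fˣ, ∏ i, d i = 1 → levi (diagGL d) ∈ C := by
    intro d hd
    refine Subgroup.subset_closure (Or.inr ⟨levi_diag_mem_normalizer _, siegel m F,
      siegel_le, (centralizer_siegel_le hm).trans (sup_le_sup_left hZ _), ?_⟩)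
    have hdet : (diagonal fun i => (d i : F)).det = 1 := by
      rw [det_diagonal, ← Units.coe_prod, hd, Units.val_one]
    have e : leviSL ⟨_, hdet⟩ = levi (diagGL d) := by
      show levi _ = levi _
      exact congrArg levi (Units.ext rfl)
    rw [← e]
    exact leviSL_mem_pGen p _
  intro g hg
  obtain ⟨h21, h11⟩ := borel_of_mem_normalizer hg
  obtain ⟨X, S, hS, hX, rfl⟩ := eq_sie_mul_levi g h21
  refine mul_mem (hU (sie_mem _ _)) ?_
  have htri : ∀ r i : Fin m, i < r → (X : Half m F) r i = 0 := fun r i h => hX ▸ h11 r i h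
  have hdet : ∀ i, (X : Half m F) i i ≠ 0 := by
    intro i h
    have hd : IsUnit (X : Half m F).det := (Matrix.isUnit_iff_isUnit_det _).1 X.isUnit
    rw [Matrix.det_of_isUpperTriangular (fun r l h => htri r l h),
      Finset.prod_eq_zero (f := fun i => (X : Half m F) i i) (Finset.mem_univ i) h] at hd
    exact not_isUnit_zero hd
  let d : Fin m → Fˣ := fun i => Units.mk0 _ (hdet i)
  set π : Fˣ := ∏ i, d i with hπ
  have hY : (diagGL d)⁻¹ * X ∈ unitriGL m F := by
    show IsUnitri (((diagGL d)⁻¹ * X : GL (Fin m) F) : Half m F)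
    rw [Units.val_mul, coe_diagGL_inv]
    refine ⟨fun i => ?_, fun i j hij => ?_⟩
    · simp [diagonal_mul, d, hdet i]
    · simp [diagonal_mul, htri i j hij]
  have hd' : ∏ i, (d * (Function.update (1 : Fin m → Fˣ) last π)⁻¹ : Fin m → Fˣ) i = 1 := by
    simp only [Pi.mul_apply, Pi.inv_apply, Finset.prod_mul_distrib, Finset.prod_inv_distrib,
      Finset.prod_update_of_mem (Finset.mem_univ last), Pi.one_apply, Finset.prod_const_one, mul_one]
    rw [← hπ, mul_inv_cancel]
  have hsplit : X = diagGL (d * (Function.update (1 : Fin m → Fˣ) last π)⁻¹) * diagGL (Function.update (1 : Fin m → Fˣ) last π) *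
      ((diagGL d)⁻¹ * X) := by
    have : diagGL (d * (Function.update (1 : Fin m → Fˣ) last π)⁻¹) * diagGL (Function.update (1 : Fin m → Fˣ) last π) = diagGL d := by
      refine Units.ext ?_
      rw [Units.val_mul, coe_diagGL, coe_diagGL, coe_diagGL, diagonal_mul_diagonal]
      refine congrArg diagonal (funext fun i => ?_)
      rw [← Units.val_mul, Pi.mul_apply, Pi.inv_apply, inv_mul_cancel_right]
    rw [this, mul_inv_cancel_left]
  rw [hsplit, map_mul, map_mul]
  exact mul_mem (mul_mem (hsl _ hd') (hlong π)) (hU ((levi_mem_iff _).2 hY))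

end Cfsg.Agent.Lib.Fusion.SpData
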