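import Cfsg.Agent.Lib.Fusion.Normal

/-!
A saturated fusion system over a direct product `S = S₁ × S₂` of strongly closed subgroups:
extension of maps, the Frattini decomposition, the two subsystems over a factor.
-/

set_option autoImplicit false

namespace Cfsg.Agent.Lib.Fusion.StrongFactor

open Cfsg Cfsg.FusionSystem

variable {Ω : Type*} [Group Ω] {S A B : Subgroup Ω} {F : FusionSystem S} {p : ℕ}

/-- `S` is the product of two commuting strongly closed subgroups meeting trivially. -/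
structure Split (F : FusionSystem S) (A B : Subgroup Ω) : Prop where
  closedA : F.StronglyClosed A
  closedB : F.StronglyClosed B
  comm : ∀ a ∈ A, ∀ b ∈ B, a * b = b * a
  disj : A ⊓ B = ⊥
  sup : A ⊔ B = S

namespace Split

variable (h : Split F A B)
include h

theorem swap : Split F B A :=
  ⟨h.closedB, h.closedA, fun b hb a ha => (h.comm a ha b hb).symm, by rw [inf_comm]; exact h.disj,
    by rw [sup_comm]; exact h.sup⟩

theorem exists_decomp {g : Ω} (hg : g ∈ S) : ∃ a ∈ A, ∃ b ∈ B, g = a * b := by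
  rw [← h.sup] at hg
  have hn : A ≤ Subgroup.normalizer (B : Set Ω) := fun a ha =>
    mem_normalizer_of_mem_centralizer fun b hb => (h.comm a ha b hb).symm
  rw [← SetLike.mem_coe, Subgroup.coe_mul_of_left_le_normalizer_right A B hn] at hg
  obtain ⟨a, ha, b, hb, rfl⟩ := hg
  exact ⟨a, ha, b, hb, rfl⟩

theorem centralizes {P : Subgroup Ω} (hP : P ≤ A) : B ≤ centralizerIn S P := fun b hb =>
  ⟨h.closedB.1 hb, fun x hx => h.comm x (hP hx) b hb⟩

theorem le_centralizerIn : A ≤ centralizerIn S B := h.swap.centralizes le_rfl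

/-- An element of `S` acts on a subgroup of `A` as its component in `A`. -/
theorem conj_eq {g a b : Ω} (hb : b ∈ B) (hg : g = a * b) {x : Ω} (hx : x ∈ A) :
    g * x * g⁻¹ = a * x * a⁻¹ := by
  subst hg
  calc a * b * x * (a * b)⁻¹ = a * (b * x * b⁻¹) * a⁻¹ := by group
    _ = a * x * a⁻¹ := by rw [← h.comm x hx b hb, mul_inv_cancel_right]

variable [Finite S] [Fact p.Prime]

/-- Maps between subgroups of `A` extend to the products with `B`. -/
theorem exists_extension_map (hS : IsPGroup p S) (hF : F.IsSaturated p) {P : Subgroup Ω}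
    (hP : P ≤ A) {φ : P →* Ω} (hφ : φ ∈ F.Hom P) :
    ∃ ψ ∈ F.Hom (P ⊔ B), (∀ x : P, ψ (Subgroup.inclusion le_sup_left x) = φ x) ∧
      ∀ x : B, ψ (Subgroup.inclusion le_sup_right x) ∈ B := by
  have hPS := src_le hφ
  have hQA : φ.range ≤ A := by
    rintro _ ⟨x, rfl⟩
    exact h.closedA.2 P hP φ hφ x
  obtain ⟨Q₀, hconj, hQ₀⟩ := exists_isFullyNormalized_conj F (range_le hφ)
  obtain ⟨χ, hχ, hr⟩ := hconj
  have hrec := isReceptive_of_isFullyNormalized hS hF hQ₀
  obtain ⟨χ', hχ', hχ'x⟩ := hrec.2 _ χ hχ hr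
  obtain ⟨c, hc, hcx⟩ := exists_comp hφ hχ (fun x => ⟨x, rfl⟩)
  have hcr : c.range = Q₀ := by
    rw [← hr]
    ext y
    constructor
    · rintro ⟨x, rfl⟩; exact ⟨_, (hcx x).symm⟩
    · rintro ⟨⟨_, x, rfl⟩, rfl⟩; exact ⟨x, hcx x⟩
  obtain ⟨c', hc', hc'x⟩ := hrec.2 _ c hc hcr
  have hle : P ⊔ B ≤ extender S P c :=
    sup_le (le_extender hc) ((h.centralizes hP).trans (centralizerIn_le_extender c))
  have hle' : φ.range ⊔ B ≤ extender S φ.range χ :=
    sup_le (le_extender hχ) ((h.centralizes hQA).trans (centralizerIn_le_extender χ))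
  set f := c'.comp (Subgroup.inclusion hle)
  set g := χ'.comp (Subgroup.inclusion hle')
  have hf : f ∈ F.Hom (P ⊔ B) := restrict_mem hc' hle
  have hg : g ∈ F.Hom (φ.range ⊔ B) := restrict_mem hχ' hle'
  obtain ⟨gi, hgi, -, hgi1, -⟩ := exists_inverse hg (rfl : g.range = g.range)
  have hmem : ∀ x, f x ∈ g.range := by
    refine hom_sup_mem f (fun x => ?_) (fun x => ?_)
    · refine ⟨Subgroup.inclusion le_sup_left ⟨φ x, ⟨x, rfl⟩⟩, ?_⟩
      show χ' _ = c' _
      exact (hχ'x _ (MonoidHom.mem_range.2 ⟨x, rfl⟩) _).trans ((hcx x).symm.trans (hc'x _ x.2 _).symm)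
    · obtain ⟨y, hy, hyx⟩ := FusionFactor.exists_eq_of_stronglyClosed F h.closedB hg le_sup_right
        (stronglyClosed_map h.closedB hf (Subgroup.inclusion le_sup_right x) x.2)
      exact ⟨y, hyx⟩
  obtain ⟨ψ, hψ, hψx⟩ := exists_comp hf hgi hmem
  refine ⟨ψ, hψ, fun x => ?_, fun x => stronglyClosed_map h.closedB hψ _ x.2⟩
  rw [hψx]
  refine Eq.trans (congrArg gi (Subtype.ext ?_)) (hgi1 (Subgroup.inclusion le_sup_left ⟨φ x, ⟨x, rfl⟩⟩) ⟨_, rfl⟩)
  show c' _ = χ' _
  exact (hc'x _ x.2 _).trans ((hcx x).trans (hχ'x _ (MonoidHom.mem_range.2 ⟨x, rfl⟩) _).symm)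

/-- An automorphism of `A` extends to `S`. -/
theorem exists_extension_aut (hS : IsPGroup p S) (hF : F.IsSaturated p) {α : MulAut A}
    (hα : α ∈ F.autGroup A) :
    ∃ β ∈ F.autGroup S, ∀ x : A, (β ⟨x, h.closedA.1 x.2⟩ : Ω) = α x := by
  have hA := h.closedA.1
  obtain ⟨ψ, hψ, hψx, -⟩ := h.exists_extension_map hS hF le_rfl (autGroup_hom_mem hA hα)
  obtain ⟨β, hβ, hβx⟩ := exists_aut_of_hom (φ := ψ.comp (Subgroup.inclusion h.sup.ge))
    (restrict_mem hψ h.sup.ge) fun x => val_mem hψ _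
  exact ⟨β, hβ, fun x => (hβx _).trans (hψx x)⟩

/-- Every map on a subgroup of `A` is an automorphism of `S` after a map fixing `B`. -/
theorem exists_frattini_fix (hS : IsPGroup p S) (hF : F.IsSaturated p) {P : Subgroup Ω}
    (hP : P ≤ A) {φ : P →* Ω} (hφ : φ ∈ F.Hom P) :
    ∃ β ∈ F.autGroup S, ∃ φ₀ ∈ F.centralizerHom B P,
      ∀ (x : P) (hx : φ₀ x ∈ S), φ x = (β ⟨φ₀ x, hx⟩ : Ω) := by
  obtain ⟨ψ, hψ, hψx, hψB⟩ := h.exists_extension_map hS hF hP hφ
  have := finite_of_le h.closedB.1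
  obtain ⟨σ, hσ, hσx⟩ := exists_aut_of_hom (φ := ψ.comp (Subgroup.inclusion le_sup_right))
    (restrict_mem hψ le_sup_right) hψB
  obtain ⟨β, hβ, hβx⟩ := h.swap.exists_extension_aut hS hF hσ
  obtain ⟨ψ₀, hψ₀, hψ₀x⟩ := exists_comp hψ (autGroup_hom_mem le_rfl (inv_mem hβ)) (val_mem hψ)
  have hA : ∀ x : P, ψ₀ (Subgroup.inclusion le_sup_left x) ∈ A := fun x =>
    stronglyClosed_map h.closedA hψ₀ _ (hP x.2)
  refine ⟨β, hβ, ψ₀.comp (Subgroup.inclusion le_sup_left), ⟨restrict_mem hψ₀ le_sup_left,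
    hP.trans h.le_centralizerIn, fun x => h.le_centralizerIn (hA x), ψ₀, hψ₀, fun x => rfl,
    fun x => ?_⟩, fun x hx => ?_⟩
  · rw [hψ₀x]
    show (β.symm ⟨_, _⟩ : Ω) = x
    rw [show (⟨ψ (Subgroup.inclusion le_sup_right x), val_mem hψ _⟩ : S) =
      β ⟨x, h.closedB.1 x.2⟩ from Subtype.ext ((hσx x).symm.trans (hβx x).symm), β.symm_apply_apply]
  · have e : (⟨(ψ₀.comp (Subgroup.inclusion le_sup_left)) x, hx⟩ : S) =
        β.symm ⟨ψ (Subgroup.inclusion le_sup_left x), val_mem hψ _⟩ :=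
      Subtype.ext (hψ₀x _)
    rw [e, β.apply_symm_apply, ← hψx]

/-! ### The two subsystems over `A` -/

variable {R R' : FusionSystem A} (hR : ∀ P : Subgroup Ω, P ≤ A → R.Hom P = F.Hom P)
  (hR' : ∀ P : Subgroup Ω, P ≤ A → R'.Hom P = F.centralizerHom B P)

omit [Finite S] [Fact p.Prime] in
theorem autInducedBy_eq {Q : Subgroup Ω} (hQ : Q ≤ A) : autInducedBy A Q = autInducedBy S Q := by
  refine le_antisymm (autInducedBy_mono h.closedA.1) fun α hα => ?_
  obtain ⟨g, hg, hgx⟩ := mem_autInducedBy.1 hα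
  obtain ⟨a, ha, b, hb, hab⟩ := h.exists_decomp hg
  exact mem_autInducedBy.2 ⟨a, ha, fun x => (hgx x).trans (h.conj_eq hb hab (hQ x.2))⟩

omit [Finite S] [Fact p.Prime] in
include hR in
theorem autGroup_eq {Q : Subgroup Ω} (hQ : Q ≤ A) : R.autGroup Q = F.autGroup Q := by
  ext α
  rw [mem_autGroup hQ, mem_autGroup (hQ.trans h.closedA.1), hR Q hQ]

include hR in
theorem isSaturated_full (hS : IsPGroup p S) (hF : F.IsSaturated p) : R.IsSaturated p := by
  intro P hP
  have hPS := hP.trans h.closedA.1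
  obtain ⟨Q, ⟨χ, hχ, hr⟩, hQn⟩ := exists_isFullyNormalized_conj F hPS
  have hQA : Q ≤ A := by
    rw [← hr]; rintro _ ⟨x, rfl⟩; exact h.closedA.2 P hP χ hχ x
  refine ⟨Q, ⟨χ, (hR P hP).symm ▸ hχ, hr⟩, ?_, hQA, fun U φ hφ hUr => ?_⟩
  · obtain ⟨-, W, hW⟩ := isFullyAutomized_of_isFullyNormalized hS hF hQn
    refine ⟨hQA, ?_⟩
    rw [h.autGroup_eq hR hQA, h.autInducedBy_eq hQA]
    exact ⟨W, hW⟩
  · have hUA : U ≤ A := src_le hφ
    rw [hR U hUA] at hφ
    obtain ⟨ψ, hψ, hψx⟩ := (isReceptive_of_isFullyNormalized hS hF hQn).2 U φ hφ hUr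
    have hle : extender A U φ ≤ extender S U φ := fun g hg => by
      obtain ⟨hgA, hgN, t, ht, htx⟩ := mem_extender.1 hg
      exact mem_extender.2 ⟨h.closedA.1 hgA, hgN, t, h.closedA.1 ht, htx⟩
    have hEA : extender A U φ ≤ A := (extender_le_normalizerIn U φ).trans inf_le_left
    exact ⟨_, (hR _ hEA).symm ▸ restrict_mem hψ hle, fun x hU hN => hψx x hU (hle hN)⟩

omit [Finite S] [Fact p.Prime] in
include hR' in
theorem subsystem_cent : R'.IsSubsystemOf F := fun P φ hφ => by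
  rw [hR' P (src_le hφ)] at hφ
  exact hφ.1

include hR' in
theorem isSaturated_cent (hS : IsPGroup p S) (hF : F.IsSaturated p) : R'.IsSaturated p := by
  intro P hP
  have hA := h.closedA.1
  obtain ⟨Q₀, ⟨χ, hχ, hr⟩, hQ₀⟩ := exists_isFullyNormalized_conj F (hP.trans hA)
  obtain ⟨β, hβ, χ₀, hχ₀, hχx⟩ := h.exists_frattini_fix hS hF hP hχ
  set Q := χ₀.range with hQdef
  have hQA : Q ≤ A := by
    rintro _ ⟨x, rfl⟩; exact h.closedA.2 P hP χ₀ hχ₀.1 x
  have hQS := hQA.trans hA
  -- `Q` is fully normalized in `F`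
  have hQn : F.IsFullyNormalized Q := by
    refine ⟨hQS, fun T hT => ?_⟩
    have hQQ₀ : F.IsConj Q Q₀ :=
      isConj_trans (isConj_symm ⟨χ₀, hχ₀.1, rfl⟩) ⟨χ, hχ, hr⟩
    refine (hQ₀.2 T (isConj_trans (isConj_symm hQQ₀) hT)).trans ?_
    have hb := autGroup_hom_mem le_rfl hβ
    have hball : Function.Injective (autHom β) := F.injective_of_mem hb
    have e1 : imgSub (autHom β) Q = Q₀ := by
      rw [← hr]
      ext y
      constructor
      · rintro ⟨z, hz, rfl⟩
        obtain ⟨x, hx⟩ := hz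
        refine ⟨x, (hχx x (val_mem hχ₀.1 x)).trans ?_⟩
        exact congrArg (fun q => (β q : Ω)) (Subtype.ext hx)
      · rintro ⟨x, rfl⟩
        exact ⟨⟨χ₀ x, val_mem hχ₀.1 x⟩, ⟨x, rfl⟩, (hχx x _).symm⟩
    have hle : normalizerIn S Q₀ ≤ imgSub (autHom β) (normalizerIn S Q) := by
      intro y hy
      refine ⟨β.symm ⟨y, hy.1⟩, ⟨(β.symm ⟨y, hy.1⟩).2, ?_⟩, ?_⟩
      · have h1 : ((autHom β) (β.symm ⟨y, hy.1⟩) : Ω) ∈ Subgroup.normalizer (Q₀ : Set Ω) := by
          rw [autHom_apply, β.apply_symm_apply]; exact hy.2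
        refine Subgroup.mem_normalizer_iff.2 fun z => ?_

        have key : ∀ w : S, (w : Ω) ∈ Q ↔ autHom β w ∈ Q₀ := fun w => by
          rw [← e1]; exact (apply_mem_imgSub_iff hball w).symm
        by_cases hz : z ∈ S
        · have h2 := key (β.symm ⟨y, hy.1⟩ * ⟨z, hz⟩ * (β.symm ⟨y, hy.1⟩)⁻¹)
          rw [map_mul, map_mul, map_inv] at h2
          exact (key ⟨z, hz⟩).trans ((Subgroup.mem_normalizer_iff.1 h1 _).trans h2.symm)
        · refine ⟨fun hzQ => absurd (hQS hzQ) hz, fun hzQ => absurd ?_ hz⟩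
          have h3 := mul_mem (mul_mem (inv_mem (β.symm ⟨y, hy.1⟩).2) (hQS hzQ)) (β.symm ⟨y, hy.1⟩).2
          simpa [mul_assoc] using h3
      · rw [autHom_apply, β.apply_symm_apply]
    have := finite_normalizerIn (S := S) Q
    have := finite_of_le (P := imgSub (autHom β) (normalizerIn S Q)) (S := S) (by
      rintro _ ⟨z, -, rfl⟩; exact (β z).2)
    refine (Subgroup.card_le_of_le hle).trans (le_of_eq ?_)
    exact card_imgSub hball inf_le_left
  refine ⟨Q, ⟨χ₀, (hR' P hP).symm ▸ hχ₀, rfl⟩, ?_, hQA, fun U φ hφ hUr => ?_⟩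
  · obtain ⟨-, hsyl⟩ := isFullyAutomized_iff.1 (isFullyAutomized_of_isFullyNormalized hS hF hQn)
    have := finite_of_le hA
    refine isFullyAutomized_iff.2 ⟨hQA, ?_⟩
    rw [h.autInducedBy_eq hQA]
    exact hsyl.of_le (h.autInducedBy_eq hQA ▸ autInducedBy_le_autGroup hQA)
      (autGroup_mono (h.subsystem_cent hR') Q)
  · have hUA : U ≤ A := src_le hφ
    have hφ' : φ ∈ F.centralizerHom B U := hR' U hUA ▸ hφ
    obtain ⟨-, -, -, φh, hφh, hφx, hφB⟩ := hφ'
    -- the image of the extension is `Q ⊔ B`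
    have hQB : φh.range = Q ⊔ B := by
      refine le_antisymm ?_ (sup_le ?_ ?_)
      · rintro _ ⟨x, rfl⟩
        refine hom_sup_mem φh (A := Q ⊔ B) (fun y => ?_) (fun y => ?_) x
        · rw [hφx]; exact Subgroup.mem_sup_left (hUr.le ⟨y, rfl⟩)
        · rw [hφB]; exact Subgroup.mem_sup_right y.2
      · rw [← hUr]; rintro _ ⟨y, rfl⟩; exact ⟨_, hφx y⟩
      · exact fun y hy => ⟨_, hφB ⟨y, hy⟩⟩
    -- `Q ⊔ B` is receptive
    have hQc := isFullyCentralized_of_isFullyNormalized hS hF hQn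
    have hrec : F.IsReceptive (Q ⊔ B) := by
      refine isReceptive_of_isFullyCentralized hS hF ⟨sup_le hQS h.closedB.1, fun T ⟨ψ, hψ, hT⟩ => ?_⟩
      set T₀ := (ψ.comp (Subgroup.inclusion (le_sup_left : Q ≤ Q ⊔ B))).range with hT₀
      have hT₀c : F.IsConj Q T₀ := ⟨_, restrict_mem hψ le_sup_left, rfl⟩
      have hT₀A : T₀ ≤ A := by
        rintro _ ⟨x, rfl⟩; exact stronglyClosed_map h.closedA hψ _ (hQA x.2)
      have hBT : B ≤ T := fun y hy => hT ▸
        (FusionFactor.exists_eq_of_stronglyClosed F h.closedB hψ le_sup_right hy).elim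
          fun z hz => ⟨z, hz.2⟩
      have hT₀T : T₀ ≤ T := by
        rintro _ ⟨x, rfl⟩; exact hT ▸ ⟨_, rfl⟩
      have h1 : centralizerIn S T ≤ centralizerIn S T₀ ⊓ Subgroup.centralizer (B : Set Ω) :=
        fun x hx => ⟨⟨hx.1, fun y hy => hx.2 y (hT₀T hy)⟩, fun y hy => hx.2 y (hBT hy)⟩
      have h2 : centralizerIn S Q ⊓ Subgroup.centralizer (B : Set Ω) ≤ centralizerIn S (Q ⊔ B) :=
        fun x hx => ⟨hx.1.1, Subgroup.le_centralizer_iff.1
          (sup_le (Subgroup.le_centralizer_iff.1 (Subgroup.zpowers_le.2 hx.1.2))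
            (Subgroup.le_centralizer_iff.1 (Subgroup.zpowers_le.2 hx.2)))
          (Subgroup.mem_zpowers x)⟩
      -- `|C(W) ∩ C(B)| * |B| = |C(W)| * |Z(B)|` for `W ≤ A`
      set Z := B ⊓ Subgroup.centralizer (B : Set Ω)
      have key : ∀ W, W ≤ A →
          Nat.card (centralizerIn S W ⊓ Subgroup.centralizer (B : Set Ω) : Subgroup Ω) * Nat.card B =
            Nat.card (centralizerIn S W) * Nat.card Z := by
        intro W hW
        have := finite_centralizerIn (S := S) W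
        have hBW := h.centralizes hW
        let f : (centralizerIn S W ⊓ Subgroup.centralizer (B : Set Ω) : Subgroup Ω) × B →
            centralizerIn S W := fun q => ⟨q.1 * q.2, mul_mem q.1.2.1 (hBW q.2.2)⟩
        have hsurj : Function.Surjective f := fun g => by
          obtain ⟨a, ha, b, hb, hab⟩ := h.exists_decomp g.2.1
          have haW : a ∈ centralizerIn S W := by
            have := mul_mem g.2 (inv_mem (hBW hb))
            rwa [hab, mul_inv_cancel_right] at this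
          exact ⟨⟨⟨a, haW, fun y hy => (h.comm a ha y hy).symm⟩, ⟨b, hb⟩⟩, Subtype.ext hab.symm⟩
        have hfib : ∀ g, Nat.card {q // f q = g} = Nat.card Z := fun g => by
          obtain ⟨⟨c₀, b₀⟩, hq⟩ := hsurj g
          have hq' : (c₀ : Ω) * b₀ = g := congrArg Subtype.val hq
          refine Nat.card_congr
            { toFun := fun q => ⟨(c₀ : Ω)⁻¹ * q.1.1, ?_, ?_⟩
              invFun := fun z => ⟨⟨⟨c₀ * z, mul_mem c₀.2.1 (hBW z.2.1),
                  mul_mem c₀.2.2 z.2.2⟩, ⟨(z : Ω)⁻¹ * b₀, mul_mem (inv_mem z.2.1) b₀.2⟩⟩, ?_⟩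
              left_inv := fun q => ?_
              right_inv := fun z => Subtype.ext (inv_mul_cancel_left _ _) }
          · have e : (c₀ : Ω) * b₀ = q.1.1 * q.1.2 := hq'.trans (congrArg Subtype.val q.2).symm
            rw [show (c₀ : Ω)⁻¹ * q.1.1 = b₀ * (q.1.2 : Ω)⁻¹ by
              rw [inv_mul_eq_iff_eq_mul, ← mul_assoc, e, mul_inv_cancel_right]]
            exact B.mul_mem b₀.2 (B.inv_mem q.1.2.2)
          · exact Subgroup.mul_mem _ (Subgroup.inv_mem _ c₀.2.2) q.1.1.2.2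
          · exact Subtype.ext (by
              show (c₀ : Ω) * z * ((z : Ω)⁻¹ * b₀) = g
              rw [← hq']; group)
          · have e : (c₀ : Ω) * b₀ = q.1.1 * q.1.2 := hq'.trans (congrArg Subtype.val q.2).symm
            refine Subtype.ext (Prod.ext (Subtype.ext (mul_inv_cancel_left _ _)) (Subtype.ext ?_))
            show ((c₀ : Ω)⁻¹ * q.1.1)⁻¹ * b₀ = q.1.2
            rw [mul_inv_rev, inv_inv, mul_assoc, e, inv_mul_cancel_left]
        have := finite_of_le h.closedB.1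
        have : Finite (centralizerIn S W ⊓ Subgroup.centralizer (B : Set Ω) : Subgroup Ω) :=
          finite_of_le (inf_le_left.trans inf_le_left)
        classical
        have := Fintype.ofFinite (centralizerIn S W)
        rw [← Nat.card_prod, ← Nat.card_congr (Equiv.sigmaFiberEquiv f), Nat.card_sigma,
          Finset.sum_congr rfl (fun g _ => hfib g), Finset.sum_const, Finset.card_univ, smul_eq_mul,
          ← Nat.card_eq_fintype_card]
      have : Finite (centralizerIn S T₀ ⊓ Subgroup.centralizer (B : Set Ω) : Subgroup Ω) :=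
        finite_of_le (inf_le_left.trans inf_le_left)
      have := finite_centralizerIn (S := S) (Q ⊔ B)
      have := finite_of_le h.closedB.1
      refine (Subgroup.card_le_of_le h1).trans (le_trans ?_ (Subgroup.card_le_of_le h2))
      refine Nat.le_of_mul_le_mul_right ?_ (Nat.card_pos (α := B))
      rw [key T₀ hT₀A, key Q hQA]
      exact Nat.mul_le_mul_right _ (hQc.2 T₀ hT₀c)
    obtain ⟨ψ, hψ, hψx⟩ := hrec.2 _ φh hφh hQB
    have hle : extender A U φ ≤ extender S (U ⊔ B) φh := by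
      intro g hg
      obtain ⟨hgA, hgN, t, ht, htx⟩ := mem_extender.1 hg
      have hgB : g ∈ Subgroup.normalizer (B : Set Ω) :=
        mem_normalizer_of_mem_centralizer fun b hb => (h.comm g hgA b hb).symm
      have hn : g ∈ Subgroup.normalizer ((U ⊔ B : Subgroup Ω) : Set Ω) := by
        rw [Subgroup.mem_normalizer_iff_map_conj_eq, Subgroup.map_sup,
          Subgroup.mem_normalizer_iff_map_conj_eq.1 hgN, Subgroup.mem_normalizer_iff_map_conj_eq.1 hgB]
      refine mem_extender.2 ⟨hA hgA, hn, t, hA ht, fun x hx => ?_⟩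
      have e : φh.comp (conjAut (U ⊔ B) g hn).toMonoidHom =
          (MulAut.conj t).toMonoidHom.comp φh := by
        refine hom_sup_ext (fun y => ?_) (fun y => ?_)
        · have hy : g * (y : Ω) * g⁻¹ ∈ U := (Subgroup.mem_normalizer_iff.1 hgN y).1 y.2
          show φh (conjAut (U ⊔ B) g hn (Subgroup.inclusion le_sup_left y)) =
            t * φh (Subgroup.inclusion le_sup_left y) * t⁻¹
          rw [show conjAut (U ⊔ B) g hn (Subgroup.inclusion le_sup_left y) =
            Subgroup.inclusion le_sup_left ⟨_, hy⟩ from Subtype.ext rfl, hφx, hφx]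
          exact htx y hy
        · show φh (conjAut (U ⊔ B) g hn (Subgroup.inclusion le_sup_right y)) =
            t * φh (Subgroup.inclusion le_sup_right y) * t⁻¹
          rw [show conjAut (U ⊔ B) g hn (Subgroup.inclusion le_sup_right y) =
            Subgroup.inclusion le_sup_right y from Subtype.ext (by
              show g * (y : Ω) * g⁻¹ = y
              rw [h.comm g hgA y y.2, mul_inv_cancel_right]), hφB, h.comm t ht y y.2,
            mul_inv_cancel_right]
      exact DFunLike.congr_fun e x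
    have hEA : extender A U φ ≤ A := (extender_le_normalizerIn U φ).trans inf_le_left
    have hle2 : extender A U φ ⊔ B ≤ extender S (U ⊔ B) φh :=
      sup_le hle (le_sup_right.trans (le_extender hφh))
    have hagree : ∀ (y : Ω) (hy : y ∈ U ⊔ B) (hN : y ∈ extender S (U ⊔ B) φh),
        ψ ⟨y, hN⟩ = φh ⟨y, hy⟩ := hψx
    refine ⟨ψ.comp (Subgroup.inclusion hle), ?_, fun x hU hN => ?_⟩
    · rw [hR' _ hEA]
      refine ⟨restrict_mem hψ hle, hEA.trans h.le_centralizerIn, fun x => h.le_centralizerIn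
        (stronglyClosed_map h.closedA hψ _ (hEA x.2)), _, restrict_mem hψ hle2, fun x => rfl,
        fun x => ?_⟩
      exact (hagree (x : Ω) (Subgroup.mem_sup_right x.2) _).trans (hφB x)
    · exact (hagree x (Subgroup.mem_sup_left hU) _).trans (hφx ⟨x, hU⟩)

end Split

end Cfsg.Agent.Lib.Fusion.StrongFactor
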