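import Cfsg.Agent.Lib.Fusion.BoundedClass
import Cfsg.Agent.Lib.Fusion.QuadraticNorm
import Cfsg.Agent.Lib.CentralElement.Weak
import Cfsg.Agent.Lib.CharP.Basic

/-!
Thompson factorization with `p`-th powers of the centre of a Sylow subgroup.
-/

set_option autoImplicit false

namespace Cfsg.Agent.Lib.ThompsonFactor

open Subgroup Cfsg
open scoped commutatorElement

universe u

variable {p : ℕ} {L : Type u} [Group L]

/-- The elements commuting with the `p`-th powers of the centre of `T`. -/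
def powCentralizer (p : ℕ) (T : Subgroup L) : Subgroup L :=
  centralizer {x : L | ∃ y ∈ T ⊓ centralizer (T : Set L), x = y ^ p}

theorem le_powCentralizer (T : Subgroup L) : T ≤ powCentralizer p T := by
  intro t ht
  refine mem_centralizer_iff.mpr ?_
  rintro _ ⟨y, hy, rfl⟩
  exact ((show Commute t y from mem_centralizer_iff.mp hy.2 t ht).pow_right p).eq.symm

theorem quadratic_pow {V : Subgroup L} [V.Normal] {g : L}
    (hg : ∀ v ∈ V, g * (g * v * g⁻¹ * v⁻¹) * g⁻¹ = g * v * g⁻¹ * v⁻¹) (hVc : IsMulCommutative V)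
    (j : ℕ) :
    ∀ v ∈ V, g ^ j * (g ^ j * v * (g ^ j)⁻¹ * v⁻¹) * (g ^ j)⁻¹ = g ^ j * v * (g ^ j)⁻¹ * v⁻¹ := by
  intro v hv
  have hgv : g * v * g⁻¹ ∈ V := (inferInstance : V.Normal).conj_mem v hv g
  let b : V := ⟨g * v * g⁻¹ * v⁻¹, mul_mem hgv (inv_mem hv)⟩
  have hcomm : Commute v (b : L) := congrArg Subtype.val (hVc.is_comm.comm ⟨v, hv⟩ b)
  have h1 : g * v * g⁻¹ = v * (b : L) := by
    rw [hcomm.eq]
    simp [b]
  have h2 := QuadraticNorm.orbit_power hVc (b := b) (v := ⟨v, hv⟩) (hg v hv) h1 j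
  have h3 : g ^ j * v * (g ^ j)⁻¹ * v⁻¹ = (b : L) ^ j := by
    rw [h2, (hcomm.pow_right j).eq, mul_inv_cancel_right]
  rw [h3]
  have h4 : Commute g (b : L) := mul_inv_eq_iff_eq_mul.mp (hg v hv)
  rw [((h4.pow_left j).pow_right j).eq, mul_inv_cancel_right]

/-- Thompson factorization in a constrained group: `L = N(J(P)) C(℧₁ Z(P))`. -/
theorem exists_factor [Finite L] [Fact p.Prime] (P : Sylow p L)
    (hc : centralizer (pCore p L : Set L) ≤ pCore p L) :
    ∀ g : L, ∃ n ∈ normalizer (thompsonSubgroupAOf (P : Subgroup L) : Set L),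
      ∃ c ∈ powCentralizer p (P : Subgroup L), g = n * c := by
  suffices H : ∀ (d : ℕ) (K : Subgroup L), Nat.card K = d → (P : Subgroup L) ≤ K → ∀ g ∈ K,
      ∃ n ∈ normalizer (thompsonSubgroupAOf (P : Subgroup L) : Set L),
        ∃ c ∈ powCentralizer p (P : Subgroup L), g = n * c from
    fun g => H _ ⊤ rfl le_top g (mem_top g)
  intro d
  induction d using Nat.strong_induction_on with
  | _ d ih =>
    intro K hd hPK g hg
    subst hd
    by_cases hJ : K ≤ normalizer (thompsonSubgroupAOf (P : Subgroup L) : Set L)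
    · exact ⟨g, hJ hg, 1, one_mem _, (mul_one g).symm⟩
    have hQP : pCore p L ≤ (P : Subgroup L) := PSolvable.pCore_le_sylow P
    have hQK := hQP.trans hPK
    haveI : (pCore p L).Characteristic := PSolvable.pCore_characteristic
    haveI : (pCore p L).Normal := Subgroup.normal_of_characteristic _
    have hQ' : (pCore p L).subgroupOf K ≤ pCore p K :=
      PSolvable.le_pCore (PSolvable.pCore_isPGroup.of_equiv (subgroupOfEquivOfLe hQK).symm)
    set Q := pCore p K with hQ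
    haveI : Q.Characteristic := PSolvable.pCore_characteristic
    haveI hQn : Q.Normal := Subgroup.normal_of_characteristic _
    set V : Subgroup K := Q ⊓ centralizer (Q : Set K) with hV
    haveI : (centralizer (Q : Set K)).Normal := by
      refine ⟨fun v hv a => mem_centralizer_iff.mpr fun q hq => ?_⟩
      have h1 := mem_centralizer_iff.mp hv (a⁻¹ * q * a)
        (by simpa using hQn.conj_mem q hq a⁻¹)
      calc q * (a * v * a⁻¹) = a * ((a⁻¹ * q * a) * v) * a⁻¹ := by group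
        _ = a * (v * (a⁻¹ * q * a)) * a⁻¹ := by rw [h1]
        _ = a * v * a⁻¹ * q := by group
    haveI : V.Normal := Subgroup.normal_inf_normal Q (centralizer (Q : Set K))
    have hVc : IsMulCommutative V :=
      ⟨⟨fun a b => Subtype.ext (mem_centralizer_iff.mp b.2.2 a a.2.1)⟩⟩
    set P' : Sylow p K := P.subtype hPK with hP'
    have hQP' : Q ≤ (P' : Subgroup K) := PSolvable.pCore_le_sylow P'
    set W : Set K := {w : K | ∃ v ∈ V, w = v ^ p} with hW
    set C := centralizer W with hC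
    haveI : C.Normal := by
      refine ⟨fun c hc' a => mem_centralizer_iff.mpr ?_⟩
      rintro _ ⟨v, hv, rfl⟩
      have h1 := mem_centralizer_iff.mp hc' ((a⁻¹ * v * a) ^ p)
        ⟨_, by simpa using (inferInstance : V.Normal).conj_mem v hv a⁻¹, rfl⟩
      have h2 : (a⁻¹ * v * a) ^ p = a⁻¹ * v ^ p * a := by
        simpa using conj_pow (i := p) (a := a⁻¹) (b := v)
      rw [h2] at h1
      calc v ^ p * (a * c * a⁻¹) = a * ((a⁻¹ * v ^ p * a) * c) * a⁻¹ := by group
        _ = a * (c * (a⁻¹ * v ^ p * a)) * a⁻¹ := by rw [h1]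
        _ = a * c * a⁻¹ * v ^ p := by group
    have hfixC : ∀ c ∈ C, (c : L) ∈ powCentralizer p (P : Subgroup L) := by
      intro c hc'
      refine mem_centralizer_iff.mpr ?_
      rintro _ ⟨y, hy, rfl⟩
      have hyQ : y ∈ pCore p L := hc (centralizer_le (SetLike.coe_subset_coe.mpr hQP) hy.2)
      have hyV : (⟨y, hPK hy.1⟩ : K) ∈ V := ⟨hQ' hyQ, mem_centralizer_iff.mpr fun q hq =>
        Subtype.ext (mem_centralizer_iff.mp hy.2 _ (hQP' hq))⟩
      exact congrArg Subtype.val (mem_centralizer_iff.mp hc' _ ⟨_, hyV, rfl⟩)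
    -- an element of `P` outside `Q` centralising `W`
    obtain ⟨h, hhP, hhQ, hhC⟩ : ∃ h ∈ (P' : Subgroup K), h ∉ Q ∧ h ∈ C := by
      have hT : Functor.IsSylowIn p K (P : Subgroup L) :=
        ⟨hPK, P.2, fun hd => P.not_dvd_index (hd.trans (relIndex_dvd_index_of_le hPK))⟩
      obtain ⟨g₀, hg₀P, hg₀Q, hg₀⟩ := CentralElement.exists_quadratic hT hJ
      let g₁ : K := ⟨g₀, hPK hg₀P⟩
      have hg₁Q : g₁ ∉ Q := fun h => hg₀Q ⟨g₁, h, rfl⟩
      have hquad : ∀ v ∈ V, g₁ * (g₁ * v * g₁⁻¹ * v⁻¹) * g₁⁻¹ = g₁ * v * g₁⁻¹ * v⁻¹ := by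
        intro v hv
        have hvm : (v : L) ∈ pCoreOf p K ⊓ centralizer ((pCoreOf p K : Subgroup L) : Set L) := by
          refine ⟨⟨v, hv.1, rfl⟩, mem_centralizer_iff.mpr ?_⟩
          rintro _ ⟨q, hq, rfl⟩
          exact congrArg Subtype.val (mem_centralizer_iff.mp hv.2 q hq)
        have hc1 := commutator_mem_commutator hvm (mem_zpowers g₀)
        have h1 := commutator_eq_bot_iff_le_centralizer.mp hg₀ hc1
        have h3 : Commute g₀ ⁅(v : L), g₀⁆ := mem_centralizer_iff.mp h1 g₀ (mem_zpowers g₀)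
        have h4 : Commute g₀ (g₀ * (v : L) * g₀⁻¹ * (v : L)⁻¹) := by
          have h5 := h3.inv_right
          rwa [commutatorElement_inv, commutatorElement_def] at h5
        refine Subtype.ext ?_
        show g₀ * (g₀ * (v : L) * g₀⁻¹ * (v : L)⁻¹) * g₀⁻¹ = _
        rw [h4.eq, mul_inv_cancel_right]
        rfl
      obtain ⟨k, hk⟩ := P'.2 ⟨g₁, hg₀P⟩
      have hk' : g₁ ^ p ^ k ∈ Q := by
        rw [show g₁ ^ p ^ k = 1 from congrArg Subtype.val hk]; exact one_mem _
      obtain ⟨j, hjQ, hj1⟩ : ∃ j, g₁ ^ p ^ j ∉ Q ∧ g₁ ^ p ^ (j + 1) ∈ Q := by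
        clear hk
        induction k with
        | zero => exact absurd (by simpa using hk') hg₁Q
        | succ k ihk =>
          by_cases h : g₁ ^ p ^ k ∈ Q
          · exact ihk h
          · exact ⟨k, h, hk'⟩
      have hh0 : (g₁ ^ p ^ j) ∈ (P' : Subgroup K) := pow_mem hg₀P _
      refine ⟨g₁ ^ p ^ j, hh0, hjQ, ?_⟩
      refine mem_centralizer_iff.mpr ?_
      rintro _ ⟨v, hv, rfl⟩
      have h2 := BoundedClass.conj_pow_eq (p := p) V hVc (g := g₁ ^ p ^ j) (m := 2) (n := 1)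
        (fun v hv => ?hm) (by have := (Fact.out : p.Prime).two_le; rw [one_mul]; omega)
        (fun v hv => ?hgp) v hv
      case hm =>
        have := quadratic_pow hquad hVc (p ^ j) v hv
        show g₁ ^ p ^ j * (g₁ ^ p ^ j * v * (g₁ ^ p ^ j)⁻¹ * v⁻¹) * (g₁ ^ p ^ j)⁻¹ *
          (g₁ ^ p ^ j * v * (g₁ ^ p ^ j)⁻¹ * v⁻¹)⁻¹ = 1
        rw [this, mul_inv_cancel]
      case hgp =>
        refine mem_centralizer_iff.mp hv.2 _ ?_
        rw [← pow_mul, ← pow_succ]
        exact hj1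
      · rw [pow_one] at h2
        exact (mul_inv_eq_iff_eq_mul.mp h2).symm
    -- Frattini
    set R := (P' : Subgroup K) ⊓ C with hR
    have hfr := SylowAux58.normalizer_inf_sup_eq_top P' C
    obtain ⟨a, ha, c, hc', hac⟩ := mem_sup_of_normal_right.mp
      (hfr.ge (mem_top (⟨g, hg⟩ : K)))
    set M := normalizer ((R : Subgroup K) : Set K) with hM
    have hMt : M ≠ ⊤ := by
      intro hMt
      haveI : R.Normal := normalizer_eq_top_iff.mp hMt
      exact hhQ (PSolvable.le_pCore (P'.2.to_le inf_le_left) (⟨hhP, hhC⟩ : h ∈ R))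
    have hPM : (P : Subgroup L) ≤ M.map K.subtype := by
      intro y hy
      have hy' : (⟨y, hPK hy⟩ : K) ∈ (P' : Subgroup K) := hy
      refine ⟨⟨y, hPK hy⟩, Cfsg.Agent.Lib.PSolvable.mem_normalizer_of_conj_mem fun r hr =>
        ⟨Subgroup.mul_mem _ (Subgroup.mul_mem _ hy' hr.1) (Subgroup.inv_mem _ hy'),
          (inferInstance : C.Normal).conj_mem _ hr.2 _⟩, rfl⟩
    have hlt : Nat.card (M.map K.subtype) < Nat.card K := by
      rw [card_map_of_injective K.subtype_injective]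
      exact lt_of_le_of_ne M.card_le_card_group fun e => hMt (M.eq_top_of_card_eq e)
    obtain ⟨n, hn, d, hd, hnd⟩ := ih _ hlt (M.map K.subtype) rfl hPM _ ⟨a, ha, rfl⟩
    refine ⟨n, hn, d * (c : L), mul_mem hd (hfixC c hc'), ?_⟩
    rw [← mul_assoc, ← hnd]
    exact (congrArg Subtype.val hac).symm

/-- A conjugation inside `P` splits into one from `C(℧₁ Z(P))` into `P` and one from `N(J(P))`. -/
theorem exists_factor_conj [Finite L] [Fact p.Prime] (P : Sylow p L)
    (hc : centralizer (pCore p L : Set L) ≤ pCore p L) {X : Subgroup L}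
    (hX : X ≤ (P : Subgroup L)) {g : L} (hg : ∀ x ∈ X, g * x * g⁻¹ ∈ (P : Subgroup L)) :
    ∃ n ∈ normalizer (thompsonSubgroupAOf (P : Subgroup L) : Set L),
      ∃ c ∈ powCentralizer p (P : Subgroup L), g = n * c ∧
        ∀ x ∈ X, c * x * c⁻¹ ∈ (P : Subgroup L) := by
  obtain ⟨n, hn, c, hc', rfl⟩ := exists_factor P hc g
  set N := normalizer (thompsonSubgroupAOf (P : Subgroup L) : Set L) with hN
  set M := N ⊓ powCentralizer p (P : Subgroup L) with hM
  have hPN : (P : Subgroup L) ≤ N := by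
    intro s hs
    refine Functor.mem_normalizer_of_cj_eq ?_
    rw [Functor.cj, ← CentralElement.thompsonSubgroupAOf_map _ (MulAut.conj s).injective]
    exact congrArg thompsonSubgroupAOf (Functor.cj_eq_self_of_mem (le_normalizer hs))
  have hPM : (P : Subgroup L) ≤ M := le_inf hPN (le_powCentralizer _)
  set U := X.map (MulAut.conj c).toMonoidHom with hU
  have hUM : U ≤ M := by
    rintro _ ⟨x, hx, rfl⟩
    refine ⟨?_, Subgroup.mul_mem _ (Subgroup.mul_mem _ hc' (le_powCentralizer _ (hX hx))) (Subgroup.inv_mem _ hc')⟩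
    show c * x * c⁻¹ ∈ N
    have h1 := mul_mem (mul_mem (inv_mem hn) (hPN (hg x hx))) hn
    simpa [mul_assoc] using h1
  have hUp : IsPGroup p (U.subgroupOf M) :=
    IsPGroup.of_equiv ((P.2.to_le hX).map _) (subgroupOfEquivOfLe hUM).symm
  obtain ⟨T, hT⟩ := hUp.exists_le_sylow
  obtain ⟨m, hm⟩ := MulAction.exists_smul_eq M T (P.subtype hPM)
  refine ⟨n * (m : L)⁻¹, mul_mem hn (N.inv_mem m.2.1), (m : L) * c, mul_mem m.2.2 hc',
    by group, fun x hx => ?_⟩
  have hxU : c * x * c⁻¹ ∈ U := ⟨x, hx, rfl⟩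
  have h0 : (⟨c * x * c⁻¹, hUM hxU⟩ : M) ∈ (T : Subgroup M) := hT hxU
  have h3 : m * ⟨c * x * c⁻¹, hUM hxU⟩ * m⁻¹ ∈ ((P.subtype hPM : Sylow p M) : Subgroup M) := by
    rw [← hm]
    exact ⟨_, h0, rfl⟩
  have h4 : ((m * ⟨c * x * c⁻¹, hUM hxU⟩ * m⁻¹ : M) : L) ∈ (P : Subgroup L) := h3
  simpa [mul_assoc] using h4

end Cfsg.Agent.Lib.ThompsonFactor
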