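import Cfsg.Agent.Lib.Fusion.ThompsonFactor
import Cfsg.Agent.Lib.Fusion.CapSystem
import Cfsg.Agent.Lib.Fusion.CentralControl
import Cfsg.Agent.Lib.Fusion.ThompsonF

/-!
A saturated fusion system is generated by the centralizer of the `p`-th powers of `Z(S)` and the
normalizer of `J(S)`.
-/

set_option autoImplicit false
set_option linter.style.haveILetI false

namespace Cfsg.Agent.Lib.Fusion

open Cfsg Cfsg.FusionSystem

universe u

variable {Ω : Type u} [Group Ω] {S : Subgroup Ω} {F : FusionSystem S} {p : ℕ}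

/-- The `p`-th powers of the central elements of `S`. -/
abbrev pthCenter (p : ℕ) (S : Subgroup Ω) : Subgroup Ω :=
  powerClosure p 1 (S ⊓ Subgroup.centralizer (S : Set Ω))

theorem exists_eq_pow_of_mem_pthCenter {x : Ω} (hx : x ∈ pthCenter p S) :
    ∃ y ∈ S ⊓ Subgroup.centralizer (S : Set Ω), x = y ^ p := by
  induction hx using Subgroup.closure_induction with
  | mem x hx =>
    obtain ⟨y, hy, rfl⟩ := hx
    exact ⟨y, hy, by rw [pow_one]⟩
  | one => exact ⟨1, one_mem _, (one_pow _).symm⟩
  | mul a b _ _ ha hb =>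
    obtain ⟨y, hy, rfl⟩ := ha
    obtain ⟨w, hw, rfl⟩ := hb
    exact ⟨y * w, mul_mem hy hw,
      ((show Commute y w from (Subgroup.mem_centralizer_iff.mp hy.2 w hw.1).symm).mul_pow _).symm⟩
  | inv a _ ha =>
    obtain ⟨y, hy, rfl⟩ := ha
    exact ⟨y⁻¹, inv_mem hy, (inv_pow y _).symm⟩

theorem pow_mem_pthCenter {y : Ω} (hy : y ∈ S ⊓ Subgroup.centralizer (S : Set Ω)) :
    y ^ p ∈ pthCenter p S :=
  Subgroup.subset_closure ⟨y, hy, by rw [pow_one]⟩

theorem pthCenter_le (p : ℕ) (S : Subgroup Ω) :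
    pthCenter p S ≤ S ⊓ Subgroup.centralizer (S : Set Ω) := fun x hx => by
  obtain ⟨y, hy, rfl⟩ := exists_eq_pow_of_mem_pthCenter hx
  exact pow_mem hy p

theorem centralizerIn_pthCenter (p : ℕ) (S : Subgroup Ω) :
    centralizerIn S (pthCenter p S) = S :=
  le_antisymm inf_le_left
    (le_inf le_rfl (Subgroup.le_centralizer_iff.mp ((pthCenter_le p S).trans inf_le_right)))

/-- **Generation by the centralizer of `℧₁ Z(S)` and the normalizer of `J(S)`.** -/
theorem le_of_thompson [Fact p.Prime] {Ω : Type u} [Group Ω] {S : Subgroup Ω} [Finite S]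
    (hS : IsPGroup p S) {F : FusionSystem S} (hF : F.IsSaturated p) (E : FusionSystem S)
    (hC : ∀ P, F.centralizerHom (pthCenter p S) P ⊆ E.Hom P)
    (hN : ∀ P, F.normalizerHom (thompsonSubgroupAOf S) P ⊆ E.Hom P) : F ≤ E := by
  suffices H : ∀ n : ℕ, ∀ {Ω : Type u} [Group Ω] {S : Subgroup Ω} [Finite S],
      IsPGroup p S → Nat.card S = n → ∀ (F : FusionSystem S), F.IsSaturated p →
      ∀ E : FusionSystem S, (∀ P, F.centralizerHom (pthCenter p S) P ⊆ E.Hom P) →
      (∀ P, F.normalizerHom (thompsonSubgroupAOf S) P ⊆ E.Hom P) → F ≤ E from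
    H _ hS rfl F hF E hC hN
  intro n
  induction n using Nat.strong_induction_on with
  | _ n ih =>
    intro Ω _ S _ hS hn F hF D hC hN
    subst hn
    set V := pthCenter p S with hV
    have hVS : V ≤ S := (pthCenter_le p S).trans inf_le_left
    have hCV : centralizerIn S V = S := centralizerIn_pthCenter p S
    set J := thompsonSubgroupAOf S with hJ
    have hJS : J ≤ S := thompsonSubgroupAOf_le S
    have hNJ : normalizerIn S J = S :=
      normalizerIn_eq_self_of_characteristic hJS (thompsonSubgroupAOf_characteristic S)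
    refine subset_of_reduction hS hF D ?_ ?_ ?_
    · intro T hTS hTne hZT N hNs hNF hY P φ hφ
      haveI : Finite T := finite_of_le hTS
      have hlt : Nat.card T < Nat.card S := lt_of_le_of_ne (Subgroup.card_le_of_le hTS) fun h =>
        hTne (Subgroup.eq_of_le_of_card_ge hTS h.ge)
      have hTp := hS.to_le hTS
      refine (ih _ hlt hTp rfl N hNs (capSystem D hTS) ?_ ?_ P hφ).1
      · rintro P φ ⟨hφN, hPT, hφT, ψ, hψ, hψe, hψV⟩
        have hVT : V ≤ pthCenter p T := by
          intro x hx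
          obtain ⟨y, hy, rfl⟩ := exists_eq_pow_of_mem_pthCenter hx
          exact pow_mem_pthCenter
            ⟨hZT hy, Subgroup.centralizer_le (SetLike.coe_subset_coe.mpr hTS) hy.2⟩
        refine ⟨hC P ⟨hNF _ hφN, hCV.symm ▸ (src_le hφN).trans hTS,
          fun x => hCV.symm ▸ hTS (val_mem hφN x),
          ψ.comp (Subgroup.inclusion (sup_le_sup_left hVT P)), restrict_mem (hNF _ hψ) _,
          hψe, fun v => ?_⟩, src_le hφN, val_mem hφN⟩
        exact hψV ⟨v, hVT v.2⟩
      · intro P φ hφ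
        obtain ⟨hφN, -, -, ψ, hψ, hψe, hψJ⟩ := hφ
        rcases eq_or_ne T ⊥ with hT0 | hT0
        · have h1 : ∀ x : P, φ x = x := fun x => by
            have hx : (x : Ω) = 1 := Subgroup.mem_bot.mp (hT0 ▸ src_le hφN x.2)
            rw [show x = 1 from Subtype.ext hx, map_one]
            rfl
          exact ⟨mem_congr (FusionFactor.subtype_mem D ((src_le hφN).trans hTS))
            fun x => h1 x, src_le hφN, val_mem hφN⟩
        have hchar := thompsonSubgroupAOf_characteristic T
        have hNT : normalizerIn T (thompsonSubgroupAOf T) = T :=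
          normalizerIn_eq_self_of_characteristic (thompsonSubgroupAOf_le T) hchar
        refine ⟨hY _ (thompsonSubgroupAOf_le T) (thompsonSubgroupAOf_ne_bot' hTp hT0) hchar P
          ⟨hφN, hNT.symm ▸ src_le hφN, fun x => hNT.symm ▸ val_mem hφN x, ψ, hψ, hψe, hψJ⟩,
          src_le hφN, val_mem hφN⟩
    · intro E hE hEF hEc _ P φ hφ
      obtain ⟨L, _, _, ι, hm⟩ := exists_model_of_isConstrained hS hEc
      obtain ⟨T, hT⟩ := hm.2.2.1
      have hι := hm.2.1
      have hPS := src_le hφ
      obtain ⟨g, hg⟩ := Fusion87.exists_conj_of_hom hι hφ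
      obtain ⟨n, hn, c, hc, hgnc, hcX⟩ := ThompsonFactor.exists_factor_conj T hm.2.2.2
        (X := (P.subgroupOf S).map ι) (hT ▸ Subgroup.map_le_range ι _) (g := g) (by
          rintro _ ⟨x, hx, rfl⟩
          rw [hT]
          exact ⟨_, hg ⟨x, hx⟩⟩)
      -- the map induced by `c`
      have hR : P ⊔ V ≤ S := sup_le hPS hVS
      have hcv : ∀ v (hv : v ∈ V), c * ι ⟨v, hVS hv⟩ * c⁻¹ = ι ⟨v, hVS hv⟩ := by
        intro v hv
        obtain ⟨y, hy, hvy⟩ := exists_eq_pow_of_mem_pthCenter hv
        refine mul_inv_eq_iff_eq_mul.mpr (Subgroup.mem_centralizer_iff.mp hc _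
          ⟨ι ⟨y, hy.1⟩, ?_, ?_⟩).symm
        · rw [← map_center ι hι.1 hT.symm]
          exact ⟨_, hy, rfl⟩
        · rw [← map_pow]
          exact congrArg ι (Subtype.ext hvy)
      have hcR : ∀ r : (P ⊔ V : Subgroup Ω), c * ι ⟨r, hR r.2⟩ * c⁻¹ ∈ ι.range := by
        have hle : P ⊔ V ≤ ((ι.range.comap (MulAut.conj c).toMonoidHom).comap ι).map S.subtype := by
          refine sup_le (fun x hx => ⟨⟨x, hPS hx⟩, ?_, rfl⟩) fun v hv => ⟨⟨v, hVS hv⟩, ?_, rfl⟩
          · show c * ι ⟨x, hPS hx⟩ * c⁻¹ ∈ ι.range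
            exact hT.le (hcX _ ⟨⟨x, hPS hx⟩, hx, rfl⟩)
          · show c * ι ⟨v, hVS hv⟩ * c⁻¹ ∈ ι.range
            rw [hcv v hv]
            exact ⟨_, rfl⟩
        intro r
        obtain ⟨w, hw, hwe⟩ := hle r.2
        rw [← (Subtype.ext hwe : w = ⟨r, hR r.2⟩)]
        exact hw
      obtain ⟨ψ, hψ, hψc⟩ := Fusion87.exists_hom_of_conj hι hR c hcR
      set φc := ψ.comp (Subgroup.inclusion (le_sup_left : P ≤ P ⊔ V)) with hφc
      have hφcE : φc ∈ E.Hom P := restrict_mem hψ _
      have hφcD : φc ∈ D.Hom P := hC P ⟨hEF _ hφcE, hCV.symm ▸ hPS,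
        fun x => hCV.symm ▸ val_mem hφcE x, ψ, hEF _ hψ, fun x => rfl, fun v => by
          exact congrArg Subtype.val (hι.1 ((hψc (Subgroup.inclusion le_sup_right v)
            (val_mem hψ _)).trans (hcv v v.2)) : (⟨_, val_mem hψ _⟩ : S) = ⟨v, hVS v.2⟩)⟩
      -- the map induced by `n`
      set P₁ := φc.range with hP₁
      have hP₁S : P₁ ≤ S := range_le hφcE
      have hR₂ : P₁ ⊔ J ≤ S := sup_le hP₁S hJS
      have hJmap := map_thompsonSubgroupAOf ι hι.1 hT.symm
      have hnJ : ∀ j (hj : j ∈ J), ∃ j', ∃ hj' : j' ∈ J,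
          n * ι ⟨j, hJS hj⟩ * n⁻¹ = ι ⟨j', hJS hj'⟩ := by
        intro j hj
        have h1 := (Subgroup.mem_normalizer_iff.mp hn _).mp
          (hJmap.le ⟨⟨j, hJS hj⟩, hj, rfl⟩)
        rw [← hJmap] at h1
        obtain ⟨j', hj', hje⟩ := h1
        exact ⟨j', hj', hje.symm⟩
      have hnP : ∀ (x : P), n * ι ⟨φc x, val_mem hφcE x⟩ * n⁻¹ = ι ⟨φ x, val_mem hφ x⟩ := by
        intro x
        rw [hg x, show ι ⟨φc x, val_mem hφcE x⟩ = c * ι ⟨x, hPS x.2⟩ * c⁻¹ from
          hψc (Subgroup.inclusion le_sup_left x) (val_mem hψ _), hgnc]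
        group
      have hnR : ∀ r : (P₁ ⊔ J : Subgroup Ω), n * ι ⟨r, hR₂ r.2⟩ * n⁻¹ ∈ ι.range := by
        have hle : P₁ ⊔ J ≤
            ((ι.range.comap (MulAut.conj n).toMonoidHom).comap ι).map S.subtype := by
          refine sup_le ?_ fun j hj => ⟨⟨j, hJS hj⟩, ?_, rfl⟩
          · rintro _ ⟨x, rfl⟩
            refine ⟨⟨φc x, val_mem hφcE x⟩, ?_, rfl⟩
            show n * ι ⟨φc x, val_mem hφcE x⟩ * n⁻¹ ∈ ι.range
            exact ⟨_, (hnP x).symm⟩
          · show n * ι ⟨j, hJS hj⟩ * n⁻¹ ∈ ι.range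
            obtain ⟨j', hj', he⟩ := hnJ j hj
            exact ⟨_, he.symm⟩
        intro r
        obtain ⟨w, hw, hwe⟩ := hle r.2
        rw [← (Subtype.ext hwe : w = ⟨r, hR₂ r.2⟩)]
        exact hw
      obtain ⟨χ, hχ, hχn⟩ := Fusion87.exists_hom_of_conj hι hR₂ n hnR
      have hφnD : χ.comp (Subgroup.inclusion (le_sup_left : P₁ ≤ P₁ ⊔ J)) ∈ D.Hom P₁ := by
        refine hN P₁ ⟨hEF _ (restrict_mem hχ _), hNJ.symm ▸ hP₁S,
          fun x => hNJ.symm ▸ val_mem hχ _, χ, hEF _ hχ, fun x => rfl, ?_⟩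
        haveI : Finite J := finite_of_le hJS
        refine Subgroup.eq_of_le_of_card_ge ?_ (card_imgSub
          (E.injective_of_mem hχ) le_sup_right).ge
        rintro _ ⟨r, hr, rfl⟩
        obtain ⟨j', hj', he⟩ := hnJ r hr
        rw [show χ r = j' from congrArg Subtype.val (hι.1 ((hχn r (val_mem hχ r)).trans he))]
        exact hj'
      obtain ⟨σ, hσ, hσe⟩ := exists_comp hφcD hφnD fun x => ⟨x, rfl⟩
      refine mem_congr hσ fun x => ?_
      rw [hσe]
      exact (congrArg Subtype.val (hι.1 ((hχn (Subgroup.inclusion le_sup_left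
        (⟨φc x, x, rfl⟩ : P₁)) (val_mem hχ _)).trans (hnP x)))).symm
    · intro E hE hEF Q hQ hQ1 hc hmax hin htop P φ hφ
      have hSQ := le_normalizer_of_isNormal hQ
      haveI hQnor : (Q.subgroupOf S).Normal := ⟨fun n hn g =>
        ((Subgroup.mem_normalizer_iff.mp (hSQ g.2)) n).mp hn⟩
      let θ : S →* ↥S ⧸ Q.subgroupOf S := QuotientGroup.mk' _
      set U := (⊤ : Subgroup (↥S ⧸ Q.subgroupOf S)) with hUdef
      have hθ : ∀ x : S, θ x = 1 ↔ (x : Ω) ∈ Q := fun x => QuotientGroup.eq_one_iff x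
      have hrange : θ.range = ⊤ :=
        MonoidHom.range_eq_top_of_surjective θ (QuotientGroup.mk'_surjective _)
      obtain ⟨E', hE'⟩ := FusionFactor.exists_factorSystem
        (S' := U) θ E (stronglyClosed_of_isNormal hQ) hθ hrange
      set D₁ := interSystem E D with hD₁
      have hQD₁ : D₁.StronglyClosed Q := ⟨hQ.1, fun R hR φ hφ =>
        (stronglyClosed_of_isNormal hQ).2 R hR φ hφ.1⟩
      obtain ⟨D', hD'⟩ := FusionFactor.exists_factorSystem
        (S' := U) θ D₁ hQD₁ hθ hrange
      have hm := isSurjectiveMorphism_of_isFactorSystem hS hE (stronglyClosed_of_isNormal hQ) hE'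
      have hsat : E'.IsSaturated p := isSaturated_of_surjectiveMorphism hS hE hm
      have hS' : IsPGroup p (⊤ : Subgroup (↥S ⧸ Q.subgroupOf S)) :=
        (hS.to_quotient _).to_subgroup ⊤
      have hQ2 : 1 < Nat.card Q := by
        haveI : Finite Q := finite_of_le hQ.1
        haveI : Nontrivial Q := (Subgroup.nontrivial_iff_ne_bot Q).mpr hQ1
        exact Finite.one_lt_card
      have hidx : (Q.subgroupOf S).index * Nat.card Q = Nat.card S := by
        rw [← Nat.card_congr (Subgroup.subgroupOfEquivOfLe hQ.1).toEquiv, mul_comm]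
        exact Subgroup.card_mul_index _
      have hlt : Nat.card (⊤ : Subgroup (↥S ⧸ Q.subgroupOf S)) < Nat.card S := by
        rw [Subgroup.card_top, ← Subgroup.index_eq_card, ← hidx]
        exact lt_mul_of_one_lt_right (Nat.pos_of_ne_zero Subgroup.index_ne_zero_of_finite) hQ2
      have hQpre : ∀ R : Subgroup (↥S ⧸ Q.subgroupOf S), Q ≤ preimageAlong θ R := fun R x hx =>
        (FusionFactor.mem_preimageAlong θ).mpr ⟨hQ.1 hx, by
          rw [(hθ ⟨x, hQ.1 hx⟩).mpr hx]; exact one_mem R⟩
      have hpreS : ∀ R : Subgroup (↥S ⧸ Q.subgroupOf S), preimageAlong θ R ≤ S :=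
        fun R => FusionFactor.preimageAlong_le θ R
      -- lifts normalizing the preimage of a normal subgroup
      have hlift : ∀ (Y P' : Subgroup (↥S ⧸ Q.subgroupOf S)) (φ' : P' →* ↥S ⧸ Q.subgroupOf S)
          (ψ' : (P' ⊔ Y : Subgroup (↥S ⧸ Q.subgroupOf S)) →* ↥S ⧸ Q.subgroupOf S),
          normalizerIn U Y = U → ψ' ∈ E'.Hom (P' ⊔ Y) →
          (∀ x, ψ' (Subgroup.inclusion le_sup_left x) = φ' x) →
          (∀ y : (P' ⊔ Y : Subgroup (↥S ⧸ Q.subgroupOf S)), (y : ↥S ⧸ Q.subgroupOf S) ∈ Y →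
            ψ' y ∈ Y) →
          ((E.IsNormal (preimageAlong θ Y) → ∀ ψ ∈ E.Hom (preimageAlong θ (P' ⊔ Y)),
            ψ.comp (Subgroup.inclusion (Subgroup.map_mono (Subgroup.comap_mono le_sup_left))) ∈
              D.Hom (preimageAlong θ P'))) →
          φ' ∈ D'.Hom P' := by
        intro Y P' φ' ψ' hYn hψ' hψe hψY hnormal
        obtain ⟨hsrc, ψ, hψ, hPs, hψS, hPimg, hind⟩ := (hE'.2.2.2 _ _).mp hψ'
        let W := preimageAlong θ Y
        have hWS : W ≤ S := hpreS Y
        have hWU : W ≤ preimageAlong θ (P' ⊔ Y) :=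
          Subgroup.map_mono (Subgroup.comap_mono le_sup_right)
        have hPU : preimageAlong θ P' ≤ preimageAlong θ (P' ⊔ Y) :=
          Subgroup.map_mono (Subgroup.comap_mono le_sup_left)
        have hres : ψ.comp (Subgroup.inclusion hPU) ∈ D.Hom (preimageAlong θ P') := by
          by_cases hWn : E.IsNormal W
          · exact hnormal hWn ψ hψ
          have hWnor : normalizerIn S W = S := by
            refine le_antisymm inf_le_left (le_inf le_rfl fun g hg => ?_)
            have key : ∀ g ∈ S, ∀ x ∈ W, g * x * g⁻¹ ∈ W := by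
              rintro g hgS _ ⟨x, hx, rfl⟩
              refine ⟨⟨g, hgS⟩ * x * ⟨g, hgS⟩⁻¹, ?_, rfl⟩
              show θ _ ∈ Y
              rw [map_mul, map_mul, map_inv]
              exact (Subgroup.mem_normalizer_iff.mp
                (hYn.ge (Subgroup.mem_top (θ ⟨g, hgS⟩))).2 _).mp hx
            rw [Subgroup.mem_normalizer_iff]
            refine fun x => ⟨key g hg x, fun hx => ?_⟩
            simpa [mul_assoc] using key _ (S.inv_mem hg) _ hx
          refine htop W hWS hWnor hWn _ ⟨restrict_mem hψ _, by rw [hWnor]; exact hpreS P',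
            fun x => by rw [hWnor]; exact hψS _,
            ψ.comp (Subgroup.inclusion (sup_le hPU hWU)), restrict_mem hψ _, fun x => rfl, ?_⟩
          haveI : Finite W := finite_of_le hWS
          refine Subgroup.eq_of_le_of_card_ge ?_ (card_imgSub
            (E.injective_of_mem (restrict_mem hψ (sup_le hPU hWU))) le_sup_right).ge
          intro w hw
          obtain ⟨v, hv, rfl⟩ := mem_imgSub.1 hw
          obtain ⟨s, hs, hsv⟩ := hv
          refine ⟨⟨_, hψS _⟩, ?_, rfl⟩
          show θ _ ∈ Y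
          rw [← hind (Subgroup.inclusion (sup_le hPU hWU) v)]
          refine hψY _ ?_
          show θ _ ∈ Y
          rwa [show (⟨_, hPs (Subgroup.inclusion (sup_le hPU hWU) v).2⟩ : S) = s from
            Subtype.ext hsv.symm]
        refine (hD'.2.2.2 _ _).mpr ⟨le_top, ψ.comp (Subgroup.inclusion hPU),
          ⟨restrict_mem hψ _, hres⟩, hpreS P', fun x => hψS _,
          fun x => ((FusionFactor.mem_preimageAlong θ).mp x.2).2, fun x => ?_⟩
        rw [← hψe]
        exact hind (Subgroup.inclusion hPU x)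
      have hD'le : E' ≤ D' := by
        refine ih _ hlt hS' rfl E' hsat D' ?_ ?_
        · rintro P' φ' ⟨-, -, -, ψ', hψ', hψe, hψV⟩
          have hYn : normalizerIn U (pthCenter p U) = U :=
            le_antisymm inf_le_left ((centralizerIn_pthCenter p U).ge.trans
              (inf_le_inf_left _ (Subgroup.centralizer_le_normalizer _)))
          refine hlift (pthCenter p U) P' φ' ψ' hYn hψ' hψe (fun y hy => ?_) fun hWn ψ hψ => ?_
          · have := hψV ⟨y, hy⟩
            rw [show Subgroup.inclusion le_sup_right (⟨(y : ↥S ⧸ Q.subgroupOf S), hy⟩ :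
              (pthCenter p U : Subgroup _)) = y from Subtype.ext rfl] at this
            rwa [this]
          have hVQ : V ≤ Q := by
            intro x hx
            obtain ⟨y, hy, rfl⟩ := exists_eq_pow_of_mem_pthCenter hx
            refine hmax _ hWn ⟨⟨y, hy.1⟩ ^ p, ?_, rfl⟩
            show θ _ ∈ pthCenter p U
            rw [map_pow]
            refine pow_mem_pthCenter ⟨Subgroup.mem_top _, Subgroup.mem_centralizer_iff.mpr
              fun w _ => ?_⟩
            obtain ⟨s, rfl⟩ := QuotientGroup.mk'_surjective _ w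
            show θ s * θ _ = θ _ * θ s
            rw [← map_mul, ← map_mul]
            congr 1
            exact Subtype.ext (Subgroup.mem_centralizer_iff.mp hy.2 s s.2)
          have hVR : V ≤ (preimageAlong θ P') := hVQ.trans (hQpre P')
          set χ : (preimageAlong θ P') →* Ω := ψ.comp (Subgroup.inclusion (Subgroup.map_mono (f := S.subtype)
            (Subgroup.comap_mono (f := θ) (le_sup_left : P' ≤ P' ⊔ pthCenter p U))))
          have hχ : χ ∈ E.Hom (preimageAlong θ P') := restrict_mem hψ _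
          obtain ⟨-, -, -, χ₁, -, hχ₁e, k, hk, hkQ⟩ := hin (preimageAlong θ P') hχ
          obtain ⟨g, hg, hge⟩ := mem_autInducedBy.1 hk
          refine hC (preimageAlong θ P') ⟨hEF _ hχ, hCV.symm ▸ src_le hχ, fun x => hCV.symm ▸ val_mem hχ x,
            χ.comp (Subgroup.inclusion (sup_le le_rfl hVR)), restrict_mem (hEF _ hχ) _,
            fun x => rfl, fun v => ?_⟩
          show χ ⟨v, hVR v.2⟩ = v
          rw [← hχ₁e, show Subgroup.inclusion le_sup_left (⟨(v : Ω), hVR v.2⟩ : (preimageAlong θ P')) =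
            Subgroup.inclusion le_sup_right (⟨(v : Ω), hVQ v.2⟩ : Q) from Subtype.ext rfl,
            hkQ, hge]
          show g * (v : Ω) * g⁻¹ = v
          rw [Subgroup.mem_centralizer_iff.mp (pthCenter_le p S v.2).2 g hg, mul_inv_cancel_right]
        · rintro P' φ' ⟨-, -, -, ψ', hψ', hψe, hψJ⟩
          have hYn : normalizerIn U (thompsonSubgroupAOf U) = U :=
            normalizerIn_eq_self_of_characteristic (thompsonSubgroupAOf_le U)
              (thompsonSubgroupAOf_characteristic U)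
          refine hlift (thompsonSubgroupAOf U) P' φ' ψ' hYn hψ' hψe
            (fun y hy => hψJ.le ⟨y, hy, rfl⟩) fun hWn ψ _ => ?_
          exfalso
          have hU0 : U ≠ ⊥ := by
            intro h
            refine hc fun x hx => (hθ ⟨x, hx.1⟩).mp ?_
            exact Subgroup.mem_bot.mp (h ▸ Subgroup.mem_top _)
          refine thompsonSubgroupAOf_ne_bot' hS' hU0 (eq_bot_iff.mpr fun w hw => ?_)
          obtain ⟨x, rfl⟩ := QuotientGroup.mk'_surjective _ w
          exact Subgroup.mem_bot.mpr ((hθ x).mpr (hmax _ hWn ⟨x, hw, rfl⟩))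
      refine (Fusion87.le_of_autGroup_centric_radical hS hE (E := D₁)
        fun R hRn hRc hRr _ α hα => ?_) P hφ |>.2
      have hRS := hRn.1
      have hQR : Q ≤ R := Fusion87.le_centric_radical_of_isNormal hS hQ hRc hRr
      haveI : Finite R := finite_of_le hRS
      haveI : Finite Q := finite_of_le hQ.1
      haveI := finite_mulAut (S := S) hRS
      have hαH := autGroup_hom_mem hRS hα
      obtain ⟨α', hα', hP, hαS, hP', he⟩ := hm.1.2 R _ hαH
      obtain ⟨-, β, hβ, hPs, hβS, hPimg, hind⟩ := (hD'.2.2.2 _ _).mp (hD'le _ hα')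
      have hRpre : R ≤ preimageAlong θ (imageAlong θ R) := fun x hx =>
        (FusionFactor.mem_preimageAlong θ).mpr ⟨hRS hx, ⟨⟨x, hRS hx⟩, hx, rfl⟩⟩
      have hmod : ∀ x : R, (α x : Ω)⁻¹ * β (Subgroup.inclusion hRpre x) ∈ Q := by
        intro x
        refine (hθ (⟨α x, hRS (α x).2⟩⁻¹ * ⟨_, hβS (Subgroup.inclusion hRpre x)⟩)).mp ?_
        rw [map_mul, map_inv, inv_mul_eq_one, ← hind (Subgroup.inclusion hRpre x)]
        exact (he x).symm
      have hβR : ∀ x : R, β.comp (Subgroup.inclusion hRpre) x ∈ R := by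
        intro x
        have := R.mul_mem (α x).2 (hQR (hmod x))
        rwa [mul_inv_cancel_left] at this
      obtain ⟨b, hb, hbe⟩ := exists_aut_of_hom (restrict_mem hβ hRpre) hβR
      -- the kernel
      have hbE : b ∈ E.autGroup R := autGroup_mono (interSystem_le_left E D) R hb
      have hQfix : ∀ a ∈ E.autGroup R, ∀ x : R, (x : Ω) ∈ Q → (a x : Ω) ∈ Q := fun a ha x hx =>
        Fusion87.stronglyClosed_apply (stronglyClosed_of_isNormal hQ) (autGroup_hom_mem hRS ha) x hx
      let K : Subgroup (E.autGroup R) :=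
        { carrier := {a | ∀ x : R, ((x⁻¹ * (a : MulAut R) x : R) : Ω) ∈ Q}
          one_mem' := fun x => by
            show ((x⁻¹ * x : R) : Ω) ∈ Q
            rw [inv_mul_cancel]
            exact Q.one_mem
          mul_mem' := fun {a c} ha hc x => by
            show ((x⁻¹ * (a : MulAut R) ((c : MulAut R) x) : R) : Ω) ∈ Q
            have := Q.mul_mem (hc x) (ha ((c : MulAut R) x))
            rw [← Subgroup.coe_mul, mul_assoc, mul_inv_cancel_left] at this
            exact this
          inv_mem' := fun {a} ha x => by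
            show ((x⁻¹ * (a : MulAut R)⁻¹ x : R) : Ω) ∈ Q
            have := Q.inv_mem (ha ((a : MulAut R)⁻¹ x))
            rw [← Subgroup.coe_inv, MulAut.apply_inv_self, mul_inv_rev, inv_inv] at this
            exact this }
      haveI hKn : K.Normal := ⟨fun a ha c x => by
        have h1 := hQfix _ c.2 _ (ha ((c : MulAut R)⁻¹ x))
        rw [map_mul, map_inv, MulAut.apply_inv_self] at h1
        exact h1⟩
      have hKp : IsPGroup p K := by
        rintro ⟨⟨a, ha⟩, haK⟩
        obtain ⟨-, -, -, χ, -, hχe, k, hk, hkQ⟩ := hin R (autGroup_hom_mem hRS ha)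
        obtain ⟨g, hg, hge⟩ := mem_autInducedBy.1 hk
        have hQconj : ∀ (x : R), (x : Ω) ∈ Q → (a x : Ω) = g * (x : Ω) * g⁻¹ := by
          intro x hx
          show autHom a x = _
          rw [← hχe x, ← hge ⟨x, hx⟩, ← hkQ]
          rfl
        have hpow : ∀ (m : ℕ) (x : R), (x : Ω) ∈ Q →
            ((a ^ m) x : Ω) = g ^ m * (x : Ω) * (g ^ m)⁻¹ := by
          intro m
          induction m with
          | zero => intro x _; simp
          | succ m ihm =>
            intro x hx
            have e := ihm x hx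
            have hmem : ((a ^ m) x : Ω) ∈ Q := by
              rw [e]
              exact (Subgroup.mem_normalizer_iff.mp (hSQ (pow_mem hg m)) _).mp hx
            rw [pow_succ', MulAut.mul_apply, hQconj _ hmem, e, pow_succ']
            group
        obtain ⟨j, hj⟩ := hS ⟨g, hg⟩
        obtain ⟨cc, hcc⟩ := (hS.to_le hQ.1).exists_card_eq
        refine ⟨j + cc, Subtype.ext (Subtype.ext ?_)⟩
        show a ^ p ^ (j + cc) = 1
        rw [pow_add, pow_mul]
        set w := a ^ p ^ j with hw
        have hwfix : ∀ x : R, (x : Ω) ∈ Q → w x = x := fun x hx => Subtype.ext (by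
          rw [hw, hpow (p ^ j) x hx, show g ^ p ^ j = 1 from congrArg Subtype.val hj]
          simp)
        refine MulEquiv.ext fun x => ?_
        have hwK : ((x⁻¹ * w x : R) : Ω) ∈ Q := by
          exact (pow_mem haK (p ^ j)) x
        have hit : ∀ m : ℕ, (w ^ m) x = x * (x⁻¹ * w x) ^ m := by
          intro m
          induction m with
          | zero => simp
          | succ m ihm =>
            rw [pow_succ', MulAut.mul_apply, ihm, map_mul, map_pow, hwfix _ hwK, pow_succ',
              ← mul_assoc, mul_inv_cancel_left]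
        rw [hit, ← hcc]
        have h1 : (⟨_, hwK⟩ : Q) ^ Nat.card Q = 1 := pow_card_eq_one'
        have h2 : (x⁻¹ * w x) ^ Nat.card Q = (1 : R) :=
          Subtype.ext (by have h3 := congrArg Subtype.val h1; rw [SubgroupClass.coe_pow] at h3; rw [SubgroupClass.coe_pow]; exact h3)
        rw [h2, mul_one]
        rfl
      obtain ⟨T₀, hT₀⟩ := (isFullyAutomized_of_isFullyNormalized hS hE hRn).2
      have hγ : (⟨b, hbE⟩ : E.autGroup R)⁻¹ * ⟨α, hα⟩ ∈ K := by
        intro x
        show ((x⁻¹ * b⁻¹ (α x) : R) : Ω) ∈ Q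
        have h1 : (((α x)⁻¹ * b x : R) : Ω) ∈ Q := by
          rw [Subgroup.coe_mul, Subgroup.coe_inv, hbe]
          exact hmod x
        have h2 := hQfix _ (inv_mem hbE) _ h1
        rw [map_mul, map_inv, MulAut.inv_apply_self] at h2
        have h3 := Q.inv_mem h2
        rw [← Subgroup.coe_inv, mul_inv_rev, inv_inv] at h3
        exact h3
      have hγS : b⁻¹ * α ∈ autInducedBy S R := by
        have h3 := PSolvable.pCore_le_sylow T₀ (PSolvable.le_pCore hKp hγ)
        rw [hT₀] at h3
        exact h3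
      have hind₁ : autInducedBy S R ≤ D₁.autGroup R := autInducedBy_le_autGroup hRS
      have := mul_mem hb (hind₁ hγS)
      rwa [mul_inv_cancel_left] at this

end Cfsg.Agent.Lib.Fusion
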