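import Cfsg.Agent.Lib.Fusion.CocycleOrbits
import Cfsg.Agent.Lib.Fusion.PPowerTransfer
import Cfsg.Agent.Lib.Fusion.Tate
import Cfsg.Agent.Lib.YoshidaTransfer.Main

/-!
Yoshida's transfer theorem for fusion systems, with the biset group in place of the group.
-/

set_option autoImplicit false
set_option linter.style.haveILetI false

namespace Cfsg.Agent.Lib.Fusion

open Cfsg Cfsg.FusionSystem
open Marks YoshidaTransfer

universe u

variable {Ω : Type u} [Group Ω] {S : Subgroup Ω} {F : FusionSystem S} {p : ℕ}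

/-- A homomorphism to a group of exponent `p` invariant under `Aut_F(S)` is invariant under `F`,
if `S` has no quotient `C_p ≀ C_p`. -/
theorem invariant_of_noWreathQuotient [Finite S] [Fact p.Prime] (hS : IsPGroup p S)
    (hF : F.IsSaturated p) (hfree : NoWreathQuotient p ↥S) {A : Type u} [CommGroup A]
    (hA : ∀ a : A, a ^ p = 1) (π : ↥S →* A)
    (hπ : ∀ (φ : S →* Ω) (hφ : φ ∈ F.Hom S) (u : S), π ⟨φ u, val_mem hφ u⟩ = π u) :
    ∀ (P : Subgroup Ω) (φ : P →* Ω) (hφ : φ ∈ F.Hom P) (u : P),
      π ⟨φ u, val_mem hφ u⟩ = π ⟨u, src_le hφ u.2⟩ := by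
  classical
  obtain ⟨X, _, _, hX⟩ := exists_leftCharBiset hS hF
  obtain ⟨h, hh⟩ := exists_rightSection hX π
  let actY : MulAction ↥S (Quotient (rightSetoid S X)) :=
    MulAction.compHom _ ((orbitHom S X).comp (bisetEmbed S X))
  letI := Fintype.ofFinite (Quotient (rightSetoid S X))
  letI := Fintype.ofFinite (MulAction.orbitRel.Quotient ↥S (Quotient (rightSetoid S X)))
  set τ := (transferAlong hh).comp (bisetEmbed S X) with hτ
  have hτinv : ∀ (P : Subgroup Ω) (φ : P →* Ω) (hφ : φ ∈ F.Hom P) (u : P),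
      τ ⟨φ u, val_mem hφ u⟩ = τ ⟨u, src_le hφ u.2⟩ := fun P φ hφ u =>
    hX.apply_map (transferAlong hh) hφ u
  let c : ↥S → Quotient (rightSetoid S X) → A := fun s q => transferTerm hh (bisetEmbed S X s) q
  have hc : ∀ g g' q, c (g * g') q = c g (g' • q) * c g' q := by
    intro g g' q
    show transferTerm hh (bisetEmbed S X (g * g')) q = _
    rw [map_mul]
    exact transferTerm_mul hh _ _ q
  have hτy : ∀ y, τ y = ∏ ω : MulAction.orbitRel.Quotient ↥S (Quotient (rightSetoid S X)),
      MonoidHom.transfer (CocycleOrbits.stabHom c hc ω.out) y := by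
    intro y
    rw [← CocycleOrbits.prod_eq_prod_transfer c hc y, hτ, MonoidHom.comp_apply, transferAlong_apply]
  -- the values on stabilizers
  have hval : ∀ (q : Quotient (rightSetoid S X)) (s : MulAction.stabilizer ↥S q),
      ∃ (P : Subgroup Ω) (φ : P →* Ω) (hφ : φ ∈ F.Hom P) (u : P),
        φ u = ((s : ↥S) : Ω) ∧ CocycleOrbits.stabHom c hc q s = π ⟨u, src_le hφ u.2⟩ ∧
        (MulAction.stabilizer ↥S q = ⊤ → P = S) := by
    intro q
    obtain ⟨x, rfl⟩ : ∃ x, Quotient.mk'' x = q := ⟨q.out, Quotient.out_eq' q⟩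
    intro s
    obtain ⟨P, φ, hφ, e⟩ := hX.twisted x
    have hfix : ∀ s : ↥S, s • (Quotient.mk'' x : Quotient (rightSetoid S X)) = Quotient.mk'' x →
        ∃ b : ↥S, ∃ hb : (b : Ω) ∈ P, φ ⟨b, hb⟩ = (s : Ω) ∧
          c s (Quotient.mk'' x) = π b := by
      intro s hs
      obtain ⟨b, hb⟩ : ∃ b : ↥S, ((1 : ↥S), b) • x = (bisetEmbed S X s : Equiv.Perm X) x :=
        Quotient.exact' hs.symm
      have hm : (s, b⁻¹) ∈ MulAction.stabilizer (↥S × ↥S) x := by
        rw [MulAction.mem_stabilizer_iff]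
        calc (s, b⁻¹) • x = ((1 : ↥S), b⁻¹) • ((s, (1 : ↥S)) • x) := by
              rw [← mul_smul]; simp
          _ = ((1 : ↥S), b⁻¹) • ((1 : ↥S), b) • x := by rw [← bisetEmbed_apply, hb]
          _ = x := by rw [← mul_smul]; simp [Prod.mk_one_one]
      rw [e] at hm
      obtain ⟨hbP, hbe⟩ := hm
      refine ⟨b⁻¹, hbP, hbe, ?_⟩
      show transferTerm hh (bisetEmbed S X s) (Quotient.mk'' x) = _
      rw [transferTerm_mk, ← hb, hh, mul_div_cancel_right, map_inv]
    obtain ⟨b, hbP, hbe, hbc⟩ := hfix s (MulAction.mem_stabilizer_iff.mp s.2)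
    refine ⟨P, φ, hφ, ⟨b, hbP⟩, hbe, hbc, fun htop => ?_⟩
    have hrange : φ.range = S := by
      refine le_antisymm (range_le hφ) fun v hv => ?_
      obtain ⟨b', hb'P, hb'e, -⟩ := hfix ⟨v, hv⟩
        (MulAction.mem_stabilizer_iff.mp (htop.ge (Subgroup.mem_top _)))
      exact ⟨_, hb'e⟩
    haveI : Finite P := finite_of_le (src_le hφ)
    exact Subgroup.eq_of_le_of_card_ge (src_le hφ) ((card_range hφ).symm.trans (by rw [hrange])).ge
  -- the fixed orbits
  let T : Finset (MulAction.orbitRel.Quotient ↥S (Quotient (rightSetoid S X))) :=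
    Finset.univ.filter fun ω => MulAction.stabilizer ↥S ω.out = ⊤
  have hk : ¬ p ∣ T.card := by
    have hnd := hX.not_dvd_card_quotient hS hF
    intro hd
    apply hnd
    haveI : ∀ ω : MulAction.orbitRel.Quotient ↥S (Quotient (rightSetoid S X)),
        Fintype (↥S ⧸ MulAction.stabilizer ↥S ω.out) := fun ω => Fintype.ofFinite _
    rw [Nat.card_congr (MulAction.selfEquivSigmaOrbitsQuotientStabilizer ↥S
      (Quotient (rightSetoid S X))), Nat.card_sigma, ← Finset.sum_filter_add_sum_filter_not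
        Finset.univ (fun ω => MulAction.stabilizer ↥S ω.out = ⊤)]
    refine dvd_add ?_ (Finset.dvd_sum fun ω hω => ?_)
    · rw [Finset.sum_eq_card_nsmul (b := 1) fun ω hω => ?_, smul_eq_mul, mul_one]
      · exact hd
      · rw [← Subgroup.index_eq_card, (Finset.mem_filter.mp hω).2, Subgroup.index_top]
    · obtain ⟨j, hj⟩ := hS.index (MulAction.stabilizer ↥S ω.out)
      rw [← Subgroup.index_eq_card, hj]
      refine dvd_pow_self p fun h0 => (Finset.mem_filter.mp hω).2 ?_
      rw [← Subgroup.index_eq_one, hj, h0, pow_zero]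
  have main : ∀ (m : ℕ) (y : ↥S), orderOf y = m → τ y = π y ^ T.card := by
    intro m
    induction m using Nat.strong_induction_on with
    | _ m ih =>
      intro y hy
      subst hy
      rw [hτy, ← Finset.prod_filter_mul_prod_filter_not Finset.univ
        (fun ω : MulAction.orbitRel.Quotient ↥S (Quotient (rightSetoid S X)) =>
          MulAction.stabilizer ↥S ω.out = ⊤)]
      rw [Finset.prod_eq_pow_card (b := π y) fun ω hω => ?_, Finset.prod_eq_one fun ω hω => ?_,
        mul_one]
      · -- a proper stabilizer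
        refine YoshidaTransfer.transfer_eq_one hS hA hfree (Finset.mem_filter.mp hω).2 _ y
          fun t j hmem => ?_
        obtain ⟨P, φ, hφ, u, hu, hval', -⟩ := hval ω.out ⟨_, hmem⟩
        rw [hval']
        set u' : ↥S := ⟨u, src_le hφ u.2⟩ with hu'
        rcases eq_or_ne y 1 with rfl | hy1
        · have : u = 1 := F.injective_of_mem hφ (by rw [hu, map_one]; simp)
          rw [show u' = 1 from Subtype.ext (congrArg Subtype.val this :), map_one]
        have hord : orderOf u' = orderOf (y ^ (p * j)) := by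
          have e1 : orderOf u' = orderOf u := by
            rw [← Subgroup.orderOf_coe u', ← Subgroup.orderOf_coe u]
          have e2 : orderOf u = orderOf (t⁻¹ * y ^ (p * j) * t) := by
            rw [← orderOf_injective φ (F.injective_of_mem hφ) u, hu, Subgroup.orderOf_coe]
          rw [e1, e2]
          exact orderOf_injective (MulAut.conj t⁻¹).toMonoidHom (MulEquiv.injective _) (y ^ (p * j)) |>
            (show orderOf (t⁻¹ * y ^ (p * j) * t) =
              orderOf ((MulAut.conj t⁻¹).toMonoidHom (y ^ (p * j))) by simp).trans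
        have hlt : orderOf u' < orderOf y := by
          have e3 : orderOf (y ^ (p * j)) ∣ orderOf (y ^ p) := by
            rw [pow_mul]; exact orderOf_pow_dvd _
          obtain ⟨k, hk⟩ := IsPGroup.iff_orderOf.mp hS y
          have hk0 : k ≠ 0 := fun h0 => hy1 (orderOf_eq_one_iff.mp (by rw [hk, h0, pow_zero]))
          have e4 : orderOf (y ^ p) = orderOf y / p :=
            orderOf_pow_of_dvd (Fact.out : p.Prime).ne_zero (hk ▸ dvd_pow_self p hk0)
          rw [hord]
          exact lt_of_le_of_lt (Nat.le_of_dvd (orderOf_pos _) e3)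
            (e4 ▸ Nat.div_lt_self (orderOf_pos y) (Fact.out : p.Prime).one_lt)
        have h1 : τ u' = 1 := by
          rw [← hτinv P φ hφ u, show (⟨φ u, val_mem hφ u⟩ : ↥S) = t⁻¹ * y ^ (p * j) * t from
            Subtype.ext hu, map_mul, map_mul, map_inv, mul_comm, mul_inv_cancel_left, map_pow,
            pow_mul, hA, one_pow]
        rw [ih _ hlt u' rfl] at h1
        refine orderOf_eq_one_iff.1 (Nat.eq_one_of_dvd_coprimes ?_
          (orderOf_dvd_of_pow_eq_one (hA _)) (orderOf_dvd_of_pow_eq_one h1))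
        exact (Nat.Prime.coprime_iff_not_dvd Fact.out).2 hk
      · -- a fixed orbit
        have htop := (Finset.mem_filter.mp hω).2
        rw [TransferOrbit.transfer_of_eq_top _ htop]
        obtain ⟨P, φ, hφ, u, hu, hval', hPS⟩ := hval ω.out ⟨y, htop ▸ Subgroup.mem_top y⟩
        obtain rfl : P = S := hPS htop
        rw [hval', ← hπ φ hφ u]
        exact congrArg π (Subtype.ext hu)
  intro P φ hφ u
  have h1 := hτinv P φ hφ u
  rw [main _ _ rfl, main _ _ rfl] at h1
  set a := π ⟨φ u, val_mem hφ u⟩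
  set b := π ⟨u, src_le hφ u.2⟩
  have h2 : (a / b) ^ T.card = 1 := by rw [div_pow, h1, div_self']
  exact div_eq_one.mp (orderOf_eq_one_iff.1 (Nat.eq_one_of_dvd_coprimes
    ((Nat.Prime.coprime_iff_not_dvd Fact.out).2 hk) (orderOf_dvd_of_pow_eq_one (hA _))
    (orderOf_dvd_of_pow_eq_one h2)))

/-- Without a quotient `C_p ≀ C_p`, a saturated subsystem with the same `Aut(S)` has the same focal
subgroup. -/
theorem focalSubgroup_eq_of_noWreathQuotient [Finite S] [Fact p.Prime] (hS : IsPGroup p S)
    (hF : F.IsSaturated p) (hfree : NoWreathQuotient p ↥S) {H : FusionSystem S}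
    (hH : H.IsSaturated p) (hHF : H.IsSubsystemOf F)
    (hHS : F.Hom S ⊆ H.Hom S) : F.focalSubgroup = H.focalSubgroup := by
  set M : Subgroup Ω := (frattini ↥S).map S.subtype ⊔ H.focalSubgroup with hM
  have hcomm : ⁅S, S⁆ ≤ M := (commutator_le_frattini_map hS).trans le_sup_left
  haveI hMn : (M.subgroupOf S).Normal := ⟨fun c hc g => by
    rw [Subgroup.mem_subgroupOf] at hc ⊢
    have h1 : (c : Ω)⁻¹ * ((g : Ω) * c * (g : Ω)⁻¹) ∈ M := by
      have := hcomm (Subgroup.commutator_mem_commutator (S.inv_mem c.2) g.2)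
      simpa [commutatorElement_def, mul_assoc] using this
    have h2 := M.mul_mem hc h1
    rwa [mul_inv_cancel_left] at h2⟩
  let A := ↥S ⧸ M.subgroupOf S
  letI : CommGroup A := { (inferInstance : Group A) with
    mul_comm := fun a b => by
      obtain ⟨a, rfl⟩ := QuotientGroup.mk_surjective a
      obtain ⟨b, rfl⟩ := QuotientGroup.mk_surjective b
      rw [← QuotientGroup.mk_mul, ← QuotientGroup.mk_mul, QuotientGroup.eq, Subgroup.mem_subgroupOf]
      have := hcomm (Subgroup.commutator_mem_commutator (S.inv_mem b.2) (S.inv_mem a.2))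
      simpa [commutatorElement_def, mul_assoc] using this }
  have hA : ∀ a : A, a ^ p = 1 := by
    intro a
    obtain ⟨a, rfl⟩ := QuotientGroup.mk_surjective a
    rw [← QuotientGroup.mk_pow, QuotientGroup.eq_one_iff, Subgroup.mem_subgroupOf]
    exact Subgroup.mem_sup_left
      ⟨a ^ p, (Cfsg.Agent.Lib.Nilp.commutator_le_and_pow_mem_frattini hS).2 a, rfl⟩
  let π : ↥S →* A := QuotientGroup.mk' (M.subgroupOf S)
  have hinv := invariant_of_noWreathQuotient hS hF hfree hA π fun φ hφ u => by
    refine (QuotientGroup.eq.mpr ?_).symm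
    rw [Subgroup.mem_subgroupOf]
    exact Subgroup.mem_sup_right
      (Subgroup.subset_closure ⟨S, φ, u, hHS hφ, rfl⟩)
  have hle : F.focalSubgroup ≤ M := by
    refine (Subgroup.closure_le _).2 ?_
    rintro _ ⟨P, φ, x, hφ, rfl⟩
    exact (Subgroup.mem_subgroupOf.mp (QuotientGroup.eq.mp (hinv P φ hφ x).symm) :)
  rw [focalSubgroup_eq hS hF, focalSubgroup_eq hS hH, tate hS hF hH hHF hle]

end Cfsg.Agent.Lib.Fusion
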